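import Cfsg.Agent.Linear.Perfect

/-!
# Transvections of `SL` given by a vector and a covector

`tv e φ = 1 + e φᵀ` for `φ ⬝ᵥ e = 0` (and `1` otherwise), with the calculus of these elements and
transitivity of `SL` on nonzero vectors and covectors.
-/

set_option autoImplicit false

namespace CfsgLib.MinDegree

open Matrix Module
open scoped MatrixGroups

variable {ι : Type*} [Fintype ι] [DecidableEq ι] {F : Type*} [Field F]

/-- The transvection with centre `e` and axis `φ`. -/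
noncomputable def tv (e φ : ι → F) : Matrix.SpecialLinearGroup ι F :=
  haveI := Classical.dec (φ ⬝ᵥ e = 0)
  ⟨if φ ⬝ᵥ e = 0 then 1 + vecMulVec e φ else 1, by
    split_ifs with h
    · rw [vecMulVec_eq (ι := Unit), det_one_add_replicateCol_mul_replicateRow, h, add_zero]
    · exact det_one⟩

theorem coe_tv {e φ : ι → F} (h : φ ⬝ᵥ e = 0) :
    (tv e φ : Matrix ι ι F) = 1 + vecMulVec e φ :=
  if_pos h

theorem tv_mulVec {e φ : ι → F} (h : φ ⬝ᵥ e = 0) (x : ι → F) :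
    (tv e φ).1 *ᵥ x = x + (φ ⬝ᵥ x) • e := by
  rw [coe_tv h, add_mulVec, one_mulVec, vecMulVec_mulVec]
  simp

theorem vecMul_tv {e φ : ι → F} (h : φ ⬝ᵥ e = 0) (ψ : ι → F) :
    ψ ᵥ* (tv e φ).1 = ψ + (ψ ⬝ᵥ e) • φ := by
  rw [coe_tv h, vecMul_add, vecMul_one, vecMul_vecMulVec]

theorem sl_ext {A B : Matrix.SpecialLinearGroup ι F} (h : ∀ x, A.1 *ᵥ x = B.1 *ᵥ x) : A = B :=
  Subtype.ext (Matrix.ext_iff_mulVec.2 h)

theorem mul_mulVec (A B : Matrix.SpecialLinearGroup ι F) (x : ι → F) :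
    (A * B).1 *ᵥ x = A.1 *ᵥ (B.1 *ᵥ x) :=
  (Matrix.mulVec_mulVec x A.1 B.1).symm

theorem sl_one_mulVec (x : ι → F) : (1 : Matrix.SpecialLinearGroup ι F).1 *ᵥ x = x :=
  Matrix.one_mulVec x

theorem tv_mul_left {e φ ψ : ι → F} (hφ : φ ⬝ᵥ e = 0) (hψ : ψ ⬝ᵥ e = 0) :
    tv e φ * tv e ψ = tv e (φ + ψ) := by
  have h : (φ + ψ) ⬝ᵥ e = 0 := by rw [add_dotProduct, hφ, hψ, add_zero]
  refine sl_ext fun x => ?_
  rw [mul_mulVec, tv_mulVec hψ, tv_mulVec hφ, tv_mulVec h,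
    dotProduct_add, dotProduct_smul, hφ, add_dotProduct]
  module

theorem tv_mul_right {e f φ : ι → F} (he : φ ⬝ᵥ e = 0) (hf : φ ⬝ᵥ f = 0) :
    tv e φ * tv f φ = tv (e + f) φ := by
  have h : φ ⬝ᵥ (e + f) = 0 := by rw [dotProduct_add, he, hf, add_zero]
  refine sl_ext fun x => ?_
  rw [mul_mulVec, tv_mulVec hf, tv_mulVec he, tv_mulVec h,
    dotProduct_add, dotProduct_smul, hf]
  module

@[simp] theorem tv_zero_left (φ : ι → F) : tv (0 : ι → F) φ = 1 :=
  sl_ext fun x => by rw [tv_mulVec (dotProduct_zero φ)]; simp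

@[simp] theorem tv_zero_right (e : ι → F) : tv e (0 : ι → F) = 1 :=
  sl_ext fun x => by rw [tv_mulVec (zero_dotProduct e)]; simp

theorem tv_smul {e φ : ι → F} (h : φ ⬝ᵥ e = 0) (c : F) : tv (c • e) φ = tv e (c • φ) := by
  have h₁ : φ ⬝ᵥ (c • e) = 0 := by rw [dotProduct_smul, h, smul_zero]
  have h₂ : (c • φ) ⬝ᵥ e = 0 := by rw [smul_dotProduct, h, smul_zero]
  refine sl_ext fun x => ?_
  rw [tv_mulVec h₁, tv_mulVec h₂, smul_dotProduct, smul_eq_mul]
  module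

theorem tv_inv {e φ : ι → F} (h : φ ⬝ᵥ e = 0) : (tv e φ)⁻¹ = tv e (-φ) := by
  apply inv_eq_of_mul_eq_one_right
  rw [tv_mul_left h (by rw [neg_dotProduct, h, neg_zero]), add_neg_cancel, tv_zero_right]

/-- Conjugation rule, in equation form. -/
theorem tv_conj {g : Matrix.SpecialLinearGroup ι F} {e e' φ φ' : ι → F} (h : φ ⬝ᵥ e = 0)
    (he : g.1 *ᵥ e = e') (hφ : φ' ᵥ* g.1 = φ) : g * tv e φ * g⁻¹ = tv e' φ' := by
  have h' : φ' ⬝ᵥ e' = 0 := by rw [← he, dotProduct_mulVec, hφ, h]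
  rw [mul_inv_eq_iff_eq_mul]
  refine sl_ext fun x => ?_
  rw [mul_mulVec, mul_mulVec,
    tv_mulVec h, tv_mulVec h', mulVec_add, mulVec_smul, he, dotProduct_mulVec, hφ]

theorem tv_conj_tv {e φ u ψ : ι → F} (h : φ ⬝ᵥ e = 0) (hu : ψ ⬝ᵥ u = 0) :
    tv u ψ * tv e φ * (tv u ψ)⁻¹ = tv (e + (ψ ⬝ᵥ e) • u) (φ - (φ ⬝ᵥ u) • ψ) := by
  refine tv_conj h (tv_mulVec hu e) ?_
  rw [vecMul_tv hu, sub_dotProduct, smul_dotProduct, hu, smul_zero, sub_zero]
  module

theorem tv_single {i j : ι} (hij : i ≠ j) (b : F) :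
    tv (Pi.single i b) (Pi.single j 1) =
      Matrix.SpecialLinearGroup.transvection hij b := by
  have h : (Pi.single j (1 : F) : ι → F) ⬝ᵥ Pi.single i b = 0 := by
    simp [Pi.single_eq_of_ne hij]
  refine sl_ext fun x => funext fun k => ?_
  rw [tv_mulVec h, CfsgLib.Linear.transvection_smul_apply hij]
  simp only [single_dotProduct, one_mul, Pi.add_apply, Pi.smul_apply, Pi.single_apply, smul_eq_mul]
  split_ifs <;> ring

/-- `SL` is generated by the `tv`. -/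
theorem eq_top_of_tv_mem {M : Subgroup (Matrix.SpecialLinearGroup ι F)}
    (h : ∀ e φ : ι → F, φ ⬝ᵥ e = 0 → tv e φ ∈ M) : M = ⊤ :=
  CfsgLib.Linear.sl_eq_top_of_transvections fun i j hij c => by
    rw [← tv_single hij]
    exact h _ _ (by simp [Pi.single_eq_of_ne hij])

/-- A covector separating a vector from a subspace. -/
theorem exists_perp (P : Submodule F (ι → F)) {x : ι → F} (hx : x ∉ P) :
    ∃ φ : ι → F, (∀ y ∈ P, φ ⬝ᵥ y = 0) ∧ φ ⬝ᵥ x = 1 := by
  obtain ⟨f, hfx, hf⟩ := Submodule.exists_dual_map_eq_bot_of_notMem hx inferInstance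
  let ψ : ι → F := (dotProductEquiv F ι).symm f
  have hψ : ∀ y, ψ ⬝ᵥ y = f y := fun y => by
    conv_rhs => rw [← (dotProductEquiv F ι).apply_symm_apply f]
    rfl
  refine ⟨(f x)⁻¹ • ψ, fun y hy => ?_, ?_⟩
  · have : f y = 0 := by
      have hm : f y ∈ Submodule.map f P := ⟨y, hy, rfl⟩
      rwa [hf, Submodule.mem_bot] at hm
    rw [smul_dotProduct, hψ, this, smul_zero]
  · rw [smul_dotProduct, hψ, smul_eq_mul, inv_mul_cancel₀ hfx]

/-- A covector vanishing on `e`, one on `x`. -/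
theorem exists_perp₁ {e x : ι → F} (hx : ∀ c : F, x ≠ c • e) :
    ∃ φ : ι → F, φ ⬝ᵥ e = 0 ∧ φ ⬝ᵥ x = 1 := by
  obtain ⟨φ, h1, h2⟩ := exists_perp (F ∙ e) (x := x) fun h => by
    obtain ⟨c, hc⟩ := Submodule.mem_span_singleton.1 h
    exact hx c hc.symm
  exact ⟨φ, h1 e (Submodule.mem_span_singleton_self e), h2⟩

/-- A covector vanishing on `e` and `w`, one on `x`. -/
theorem exists_perp₂ {e w x : ι → F} (hx : ∀ a b : F, x ≠ a • e + b • w) :
    ∃ φ : ι → F, φ ⬝ᵥ e = 0 ∧ φ ⬝ᵥ w = 0 ∧ φ ⬝ᵥ x = 1 := by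
  obtain ⟨φ, h1, h2⟩ := exists_perp (Submodule.span F {e, w}) (x := x) fun h => by
    obtain ⟨a, b, hab⟩ := Submodule.mem_span_pair.1 h
    exact hx a b hab.symm
  exact ⟨φ, h1 e (Submodule.subset_span (by simp)), h1 w (Submodule.subset_span (by simp)), h2⟩

theorem exists_not_smul (hn : 2 ≤ Fintype.card ι) (e : ι → F) :
    ∃ x : ι → F, ∀ c : F, x ≠ c • e := by
  by_contra! h
  have htop : (⊤ : Submodule F (ι → F)) ≤ F ∙ e := fun x _ => by
    obtain ⟨c, hc⟩ := h x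
    exact Submodule.mem_span_singleton.2 ⟨c, hc.symm⟩
  have h1 : finrank F (⊤ : Submodule F (ι → F)) ≤ 1 := by
    refine (Submodule.finrank_mono htop).trans ?_
    exact (finrank_span_le_card ({e} : Set (ι → F))).trans (by simp)
  rw [finrank_top, finrank_pi] at h1
  omega

theorem exists_not_span_pair (hn : 3 ≤ Fintype.card ι) (e w : ι → F) :
    ∃ x : ι → F, ∀ a b : F, x ≠ a • e + b • w := by
  classical
  by_contra! h
  have htop : (⊤ : Submodule F (ι → F)) ≤ Submodule.span F {e, w} := fun x _ => by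
    obtain ⟨a, b, hc⟩ := h x
    exact Submodule.mem_span_pair.2 ⟨a, b, hc.symm⟩
  have h1 : finrank F (⊤ : Submodule F (ι → F)) ≤ 2 := by
    refine (Submodule.finrank_mono htop).trans ?_
    refine (finrank_span_le_card ({e, w} : Set (ι → F))).trans ?_
    simp only [Set.toFinset_insert, Set.toFinset_singleton]
    exact (Finset.card_insert_le _ _).trans (by simp)
  rw [finrank_top, finrank_pi] at h1
  omega

private theorem exists_map_indep {e v : ι → F} (he : e ≠ 0) (h : ∀ c : F, v ≠ c • e) :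
    ∃ g : Matrix.SpecialLinearGroup ι F, g.1 *ᵥ e = v := by
  obtain ⟨φ, h1, h2⟩ := exists_perp (F ∙ (v - e)) (x := e) fun hm => by
    obtain ⟨c, hc⟩ := Submodule.mem_span_singleton.1 hm
    rcases eq_or_ne c 0 with rfl | hc0
    · exact he (by simpa using hc.symm)
    · refine h (c⁻¹ + 1) ?_
      have : v - e = c⁻¹ • e := by rw [← inv_smul_smul₀ hc0 (v - e), hc]
      rw [add_smul, one_smul, ← this, sub_add_cancel]
  refine ⟨tv (v - e) φ, ?_⟩
  rw [tv_mulVec (h1 _ (Submodule.mem_span_singleton_self _)), h2, one_smul, add_sub_cancel]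

/-- `SL` is transitive on nonzero vectors. -/
theorem exists_mulVec_eq (hn : 2 ≤ Fintype.card ι) {e v : ι → F} (he : e ≠ 0) (hv : v ≠ 0) :
    ∃ g : Matrix.SpecialLinearGroup ι F, g.1 *ᵥ e = v := by
  by_cases h : ∀ c : F, v ≠ c • e
  · exact exists_map_indep he h
  push Not at h
  obtain ⟨c, rfl⟩ := h
  obtain ⟨x, hx⟩ := exists_not_smul hn e
  have hx0 : x ≠ 0 := fun hz => hx 0 (by simp [hz])
  obtain ⟨g, hg⟩ := exists_map_indep he hx
  obtain ⟨g', hg'⟩ := exists_map_indep (v := c • e) hx0 fun d hd => by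
    rcases eq_or_ne d 0 with rfl | hd0
    · exact hv (by simpa using hd)
    · exact hx (d⁻¹ * c) (by rw [mul_smul, hd, inv_smul_smul₀ hd0])
  exact ⟨g' * g, by rw [mul_mulVec, hg, hg']⟩

/-- `SL` is transitive on nonzero covectors. -/
theorem exists_vecMul_eq (hn : 2 ≤ Fintype.card ι) {φ ψ : ι → F} (hφ : φ ≠ 0) (hψ : ψ ≠ 0) :
    ∃ g : Matrix.SpecialLinearGroup ι F, φ ᵥ* g.1 = ψ := by
  obtain ⟨g, hg⟩ := exists_mulVec_eq hn hφ hψ
  exact ⟨g.transpose, by rw [SpecialLinearGroup.coe_transpose, vecMul_transpose, hg]⟩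

end CfsgLib.MinDegree
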