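import Mathlib

/-!
# An orbit equation for abelian groups all of whose non-identity elements have equal fixed counts
-/

set_option autoImplicit false

namespace CfsgLib.MinDegree

open MulAction

theorem index_mul_card_inf {A : Type*} [CommGroup A] [Finite A] (L K : Subgroup A) :
    K.index * Nat.card (L ⊓ K : Subgroup A) = Nat.card L * (L ⊔ K).index := by
  have h1 : K.relIndex (L ⊔ K) = K.relIndex L := Subgroup.relIndex_sup_right L K
  have h2 : K.relIndex L * Nat.card (L ⊓ K : Subgroup A) = Nat.card L := by
    rw [← Subgroup.inf_relIndex_left, Subgroup.relIndex,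
      Nat.card_congr (Subgroup.subgroupOfEquivOfLe inf_le_left).toEquiv.symm]
    exact Subgroup.index_mul_card _
  have h3 : K.relIndex (L ⊔ K) * (L ⊔ K).index = K.index :=
    Subgroup.relIndex_mul_index le_sup_right
  rw [← h3, h1, ← h2]
  ring

theorem stabilizer_smul_comm {A Ω : Type*} [CommGroup A] [MulAction A Ω] (a : A) (x : Ω) :
    stabilizer A (a • x) = stabilizer A x := by
  ext b
  simp only [mem_stabilizer_iff]
  rw [← mul_smul, mul_comm, mul_smul, smul_left_cancel_iff]

/-- If every non-identity element of the finite abelian group `A` has exactly `f < |Ω|` fixed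
points and `|Ω| < 2|A|`, then `|Ω| = f + |A|`, there are `f + 1` orbits, and for every subgroup
`L` the excesses `[A : L K] - 1` over the orbit stabilisers `K` add up to `[A : L] - 1`. -/
theorem orbit_excess {A Ω : Type*} [CommGroup A] [Finite A] [MulAction A Ω] [Fintype Ω]
    [Fintype (orbitRel.Quotient A Ω)] {f : ℕ}
    (hf : ∀ a : A, a ≠ 1 → Nat.card (fixedBy Ω a) = f) (hlt : f < Nat.card Ω)
    (hd : Nat.card Ω < 2 * Nat.card A) :
    Nat.card Ω = f + Nat.card A ∧ Fintype.card (orbitRel.Quotient A Ω) = f + 1 ∧
      ∀ L : Subgroup A,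
        ∑ y : orbitRel.Quotient A Ω, ((L ⊔ stabilizer A y.out).index - 1) = L.index - 1 := by
  classical
  have : Fintype A := Fintype.ofFinite A
  have hsum : ∀ L : Subgroup A,
      Nat.card L * ∑ y : orbitRel.Quotient A Ω, (L ⊔ stabilizer A y.out).index + f =
        Nat.card Ω + f * Nat.card L := by
    intro L
    have hA : ∑ a : L, Nat.card {x : Ω // (a : A) • x = x} + f =
        Nat.card Ω + f * Nat.card L := by
      rw [← Finset.add_sum_erase _ _ (Finset.mem_univ (1 : L))]
      have h1 : Nat.card {x : Ω // ((1 : L) : A) • x = x} = Nat.card Ω :=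
        Nat.card_congr (Equiv.subtypeUnivEquiv fun x => by simp)
      rw [h1, Finset.sum_congr rfl (g := fun _ => f) (fun a ha => ?_)]
      · rw [Finset.sum_const, Finset.card_erase_of_mem (Finset.mem_univ _), Finset.card_univ,
          Nat.card_eq_fintype_card (α := L), smul_eq_mul]
        have : 0 < Fintype.card L := Fintype.card_pos
        obtain ⟨k, hk⟩ := Nat.exists_eq_succ_of_ne_zero this.ne'
        rw [hk, Nat.succ_sub_one, Nat.mul_succ]
        ring
      · exact hf _ fun h => (Finset.mem_erase.1 ha).1 (Subtype.ext h)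
    have hB : ∑ a : L, Nat.card {x : Ω // (a : A) • x = x} =
        ∑ x : Ω, Nat.card (L ⊓ stabilizer A x : Subgroup A) := by
      have h2 : ∀ x : Ω, Nat.card (L ⊓ stabilizer A x : Subgroup A) =
          Nat.card {a : L // (a : A) • x = x} := fun x => Nat.card_congr
        { toFun := fun a => ⟨⟨a.1, a.2.1⟩, a.2.2⟩
          invFun := fun a => ⟨a.1.1, a.1.2, a.2⟩
          left_inv := fun a => rfl
          right_inv := fun a => rfl }
      simp only [h2]
      rw [← Nat.card_sigma, ← Nat.card_sigma]
      exact Nat.card_congr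
        { toFun := fun p => ⟨p.2.1, p.1, p.2.2⟩
          invFun := fun p => ⟨p.2.1, p.1, p.2.2⟩
          left_inv := fun p => rfl
          right_inv := fun p => rfl }
    rw [← hA, hB, Finset.mul_sum,
      ← Finset.sum_fiberwise Finset.univ (fun x : Ω => (⟦x⟧ : orbitRel.Quotient A Ω))]
    congr 1
    refine Finset.sum_congr rfl fun y _ => ?_
    have hmem : ∀ x, x ∈ Finset.univ.filter (fun x : Ω => (⟦x⟧ : orbitRel.Quotient A Ω) = y) ↔
        x ∈ orbit A y.out := by
      intro x
      rw [Finset.mem_filter, and_iff_right (Finset.mem_univ x)]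
      conv_lhs => rw [← Quotient.out_eq y]
      rw [Quotient.eq]
      exact orbitRel_apply
    rw [Finset.sum_congr rfl
      (g := fun _ => Nat.card (L ⊓ stabilizer A y.out : Subgroup A)) (fun x hx => ?_)]
    · rw [Finset.sum_const, smul_eq_mul, ← index_mul_card_inf, index_stabilizer]
      congr 1
      rw [← Set.ncard_coe_finset]
      congr 1
      ext x
      exact (hmem x).symm
    · obtain ⟨a, rfl⟩ := (hmem x).1 hx
      simp only [stabilizer_smul_comm]
  have hpos : ∀ (L : Subgroup A) (y : orbitRel.Quotient A Ω),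
      1 ≤ (L ⊔ stabilizer A y.out).index := fun L y => Nat.one_le_iff_ne_zero.2
    Subgroup.FiniteIndex.index_ne_zero
  set m := Fintype.card (orbitRel.Quotient A Ω) with hm
  have htop : Nat.card A * m + f = Nat.card Ω + f * Nat.card A := by
    simpa [Subgroup.card_top, hm] using hsum ⊤
  have hm1 : m = f + 1 := by
    have hA0 : 0 < Nat.card A := Nat.card_pos
    have h1 : f < m := by
      by_contra! h
      have : Nat.card A * m ≤ f * Nat.card A := by
        rw [mul_comm f]; exact Nat.mul_le_mul le_rfl h
      omega
    by_contra h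
    have : Nat.card A * (f + 2) ≤ Nat.card A * m := Nat.mul_le_mul le_rfl (by omega)
    rw [mul_comm f] at htop
    rw [mul_add] at this
    omega
  have hcard : Nat.card Ω = f + Nat.card A := by
    rw [hm1, mul_add, mul_one, mul_comm f] at htop
    omega
  refine ⟨hcard, hm1, fun L => ?_⟩
  have hL := hsum L
  rw [hcard, ← L.index_mul_card] at hL
  have hS : ∑ y : orbitRel.Quotient A Ω, (L ⊔ stabilizer A y.out).index = L.index + f := by
    apply Nat.eq_of_mul_eq_mul_left (Nat.card_pos (α := L))
    rw [mul_add, mul_comm (Nat.card L) L.index, mul_comm (Nat.card L) f]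
    omega
  rw [Finset.sum_tsub_distrib _ fun y _ => hpos L y, hS, Finset.sum_const, Finset.card_univ,
    smul_eq_mul, mul_one, ← hm, hm1]
  omega

end CfsgLib.MinDegree
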