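import Cfsg.Agent.MinDegree.Transvection

/-!
# `SL(n,F)` has no action on `q^(n-1)` points in which all transvection groups of a fixed centre are
regular, unless `(n,q) = (4,2)`
-/

set_option autoImplicit false

namespace CfsgLib.MinDegree

open Matrix Module MulAction
open scoped MatrixGroups

variable {ι : Type*} [Fintype ι] [DecidableEq ι] {F : Type*} [Field F]

/-- The vector is supported in `J`. -/
def Supp (J : Finset ι) (v : ι → F) : Prop := ∀ k, k ∉ J → v k = 0

/-- The elementary transvection. -/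
noncomputable def elem (i j : ι) (c : F) : Matrix.SpecialLinearGroup ι F :=
  tv (Pi.single i c) (Pi.single j 1)

theorem elem_dot {i j : ι} (hij : i ≠ j) (c : F) :
    (Pi.single j (1 : F) : ι → F) ⬝ᵥ Pi.single i c = 0 := by
  simp [Pi.single_eq_of_ne hij]

theorem elem_mulVec {i j : ι} (hij : i ≠ j) (c : F) (x : ι → F) (k : ι) :
    ((elem i j c).1 *ᵥ x) k = x k + if k = i then c * x j else 0 := by
  rw [elem, tv_mulVec (elem_dot hij c)]
  simp only [single_dotProduct, one_mul, Pi.add_apply, Pi.smul_apply, Pi.single_apply, smul_eq_mul]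
  split_ifs <;> ring

theorem vecMul_apply_eq (g : Matrix ι ι F) (φ : ι → F) (l : ι) :
    (φ ᵥ* g) l = φ ⬝ᵥ (g *ᵥ Pi.single l 1) := by
  rw [dotProduct_mulVec, dotProduct_single, mul_one]

variable {Ω : Type*} [MulAction (Matrix.SpecialLinearGroup ι F) Ω]

/-- An orbit of the transvections with centre `δ i₀` and axis supported in `J`, invariant under
all transvections supported in `J`. -/
structure Frame (i₀ : ι) (J : Finset ι) (S : Set Ω) : Prop where
  mem : i₀ ∈ J
  ne : S.Nonempty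
  inv : ∀ a b : ι → F, Supp J a → Supp J b → b ⬝ᵥ a = 0 → ∀ x ∈ S, tv a b • x ∈ S
  tors : ∀ x ∈ S, ∀ y ∈ S, ∃ φ : ι → F, Supp J φ ∧ φ i₀ = 0 ∧
    tv (Pi.single i₀ 1) φ • x = y

/-- All transvections are fixed-point-free. -/
def AllFree (ι F Ω : Type*) [Fintype ι] [DecidableEq ι] [Field F]
    [MulAction (Matrix.SpecialLinearGroup ι F) Ω] : Prop :=
  ∀ a b : ι → F, a ≠ 0 → b ≠ 0 → b ⬝ᵥ a = 0 → ∀ x : Ω, tv a b • x ≠ x

theorem elem_free (hfree : AllFree ι F Ω) {i j : ι} (hij : i ≠ j) {c : F} (hc : c ≠ 0) (x : Ω) :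
    elem i j c • x ≠ x :=
  hfree _ _ (fun h => hc (by simpa using congrFun h i))
    (fun h => one_ne_zero (α := F) (by simpa using congrFun h j)) (elem_dot hij c) x

theorem dot_single_i₀ {i₀ : ι} {φ : ι → F} (h : φ i₀ = 0) :
    φ ⬝ᵥ (Pi.single i₀ 1 : ι → F) = 0 := by
  rw [dotProduct_single, mul_one, h]

theorem tv_single_inj (hfree : AllFree ι F Ω) {i₀ : ι} {φ ψ : ι → F} (hφ : φ i₀ = 0)
    (hψ : ψ i₀ = 0) {x : Ω}
    (h : tv (Pi.single i₀ 1) φ • x = tv (Pi.single i₀ 1) ψ • x) : φ = ψ := by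
  by_contra hne
  refine hfree (Pi.single i₀ 1) (φ - ψ) (fun h0 => one_ne_zero (α := F) (by
    simpa using congrFun h0 i₀)) (sub_ne_zero.2 hne)
    (by rw [sub_dotProduct, dot_single_i₀ hφ, dot_single_i₀ hψ, sub_zero])
    (tv (Pi.single i₀ 1) ψ • x) ?_
  rw [← mul_smul, tv_mul_left (by rw [sub_dotProduct, dot_single_i₀ hφ, dot_single_i₀ hψ,
    sub_zero]) (dot_single_i₀ hψ), sub_add_cancel, h]

theorem Frame.elem_mem {i₀ : ι} {J : Finset ι} {S : Set Ω} (hS : Frame (F := F) i₀ J S)
    {i j : ι} (hi : i ∈ J) (hj : j ∈ J) (hij : i ≠ j) (c : F) {x : Ω} (hx : x ∈ S) :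
    elem i j c • x ∈ S :=
  hS.inv _ _ (fun k hk => by rw [Pi.single_apply, if_neg]; exact fun h : k = i => hk (h ▸ hi))
    (fun k hk => by rw [Pi.single_apply, if_neg]; exact fun h : k = j => hk (h ▸ hj)) (elem_dot hij c) x hx

variable [Fintype F]

theorem Frame.ncard_eq (hfree : AllFree ι F Ω) {i₀ : ι} {J : Finset ι} {S : Set Ω}
    (hS : Frame (F := F) i₀ J S) : Nat.card S = Fintype.card F ^ (J.card - 1) := by
  classical
  obtain ⟨x, hx⟩ := hS.ne
  let ext : ({k // k ∈ J.erase i₀} → F) → ι → F :=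
    fun v k => if h : k ∈ J.erase i₀ then v ⟨k, h⟩ else 0
  have hext0 : ∀ v, ext v i₀ = 0 := fun v => dif_neg (by simp)
  have hextS : ∀ v, Supp J (ext v) := fun v k hk => dif_neg (by simp [hk])
  have hsuppe : Supp J (Pi.single i₀ (1 : F)) := fun k hk =>
    by rw [Pi.single_apply, if_neg]; exact fun h : k = i₀ => hk (h ▸ hS.mem)
  let f : ({k // k ∈ J.erase i₀} → F) → S := fun v => ⟨tv (Pi.single i₀ 1) (ext v) • x,
    hS.inv _ _ hsuppe (hextS v) (dot_single_i₀ (hext0 v)) x hx⟩
  have hf : Function.Bijective f := by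
    refine ⟨fun v w h => ?_, fun y => ?_⟩
    · have := tv_single_inj hfree (hext0 v) (hext0 w) (congrArg Subtype.val h)
      funext k
      have hk := congrFun this k.1
      simp only [ext, dif_pos k.2] at hk
      exact hk
    · obtain ⟨φ, hφS, hφ0, hφy⟩ := hS.tors x hx y y.2
      refine ⟨fun k => φ k.1, Subtype.ext ?_⟩
      have : ext (fun k => φ k.1) = φ := by
        funext k
        by_cases hk : k ∈ J.erase i₀
        · exact dif_pos hk
        · rw [show ext (fun k => φ k.1) k = 0 from dif_neg hk]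
          rw [Finset.mem_erase, not_and_or, not_not] at hk
          rcases hk with hk | hk
          · rw [hk, hφ0]
          · rw [hφS k hk]
      change tv _ (ext fun k => φ k.1) • x = y.1
      rw [this, hφy]
  rw [← Nat.card_congr (Equiv.ofBijective f hf), Nat.card_eq_fintype_card, Fintype.card_fun,
    Fintype.card_coe, Finset.card_erase_of_mem hS.mem]

omit [Fintype F] in
theorem exists_fixed_of_prime {S : Set Ω} [Finite S] {g : Matrix.SpecialLinearGroup ι F}
    (hg : ∀ x ∈ S, g • x ∈ S) {r : ℕ} (hr : r.Prime) (hgr : g ^ r = 1)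
    (hS : ¬ r ∣ Nat.card S) : ∃ x ∈ S, g • x = x := by
  classical
  have := Fintype.ofFinite S
  have := Fact.mk hr
  let σ : Equiv.Perm S := Equiv.ofBijective (fun x => ⟨g • x.1, hg x.1 x.2⟩)
    (Finite.injective_iff_bijective.1 fun a b h =>
      Subtype.ext (MulAction.injective g (congrArg Subtype.val h)))
  have hσ : ∀ (k : ℕ) (x : S), ((σ ^ k) x).1 = g ^ k • x.1 := by
    intro k
    induction k with
    | zero => intro x; simp
    | succ k ih =>
      intro x
      rw [pow_succ', Equiv.Perm.mul_apply, pow_succ', mul_smul, ← ih x]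
      rfl
  have hσr : σ ^ r ^ 1 = 1 := by
    refine Equiv.ext fun x => Subtype.ext ?_
    rw [pow_one, hσ, hgr, one_smul]
    rfl
  obtain ⟨x, hx⟩ := Equiv.Perm.exists_fixed_point_of_prime
    (by rwa [← Nat.card_eq_fintype_card]) hσr
  exact ⟨x.1, x.2, congrArg Subtype.val hx⟩

/-- Passing from a frame to the fixed points of an element supported away from the centre. -/
theorem Frame.reduce (hfree : AllFree ι F Ω) [Finite Ω] {i₀ : ι} {J K : Finset ι} {S : Set Ω}
    (hS : Frame (F := F) i₀ J S) (hK : i₀ ∉ K) {b : Matrix.SpecialLinearGroup ι F}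
    (hbS : ∀ x ∈ S, b • x ∈ S) {r : ℕ} (hr : r.Prime) (hrq : ¬ r ∣ Fintype.card F)
    (hbr : b ^ r = 1) (hb1 : ∀ a : ι → F, Supp (J \ K) a → b.1 *ᵥ a = a)
    (hb2 : ∀ a : ι → F, Supp (J \ K) a → a ᵥ* b.1 = a)
    (hb3 : ∀ φ : ι → F, φ ᵥ* b.1 = φ → ∀ k ∈ K, φ k = 0) :
    Frame (F := F) i₀ (J \ K) {x | x ∈ S ∧ b • x = x} := by
  have hmem : i₀ ∈ J \ K := Finset.mem_sdiff.2 ⟨hS.mem, hK⟩
  refine ⟨hmem, ?_, ?_, ?_⟩
  · exact exists_fixed_of_prime hbS hr hbr fun h => hrq (hr.dvd_of_dvd_pow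
      (hS.ncard_eq hfree ▸ h))
  · rintro a c ha hc hca x ⟨hx, hbx⟩
    have hJ : ∀ v : ι → F, Supp (J \ K) v → Supp J v := fun v hv k hk =>
      hv k fun h => hk (Finset.mem_sdiff.1 h).1
    refine ⟨hS.inv a c (hJ a ha) (hJ c hc) hca x hx, ?_⟩
    have hcomm := tv_conj hca (hb1 a ha) (hb2 c hc)
    conv_rhs => rw [← hcomm, mul_smul, mul_smul, inv_smul_eq_iff.2 hbx.symm]
  · rintro x ⟨hx, hbx⟩ y ⟨hy, hby⟩
    obtain ⟨φ, hφS, hφ0, hφy⟩ := hS.tors x hx y hy
    have he1 : b.1 *ᵥ (Pi.single i₀ 1 : ι → F) = Pi.single i₀ 1 :=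
      hb1 _ fun k hk => by rw [Pi.single_apply, if_neg]; exact fun h : k = i₀ => hk (h ▸ hmem)
    set φ' := φ ᵥ* (b⁻¹).1 with hφ'
    have hback : φ' ᵥ* b.1 = φ := by
      rw [hφ', vecMul_vecMul,
        show ((b⁻¹).1 * b.1 : Matrix ι ι F) = (b⁻¹ * b).1 from rfl, inv_mul_cancel]
      exact vecMul_one φ
    have hφ'0 : φ' i₀ = 0 := by
      have : φ' ⬝ᵥ (Pi.single i₀ 1 : ι → F) = 0 := by
        rw [← he1, dotProduct_mulVec, hback, dot_single_i₀ hφ0]
      rwa [dotProduct_single, mul_one] at this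
    have hconj := tv_conj (dot_single_i₀ hφ0) he1 hback
    have hEq : tv (Pi.single i₀ 1) φ' • x = tv (Pi.single i₀ 1) φ • x := by
      rw [← hconj, mul_smul, mul_smul, inv_smul_eq_iff.2 hbx.symm, hφy, hby]
    have hfix : φ' = φ := tv_single_inj hfree hφ'0 hφ0 hEq
    rw [hfix] at hback
    refine ⟨φ, fun k hk => ?_, hφ0, hφy⟩
    rw [Finset.mem_sdiff, not_and_or, not_not] at hk
    rcases hk with hk | hk
    · exact hφS k hk
    · exact hb3 φ hback k hk

omit [Fintype F] in
theorem Frame.singleton_eq {i₀ : ι} {J : Finset ι} {S : Set Ω} (hS : Frame (F := F) i₀ J S)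
    (hJ : ∀ k ∈ J, k = i₀) {x y : Ω} (hx : x ∈ S) (hy : y ∈ S) : y = x := by
  obtain ⟨φ, hφS, hφ0, hφy⟩ := hS.tors x hx y hy
  have : φ = 0 := funext fun k => by
    by_cases hk : k ∈ J
    · rw [hJ k hk]; exact hφ0
    · exact hφS k hk
  rw [← hφy, this, tv_zero_right, one_smul]

/-- `-1` on the coordinates `i, j`. -/
noncomputable def negPair (i j : ι) : Matrix.SpecialLinearGroup ι F :=
  (elem i j 1 * elem j i (-1) * elem i j 1) ^ 2

omit [Fintype F] in
theorem negPair_mulVec {i j : ι} (hij : i ≠ j) (x : ι → F) (k : ι) :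
    ((negPair i j).1 *ᵥ x) k = if k = i ∨ k = j then -x k else x k := by
  rw [negPair, pow_two]
  simp only [mul_mulVec, elem_mulVec hij, elem_mulVec hij.symm]
  by_cases hki : k = i
  · subst hki
    simp [hij, hij.symm]
  by_cases hkj : k = j
  · subst hkj
    simp [hij, hij.symm, hki]
  · simp [hki, hkj]

omit [Fintype F] in
theorem negPair_sq {i j : ι} (hij : i ≠ j) :
    (negPair i j : Matrix.SpecialLinearGroup ι F) ^ 2 = 1 := by
  rw [pow_two]
  refine sl_ext fun x => funext fun k => ?_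
  rw [mul_mulVec, negPair_mulVec hij, negPair_mulVec hij, sl_one_mulVec]
  by_cases h : k = i ∨ k = j <;> simp [h]

omit [Fintype F] in
theorem negPair_vecMul {i j : ι} (hij : i ≠ j) (φ : ι → F) (l : ι) :
    (φ ᵥ* (negPair i j).1) l = if l = i ∨ l = j then -φ l else φ l := by
  have h : (negPair i j).1 *ᵥ (Pi.single l 1 : ι → F) =
      Pi.single l (if l = i ∨ l = j then (-1 : F) else 1) := by
    funext k
    rw [negPair_mulVec hij]
    rcases eq_or_ne k l with rfl | hkl
    · split_ifs <;> simp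
    · simp [hkl]
  rw [vecMul_apply_eq, h, dotProduct_single]
  split_ifs <;> simp

omit [Fintype F] in
theorem Frame.negPair_mem {i₀ : ι} {J : Finset ι} {S : Set Ω} (hS : Frame (F := F) i₀ J S)
    {i j : ι} (hi : i ∈ J) (hj : j ∈ J) (hij : i ≠ j) {x : Ω} (hx : x ∈ S) :
    (negPair i j : Matrix.SpecialLinearGroup ι F) • x ∈ S := by
  rw [negPair, pow_two]
  simp only [mul_smul]
  exact hS.elem_mem hi hj hij _ (hS.elem_mem hj hi hij.symm _ (hS.elem_mem hi hj hij _
    (hS.elem_mem hi hj hij _ (hS.elem_mem hj hi hij.symm _ (hS.elem_mem hi hj hij _ hx)))))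

omit [Fintype F] in
theorem eq_zero_of_neg_eq (h2 : (2 : F) ≠ 0) {a : F} (h : -a = a) : a = 0 := by
  have : (2 : F) * a = 0 := by linear_combination (-1 : F) * h
  exact (mul_eq_zero.1 this).resolve_left h2

theorem Frame.reduce_negPair (hfree : AllFree ι F Ω) [Finite Ω] (h2 : (2 : F) ≠ 0)
    (hq : ¬ 2 ∣ Fintype.card F) {i₀ : ι} {J : Finset ι} {S : Set Ω}
    (hS : Frame (F := F) i₀ J S) {i j : ι} (hi : i ∈ J.erase i₀) (hj : j ∈ J.erase i₀)
    (hij : i ≠ j) :
    Frame (F := F) i₀ (J \ {i, j})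
      {x | x ∈ S ∧ (negPair i j : Matrix.SpecialLinearGroup ι F) • x = x} := by
  rw [Finset.mem_erase] at hi hj
  have hout : ∀ a : ι → F, Supp (J \ {i, j}) a → a i = 0 ∧ a j = 0 := fun a ha =>
    ⟨ha i (by simp), ha j (by simp)⟩
  refine hS.reduce hfree (by simp [hi.1.symm, hj.1.symm])
    (fun x hx => hS.negPair_mem hi.2 hj.2 hij hx) Nat.prime_two hq (negPair_sq hij) ?_ ?_ ?_
  · intro a ha
    funext k
    rw [negPair_mulVec hij]
    split_ifs with h
    · rcases h with rfl | rfl <;> simp [(hout a ha).1, (hout a ha).2]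
    · rfl
  · intro a ha
    funext k
    rw [negPair_vecMul hij]
    split_ifs with h
    · rcases h with rfl | rfl <;> simp [(hout a ha).1, (hout a ha).2]
    · rfl
  · intro φ hφ k hk
    have hk' : k = i ∨ k = j := by simpa using hk
    refine eq_zero_of_neg_eq h2 ?_
    conv_rhs => rw [← hφ]
    rw [negPair_vecMul hij, if_pos hk']

omit [Fintype F] in
theorem negPair_comm {i j k l : ι} (hij : i ≠ j) (hkl : k ≠ l) :
    (negPair i j : Matrix.SpecialLinearGroup ι F) * negPair k l = negPair k l * negPair i j :=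
  sl_ext fun x => funext fun m => by
    simp only [mul_mulVec, negPair_mulVec hij, negPair_mulVec hkl]
    by_cases h1 : m = i ∨ m = j <;> by_cases h2 : m = k ∨ m = l <;> simp [h1, h2]

theorem no_frame_three_odd (hfree : AllFree ι F Ω) [Finite Ω] (h2 : (2 : F) ≠ 0)
    (hq : ¬ 2 ∣ Fintype.card F) {i₀ : ι} {J : Finset ι} {S : Set Ω}
    (hS : Frame (F := F) i₀ J S) (hJ : J.card = 3) : False := by
  obtain ⟨i, j, hij, hJ'⟩ := Finset.card_eq_two.1
    (show (J.erase i₀).card = 2 by rw [Finset.card_erase_of_mem hS.mem, hJ])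
  have hi : i ∈ J.erase i₀ := by simp [hJ']
  have hj : j ∈ J.erase i₀ := by simp [hJ']
  have hS' := hS.reduce_negPair hfree h2 hq hi hj hij
  obtain ⟨x, hx⟩ := hS'.ne
  have hcomm : (negPair i j : Matrix.SpecialLinearGroup ι F) * elem i j 1 =
      elem i j 1 * negPair i j := sl_ext fun y => funext fun k => by
    simp only [mul_mulVec, negPair_mulVec hij, elem_mulVec hij]
    by_cases hki : k = i
    · subst hki
      simp [hij, hij.symm]
      ring
    by_cases hkj : k = j
    · subst hkj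
      simp [hij, hij.symm, hki]
    · simp [hki, hkj]
  have hy : elem i j (1 : F) • x ∈
      {z | z ∈ S ∧ (negPair i j : Matrix.SpecialLinearGroup ι F) • z = z} :=
    ⟨hS.elem_mem (Finset.mem_of_mem_erase hi) (Finset.mem_of_mem_erase hj) hij 1 hx.1, by
      rw [← mul_smul, hcomm, mul_smul, hx.2]⟩
  refine elem_free hfree hij one_ne_zero x (hS'.singleton_eq (fun k hk => ?_) hx hy)
  rw [Finset.mem_sdiff] at hk
  by_contra hne
  have : k ∈ J.erase i₀ := Finset.mem_erase.2 ⟨hne, hk.1⟩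
  rw [hJ'] at this
  exact hk.2 this

theorem no_frame_four_odd (hfree : AllFree ι F Ω) [Finite Ω] (h2 : (2 : F) ≠ 0)
    (hq : ¬ 2 ∣ Fintype.card F) {i₀ : ι} {J : Finset ι} {S : Set Ω}
    (hS : Frame (F := F) i₀ J S) (hJ : J.card = 4) : False := by
  obtain ⟨i, j, k, hij, hik, hjk, hJ'⟩ := Finset.card_eq_three.1
    (show (J.erase i₀).card = 3 by rw [Finset.card_erase_of_mem hS.mem, hJ])
  have hi : i ∈ J.erase i₀ := by simp [hJ']
  have hj : j ∈ J.erase i₀ := by simp [hJ']
  have hk : k ∈ J.erase i₀ := by simp [hJ']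
  obtain ⟨hi0, hiJ⟩ := Finset.mem_erase.1 hi
  obtain ⟨hj0, hjJ⟩ := Finset.mem_erase.1 hj
  obtain ⟨hk0, hkJ⟩ := Finset.mem_erase.1 hk
  set s₁ : Matrix.SpecialLinearGroup ι F := negPair i j
  set s₂ : Matrix.SpecialLinearGroup ι F := negPair j k
  have hS₁ := hS.reduce_negPair hfree h2 hq hi hj hij
  have hS₂ := hS.reduce_negPair hfree h2 hq hj hk hjk
  have hcases : ∀ l ∈ J, l = i₀ ∨ l = i ∨ l = j ∨ l = k := fun l hl => by
    rcases eq_or_ne l i₀ with h | h
    · exact Or.inl h
    · have : l ∈ J.erase i₀ := Finset.mem_erase.2 ⟨h, hl⟩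
      rw [hJ'] at this
      simp only [Finset.mem_insert, Finset.mem_singleton] at this
      exact Or.inr this
  obtain ⟨ω, ⟨hω, hω1⟩, hω2⟩ := exists_fixed_of_prime (S := {x | x ∈ S ∧ s₁ • x = x}) (g := s₂)
    (fun x hx => ⟨hS.negPair_mem hjJ hkJ hjk hx.1, by
      rw [← mul_smul, negPair_comm hij hjk, mul_smul, hx.2]⟩) Nat.prime_two (negPair_sq hjk)
    (fun h => hq (Nat.prime_two.dvd_of_dvd_pow (hS₁.ncard_eq hfree ▸ h)))
  have huniq : ∀ z ∈ S, s₁ • z = z → s₂ • z = z → z = ω := by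
    intro z hz hz1 hz2
    obtain ⟨φ, hφS, hφ0, hφ⟩ := hS₁.tors ω ⟨hω, hω1⟩ z ⟨hz, hz1⟩
    obtain ⟨ψ, hψS, hψ0, hψ⟩ := hS₂.tors ω ⟨hω, hω2⟩ z ⟨hz, hz2⟩
    have h := tv_single_inj hfree hφ0 hψ0 (hφ.trans hψ.symm)
    have hzero : φ = 0 := funext fun l => by
      by_cases hl : l ∈ J
      · rcases hcases l hl with rfl | rfl | rfl | rfl
        · exact hφ0
        · exact hφS _ (by simp)
        · exact hφS _ (by simp)
        · rw [h]; exact hψS _ (by simp)
      · exact hφS _ fun hmem => hl (Finset.mem_sdiff.1 hmem).1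
    rw [← hφ, hzero, tv_zero_right, one_smul]
  -- the images of `ω` under two elementary transvections
  have hmove : ∀ (a b c : ι), a ≠ b → a ∈ J → b ∈ J → c ≠ a → c ≠ b → c ≠ i₀ → a ≠ i₀ → b ≠ i₀ →
      (negPair a b : Matrix.SpecialLinearGroup ι F) • ω = ω →
      Frame (F := F) i₀ (J \ {a, b})
        {x | x ∈ S ∧ (negPair a b : Matrix.SpecialLinearGroup ι F) • x = x} →
      (∀ l ∈ J, l = i₀ ∨ l = a ∨ l = b ∨ l = c) →
      ∃ α : F, tv (Pi.single i₀ 1) (Pi.single c α) • ω = elem a b (1 : F) • ω := by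
    intro a b c hab ha hb hca hcb hc0 ha0 hb0 hfix hF hl'
    have hy : elem a b (1 : F) • ω ∈
        {x | x ∈ S ∧ (negPair a b : Matrix.SpecialLinearGroup ι F) • x = x} := by
      refine ⟨hS.elem_mem ha hb hab 1 hω, ?_⟩
      have hcomm : (negPair a b : Matrix.SpecialLinearGroup ι F) * elem a b 1 =
          elem a b 1 * negPair a b := sl_ext fun y => funext fun l => by
        simp only [mul_mulVec, negPair_mulVec hab, elem_mulVec hab]
        by_cases hla : l = a
        · subst hla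
          simp [hab, hab.symm]
          ring
        by_cases hlb : l = b
        · subst hlb
          simp [hab, hab.symm, hla]
        · simp [hla, hlb]
      rw [← mul_smul, hcomm, mul_smul, hfix]
    obtain ⟨φ, hφS, hφ0, hφ⟩ := hF.tors ω ⟨hω, hfix⟩ _ hy
    refine ⟨φ c, ?_⟩
    rw [← hφ]
    congr 2
    funext l
    rcases eq_or_ne l c with rfl | hlc
    · simp
    rw [Pi.single_eq_of_ne hlc]
    by_cases hl : l ∈ J
    · rcases hl' l hl with rfl | rfl | rfl | rfl
      · exact hφ0.symm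
      · exact (hφS _ (by simp)).symm
      · exact (hφS _ (by simp)).symm
      · exact absurd rfl hlc
    · exact (hφS _ fun hmem => hl (Finset.mem_sdiff.1 hmem).1).symm
  obtain ⟨α, hα⟩ := hmove i j k hij hiJ hjJ hik.symm hjk.symm hk0 hi0 hj0 hω1 hS₁ hcases
  have hω2' : (negPair k j : Matrix.SpecialLinearGroup ι F) • ω = ω := by
    rw [show (negPair k j : Matrix.SpecialLinearGroup ι F) = s₂ from
      sl_ext fun x => funext fun l => by
        rw [negPair_mulVec hjk.symm, negPair_mulVec hjk]; simp only [or_comm]]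
    exact hω2
  have hF₂ : Frame (F := F) i₀ (J \ {k, j})
      {x | x ∈ S ∧ (negPair k j : Matrix.SpecialLinearGroup ι F) • x = x} :=
    hS.reduce_negPair hfree h2 hq hk hj hjk.symm
  obtain ⟨β, hβ⟩ := hmove k j i hjk.symm hkJ hjJ hik hij hi0 hk0 hj0 hω2' hF₂
    (fun l hl => by rcases hcases l hl with h | h | h | h <;> simp [h])
  set A := (tv (Pi.single i₀ 1) (Pi.single k α))⁻¹ * elem i j (1 : F) with hA'
  set C := (tv (Pi.single i₀ 1) (Pi.single i β))⁻¹ * elem k j (1 : F) with hC'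
  have hA : A • ω = ω := by rw [hA', mul_smul, inv_smul_eq_iff, hα]
  have hC : C • ω = ω := by rw [hC', mul_smul, inv_smul_eq_iff, hβ]
  have hAinv : ∀ x l, (A.1 *ᵥ x) l = x l + (if l = i then x j else 0) -
      (if l = i₀ then α * x k else 0) := by
    intro x l
    rw [hA', mul_mulVec, tv_inv (by simp [hk0]), tv_mulVec (by simp [hk0])]
    simp only [Pi.add_apply, Pi.smul_apply, smul_eq_mul, neg_dotProduct, single_dotProduct,
      elem_mulVec hij, Pi.single_apply, if_neg hik.symm, one_mul, add_zero]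
    split_ifs <;> ring
  have hCinv : ∀ x l, (C.1 *ᵥ x) l = x l + (if l = k then x j else 0) -
      (if l = i₀ then β * x i else 0) := by
    intro x l
    rw [hC', mul_mulVec, tv_inv (by simp [hi0]), tv_mulVec (by simp [hi0])]
    simp only [Pi.add_apply, Pi.smul_apply, smul_eq_mul, neg_dotProduct, single_dotProduct,
      elem_mulVec hjk.symm, Pi.single_apply, if_neg hik, one_mul, add_zero]
    split_ifs <;> ring
  have hAC : A * C = tv (Pi.single i₀ 1) (Pi.single j (β - α)) * (C * A) := by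
    refine sl_ext fun x => funext fun l => ?_
    simp only [mul_mulVec]
    rw [tv_mulVec (by simp [hj0])]
    simp only [Pi.add_apply, Pi.smul_apply, smul_eq_mul, single_dotProduct, hAinv, hCinv,
      Pi.single_apply, if_neg hik, if_neg hik.symm, if_neg hij.symm, if_neg hjk, if_neg hj0,
      if_neg hi0, if_neg hk0, if_true]
    rcases eq_or_ne l i₀ with rfl | hl0
    · simp [hi0.symm, hj0.symm, hk0.symm]
      ring
    rcases eq_or_ne l i with rfl | hli
    · simp [hl0, hik, hij]
    rcases eq_or_ne l k with rfl | hlk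
    · simp [hl0, hli, hjk.symm]
    · simp [hl0, hli, hlk]
  have h1 : β = α := by
    by_contra hne
    have : tv (Pi.single i₀ 1) (Pi.single j (β - α)) • ω = ω := by
      calc tv (Pi.single i₀ 1) (Pi.single j (β - α)) • ω
          = (tv (Pi.single i₀ 1) (Pi.single j (β - α)) * (C * A)) • ω := by
            rw [mul_smul, mul_smul, hA, hC]
        _ = ω := by rw [← hAC, mul_smul, hC, hA]
    refine hfree _ _ (fun h => one_ne_zero (α := F) (by simpa using congrFun h i₀))
      (fun h => hne (sub_eq_zero.1 (by simpa using congrFun h j))) (by simp [hj0]) ω this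
  set w := elem i k (1 : F) * elem k i (-1) * elem i k 1 with hwdef
  have hw : ∀ x l, (w.1 *ᵥ x) l = if l = i then x k else if l = k then -x i else x l := by
    intro x l
    simp only [hwdef, mul_mulVec, elem_mulVec hik, elem_mulVec hik.symm]
    by_cases hli : l = i
    · subst hli; simp [hik, hik.symm]
    by_cases hlk : l = k
    · subst hlk; simp [hik, hik.symm, hli]
    · simp [hli, hlk]
  have hwS : w • ω ∈ S := by
    rw [hwdef, mul_smul, mul_smul]
    exact hS.elem_mem hiJ hkJ hik _ (hS.elem_mem hkJ hiJ hik.symm _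
      (hS.elem_mem hiJ hkJ hik _ hω))
  have hws : s₁ * w = w * s₂ ∧ s₂ * w = w * s₁ := by
    constructor <;>
    · refine sl_ext fun x => funext fun l => ?_
      simp only [mul_mulVec, hw, s₁, s₂, negPair_mulVec hij, negPair_mulVec hjk]
      rcases eq_or_ne l i with rfl | hli
      · simp [hik, hik.symm, hij, hjk.symm]
      rcases eq_or_ne l k with rfl | hlk
      · simp [hik, hik.symm, hli, hij, hjk.symm]
      · simp [hli, hlk, or_comm]
  have hwω : w • ω = ω := huniq _ hwS (by rw [← mul_smul, hws.1, mul_smul, hω2])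
    (by rw [← mul_smul, hws.2, mul_smul, hω1])
  have hCw : C * w * A = tv (Pi.single i₀ 1) (Pi.single i (-(α + β))) * w := by
    refine sl_ext fun x => funext fun l => ?_
    simp only [mul_mulVec]
    rw [tv_mulVec (by simp [hi0])]
    simp only [Pi.add_apply, Pi.smul_apply, smul_eq_mul, single_dotProduct, hCinv, hw, hAinv,
      Pi.single_apply, if_true, if_neg hik.symm, if_neg hij.symm, if_neg hjk, if_neg hi0,
      if_neg hk0, if_neg hj0]
    rcases eq_or_ne l i₀ with rfl | hl0
    · simp [hi0.symm, hk0.symm]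
      ring
    rcases eq_or_ne l i with rfl | hli
    · simp [hl0, hik]
    rcases eq_or_ne l k with rfl | hlk
    · simp [hl0, hik.symm]
    · simp [hl0, hli, hlk]
  have h3 : α + β = 0 := by
    by_contra hne
    have : tv (Pi.single i₀ 1) (Pi.single i (-(α + β))) • ω = ω := by
      calc tv (Pi.single i₀ 1) (Pi.single i (-(α + β))) • ω
          = (tv (Pi.single i₀ 1) (Pi.single i (-(α + β))) * w) • ω := by rw [mul_smul, hwω]
        _ = ω := by rw [← hCw, mul_smul, mul_smul, hA, hwω, hC]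
    exact hfree _ _ (fun h => one_ne_zero (α := F) (by simpa using congrFun h i₀))
      (fun h => hne (neg_eq_zero.1 (by simpa using congrFun h i))) (by simp [hi0]) ω this
  have hα0 : α = 0 := eq_zero_of_neg_eq h2 (by linear_combination (-1 : F) * h3 + h1)
  rw [hα0, Pi.single_zero, tv_zero_right, one_smul] at hα
  exact elem_free hfree hij one_ne_zero ω hα.symm

theorem no_frame_odd (hfree : AllFree ι F Ω) [Finite Ω] (h2 : (2 : F) ≠ 0)
    (hq : ¬ 2 ∣ Fintype.card F) {i₀ : ι} :
    ∀ (m : ℕ) {J : Finset ι} {S : Set Ω}, Frame (F := F) i₀ J S → J.card = m → 3 ≤ m → False := by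
  intro m
  induction m using Nat.strong_induction_on with
  | _ m ih =>
    intro J S hS hJ hm
    rcases Nat.lt_or_ge m 5 with hm5 | hm5
    · rcases (show m = 3 ∨ m = 4 by omega) with rfl | rfl
      · exact no_frame_three_odd hfree h2 hq hS hJ
      · exact no_frame_four_odd hfree h2 hq hS hJ
    obtain ⟨i, hi, j, hj, hij⟩ := Finset.one_lt_card.1
      (show 1 < (J.erase i₀).card by rw [Finset.card_erase_of_mem hS.mem]; omega)
    refine ih (m - 2) (by omega) (hS.reduce_negPair hfree h2 hq hi hj hij) ?_ (by omega)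
    rw [Finset.card_sdiff, Finset.inter_eq_left.2 (by
      simp [Finset.insert_subset_iff, Finset.mem_of_mem_erase hi, Finset.mem_of_mem_erase hj]),
      Finset.card_pair hij, hJ]

end CfsgLib.MinDegree
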