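import Cfsg.Agent.MinDegree.Frame

/-!
# The even characteristic case of `Cfsg.Agent.MinDegree.Frame`
-/

set_option autoImplicit false

namespace CfsgLib.MinDegree

open Matrix Module MulAction
open scoped MatrixGroups

variable {ι : Type*} [Fintype ι] [DecidableEq ι] {F : Type*} [Field F]

theorem add_self_eq_zero' (h2 : (2 : F) = 0) (a : F) : a + a = 0 := by
  rw [← two_mul, h2, zero_mul]

/-- An element of order three on the coordinates `i, j`. -/
noncomputable def cycleTwo (i j : ι) : Matrix.SpecialLinearGroup ι F :=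
  elem i j 1 * elem j i 1

theorem cycleTwo_mulVec (h2 : (2 : F) = 0) {i j : ι} (hij : i ≠ j) (x : ι → F) (k : ι) :
    ((cycleTwo i j).1 *ᵥ x) k = if k = i then x j else if k = j then x i + x j else x k := by
  simp only [cycleTwo, mul_mulVec, elem_mulVec hij, elem_mulVec hij.symm]
  by_cases hki : k = i
  · subst hki
    simp only [hij, ↓reduceIte]
    linear_combination add_self_eq_zero' h2 (x k)
  by_cases hkj : k = j
  · subst hkj
    simp [hki, add_comm]
  · simp [hki, hkj]

theorem cycleTwo_pow_three (h2 : (2 : F) = 0) {i j : ι} (hij : i ≠ j) :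
    (cycleTwo i j : Matrix.SpecialLinearGroup ι F) ^ 3 = 1 := by
  rw [pow_succ, pow_two]
  refine sl_ext fun x => funext fun k => ?_
  simp only [mul_mulVec, cycleTwo_mulVec h2 hij, sl_one_mulVec]
  by_cases hki : k = i
  · subst hki
    simp only [hij, hij.symm, ↓reduceIte]
    linear_combination add_self_eq_zero' h2 (x j)
  by_cases hkj : k = j
  · subst hkj
    simp only [hki, hki ∘ Eq.symm, hij, hij.symm, ↓reduceIte]
    linear_combination add_self_eq_zero' h2 (x i + x k)
  · simp [hki, hkj]

/-- An element of order seven on the coordinates `i, j, k`. -/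
noncomputable def cycleThree (i j k : ι) : Matrix.SpecialLinearGroup ι F :=
  elem i j 1 * elem j k 1 * elem k i 1

theorem cycleThree_mulVec (h2 : (2 : F) = 0) {i j k : ι} (hij : i ≠ j) (hik : i ≠ k) (hjk : j ≠ k)
    (x : ι → F) (l : ι) :
    ((cycleThree i j k).1 *ᵥ x) l = if l = i then x j + x k
      else if l = j then x i + x j + x k else if l = k then x i + x k else x l := by
  simp only [cycleThree, mul_mulVec, elem_mulVec hij, elem_mulVec hjk, elem_mulVec hik.symm]
  by_cases hli : l = i
  · subst hli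
    simp only [hik, hij, hij.symm, hjk, ↓reduceIte]
    linear_combination add_self_eq_zero' h2 (x l)
  by_cases hlj : l = j
  · subst hlj
    simp [hli, hjk]
    ring
  by_cases hlk : l = k
  · subst hlk
    simp [hli, hlj, add_comm]
  · simp [hli, hlj, hlk]

theorem cycleThree_pow_seven (h2 : (2 : F) = 0) {i j k : ι} (hij : i ≠ j) (hik : i ≠ k)
    (hjk : j ≠ k) : (cycleThree i j k : Matrix.SpecialLinearGroup ι F) ^ 7 = 1 := by
  set b : Matrix.SpecialLinearGroup ι F := cycleThree i j k with hb
  have h3 : ∀ x : ι → F, ∀ l, (l = i ∨ l = j ∨ l = k) →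
      (b.1 *ᵥ (b.1 *ᵥ (b.1 *ᵥ x))) l = (b.1 *ᵥ x) l + x l := by
    intro x l hl
    have hb' := fun y m => cycleThree_mulVec h2 hij hik hjk y m
    rcases hl with hl | hl | hl <;> subst hl <;>
      simp only [hb, hb', hij, hik, hjk, hij.symm, hik.symm, hjk.symm, ↓reduceIte]
    · linear_combination (x l + x j + 2 * x k) * h2
    · linear_combination (2 * x i + x l + 3 * x k) * h2
    · linear_combination (x i + x j + x l) * h2
  refine sl_ext fun x => funext fun l => ?_
  rw [sl_one_mulVec]
  by_cases hl : l = i ∨ l = j ∨ l = k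
  · have e4 := h3 (b.1 *ᵥ x) l hl
    have e5 := h3 (b.1 *ᵥ (b.1 *ᵥ x)) l hl
    have e6 := h3 (b.1 *ᵥ (b.1 *ᵥ (b.1 *ᵥ x))) l hl
    have e7 := h3 (b.1 *ᵥ (b.1 *ᵥ (b.1 *ᵥ (b.1 *ᵥ x)))) l hl
    simp only [pow_succ, pow_zero, one_mul, mul_mulVec]
    linear_combination e7 + e5 + e4 + h3 x l hl +
      add_self_eq_zero' h2 ((b.1 *ᵥ (b.1 *ᵥ x)) l) + add_self_eq_zero' h2 ((b.1 *ᵥ x) l)
  · push Not at hl
    simp only [pow_succ, pow_zero, one_mul, mul_mulVec, hb, cycleThree_mulVec h2 hij hik hjk,
      if_neg hl.1, if_neg hl.2.1, if_neg hl.2.2]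

variable [Fintype F] {Ω : Type*} [MulAction (Matrix.SpecialLinearGroup ι F) Ω]

theorem not_dvd_card_of_two (h2 : (2 : F) = 0) {r : ℕ} (hr : r.Prime) (hr2 : r ≠ 2) :
    ¬ r ∣ Fintype.card F := by
  obtain ⟨p, hp⟩ := CharP.exists F
  obtain ⟨k, hp', hk⟩ := FiniteField.card F p
  intro h
  rw [hk] at h
  have hp2 : p = 2 := by
    have hdvd : p ∣ 2 := (CharP.cast_eq_zero_iff F p 2).1 (by exact_mod_cast h2)
    exact (Nat.prime_dvd_prime_iff_eq hp' Nat.prime_two).1 hdvd
  exact hr2 (((Nat.prime_dvd_prime_iff_eq hr hp').1 (hr.dvd_of_dvd_pow h)).trans hp2)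

theorem Frame.reduce_cycleTwo (hfree : AllFree ι F Ω) [Finite Ω] (h2 : (2 : F) = 0) {i₀ : ι}
    {J : Finset ι} {S : Set Ω} (hS : Frame (F := F) i₀ J S) {i j : ι} (hi : i ∈ J.erase i₀)
    (hj : j ∈ J.erase i₀) (hij : i ≠ j) :
    Frame (F := F) i₀ (J \ {i, j})
      {x | x ∈ S ∧ (cycleTwo i j : Matrix.SpecialLinearGroup ι F) • x = x} := by
  rw [Finset.mem_erase] at hi hj
  have hout : ∀ a : ι → F, Supp (J \ {i, j}) a → a i = 0 ∧ a j = 0 := fun a ha =>
    ⟨ha i (by simp), ha j (by simp)⟩
  have hcol : ∀ (φ : ι → F) (l : ι), (φ ᵥ* (cycleTwo i j).1) l =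
      if l = i then φ j else if l = j then φ i + φ j else φ l := by
    intro φ l
    rw [vecMul_apply_eq]
    have h : (cycleTwo i j).1 *ᵥ (Pi.single l 1 : ι → F) =
        if l = i then Pi.single j 1 else if l = j then Pi.single i 1 + Pi.single j 1
          else Pi.single l 1 := by
      funext m
      rw [cycleTwo_mulVec h2 hij]
      by_cases hli : l = i
      · subst hli
        rw [if_pos rfl]
        by_cases hmj : m = j
        · subst hmj; simp [hij.symm]
        · by_cases hml : m = l <;> simp [hml, hmj, hij, hij.symm]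
      by_cases hlj : l = j
      · subst hlj
        rw [if_neg hli, if_pos rfl]
        by_cases hmi : m = i
        · subst hmi; simp [hli, hij]
        · by_cases hml : m = l <;> simp [hml, hmi, hli, hij]
      · rw [if_neg hli, if_neg hlj]
        by_cases hmi : m = i
        · subst hmi; simp [Ne.symm hli, Ne.symm hlj, hij]
        · by_cases hmj : m = j
          · subst hmj; simp [hmi, Ne.symm hli, Ne.symm hlj]
          · simp [hmi, hmj]
    rw [h]
    split_ifs <;> simp [dotProduct_add]
  refine hS.reduce hfree (by simp [hi.1.symm, hj.1.symm])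
    (fun x hx => by
      rw [cycleTwo, mul_smul]
      exact hS.elem_mem hi.2 hj.2 hij _ (hS.elem_mem hj.2 hi.2 hij.symm _ hx))
    Nat.prime_three (not_dvd_card_of_two h2 Nat.prime_three (by omega))
    (cycleTwo_pow_three h2 hij) ?_ ?_ ?_
  · intro a ha
    funext k
    rw [cycleTwo_mulVec h2 hij]
    split_ifs with h h' <;> simp_all
  · intro a ha
    funext k
    rw [hcol]
    split_ifs with h h' <;> simp_all
  · intro φ hφ k hk
    have e1 := hcol φ i
    have e2 := hcol φ j
    rw [hφ] at e1 e2
    rw [if_pos rfl] at e1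
    rw [if_neg hij.symm, if_pos rfl] at e2
    have hzi : φ i = 0 := by linear_combination -e2
    rcases (show k = i ∨ k = j by simpa using hk) with rfl | rfl
    · exact hzi
    · rw [← e1, hzi]

theorem Frame.reduce_cycleThree (hfree : AllFree ι F Ω) [Finite Ω] (h2 : (2 : F) = 0) {i₀ : ι}
    {J : Finset ι} {S : Set Ω} (hS : Frame (F := F) i₀ J S) {i j k : ι} (hi : i ∈ J.erase i₀)
    (hj : j ∈ J.erase i₀) (hk : k ∈ J.erase i₀) (hij : i ≠ j) (hik : i ≠ k) (hjk : j ≠ k) :
    Frame (F := F) i₀ (J \ {i, j, k})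
      {x | x ∈ S ∧ (cycleThree i j k : Matrix.SpecialLinearGroup ι F) • x = x} := by
  rw [Finset.mem_erase] at hi hj hk
  have hcol : ∀ (φ : ι → F) (l : ι), (φ ᵥ* (cycleThree i j k).1) l =
      if l = i then φ j + φ k else if l = j then φ i + φ j
        else if l = k then φ i + φ j + φ k else φ l := by
    intro φ l
    rw [vecMul_apply_eq]
    have h : (cycleThree i j k).1 *ᵥ (Pi.single l 1 : ι → F) =
        if l = i then Pi.single j 1 + Pi.single k 1
        else if l = j then Pi.single i 1 + Pi.single j 1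
        else if l = k then Pi.single i 1 + Pi.single j 1 + Pi.single k 1
        else Pi.single l 1 := by
      funext m
      rw [cycleThree_mulVec h2 hij hik hjk]
      clear h2 hS
      by_cases hmi : m = i <;> by_cases hmj : m = j <;> by_cases hmk : m = k <;>
        by_cases hli : l = i <;> by_cases hlj : l = j <;> by_cases hlk : l = k <;>
        simp_all [Pi.single_apply, eq_comm]
    rw [h]
    split_ifs <;> simp [dotProduct_add]
  refine hS.reduce hfree (by simp [hi.1.symm, hj.1.symm, hk.1.symm])
    (fun x hx => by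
      rw [cycleThree, mul_smul, mul_smul]
      exact hS.elem_mem hi.2 hj.2 hij _ (hS.elem_mem hj.2 hk.2 hjk _
        (hS.elem_mem hk.2 hi.2 hik.symm _ hx)))
    (r := 7) (by norm_num) (not_dvd_card_of_two h2 (by norm_num) (by omega))
    (cycleThree_pow_seven h2 hij hik hjk) ?_ ?_ ?_
  · intro a ha
    have h1 := ha i (by simp)
    have h3 := ha j (by simp)
    have h4 := ha k (by simp)
    funext l
    rw [cycleThree_mulVec h2 hij hik hjk]
    split_ifs <;> simp_all
  · intro a ha
    have h1 := ha i (by simp)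
    have h3 := ha j (by simp)
    have h4 := ha k (by simp)
    funext l
    rw [hcol]
    split_ifs <;> simp_all
  · intro φ hφ l hl
    have e1 := hcol φ i
    have e2 := hcol φ j
    have e3 := hcol φ k
    rw [hφ] at e1 e2 e3
    rw [if_pos rfl] at e1
    rw [if_neg hij.symm, if_pos rfl] at e2
    rw [if_neg hik.symm, if_neg hjk.symm, if_pos rfl] at e3
    have hzi : φ i = 0 := by linear_combination -e2
    have hzj : φ j = 0 := by linear_combination -e3 - hzi
    rcases (show l = i ∨ l = j ∨ l = k by simpa using hl) with rfl | rfl | rfl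
    · exact hzi
    · exact hzj
    · linear_combination hzi - e1 - hzj

theorem no_frame_three_even (hfree : AllFree ι F Ω) [Finite Ω] (h2 : (2 : F) = 0) {i₀ : ι}
    {J : Finset ι} {S : Set Ω} (hS : Frame (F := F) i₀ J S) (hJ : J.card = 3) : False := by
  classical
  obtain ⟨i, j, hij, hJ'⟩ := Finset.card_eq_two.1
    (show (J.erase i₀).card = 2 by rw [Finset.card_erase_of_mem hS.mem, hJ])
  obtain ⟨hi0, hiJ⟩ := Finset.mem_erase.1 (show i ∈ J.erase i₀ by simp [hJ'])
  obtain ⟨hj0, hjJ⟩ := Finset.mem_erase.1 (show j ∈ J.erase i₀ by simp [hJ'])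
  obtain ⟨x, hx⟩ := hS.ne
  -- the unitriangular group on `(i, j, i₀)`
  let g : F × F × F → Matrix.SpecialLinearGroup ι F := fun p =>
    elem i i₀ p.2.2 * elem j i₀ p.2.1 * elem i j p.1
  have hg : ∀ (p : F × F × F) (y : ι → F) (l : ι), ((g p).1 *ᵥ y) l =
      y l + if l = i then p.1 * y j + p.2.2 * y i₀ else if l = j then p.2.1 * y i₀ else 0 := by
    intro p y l
    simp only [g, mul_mulVec, elem_mulVec hij, elem_mulVec hi0, elem_mulVec hj0]
    by_cases hli : l = i
    · subst hli; simp [hij, hj0.symm, hi0.symm]; ring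
    by_cases hlj : l = j
    · subst hlj; simp [hli, hj0.symm, hi0.symm]
    · simp [hli, hlj]
  have hgS : ∀ p, g p • x ∈ S := fun p => by
    simp only [g, mul_smul]
    exact hS.elem_mem hiJ hS.mem hi0 _ (hS.elem_mem hjJ hS.mem hj0 _
      (hS.elem_mem hiJ hjJ hij _ hx))
  have hni : ¬ Function.Injective fun p => (⟨g p • x, hgS p⟩ : S) := by
    intro hinj
    have h := Nat.card_le_card_of_injective _ hinj
    rw [hS.ncard_eq hfree, hJ, Nat.card_prod, Nat.card_prod, Nat.card_eq_fintype_card,
      show 3 - 1 = 2 from rfl, pow_two] at h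
    have h1 : 1 < Fintype.card F := Fintype.one_lt_card
    exact absurd h (not_le.2 (Nat.mul_lt_mul_of_pos_left
      (lt_mul_of_one_lt_left (by omega) h1) (by omega)))
  obtain ⟨⟨a₁, c₁, b₁⟩, ⟨a₂, c₂, b₂⟩, hEq, hne⟩ :
      ∃ p₁ p₂, g p₁ • x = g p₂ • x ∧ p₁ ≠ p₂ := by
    by_contra! hall
    exact hni fun p₁ p₂ h => hall p₁ p₂ (congrArg Subtype.val h)
  set p : F × F × F := (a₁ - a₂, c₁ - c₂, b₁ - b₂ - a₂ * (c₁ - c₂)) with hp
  have hmul : g (a₂, c₂, b₂) * g p = g (a₁, c₁, b₁) := by
    refine sl_ext fun y => funext fun l => ?_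
    simp only [mul_mulVec, hg, hp]
    by_cases hli : l = i
    · subst hli; simp [hij.symm, hi0.symm, hj0.symm]; ring
    by_cases hlj : l = j
    · subst hlj; simp [hli, hi0.symm, hj0.symm]; ring
    · simp [hli, hlj]
  have hfix : g p • x = x := by
    rw [← hmul, mul_smul] at hEq
    exact MulAction.injective _ hEq
  by_cases ha : p.1 = 0
  · by_cases hc : p.2.1 = 0
    · refine elem_free hfree hi0 (c := p.2.2) (fun hb => hne ?_) x ?_
      · simp only [hp] at ha hc hb
        rw [sub_eq_zero] at ha hc
        subst ha hc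
        rw [sub_self, mul_zero, sub_zero, sub_eq_zero] at hb
        rw [hb]
      · rw [show elem i i₀ p.2.2 = g p from sl_ext fun y => funext fun l => by
          simp [hg, elem_mulVec hi0, ha, hc]]
        exact hfix
    · refine hfree (Pi.single i p.2.2 + Pi.single j p.2.1) (Pi.single i₀ 1)
        (fun h => hc (by simpa [hij] using congrFun h j))
        (fun h => one_ne_zero (α := F) (by simpa using congrFun h i₀))
        (by simp [dotProduct_add, Pi.single_eq_of_ne hi0, Pi.single_eq_of_ne hj0]) x ?_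
      rw [show tv (Pi.single i p.2.2 + Pi.single j p.2.1) (Pi.single i₀ 1) = g p from
        sl_ext fun y => funext fun l => by
          rw [tv_mulVec (by simp [dotProduct_add, Pi.single_eq_of_ne hi0, Pi.single_eq_of_ne hj0]),
            hg]
          by_cases hli : l = i
          · subst hli; simp [hij, ha, mul_comm]
          by_cases hlj : l = j
          · subst hlj; simp [hli, mul_comm]
          · simp [hli, hlj]]
      exact hfix
  · by_cases hc : p.2.1 = 0
    · refine hfree (Pi.single i 1) (Pi.single j p.1 + Pi.single i₀ p.2.2)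
        (fun h => one_ne_zero (α := F) (by simpa using congrFun h i))
        (fun h => ha (by simpa [hj0] using congrFun h j))
        (by simp [add_dotProduct, Pi.single_eq_of_ne hij, Pi.single_eq_of_ne hi0]) x ?_
      rw [show tv (Pi.single i 1) (Pi.single j p.1 + Pi.single i₀ p.2.2) = g p from
        sl_ext fun y => funext fun l => by
          rw [tv_mulVec (by simp [add_dotProduct, Pi.single_eq_of_ne hij, Pi.single_eq_of_ne hi0]),
            hg]
          by_cases hli : l = i
          · subst hli; simp [add_dotProduct]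
          by_cases hlj : l = j
          · subst hlj; simp [hli, hc]
          · simp [hli, hlj]]
      exact hfix
    · refine elem_free hfree hi0 (c := p.1 * p.2.1) (mul_ne_zero ha hc) x ?_
      rw [show elem i i₀ (p.1 * p.2.1) = g p * g p from sl_ext fun y => funext fun l => by
        simp only [mul_mulVec, hg, elem_mulVec hi0]
        by_cases hli : l = i
        · subst hli
          simp only [↓reduceIte, hij.symm, hi0.symm, hj0.symm]
          linear_combination -(add_self_eq_zero' h2 (p.1 * y j + p.2.2 * y i₀))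
        by_cases hlj : l = j
        · subst hlj
          simp only [↓reduceIte, hli, hij.symm, hi0.symm, hj0.symm]
          linear_combination -(add_self_eq_zero' h2 (p.2.1 * y i₀))
        · simp [hli, hlj]]
      rw [mul_smul, hfix, hfix]

theorem no_frame_even (hfree : AllFree ι F Ω) [Finite Ω] (h2 : (2 : F) = 0) {i₀ : ι} :
    ∀ (m : ℕ) {J : Finset ι} {S : Set Ω}, Frame (F := F) i₀ J S → J.card = m → 3 ≤ m → m ≠ 4 →
      False := by
  intro m
  induction m using Nat.strong_induction_on with
  | _ m ih =>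
    intro J S hS hJ hm hm4
    rcases Nat.lt_or_ge m 4 with hm5 | hm5
    · exact no_frame_three_even hfree h2 hS (by omega)
    have hsub : ∀ l, l ∈ J.erase i₀ → l ∈ J := fun l => Finset.mem_of_mem_erase
    by_cases hodd : m % 2 = 1
    · obtain ⟨i, hi, j, hj, hij⟩ := Finset.one_lt_card.1
        (show 1 < (J.erase i₀).card by rw [Finset.card_erase_of_mem hS.mem]; omega)
      refine ih (m - 2) (by omega) (hS.reduce_cycleTwo hfree h2 hi hj hij) ?_ (by omega) (by omega)
      rw [Finset.card_sdiff, Finset.inter_eq_left.2 (by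
        simp [Finset.insert_subset_iff, hsub i hi, hsub j hj]), Finset.card_pair hij, hJ]
    · obtain ⟨i, j, k, hi, hj, hk, hij, hik, hjk⟩ := Finset.two_lt_card_iff.1
        (show 2 < (J.erase i₀).card by rw [Finset.card_erase_of_mem hS.mem]; omega)
      refine ih (m - 3) (by omega) (hS.reduce_cycleThree hfree h2 hi hj hk hij hik hjk) ?_
        (by omega) (by omega)
      rw [Finset.card_sdiff, Finset.inter_eq_left.2 (by
        simp [Finset.insert_subset_iff, hsub i hi, hsub j hj, hsub k hk]), hJ]
      simp [hij, hik, hjk]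

end CfsgLib.MinDegree
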