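import Cfsg.Agent.MinDegree.Transvection

/-!
# There is no point whose root-group stabilisers are given by one line through each point
-/

set_option autoImplicit false

namespace CfsgLib.MinDegree

open Matrix Module
open scoped MatrixGroups

variable {ι : Type*} [Fintype ι] [DecidableEq ι] {F : Type*} [Field F]

/-- For `n ≥ 3` no point `x` of an `SL`-set has, for every centre `e`, stabiliser in the
transvection group with centre `e` equal to the transvections whose axis contains a further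
vector `w`. -/
theorem no_line_stabilizers {Ω : Type*} [MulAction (Matrix.SpecialLinearGroup ι F) Ω]
    (hn : 3 ≤ Fintype.card ι) (x₀ : Ω)
    (h : ∀ e : ι → F, e ≠ 0 → ∃ w : ι → F, (∀ c : F, w ≠ c • e) ∧
      ∀ φ : ι → F, φ ⬝ᵥ e = 0 → (tv e φ • x₀ = x₀ ↔ φ ⬝ᵥ w = 0)) : False := by
  let In : (ι → F) → (ι → F) → Prop :=
    fun b a => ∀ φ : ι → F, φ ⬝ᵥ b = 0 → tv b φ • x₀ = x₀ → φ ⬝ᵥ a = 0
  have key : ∀ a b : ι → F, b ≠ 0 → (∀ c : F, a ≠ c • b) → In b a →
      ∀ H : ι → F, H ⬝ᵥ b = 0 → (tv b H • x₀ = x₀ ↔ H ⬝ᵥ a = 0) := by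
    intro a b hb hab hIn H hH
    refine ⟨hIn H hH, fun hHa => ?_⟩
    obtain ⟨w, hw, hfix⟩ := h b hb
    by_cases hspan : ∀ c d : F, a ≠ c • b + d • w
    · obtain ⟨ρ, hρb, hρw, hρa⟩ := exists_perp₂ hspan
      exact absurd (hρa.symm.trans (hIn ρ hρb ((hfix ρ hρb).2 hρw))) one_ne_zero
    push Not at hspan
    obtain ⟨c, d, rfl⟩ := hspan
    rw [hfix H hH]
    rw [dotProduct_add, dotProduct_smul, dotProduct_smul, hH, smul_zero, zero_add,
      smul_eq_mul] at hHa
    rcases mul_eq_zero.1 hHa with hd | hd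
    · exact absurd (by rw [hd, zero_smul, add_zero]) (hab c)
    · exact hd
  have step : ∀ a b : ι → F, a ≠ 0 → b ≠ 0 → (∀ c : F, a ≠ c • b) → (∀ c : F, b ≠ c • a) →
      In b a → In a b := by
    intro a b ha hb hab hba hIn φ hφ hfixφ
    by_contra hφb
    obtain ⟨w, hw, hfix⟩ := h a ha
    set φ₁ := (φ ⬝ᵥ b)⁻¹ • φ with hφ₁
    have h1 : φ₁ ⬝ᵥ a = 0 := by rw [hφ₁, smul_dotProduct, hφ, smul_zero]
    have h2 : φ₁ ⬝ᵥ b = 1 := by rw [hφ₁, smul_dotProduct, smul_eq_mul, inv_mul_cancel₀ hφb]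
    have h3 : φ₁ ⬝ᵥ w = 0 := by rw [hφ₁, smul_dotProduct, (hfix φ hφ).1 hfixφ, smul_zero]
    have ht : tv a φ₁ • x₀ = x₀ := (hfix φ₁ h1).2 h3
    have hw' : ∀ H : ι → F, H ⬝ᵥ a = 0 → H ⬝ᵥ b = 0 → H ⬝ᵥ w = 0 := by
      intro H hHa hHb
      refine (hfix H hHa).1 ?_
      have hbH := (key a b hb hab hIn H hHb).2 hHa
      have hconj := tv_conj_tv hHb h1
      rw [h2, one_smul, hHa, zero_smul, sub_zero, ← tv_mul_right hHb hHa] at hconj
      have hfixconj : (tv b H * tv a H) • x₀ = x₀ := by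
        rw [← hconj, mul_smul, mul_smul, inv_smul_eq_iff.2 ht.symm, hbH, ht]
      rwa [mul_smul, ← eq_inv_smul_iff, inv_smul_eq_iff.2 hbH.symm] at hfixconj
    by_cases hspan : ∀ c d : F, w ≠ c • a + d • b
    · obtain ⟨H, hHa, hHb, hHw⟩ := exists_perp₂ hspan
      exact one_ne_zero (hHw.symm.trans (hw' H hHa hHb))
    push Not at hspan
    obtain ⟨c, d, rfl⟩ := hspan
    rw [dotProduct_add, dotProduct_smul, dotProduct_smul, h1, h2, smul_zero, zero_add,
      smul_eq_mul, mul_one] at h3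
    exact hw c (by rw [h3, zero_smul, add_zero])
  obtain ⟨i⟩ : Nonempty ι := Fintype.card_pos_iff.1 (by omega)
  set e : ι → F := Pi.single i 1 with he'
  have he : e ≠ 0 := fun h0 => by simpa [he'] using congrFun h0 i
  obtain ⟨we, hwe, hfixe⟩ := h e he
  obtain ⟨x, hx⟩ := exists_not_span_pair hn e we
  obtain ⟨φ, hφe, hφw, hφx⟩ := exists_perp₂ hx
  have hx0 : x ≠ 0 := fun h0 => by simp [h0] at hφx
  obtain ⟨wx, hwx, hfixx⟩ := h x hx0
  set y := wx - (φ ⬝ᵥ wx) • x with hy'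
  have hφy : φ ⬝ᵥ y = 0 := by
    rw [hy', dotProduct_sub, dotProduct_smul, hφx, smul_eq_mul, mul_one, sub_self]
  have hy : y ≠ 0 := fun h0 => hwx (φ ⬝ᵥ wx) (sub_eq_zero.1 h0)
  have hyx : ∀ c : F, y ≠ c • x := fun c hc => hwx (c + φ ⬝ᵥ wx) (by
    rw [add_smul, ← hc, hy', sub_add_cancel])
  have hxy : ∀ c : F, x ≠ c • y := fun c hc => one_ne_zero (by
    rw [← hφx, hc, dotProduct_smul, hφy, smul_zero])
  have hInxy : In x y := fun H hHx hH => by
    rw [hy', dotProduct_sub, dotProduct_smul, hHx, (hfixx H hHx).1 hH, smul_zero, sub_zero]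
  have hInyx : In y x := step y x hy hx0 hyx hxy hInxy
  have hte : tv e φ • x₀ = x₀ := (hfixe φ hφe).2 hφw
  have hInxe : In x e := by
    intro H hHx hH
    have hHy : H ⬝ᵥ y = 0 := hInxy H hHx hH
    have hyfix : tv y H • x₀ = x₀ := (key x y hy hxy hInyx H hHy).2 hHx
    have hconj := tv_conj_tv hHy hφe
    rw [hφy, zero_smul, add_zero] at hconj
    have hperp : (H - (H ⬝ᵥ e) • φ) ⬝ᵥ y = 0 := by
      rw [sub_dotProduct, smul_dotProduct, hφy, smul_zero, hHy, sub_zero]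
    have hfix' : tv y (H - (H ⬝ᵥ e) • φ) • x₀ = x₀ := by
      rw [← hconj, mul_smul, mul_smul, inv_smul_eq_iff.2 hte.symm, hyfix, hte]
    have h0 := (key x y hy hxy hInyx _ hperp).1 hfix'
    rw [sub_dotProduct, smul_dotProduct, hφx, hHx, smul_eq_mul, mul_one, zero_sub,
      neg_eq_zero] at h0
    exact h0
  have hInex : In e x := step e x he hx0
    (fun c hc => by
      rcases eq_or_ne c 0 with rfl | hc0
      · exact he (by simpa using hc)
      · have h9 : x = c⁻¹ • e := by rw [hc, inv_smul_smul₀ hc0]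
        exact one_ne_zero (by rw [← hφx, h9, dotProduct_smul, hφe, smul_zero]))
    (fun c hc => one_ne_zero (by rw [← hφx, hc, dotProduct_smul, hφe, smul_zero]))
    hInxe
  exact one_ne_zero (hφx.symm.trans (hInex φ hφe hte))

end CfsgLib.MinDegree
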