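import Cfsg.Agent.MinDegree.Orbit
import Cfsg.Agent.MinDegree.Spread
import Cfsg.Agent.MinDegree.FrameEven

/-!
# The smallest `SL(n,F)`-sets, `n ≥ 3`

`numPoints_le_card`: every nonempty finite `SL(n,F)`-set without fixed points has at least
`(q^n-1)/(q-1)` elements, for `n ≥ 3` and `(n,q) ≠ (4,2)`.
-/

set_option autoImplicit false

namespace CfsgLib.MinDegree

open Matrix Module MulAction
open scoped MatrixGroups

variable {ι : Type*} [Fintype ι] [DecidableEq ι] {F : Type*} [Field F] [Fintype F]
  {Ω : Type*} [MulAction (Matrix.SpecialLinearGroup ι F) Ω]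

theorem no_free_four_even (hfree : AllFree ι F Ω) [Finite Ω] [Nonempty Ω] (h2 : (2 : F) = 0)
    (hq : 4 ≤ Fintype.card F) (hn : Fintype.card ι = 4)
    (hd : Nat.card Ω = Fintype.card F ^ 3) : False := by
  classical
  obtain ⟨i₀, l, i, j, h1, h2', h3, h4, h5, h6⟩ :
      ∃ a b c d : ι, a ≠ b ∧ a ≠ c ∧ a ≠ d ∧ b ≠ c ∧ b ≠ d ∧ c ≠ d := by
    refine ⟨(Fintype.equivFinOfCardEq hn).symm 0, (Fintype.equivFinOfCardEq hn).symm 1,
      (Fintype.equivFinOfCardEq hn).symm 2, (Fintype.equivFinOfCardEq hn).symm 3, ?_, ?_, ?_, ?_,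
      ?_, ?_⟩ <;> simp
  have hcover : ∀ k : ι, k = i₀ ∨ k = l ∨ k = i ∨ k = j := by
    intro k
    have hcard : ({i₀, l, i, j} : Finset ι) = Finset.univ := by
      refine Finset.eq_univ_of_card _ ?_
      rw [hn]
      simp [h1, h2', h3, h4, h5, h6]
    have := hcard ▸ Finset.mem_univ k
    simpa using this
  obtain ⟨r, hr, hrd⟩ := Nat.exists_prime_and_dvd (n := Fintype.card F - 1) (by omega)
  have := Fact.mk hr
  obtain ⟨c, hc⟩ := exists_prime_orderOf_dvd_card' (G := Fˣ) r
    (by rwa [Nat.card_units, Nat.card_eq_fintype_card])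
  have hc1 : (c : F) ≠ 1 := fun h => hr.one_lt.ne' (by
    rw [← hc, Units.val_eq_one.1 h, orderOf_one])
  have hc2 : (c : F) * c ≠ 1 := by
    intro h
    refine hc1 ?_
    have h' : ((c : F) - 1) * ((c : F) - 1) = 0 := by linear_combination h - ((c : F) - 1) * h2
    exact sub_eq_zero.1 (mul_self_eq_zero.1 h')
  have hrq : ¬ r ∣ Fintype.card F := fun h => hr.one_lt.ne' (Nat.dvd_one.1 (by
    have h' := Nat.dvd_sub h hrd
    rwa [show Fintype.card F - (Fintype.card F - 1) = 1 by omega] at h'))
  let d : ι → F := fun k => if k = i₀ then (c : F) else if k = l then (c : F)⁻¹ else 1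
  set b : Matrix.SpecialLinearGroup ι F :=
    Matrix.SpecialLinearGroup.diag2n h1 (c : F) c.ne_zero with hb
  have hbv : ∀ (x : ι → F) k, (b.1 *ᵥ x) k = d k * x k := fun x k => by
    rw [hb, Matrix.SpecialLinearGroup.diag2n_coe, mulVec_diagonal]
  have hbpow : ∀ (m : ℕ) (x : ι → F) k, ((b ^ m).1 *ᵥ x) k = d k ^ m * x k := by
    intro m
    induction m with
    | zero => intro x k; rw [pow_zero, sl_one_mulVec, pow_zero, one_mul]
    | succ m ih => intro x k; rw [pow_succ, mul_mulVec, ih, hbv, pow_succ]; ring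
  have hcr : (c : F) ^ r = 1 := by
    rw [← Units.val_pow_eq_pow_val, ← hc, pow_orderOf_eq_one, Units.val_one]
  have hbr : b ^ r = 1 := sl_ext fun x => funext fun k => by
    rw [hbpow, sl_one_mulVec]
    simp only [d]
    split_ifs <;> simp [inv_pow, hcr]
  obtain ⟨x, -, hx⟩ := exists_fixed_of_prime (S := (Set.univ : Set Ω)) (g := b)
    (fun _ _ => trivial) hr hbr (by
      rw [Nat.card_univ, hd]
      exact fun h => hrq (hr.dvd_of_dvd_pow h))
  have htors : ∀ y : Ω, ∃ φ : ι → F, φ i₀ = 0 ∧ tv (Pi.single i₀ 1) φ • x = y := by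
    intro y
    let f : perp (Pi.single i₀ (1 : F) : ι → F) → Ω := fun φ => tv (Pi.single i₀ 1) φ.1 • x
    have hf : Function.Injective f := by
      rintro ⟨φ, hφ⟩ ⟨ψ, hψ⟩ h
      rw [mem_perp, dotProduct_single, mul_one] at hφ hψ
      exact Subtype.ext (tv_single_inj hfree hφ hψ h)
    have hbij : Function.Bijective f := (Nat.bijective_iff_injective_and_card f).2 ⟨hf, by
      rw [card_perp (fun h => one_ne_zero (α := F) (by simpa using congrFun h i₀)), hd, hn]⟩
    obtain ⟨⟨φ, hφ⟩, hy⟩ := hbij.2 y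
    rw [mem_perp, dotProduct_single, mul_one] at hφ
    exact ⟨φ, hφ, hy⟩
  have huniq : ∀ y : Ω, b • y = y → y = x := by
    intro y hy
    obtain ⟨φ, hφ0, rfl⟩ := htors y
    set φ' : ι → F := fun k => φ k * (d k)⁻¹ with hφ'
    have hback : φ' ᵥ* b.1 = φ := by
      funext k
      rw [hb, Matrix.SpecialLinearGroup.diag2n_coe, vecMul_diagonal]
      have hd0 : d k ≠ 0 := by simp only [d]; split_ifs <;> simp
      exact inv_mul_cancel_right₀ hd0 (φ k)
    have hbe : b.1 *ᵥ (Pi.single i₀ 1 : ι → F) = (c : F) • Pi.single i₀ 1 := by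
      funext k
      rw [hbv]
      by_cases hk : k = i₀
      · subst hk; simp [d]
      · simp [hk]
    have hconj := tv_conj (dot_single_i₀ hφ0) hbe hback
    rw [tv_smul (by simp [hφ', hφ0])] at hconj
    have h := tv_single_inj hfree (φ := (c : F) • φ') (ψ := φ) (by simp [hφ', hφ0]) hφ0 (x := x)
      (by rw [← hconj, mul_smul, mul_smul, inv_smul_eq_iff.2 hx.symm, hy])
    have hzero : φ = 0 := funext fun k => by
      have hk := congrFun h k
      simp only [hφ', Pi.smul_apply, smul_eq_mul, d] at hk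
      rcases hcover k with rfl | rfl | rfl | rfl
      · exact hφ0
      · rw [if_neg h1.symm, if_pos rfl, inv_inv] at hk
        by_contra hne
        exact hc2 (mul_right_cancel₀ hne (by linear_combination hk))
      · rw [if_neg h2'.symm, if_neg h4.symm, inv_one, mul_one] at hk
        by_contra hne
        exact hc1 (mul_right_cancel₀ hne (by linear_combination hk))
      · rw [if_neg h3.symm, if_neg h5.symm, inv_one, mul_one] at hk
        by_contra hne
        exact hc1 (mul_right_cancel₀ hne (by linear_combination hk))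
    rw [hzero, tv_zero_right, one_smul]
  refine elem_free hfree h6 (one_ne_zero (α := F)) x (huniq _ ?_)
  have hcomm : b * elem i j 1 = elem i j 1 * b := sl_ext fun y => funext fun k => by
    simp only [mul_mulVec, hbv, elem_mulVec h6, d]
    by_cases hk : k = i
    · subst hk; simp [h2'.symm, h4.symm, h3.symm, h5.symm]
    · simp [hk]
  rw [← mul_smul, hcomm, mul_smul, hx]

/-- Every nonempty finite `SL(n,F)`-set without fixed points has at least as many elements as the
projective space, for `n ≥ 3`, `(n,q) ≠ (4,2)`. -/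
theorem numPoints_le_card [Finite Ω] [Nonempty Ω] (hn : 3 ≤ Fintype.card ι)
    (hexc : ¬ (Fintype.card ι = 4 ∧ Fintype.card F = 2))
    (hno : ∀ x : Ω, stabilizer (Matrix.SpecialLinearGroup ι F) x ≠ ⊤) :
    numPoints (Fintype.card F) (Fintype.card ι) ≤ Nat.card Ω := by
  classical
  by_contra! hlt
  have hdich := fun (e : ι → F) (he : e ≠ 0) => root_group_orbits hn hno hlt he
  obtain ⟨k, hk⟩ := Nat.exists_eq_succ_of_ne_zero (show Fintype.card ι ≠ 0 by omega)
  have hq : 2 ≤ Fintype.card F := two_le_card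
  by_cases hd : Nat.card Ω + 1 = numPoints (Fintype.card F) (Fintype.card ι)
  · have hne : Nat.card Ω ≠ Fintype.card F ^ (Fintype.card ι - 1) := by
      intro h
      have hk2 : 2 ≤ k := by omega
      rw [hk, Nat.succ_sub_one] at h
      rw [hk, numPoints_succ] at hd
      have h1 : numPoints (Fintype.card F) k = 1 := by omega
      have h3 : (Finset.range 2).sum (fun i => Fintype.card F ^ i) ≤
          numPoints (Fintype.card F) k := by
        refine Finset.sum_le_sum_of_subset ?_
        intro a ha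
        rw [Finset.mem_range] at ha ⊢
        omega
      simp [Finset.sum_range_succ] at h3
      omega
    refine no_line_stabilizers (F := F) hn (Classical.arbitrary Ω) fun e he => ?_
    rcases hdich e he with ⟨h, -⟩ | ⟨-, h⟩
    · exact absurd h hne
    · exact h _
  have hfree : AllFree ι F Ω := by
    intro a b ha hb hba x
    rcases hdich a ha with ⟨-, h⟩ | ⟨h, -⟩
    · exact h b hba hb x
    · exact absurd h hd
  obtain ⟨i₀⟩ : Nonempty ι := Fintype.card_pos_iff.1 (by omega)
  have he₀ : (Pi.single i₀ 1 : ι → F) ≠ 0 := fun h => one_ne_zero (α := F) (by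
    simpa using congrFun h i₀)
  have hcard : Nat.card Ω = Fintype.card F ^ (Fintype.card ι - 1) := by
    rcases hdich _ he₀ with ⟨h, -⟩ | ⟨h, -⟩
    · exact h
    · exact absurd h hd
  have hframe : Frame (F := F) i₀ Finset.univ (Set.univ : Set Ω) := by
    refine ⟨Finset.mem_univ _, Set.univ_nonempty, fun _ _ _ _ _ _ _ => trivial,
      fun x _ y _ => ?_⟩
    let f : perp (Pi.single i₀ (1 : F) : ι → F) → Ω := fun φ => tv (Pi.single i₀ 1) φ.1 • x
    have hf : Function.Injective f := by
      rintro ⟨φ, hφ⟩ ⟨ψ, hψ⟩ h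
      rw [mem_perp, dotProduct_single, mul_one] at hφ hψ
      exact Subtype.ext (tv_single_inj hfree hφ hψ h)
    have hbij : Function.Bijective f :=
      (Nat.bijective_iff_injective_and_card f).2 ⟨hf, by rw [card_perp he₀, hcard]⟩
    obtain ⟨⟨φ, hφ⟩, hy⟩ := hbij.2 y
    rw [mem_perp, dotProduct_single, mul_one] at hφ
    exact ⟨φ, fun k hk => absurd (Finset.mem_univ k) hk, hφ, hy⟩
  obtain ⟨p, hp⟩ := CharP.exists F
  obtain ⟨a, hp', hpa⟩ := FiniteField.card F p
  by_cases h2 : (2 : F) = 0
  · have hp2 : p = 2 := (Nat.prime_dvd_prime_iff_eq hp' Nat.prime_two).1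
      ((CharP.cast_eq_zero_iff F p 2).1 (by exact_mod_cast h2))
    by_cases h4 : Fintype.card ι = 4
    · refine no_free_four_even hfree h2 ?_ h4 (by rw [hcard, h4])
      have ha : 2 ≤ (a : ℕ) := by
        by_contra h
        have : (a : ℕ) = 1 := by have := a.pos; omega
        exact hexc ⟨h4, by rw [hpa, this, hp2, pow_one]⟩
      rw [hpa, hp2]
      calc 4 = 2 ^ 2 := rfl
        _ ≤ _ := Nat.pow_le_pow_right (by omega) ha
    · exact no_frame_even hfree h2 _ hframe rfl (by rw [Finset.card_univ]; omega)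
        (by rwa [Finset.card_univ])
  · refine no_frame_odd hfree h2 ?_ _ hframe rfl (by rw [Finset.card_univ]; omega)
    intro h
    refine h2 ?_
    have : p = 2 := ((Nat.prime_dvd_prime_iff_eq Nat.prime_two hp').1
      (Nat.prime_two.dvd_of_dvd_pow (hpa ▸ h))).symm
    subst this
    exact_mod_cast CharP.cast_eq_zero F 2

end CfsgLib.MinDegree
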