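import Cfsg.Agent.MinDegree.SubspaceBound
import Cfsg.Agent.MinDegree.Count

/-!
# How the group of transvections with a given centre acts on a small `SL`-set

If `SL(n,F)`, `n ≥ 3`, acts on `Ω` without fixed points and `|Ω|` is less than the number of
points of the projective space, then the group of transvections with centre `e` is either regular
on `Ω`, or the stabiliser of each point is given by one further vector `w`.
-/

set_option autoImplicit false

namespace CfsgLib.MinDegree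

open Matrix Module MulAction
open scoped MatrixGroups LinearAlgebra.Projectivization

variable {ι : Type*} [Fintype ι] [DecidableEq ι] {F : Type*} [Field F]

/-- Covectors vanishing on `e`. -/
def perp (e : ι → F) : AddSubgroup (ι → F) where
  carrier := {φ | φ ⬝ᵥ e = 0}
  zero_mem' := zero_dotProduct e
  add_mem' {a b} ha hb := by
    simp only [Set.mem_setOf_eq] at ha hb ⊢
    rw [add_dotProduct, ha, hb, add_zero]
  neg_mem' {a} ha := by
    simp only [Set.mem_setOf_eq] at ha ⊢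
    rw [neg_dotProduct, ha, neg_zero]

theorem mem_perp {e φ : ι → F} : φ ∈ perp e ↔ φ ⬝ᵥ e = 0 := Iff.rfl

/-- The homomorphism `φ ↦ tv e φ`. -/
noncomputable def qHom (e : ι → F) :
    Multiplicative (perp e) →* Matrix.SpecialLinearGroup ι F where
  toFun a := tv e (Multiplicative.toAdd a).1
  map_one' := tv_zero_right e
  map_mul' a b := (tv_mul_left (Multiplicative.toAdd a).2 (Multiplicative.toAdd b).2).symm

variable [Fintype F]

theorem card_perp {e : ι → F} (he : e ≠ 0) :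
    Nat.card (perp e) = Fintype.card F ^ (Fintype.card ι - 1) := by
  obtain ⟨i, hi⟩ := Function.ne_iff.1 he
  let d : (ι → F) →+ F :=
    { toFun := fun φ => φ ⬝ᵥ e, map_zero' := zero_dotProduct e,
      map_add' := fun a b => add_dotProduct a b e }
  have hker : perp e = d.ker := rfl
  have hsurj : d.range = ⊤ := AddMonoidHom.range_eq_top.2 fun a =>
    ⟨Pi.single i (a / e i), by
      change Pi.single i (a / e i) ⬝ᵥ e = a
      rw [single_dotProduct, div_mul_cancel₀ _ hi]⟩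
  have hidx : (perp e).index = Fintype.card F := by
    rw [hker, AddSubgroup.index_ker, hsurj, AddSubgroup.card_top, Nat.card_eq_fintype_card]
  have h := (perp e).index_mul_card
  rw [hidx, Nat.card_eq_fintype_card (α := ι → F), Fintype.card_fun] at h
  have hι : 0 < Fintype.card ι := Fintype.card_pos_iff.2 ⟨i⟩
  obtain ⟨k, hk⟩ := Nat.exists_eq_succ_of_ne_zero hι.ne'
  rw [hk, pow_succ'] at h
  rw [hk, Nat.succ_sub_one]
  exact Nat.eq_of_mul_eq_mul_left Fintype.card_pos h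

theorem exists_eq_smul_or_indep (φ ψ : ι → F) :
    (∃ c : F, φ = c • ψ) ∨ ∃ u : ι → F, φ ⬝ᵥ u = 1 ∧ ψ ⬝ᵥ u = 0 := by
  by_cases h : ∀ c : F, φ ≠ c • ψ
  · obtain ⟨u, h1, h2⟩ := exists_perp₁ h
    exact Or.inr ⟨u, by rwa [dotProduct_comm], by rwa [dotProduct_comm]⟩
  · push Not at h
    exact Or.inl h

variable {Ω : Type*} [MulAction (Matrix.SpecialLinearGroup ι F) Ω]

private theorem card_fixedBy_eq_of_indep {e φ ψ u : ι → F} (hφ : φ ⬝ᵥ e = 0) (hψ : ψ ⬝ᵥ e = 0)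
    (hφu : φ ⬝ᵥ u = 1) (hψu : ψ ⬝ᵥ u = 1) :
    Nat.card (fixedBy Ω (tv e φ)) = Nat.card (fixedBy Ω (tv e ψ)) := by
  have hρu : (φ - ψ) ⬝ᵥ u = 0 := by rw [sub_dotProduct, hφu, hψu, sub_self]
  have h := tv_conj_tv hφ hρu
  rw [sub_dotProduct, hφ, hψ, sub_zero, zero_smul, add_zero, hφu, one_smul, sub_sub_cancel] at h
  rw [← h]
  have h2 := MulAction.smul_fixedBy (α := Ω) (tv e φ) (tv u (φ - ψ))
  rw [← h2]
  exact (Nat.card_image_of_injective (MulAction.injective (tv u (φ - ψ))) _).symm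

/-- All transvections with centre `e` have the same number of fixed points. -/
theorem card_fixedBy_eq (hn : 3 ≤ Fintype.card ι) {e φ ψ : ι → F} (he : e ≠ 0)
    (hφ : φ ⬝ᵥ e = 0) (hψ : ψ ⬝ᵥ e = 0) (hφ0 : φ ≠ 0) (hψ0 : ψ ≠ 0) :
    Nat.card (fixedBy Ω (tv e φ)) = Nat.card (fixedBy Ω (tv e ψ)) := by
  have indep : ∀ φ ψ : ι → F, φ ⬝ᵥ e = 0 → ψ ⬝ᵥ e = 0 → ψ ≠ 0 →
      (∀ c : F, φ ≠ c • ψ) →
      Nat.card (fixedBy Ω (tv e φ)) = Nat.card (fixedBy Ω (tv e ψ)) := by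
    intro φ ψ hφ hψ hψ0 hne
    obtain ⟨u, hu1, hu2⟩ := exists_perp₁ hne
    have hv : ∀ c : F, ψ ≠ c • φ := by
      intro c hc
      rcases eq_or_ne c 0 with rfl | hc0
      · exact hψ0 (by simpa using hc)
      · exact hne c⁻¹ (by rw [hc, inv_smul_smul₀ hc0])
    obtain ⟨v, hv1, hv2⟩ := exists_perp₁ hv
    rw [dotProduct_comm] at hu1 hu2 hv1 hv2
    refine card_fixedBy_eq_of_indep (u := u + v) hφ hψ ?_ ?_
    · rw [dotProduct_add, hu2, hv1, add_zero]
    · rw [dotProduct_add, hu1, hv2, zero_add]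
  by_cases h : ∀ c : F, φ ≠ c • ψ
  · exact indep φ ψ hφ hψ hψ0 h
  push Not at h
  obtain ⟨c, rfl⟩ := h
  obtain ⟨i, hi⟩ := Function.ne_iff.1 hψ0
  obtain ⟨x, hx⟩ := exists_not_span_pair hn e (Pi.single i 1)
  obtain ⟨χ, hχe, hχi, hχx⟩ := exists_perp₂ hx
  have hχ0 : χ ≠ 0 := fun h0 => by simp [h0] at hχx
  have hχψ : ∀ a : F, ψ ≠ a • χ := fun a ha => hi (by
    have := congrArg (· ⬝ᵥ (Pi.single i 1 : ι → F)) ha
    have hχi' : χ i = 0 := by simpa [dotProduct_single] using hχi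
    simpa [hχi', dotProduct_single] using this)
  rw [indep ψ χ hψ hχe hχ0 hχψ, indep (c • ψ) χ hφ hχe hχ0]
  intro a ha
  have hc : c ≠ 0 := fun hc => hφ0 (by rw [hc, zero_smul])
  exact hχψ (c⁻¹ * a) (by rw [mul_smul, ← ha, inv_smul_smul₀ hc])

/-- The dichotomy for the transvection group with centre `e`. -/
theorem root_group_orbits [Finite Ω] [Nonempty Ω] (hn : 3 ≤ Fintype.card ι)
    (hno : ∀ x : Ω, stabilizer (Matrix.SpecialLinearGroup ι F) x ≠ ⊤)
    (hlt : Nat.card Ω < numPoints (Fintype.card F) (Fintype.card ι))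
    {e : ι → F} (he : e ≠ 0) :
    (Nat.card Ω = Fintype.card F ^ (Fintype.card ι - 1) ∧
        ∀ φ : ι → F, φ ⬝ᵥ e = 0 → φ ≠ 0 → ∀ x : Ω, tv e φ • x ≠ x) ∨
      (Nat.card Ω + 1 = numPoints (Fintype.card F) (Fintype.card ι) ∧
        ∀ x : Ω, ∃ w : ι → F, (∀ c : F, w ≠ c • e) ∧
          ∀ φ : ι → F, φ ⬝ᵥ e = 0 → (tv e φ • x = x ↔ φ ⬝ᵥ w = 0)) := by
  classical
  have := Fintype.ofFinite Ω
  let A := Multiplicative (perp e)
  letI : MulAction A Ω := MulAction.compHom Ω (qHom e)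
  have := Fintype.ofFinite (orbitRel.Quotient A Ω)
  obtain ⟨i, hi⟩ := Function.ne_iff.1 he
  set n := Fintype.card ι with hn'
  set q := Fintype.card F with hq
  let mkA : ∀ φ : ι → F, φ ⬝ᵥ e = 0 → A := fun φ h => Multiplicative.ofAdd ⟨φ, h⟩
  have hsmul : ∀ (φ : ι → F) (h : φ ⬝ᵥ e = 0) (x : Ω), mkA φ h • x = tv e φ • x :=
    fun φ h x => rfl
  have hmem : ∀ (φ : ι → F) (h : φ ⬝ᵥ e = 0) (x : Ω),
      mkA φ h ∈ stabilizer A x ↔ tv e φ • x = x := fun φ h x => mem_stabilizer_iff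
  have hAcard : Nat.card A = q ^ (n - 1) := card_perp he
  have hN : numPoints q n = numPoints q (n - 1) + q ^ (n - 1) := by
    rw [← numPoints_succ]
    congr 1
    omega
  have hd : Nat.card Ω < 2 * Nat.card A := by
    rw [hAcard]
    have := numPoints_lt (q := q) two_le_card (n - 1)
    omega
  have hnofix : ∀ x : Ω, stabilizer A x ≠ ⊤ := by
    intro x hx
    have h1 := numPoints_le_index (by omega) (hno x) he fun φ hφ =>
      mem_stabilizer_iff.2 ((hmem φ hφ x).1 (hx ▸ Subgroup.mem_top _))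
    have h2 : (stabilizer (Matrix.SpecialLinearGroup ι F) x).index ≤ Nat.card Ω := by
      rw [index_stabilizer, ← Set.ncard_univ]
      exact Set.ncard_le_ncard (Set.subset_univ _) (Set.toFinite _)
    change numPoints q n ≤ _ at h1
    omega
  obtain ⟨z, hz⟩ := exists_not_smul (F := F) (by omega : 2 ≤ Fintype.card ι) e
  obtain ⟨v, hv⟩ := exists_not_span_pair (F := F) hn e z
  obtain ⟨φ₀, hφ₀e, -, hφ₀v⟩ := exists_perp₂ hv
  have hφ₀ : φ₀ ≠ 0 := fun h0 => by simp [h0] at hφ₀v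
  have hf : ∀ a : A, a ≠ 1 → Nat.card (fixedBy Ω a) = Nat.card (fixedBy Ω (tv e φ₀)) := by
    intro a ha
    have ha0 : (Multiplicative.toAdd a).1 ≠ 0 := fun h0 => ha (by
      apply Multiplicative.toAdd.injective
      exact Subtype.ext h0)
    exact card_fixedBy_eq (Ω := Ω) hn he (Multiplicative.toAdd a).2 hφ₀e ha0 hφ₀
  have hflt : Nat.card (fixedBy Ω (tv e φ₀)) < Nat.card Ω := by
    refine lt_of_le_of_ne (Finite.card_subtype_le _) fun hEq => ?_
    have x : Ω := Classical.arbitrary Ω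
    refine hnofix x (eq_top_iff.2 fun a _ => ?_)
    by_cases ha : a = 1
    · rw [ha]; exact one_mem _
    have huniv : fixedBy Ω a = Set.univ := by
      refine Set.eq_of_subset_of_ncard_le (Set.subset_univ _) ?_ (Set.toFinite _)
      rw [Set.ncard_univ, ← Nat.card_coe_set_eq, hf a ha, hEq]
    exact mem_stabilizer_iff.2 (show x ∈ fixedBy Ω a by rw [huniv]; trivial)
  obtain ⟨hcard, hquot, hex⟩ := orbit_excess hf hflt hd
  set f := Nat.card (fixedBy Ω (tv e φ₀)) with hfdef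
  let K : orbitRel.Quotient A Ω → Subgroup A := fun y => stabilizer A y.out
  have hsup : ∀ y y', y ≠ y' → K y ⊔ K y' = ⊤ := by
    intro y y' hyy
    rw [← Subgroup.index_eq_one]
    have h1 : ∑ z, ((K y ⊔ K y' ⊔ K z).index - 1) = (K y ⊔ K y').index - 1 := hex _
    have h2 : (K y ⊔ K y' ⊔ K y).index - 1 + ((K y ⊔ K y' ⊔ K y').index - 1) ≤
        ∑ z, ((K y ⊔ K y' ⊔ K z).index - 1) := by
      rw [← Finset.sum_pair hyy (f := fun z => (K y ⊔ K y' ⊔ K z).index - 1)]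
      exact Finset.sum_le_sum_of_subset (Finset.subset_univ _)
    rw [sup_eq_left.2 le_sup_left, sup_eq_left.2 le_sup_right] at h2
    have h3 : (K y ⊔ K y').index ≠ 0 := Subgroup.FiniteIndex.index_ne_zero
    omega
  let ev : (ι → F) → A →* Multiplicative F := fun w =>
    AddMonoidHom.toMultiplicative
      { toFun := fun φ : perp e => φ.1 ⬝ᵥ w
        map_zero' := zero_dotProduct w
        map_add' := fun a b => add_dotProduct a.1 b.1 w }
  let L : (ι → F) → Subgroup A := fun w => (ev w).ker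
  have hLmem : ∀ w (φ : ι → F) (h : φ ⬝ᵥ e = 0), mkA φ h ∈ L w ↔ φ ⬝ᵥ w = 0 := fun w φ h =>
    Iff.rfl
  have hLidx : ∀ w, (∀ c : F, w ≠ c • e) → (L w).index = q := by
    intro w hw
    obtain ⟨ρ, hρe, hρw⟩ := exists_perp₁ hw
    have hsurj : Function.Surjective (ev w) := fun a =>
      ⟨mkA (Multiplicative.toAdd a • ρ) (by rw [smul_dotProduct, hρe, smul_zero]), by
        apply Multiplicative.toAdd.injective
        change (Multiplicative.toAdd a • ρ) ⬝ᵥ w = Multiplicative.toAdd a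
        rw [smul_dotProduct, hρw, smul_eq_mul, mul_one]⟩
    rw [Subgroup.index_ker, MonoidHom.range_eq_top.2 hsurj, Subgroup.card_top,
      Nat.card_congr Multiplicative.toAdd, Nat.card_eq_fintype_card]
  have hExists : ∀ w, (∀ c : F, w ≠ c • e) → ∃ y, L w ⊔ K y ≠ ⊤ := by
    intro w hw
    by_contra! hall
    have h1 := hex (L w)
    rw [Finset.sum_eq_zero fun y _ => by
      change (L w ⊔ K y).index - 1 = 0
      rw [hall y, Subgroup.index_top], hLidx w hw] at h1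
    have := two_le_card (F := F)
    omega
  -- transvections fixing `e` and `w` preserve such a stabiliser
  have hStep : ∀ w y, L w ⊔ K y ≠ ⊤ → ∀ (φ ψ u : ι → F) (hφ : φ ⬝ᵥ e = 0) (hψ : ψ ⬝ᵥ e = 0),
      ψ ⬝ᵥ w = 0 → ψ ⬝ᵥ u = 0 → φ ⬝ᵥ u = 1 → mkA φ hφ ∈ K y → mkA ψ hψ ∈ K y := by
    intro w y hy φ ψ u hφ hψ hψw hψu hφu hφK
    set g := tv u ψ
    set x := y.out
    have hconj : ∀ (χ : ι → F) (hχ : χ ⬝ᵥ e = 0),
        g * tv e χ * g⁻¹ = tv e (χ - (χ ⬝ᵥ u) • ψ) := by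
      intro χ hχ
      rw [tv_conj_tv hχ hψu, hψ, zero_smul, add_zero]
    have hperp : ∀ χ : ι → F, χ ⬝ᵥ e = 0 → (χ - (χ ⬝ᵥ u) • ψ) ⬝ᵥ e = 0 := fun χ hχ => by
      rw [sub_dotProduct, smul_dotProduct, hψ, smul_zero, hχ, sub_zero]
    have hsame : (⟦g • x⟧ : orbitRel.Quotient A Ω) = y := by
      by_contra hne
      refine hy (eq_top_iff.2 ?_)
      rw [← hsup _ _ hne]
      refine sup_le (fun a ha => ?_) le_sup_right
      obtain ⟨b, hb⟩ := orbitRel_apply.1
        (Quotient.exact ((Quotient.out_eq (⟦g • x⟧ : orbitRel.Quotient A Ω))))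
      have hb' : b • (g • x) = (⟦g • x⟧ : orbitRel.Quotient A Ω).out := hb
      have ha' : a • (g • x) = g • x := by
        have : a ∈ stabilizer A (b • (g • x)) := by rw [hb']; exact ha
        rwa [stabilizer_smul_comm, mem_stabilizer_iff] at this
      obtain ⟨⟨χ, hχ⟩, rfl⟩ : ∃ χ, Multiplicative.ofAdd χ = a :=
        ⟨Multiplicative.toAdd a, rfl⟩
      -- the conjugate of `χ` fixes `x`
      set χ' := χ + (χ ⬝ᵥ u) • ψ with hχ'
      have hχ'e : χ' ⬝ᵥ e = 0 := by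
        rw [hχ', add_dotProduct, smul_dotProduct, hψ, smul_zero, hχ, add_zero]
      have hback : χ' - (χ' ⬝ᵥ u) • ψ = χ := by
        rw [hχ', add_dotProduct, smul_dotProduct, hψu, smul_zero, add_zero, add_sub_cancel_right]
      have hx : mkA χ' hχ'e ∈ K y := by
        rw [hmem]
        apply MulAction.injective g
        change g • (tv e χ' • x) = g • x
        conv_rhs => rw [← ha']
        change g • (tv e χ' • x) = tv e χ • (g • x)
        rw [← mul_smul, ← mul_smul]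
        congr 1
        rw [← mul_inv_eq_iff_eq_mul, hconj χ' hχ'e, hback]
      have hdiff : (χ - χ') ⬝ᵥ e = 0 := by rw [sub_dotProduct, hχ'e, hχ, sub_zero]
      have hsplit : (Multiplicative.ofAdd (⟨χ, hχ⟩ : perp e) : A) =
          mkA (χ - χ') hdiff * mkA χ' hχ'e := by
        apply Multiplicative.toAdd.injective
        exact Subtype.ext (sub_add_cancel χ χ').symm
      rw [hsplit]
      refine Subgroup.mul_mem_sup ((hLmem _ _ _).2 ?_) hx
      rw [hχ', sub_add_cancel_left, neg_dotProduct, smul_dotProduct, hψw, smul_zero, neg_zero]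
    have hgx : stabilizer A (g • x) = K y := by
      obtain ⟨b, hb⟩ := orbitRel_apply.1 (Quotient.exact (hsame.trans (Quotient.out_eq y).symm))
      have hb' : b • x = g • x := hb
      rw [← hb', stabilizer_smul_comm]
    have h1 : mkA _ (hperp φ hφ) ∈ K y := by
      rw [← hgx, hmem, ← hconj φ hφ, mul_smul, inv_smul_smul, mul_smul, (hmem φ hφ x).1 hφK]
    have hψ' : mkA ψ hψ = mkA φ hφ * (mkA _ (hperp φ hφ))⁻¹ := by
      apply Multiplicative.toAdd.injective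
      refine Subtype.ext ?_
      change ψ = φ + -(φ - (φ ⬝ᵥ u) • ψ)
      rw [hφu, one_smul]
      abel
    rw [hψ']
    exact (K y).mul_mem hφK ((K y).inv_mem h1)
  have hP2 : ∀ w, (∀ c : F, w ≠ c • e) → ∀ y, L w ⊔ K y ≠ ⊤ → K y ≠ ⊥ →
      ∀ (ψ : ι → F) (hψ : ψ ⬝ᵥ e = 0), ψ ⬝ᵥ w = 0 → mkA ψ hψ ∈ K y := by
    intro w hw y hy hbot ψ hψ hψw
    obtain ⟨⟨a, haK⟩, ha⟩ := Subgroup.nontrivial_iff_exists_ne_one _ |>.1
      (Subgroup.nontrivial_iff_ne_bot _ |>.2 hbot) |> fun ⟨a, ha, hne⟩ =>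
        (⟨⟨a, ha⟩, hne⟩ : ∃ a : K y, (a : A) ≠ 1)
    obtain ⟨⟨φ, hφ⟩, rfl⟩ : ∃ χ, Multiplicative.ofAdd χ = a := ⟨Multiplicative.toAdd a, rfl⟩
    have hφ0 : φ ≠ 0 := fun h0 => ha (by
      apply Multiplicative.toAdd.injective
      exact Subtype.ext h0)
    have indep : ∀ (φ' ψ' : ι → F) (hφ' : φ' ⬝ᵥ e = 0) (hψ' : ψ' ⬝ᵥ e = 0) (w' : ι → F),
        L w' ⊔ K y ≠ ⊤ → mkA φ' hφ' ∈ K y → ψ' ⬝ᵥ w' = 0 → (∀ c : F, φ' ≠ c • ψ') →
          mkA ψ' hψ' ∈ K y := by
      intro φ' ψ' hφ' hψ' w' hw' hK hψw' hne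
      obtain ⟨u, hu1, hu2⟩ := exists_perp₁ hne
      rw [dotProduct_comm] at hu1 hu2
      exact hStep w' y hw' φ' ψ' u hφ' hψ' hψw' hu1 hu2 hK
    by_cases hexw : ∃ (φ' : ι → F) (hφ' : φ' ⬝ᵥ e = 0), mkA φ' hφ' ∈ K y ∧ φ' ⬝ᵥ w ≠ 0
    · obtain ⟨φ', hφ', hK, hne⟩ := hexw
      exact indep φ' ψ hφ' hψ w hy hK hψw fun c hc => hne (by
        rw [hc, smul_dotProduct, hψw, smul_zero])
    push Not at hexw
    by_cases hψφ : ∀ c : F, φ ≠ c • ψ
    · exact indep φ ψ hφ hψ w hy haK hψw hψφ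
    push Not at hψφ
    obtain ⟨c, rfl⟩ := hψφ
    have hc : c ≠ 0 := fun hc => hφ0 (by rw [hc, zero_smul])
    by_cases hbig : ∃ ψ₂ : ι → F, ψ₂ ⬝ᵥ e = 0 ∧ ψ₂ ⬝ᵥ w = 0 ∧ ∀ d : F, ψ₂ ≠ d • ψ
    · obtain ⟨ψ₂, h2e, h2w, h2⟩ := hbig
      have hA : ∀ d : F, c • ψ ≠ d • ψ₂ := fun d hd => by
        rcases eq_or_ne d 0 with rfl | hd0
        · exact hφ0 (by simpa using hd)
        · exact h2 (d⁻¹ * c) (by rw [mul_smul, hd, inv_smul_smul₀ hd0])
      have hsum : (ψ + ψ₂) ⬝ᵥ e = 0 := by rw [add_dotProduct, hψ, h2e, add_zero]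
      have hsumw : (ψ + ψ₂) ⬝ᵥ w = 0 := by rw [add_dotProduct, hψw, h2w, add_zero]
      have hB : ∀ d : F, c • ψ ≠ d • (ψ + ψ₂) := fun d hd => by
        rcases eq_or_ne d 0 with rfl | hd0
        · exact hφ0 (by simpa using hd)
        · refine h2 (d⁻¹ * c - 1) ?_
          rw [sub_smul, one_smul, mul_smul, hd, inv_smul_smul₀ hd0, add_sub_cancel_left]
      have k1 := indep _ ψ₂ hφ h2e w hy haK h2w hA
      have k2 := indep _ _ hφ hsum w hy haK hsumw hB
      have hψ' : mkA ψ hψ = mkA _ hsum * (mkA ψ₂ h2e)⁻¹ := by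
        apply Multiplicative.toAdd.injective
        exact Subtype.ext (add_neg_cancel_right ψ ψ₂).symm
      rw [hψ']
      exact (K y).mul_mem k2 ((K y).inv_mem k1)
    push Not at hbig
    by_contra hψK
    have hψ0 : ψ ≠ 0 := fun h0 => hφ0 (by rw [h0, smul_zero])
    obtain ⟨j, hj⟩ := Function.ne_iff.1 hψ0
    set w' := w + Pi.single j (ψ j)⁻¹ with hw'def
    have hψw' : ψ ⬝ᵥ w' = 1 := by
      rw [hw'def, dotProduct_add, hψw, dotProduct_single, mul_inv_cancel₀ hj, zero_add]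
    have hall : ∀ (χ : ι → F) (hχ : χ ⬝ᵥ e = 0), mkA χ hχ ∈ K y →
        ∃ d : F, χ = d • ψ := fun χ hχ hK => hbig χ hχ (hexw χ hχ hK)
    have hy' : L w' ⊔ K y ≠ ⊤ := by
      intro htop
      have hm : mkA ψ hψ ∈ L w' ⊔ K y := htop ▸ Subgroup.mem_top _
      obtain ⟨l, hl, k, hk, hlk⟩ := Subgroup.mem_sup.1 hm
      obtain ⟨⟨χ, hχ⟩, rfl⟩ : ∃ χ, Multiplicative.ofAdd χ = l := ⟨Multiplicative.toAdd l, rfl⟩
      obtain ⟨⟨κ, hκ⟩, rfl⟩ : ∃ χ, Multiplicative.ofAdd χ = k := ⟨Multiplicative.toAdd k, rfl⟩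
      obtain ⟨d, rfl⟩ := hall κ hκ hk
      have hval : χ + d • ψ = ψ := congrArg (fun a : A => (Multiplicative.toAdd a).1) hlk
      have hd1 : d = 1 := by
        have := congrArg (· ⬝ᵥ w') hval
        simpa [add_dotProduct, (hLmem w' χ hχ).1 hl, hψw'] using this
      subst hd1
      simp only [one_smul] at hk
      exact hψK hk
    have hspan := exists_not_span_pair (F := F) hn e w'
    obtain ⟨x, hx⟩ := hspan
    obtain ⟨ψ', hψ'e, hψ'w, hψ'x⟩ := exists_perp₂ hx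
    obtain ⟨d, hd⟩ := hall ψ' hψ'e (indep _ ψ' hφ hψ'e w' hy' haK hψ'w fun d hd => hc (by
      have := congrArg (· ⬝ᵥ w') hd
      simpa [hψw', hψ'w] using this))
    have : d = 0 := by
      have := congrArg (· ⬝ᵥ w') hd
      simpa [hψw', hψ'w] using this.symm
    simp [hd, this] at hψ'x
  by_cases hreg : ∃ y, K y = ⊥
  · left
    obtain ⟨y, hy⟩ := hreg
    have hone : ∀ y', y' = y := by
      intro y'
      by_contra hne
      have := hsup _ _ hne
      rw [hy, sup_bot_eq] at this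
      exact hnofix _ this
    have hf0 : f = 0 := by
      have hc1 : Fintype.card (orbitRel.Quotient A Ω) = 1 := Fintype.card_eq_one_iff.2 ⟨y, hone⟩
      omega
    refine ⟨by omega, fun φ hφ hφ0 x hx => ?_⟩
    have hne : mkA φ hφ ≠ 1 := fun h1 => hφ0
      (congrArg (fun a : A => (Multiplicative.toAdd a).1) h1)
    have h0 := hf _ hne
    rw [hf0, Nat.card_eq_zero] at h0
    rcases h0 with h0 | h0
    · exact h0.elim ⟨x, hx⟩
    · exact not_finite_iff_infinite.2 h0 (inferInstance : Finite _)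
  push Not at hreg
  right
  let ext : ({j : ι // j ≠ i} → F) → ι → F := fun v j => if h : j ≠ i then v ⟨j, h⟩ else 0
  have hext : ∀ v, ext v i = 0 := fun v => dif_neg (not_not.2 rfl)
  have hext' : ∀ v (j : {j : ι // j ≠ i}), ext v j.1 = v j := fun v j => dif_pos j.2
  let wp : ℙ F ({j : ι // j ≠ i} → F) → ι → F := fun p => ext p.rep
  have hwp : ∀ p, ∀ c : F, wp p ≠ c • e := by
    intro p c hc
    have h1 := congrFun hc i
    simp only [wp, hext, Pi.smul_apply, smul_eq_mul] at h1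
    rcases mul_eq_zero.1 h1.symm with h2 | h2
    · refine p.rep_nonzero (funext fun j => ?_)
      rw [← hext' p.rep j]
      exact (congrFun hc j.1).trans (by simp [h2])
    · exact hi h2
  choose Y hY using fun p => hExists (wp p) (hwp p)
  have hsep : ∀ p p', p ≠ p' → ∀ y, (∀ ψ hψ, ψ ⬝ᵥ wp p = 0 → mkA ψ hψ ∈ K y) →
      (∀ ψ hψ, ψ ⬝ᵥ wp p' = 0 → mkA ψ hψ ∈ K y) → False := by
    intro p p' hne y h1 h2
    refine hnofix y.out (eq_top_iff.2 fun a _ => ?_)
    obtain ⟨⟨φ, hφ⟩, rfl⟩ : ∃ χ, Multiplicative.ofAdd χ = a := ⟨Multiplicative.toAdd a, rfl⟩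
    obtain ⟨ρ, hρe, hρw, hρw'⟩ : ∃ ρ : ι → F, ρ ⬝ᵥ e = 0 ∧ ρ ⬝ᵥ wp p = 0 ∧ ρ ⬝ᵥ wp p' = 1 := by
      refine exists_perp₂ fun b c hbc => hne ?_
      have h0 := congrFun hbc i
      simp only [wp, hext, Pi.add_apply, Pi.smul_apply, smul_eq_mul, mul_zero, add_zero] at h0
      have hb : b = 0 := (mul_eq_zero.1 h0.symm).resolve_right hi
      rw [← p.mk_rep, ← p'.mk_rep, eq_comm, Projectivization.mk_eq_mk_iff']
      refine ⟨c, funext fun j => ?_⟩
      have hj := congrFun hbc j.1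
      simp only [wp, hext', Pi.add_apply, Pi.smul_apply, smul_eq_mul, hb, zero_mul, zero_add] at hj
      exact hj.symm
    have he1 : ((φ ⬝ᵥ wp p') • ρ) ⬝ᵥ e = 0 := by rw [smul_dotProduct, hρe, smul_zero]
    have he2 : (φ - (φ ⬝ᵥ wp p') • ρ) ⬝ᵥ e = 0 := by rw [sub_dotProduct, hφ, he1, sub_zero]
    have hsplit : (Multiplicative.ofAdd (⟨φ, hφ⟩ : perp e) : A) =
        mkA _ he2 * mkA _ he1 := by
      apply Multiplicative.toAdd.injective
      exact Subtype.ext (sub_add_cancel φ _).symm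
    rw [hsplit]
    refine (K y).mul_mem (h2 _ he2 ?_) (h1 _ he1 ?_)
    · rw [sub_dotProduct, smul_dotProduct, hρw', smul_eq_mul, mul_one, sub_self]
    · rw [smul_dotProduct, hρw, smul_zero]
  have hYP : ∀ p, ∀ ψ hψ, ψ ⬝ᵥ wp p = 0 → mkA ψ hψ ∈ K (Y p) := fun p =>
    hP2 (wp p) (hwp p) (Y p) (hY p) (hreg _)
  have hinj : Function.Injective Y := by
    intro p p' hp
    by_contra hne
    exact hsep p p' hne (Y p) (hYP p) (hp ▸ hYP p')
  have hcardP : Nat.card (ℙ F ({j : ι // j ≠ i} → F)) = numPoints q (n - 1) := by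
    apply card_projectivization
    rw [Fintype.card_subtype_compl, Fintype.card_subtype_eq]
  have hle : numPoints q (n - 1) ≤ f + 1 := by
    rw [← hcardP, ← hquot, ← Nat.card_eq_fintype_card]
    exact Nat.card_le_card_of_injective Y hinj
  have hlt' : f < numPoints q (n - 1) := by omega
  refine ⟨by omega, fun x => ?_⟩
  have : Finite (ℙ F ({j : ι // j ≠ i} → F)) :=
    Nat.finite_of_card_ne_zero (by rw [hcardP]; omega)
  have hsurj : Function.Surjective Y := by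
    refine ((Nat.bijective_iff_injective_and_card Y).2 ⟨hinj, ?_⟩).2
    rw [hcardP, Nat.card_eq_fintype_card, hquot]
    omega
  set y : orbitRel.Quotient A Ω := ⟦x⟧ with hy
  obtain ⟨p, hp⟩ := hsurj y
  refine ⟨wp p, hwp p, fun φ hφ => ?_⟩
  have hstab : stabilizer A x = K y := by
    obtain ⟨b, hb⟩ := orbitRel_apply.1 (Quotient.exact (Quotient.out_eq y))
    have hb' : b • x = y.out := hb
    rw [← stabilizer_smul_comm b x, hb']
  rw [← hmem φ hφ x, ← hLmem (wp p) φ hφ, hstab]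
  refine ⟨fun hK => ?_, fun h => hp ▸ hYP p φ hφ ((hLmem _ _ _).1 h)⟩
  have honly : ∀ y', y' ≠ y → L (wp p) ⊔ K y' = ⊤ := by
    intro y' hne
    by_contra hne'
    obtain ⟨p', hp'⟩ := hsurj y'
    have hpp : p ≠ p' := fun h => hne (by rw [← hp', ← h, hp])
    exact hsep p p' hpp y' (hP2 (wp p) (hwp p) y' hne' (hreg _)) (hp' ▸ hYP p')
  have h1 := hex (L (wp p))
  rw [Finset.sum_eq_single y (fun y' _ hne => by
      change (L (wp p) ⊔ K y').index - 1 = 0
      rw [honly y' hne, Subgroup.index_top]) (fun h => (h (Finset.mem_univ _)).elim),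
    hLidx _ (hwp p)] at h1
  have hidx : (L (wp p) ⊔ K y).index = (L (wp p)).index := by
    have h3 : (L (wp p) ⊔ K y).index ≠ 0 := Subgroup.FiniteIndex.index_ne_zero
    have := two_le_card (F := F)
    rw [hLidx _ (hwp p)]
    change (L (wp p) ⊔ K y).index - 1 = _ at h1
    omega
  have hrel := Subgroup.relIndex_mul_index (le_sup_left : L (wp p) ≤ L (wp p) ⊔ K y)
  rw [hidx, mul_eq_right₀ Subgroup.FiniteIndex.index_ne_zero, Subgroup.relIndex_eq_one] at hrel
  exact hrel (Subgroup.mem_sup_right hK)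

end CfsgLib.MinDegree
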