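import Cfsg.Agent.OrthMax.Basic

/-!
# Root elements of `Ω(Q)` and frames of three hyperbolic pairs

`rt u w` is the Eichler element of `(u, w)` as an element of the group generated by them; `Frame Q` is
a system of three orthogonal hyperbolic pairs, `Frame.W` the perpendicular space of the first one.
-/

set_option autoImplicit false
set_option linter.unusedSectionVars false

namespace CfsgLib.MinDegree.Orth

open Matrix Module CfsgLib.Spinor CfsgLib.Forms CfsgLib.Forms4 CfsgLib.OrthMax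
open scoped commutatorElement

variable {F : Type*} [Field F] {ι : Type} [Fintype ι] [DecidableEq ι] {Q : QuadraticForm F (ι → F)}

set_option quotPrecheck false in
local notation "𝔅" => QuadraticMap.polar (⇑Q)

/-- The group generated by the Eichler elements, as a type. -/
abbrev EG (Q : QuadraticForm F (ι → F)) := ↥(eichGroup Q)

/-- Image of a vector. -/
def mv (g : EG Q) (x : ι → F) : ι → F := mat Q g.1 *ᵥ x

theorem mv_one (x : ι → F) : mv (1 : EG Q) x = x := by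
  rw [mv, Subgroup.coe_one, mat_one, one_mulVec]

theorem mv_mul (g h : EG Q) (x : ι → F) : mv (g * h) x = mv g (mv h x) := by
  rw [mv, mv, mv, Subgroup.coe_mul, mat_mul, ← mulVec_mulVec]

theorem mv_inv_mv (g : EG Q) (x : ι → F) : mv g⁻¹ (mv g x) = x := by
  rw [← mv_mul, inv_mul_cancel, mv_one]

theorem mv_mv_inv (g : EG Q) (x : ι → F) : mv g (mv g⁻¹ x) = x := by
  rw [← mv_mul, mul_inv_cancel, mv_one]

@[simp] theorem mv_add (g : EG Q) (x y : ι → F) : mv g (x + y) = mv g x + mv g y := mulVec_add _ _ _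

@[simp] theorem mv_sub (g : EG Q) (x y : ι → F) : mv g (x - y) = mv g x - mv g y := mulVec_sub _ _ _

@[simp] theorem mv_neg (g : EG Q) (x : ι → F) : mv g (-x) = -mv g x := mulVec_neg _ _

@[simp] theorem mv_smul (g : EG Q) (c : F) (x : ι → F) : mv g (c • x) = c • mv g x := mulVec_smul _ _ _

@[simp] theorem mv_zero (g : EG Q) : mv g 0 = 0 := mulVec_zero _

theorem mv_injective (g : EG Q) : Function.Injective (mv g) :=
  Function.LeftInverse.injective (mv_inv_mv g)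

@[simp] theorem quad_mv (g : EG Q) (x : ι → F) : Q (mv g x) = Q x := quad_mulVec Q _ _

@[simp] theorem polar_mv (g : EG Q) (x y : ι → F) : 𝔅 (mv g x) (mv g y) = 𝔅 x y :=
  polar_mulVec Q _ _ _

theorem polar_mv_left (g : EG Q) (x y : ι → F) : 𝔅 (mv g x) y = 𝔅 x (mv g⁻¹ y) := by
  rw [← polar_mv g x (mv g⁻¹ y), mv_mv_inv]

theorem ext_mv {g h : EG Q} (H : ∀ x, mv g x = mv h x) : g = h :=
  Subtype.ext (mat_ext Q (Matrix.ext_iff_mulVec.2 H))

variable (Q) in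
open Classical in
/-- The Eichler element of `(u, w)` (trivial if there is none). -/
noncomputable def rt (u w : ι → F) : EG Q :=
  if h : Q u = 0 ∧ 𝔅 u w = 0 then ⟨eichIso Q u w h.1 h.2, eichIso_mem Q h.1 h.2⟩ else 1

variable {u w w' : ι → F}

theorem mat_rt (hu : Q u = 0) (huw : 𝔅 u w = 0) : mat Q (rt Q u w).1 = eich Q u w := by
  rw [rt, dif_pos ⟨hu, huw⟩]
  rfl

theorem mv_rt (hu : Q u = 0) (huw : 𝔅 u w = 0) (x : ι → F) :
    mv (rt Q u w) x = x + (𝔅 u x • w - 𝔅 w x • u - (Q w * 𝔅 u x) • u) := by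
  rw [mv, mat_rt hu huw, eich_mulVec]

/-- The root element fixes what is perpendicular to both vectors. -/
theorem mv_rt_fix (hu : Q u = 0) (huw : 𝔅 u w = 0) {x : ι → F} (hux : 𝔅 u x = 0)
    (hwx : 𝔅 w x = 0) : mv (rt Q u w) x = x := by
  rw [mv_rt hu huw, hux, hwx]
  simp

/-- Action on the vectors perpendicular to the centre. -/
theorem mv_rt_perp (hu : Q u = 0) (huw : 𝔅 u w = 0) {x : ι → F} (hux : 𝔅 u x = 0) :
    mv (rt Q u w) x = x - 𝔅 w x • u := by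
  rw [mv_rt hu huw, hux]
  simp [sub_eq_add_neg]

/-- The pairing with the centre is preserved. -/
theorem polar_centre_mv_rt (hu : Q u = 0) (huw : 𝔅 u w = 0) (x : ι → F) :
    𝔅 u (mv (rt Q u w) x) = 𝔅 u x := by
  have h := polar_mv (rt Q u w) u x
  rwa [mv_rt_fix hu huw (by rw [polar_self', hu, mul_zero]) (by rw [QuadraticMap.polar_comm, huw])]
    at h

theorem rt_zero (hu : Q u = 0) : rt Q u 0 = 1 :=
  ext_mv fun x => by
    rw [mv_rt hu (QuadraticMap.polar_zero_right _ _), mv_one, QuadraticMap.polar_zero_left]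
    simp

theorem rt_mul (hu : Q u = 0) (huw : 𝔅 u w = 0) (huw' : 𝔅 u w' = 0) :
    rt Q u w * rt Q u w' = rt Q u (w + w') :=
  Subtype.ext (mat_ext Q (by
    rw [Subgroup.coe_mul, mat_mul, mat_rt hu huw, mat_rt hu huw', eich_mul hu huw huw',
      mat_rt hu (by rw [QuadraticMap.polar_add_right, huw, huw', add_zero])]))

theorem rt_inv (hu : Q u = 0) (huw : 𝔅 u w = 0) : (rt Q u w)⁻¹ = rt Q u (-w) := by
  refine inv_eq_of_mul_eq_one_right ?_
  rw [rt_mul hu huw (by rw [QuadraticMap.polar_neg_right, huw, neg_zero]), add_neg_cancel,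
    rt_zero hu]

theorem rt_pow (hu : Q u = 0) (huw : 𝔅 u w = 0) (k : ℕ) : rt Q u w ^ k = rt Q u (k • w) := by
  induction k with
  | zero => rw [pow_zero, zero_smul, rt_zero hu]
  | succ k ih =>
    rw [pow_succ, ih, succ_nsmul, rt_mul hu ?_ huw]
    rw [← Nat.cast_smul_eq_nsmul F, QuadraticMap.polar_smul_right, huw, smul_zero]

theorem rt_conj (g : EG Q) (hu : Q u = 0) (huw : 𝔅 u w = 0) :
    g * rt Q u w * g⁻¹ = rt Q (mv g u) (mv g w) := by
  rw [mul_inv_eq_iff_eq_mul]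
  refine Subtype.ext (mat_ext Q ?_)
  rw [Subgroup.coe_mul, Subgroup.coe_mul, mat_mul, mat_mul, mat_rt hu huw,
    mat_rt (u := mv g u) (w := mv g w) (by rw [quad_mv, hu]) (by rw [polar_mv, huw]), conj_eich]
  rfl

theorem rt_smul_left {t : F} (hu : Q u = 0) (huw : 𝔅 u w = 0) :
    rt Q (t • u) w = rt Q u (t • w) := by
  refine Subtype.ext (mat_ext Q ?_)
  rw [mat_rt (by rw [QuadraticMap.map_smul, hu, smul_zero])
    (by rw [QuadraticMap.polar_smul_left, huw, smul_zero]),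
    mat_rt hu (by rw [QuadraticMap.polar_smul_right, huw, smul_zero]), eich_smul_left]

theorem rt_swap {a b : ι → F} (ha : Q a = 0) (hb : Q b = 0) (hab : 𝔅 a b = 0) :
    rt Q a b = rt Q b (-a) := by
  refine Subtype.ext (mat_ext Q ?_)
  rw [mat_rt ha hab, mat_rt hb (by rw [QuadraticMap.polar_neg_right, QuadraticMap.polar_comm, hab,
    neg_zero])]
  refine Matrix.ext_iff_mulVec.2 fun x => ?_
  simp only [eich_mulVec, QuadraticMap.map_neg, ha, hb, QuadraticMap.polar_neg_left, zero_mul,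
    zero_smul, sub_zero]
  module

theorem rt_self_smul (hu : Q u = 0) (c : F) : rt Q u (c • u) = 1 := by
  have huu : 𝔅 u (c • u) = 0 := by
    rw [QuadraticMap.polar_smul_right, polar_self', hu, mul_zero, smul_zero]
  refine Subtype.ext (mat_ext Q ?_)
  rw [mat_rt hu huu, eich_smul_self Q hu, Subgroup.coe_one, mat_one]

theorem rt_add_self_smul (hu : Q u = 0) (huw : 𝔅 u w = 0) (c : F) :
    rt Q u (w + c • u) = rt Q u w := by
  rw [← rt_mul hu huw (by rw [QuadraticMap.polar_smul_right, polar_self', hu, mul_zero, smul_zero]),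
    rt_self_smul hu, mul_one]

/-- The commutator of two root elements, one of which moves the other. -/
theorem rt_commutator {v z : ι → F} (hv : Q v = 0) (hvz : 𝔅 v z = 0) (g : EG Q) :
    ⁅g, rt Q v z⁆ = rt Q (mv g v) (mv g z) * rt Q v (-z) := by
  rw [commutatorElement_def, rt_inv hv hvz, rt_conj g hv hvz]

/-- A subgroup containing all root elements is everything. -/
theorem eq_top_of_rt_mem (K : Subgroup (EG Q))
    (h : ∀ u w : ι → F, Q u = 0 → 𝔅 u w = 0 → rt Q u w ∈ K) : K = ⊤ := by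
  refine eq_top_iff.2 fun g _ => ?_
  have hle : eichGroup Q ≤ K.map (eichGroup Q).subtype := by
    conv_lhs => rw [eichGroup]
    rw [Subgroup.closure_le]
    rintro k ⟨u, w, hu, huw, hk⟩
    exact ⟨rt Q u w, h u w hu huw, mat_ext Q ((mat_rt hu huw).trans hk.symm)⟩
  obtain ⟨k, hk, hkg⟩ := hle g.2
  rwa [← Subtype.ext (a1 := k) hkg]

/-- Three orthogonal hyperbolic pairs. -/
structure Frame (Q : QuadraticForm F (ι → F)) where
  /-- first vector -/
  e : ι → F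
  /-- its partner -/
  f : ι → F
  /-- second vector -/
  a : ι → F
  /-- its partner -/
  a' : ι → F
  /-- third vector -/
  b : ι → F
  /-- its partner -/
  b' : ι → F
  qe : Q e = 0
  qf : Q f = 0
  qa : Q a = 0
  qa' : Q a' = 0
  qb : Q b = 0
  qb' : Q b' = 0
  ef : QuadraticMap.polar (⇑Q) e f = 1
  aa' : QuadraticMap.polar (⇑Q) a a' = 1
  bb' : QuadraticMap.polar (⇑Q) b b' = 1
  ea : QuadraticMap.polar (⇑Q) e a = 0
  ea' : QuadraticMap.polar (⇑Q) e a' = 0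
  eb : QuadraticMap.polar (⇑Q) e b = 0
  eb' : QuadraticMap.polar (⇑Q) e b' = 0
  fa : QuadraticMap.polar (⇑Q) f a = 0
  fa' : QuadraticMap.polar (⇑Q) f a' = 0
  fb : QuadraticMap.polar (⇑Q) f b = 0
  fb' : QuadraticMap.polar (⇑Q) f b' = 0
  ab : QuadraticMap.polar (⇑Q) a b = 0
  ab' : QuadraticMap.polar (⇑Q) a b' = 0
  a'b : QuadraticMap.polar (⇑Q) a' b = 0
  a'b' : QuadraticMap.polar (⇑Q) a' b' = 0

/-- The vectors perpendicular to two given ones. -/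
def perp2 (Q : QuadraticForm F (ι → F)) (x y : ι → F) : Submodule F (ι → F) :=
  LinearMap.ker ((QuadraticMap.polarBilin Q) x) ⊓ LinearMap.ker ((QuadraticMap.polarBilin Q) y)

theorem mem_perp2 {x y z : ι → F} : z ∈ perp2 Q x y ↔ 𝔅 x z = 0 ∧ 𝔅 y z = 0 := Iff.rfl

namespace Frame

variable (Fr : Frame Q)

/-- The perpendicular space of the first pair. -/
def W : Submodule F (ι → F) := perp2 Q Fr.e Fr.f

/-- The perpendicular space of the first two pairs. -/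
def W2 : Submodule F (ι → F) := Fr.W ⊓ perp2 Q Fr.a Fr.a'

/-- The perpendicular space of the three pairs. -/
def W3 : Submodule F (ι → F) := Fr.W2 ⊓ perp2 Q Fr.b Fr.b'

theorem mem_W {x : ι → F} : x ∈ Fr.W ↔ 𝔅 Fr.e x = 0 ∧ 𝔅 Fr.f x = 0 := Iff.rfl

theorem mem_W2 {x : ι → F} : x ∈ Fr.W2 ↔ x ∈ Fr.W ∧ 𝔅 Fr.a x = 0 ∧ 𝔅 Fr.a' x = 0 := Iff.rfl

theorem mem_W3 {x : ι → F} : x ∈ Fr.W3 ↔ x ∈ Fr.W2 ∧ 𝔅 Fr.b x = 0 ∧ 𝔅 Fr.b' x = 0 := Iff.rfl

theorem a_mem : Fr.a ∈ Fr.W := ⟨Fr.ea, Fr.fa⟩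

theorem a'_mem : Fr.a' ∈ Fr.W := ⟨Fr.ea', Fr.fa'⟩

theorem b_mem : Fr.b ∈ Fr.W := ⟨Fr.eb, Fr.fb⟩

theorem b'_mem : Fr.b' ∈ Fr.W := ⟨Fr.eb', Fr.fb'⟩

theorem b_mem2 : Fr.b ∈ Fr.W2 := ⟨Fr.b_mem, Fr.ab, Fr.a'b⟩

theorem b'_mem2 : Fr.b' ∈ Fr.W2 := ⟨Fr.b'_mem, Fr.ab', Fr.a'b'⟩

theorem ee : 𝔅 Fr.e Fr.e = 0 := by rw [polar_self', Fr.qe, mul_zero]

theorem ff : 𝔅 Fr.f Fr.f = 0 := by rw [polar_self', Fr.qf, mul_zero]

theorem aa : 𝔅 Fr.a Fr.a = 0 := by rw [polar_self', Fr.qa, mul_zero]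

theorem a'a' : 𝔅 Fr.a' Fr.a' = 0 := by rw [polar_self', Fr.qa', mul_zero]

theorem bb : 𝔅 Fr.b Fr.b = 0 := by rw [polar_self', Fr.qb, mul_zero]

theorem b'b'' : 𝔅 Fr.b' Fr.b' = 0 := by rw [polar_self', Fr.qb', mul_zero]

theorem fe : 𝔅 Fr.f Fr.e = 1 := by rw [QuadraticMap.polar_comm, Fr.ef]

theorem a'a : 𝔅 Fr.a' Fr.a = 1 := by rw [QuadraticMap.polar_comm, Fr.aa']

theorem b'b : 𝔅 Fr.b' Fr.b = 1 := by rw [QuadraticMap.polar_comm, Fr.bb']

theorem ba : 𝔅 Fr.b Fr.a = 0 := by rw [QuadraticMap.polar_comm, Fr.ab]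

theorem b'a : 𝔅 Fr.b' Fr.a = 0 := by rw [QuadraticMap.polar_comm, Fr.ab']

theorem ba' : 𝔅 Fr.b Fr.a' = 0 := by rw [QuadraticMap.polar_comm, Fr.a'b]

theorem b'a' : 𝔅 Fr.b' Fr.a' = 0 := by rw [QuadraticMap.polar_comm, Fr.a'b']

/-- The last two pairs. -/
def inner : TwoPairs Q :=
  ⟨Fr.a, Fr.a', Fr.b, Fr.b', Fr.qa, Fr.qa', Fr.qb, Fr.qb', Fr.aa', Fr.bb', Fr.ab, Fr.ab', Fr.a'b,
    Fr.a'b'⟩

/-- The first two pairs. -/
def outer : TwoPairs Q :=
  ⟨Fr.e, Fr.f, Fr.a, Fr.a', Fr.qe, Fr.qf, Fr.qa, Fr.qa', Fr.ef, Fr.aa', Fr.ea, Fr.ea', Fr.fa,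
    Fr.fa'⟩

/-- Elements fixing the first pair. -/
def Lev : Subgroup (EG Q) where
  carrier := {g | mv g Fr.e = Fr.e ∧ mv g Fr.f = Fr.f}
  one_mem' := ⟨mv_one _, mv_one _⟩
  mul_mem' {g h} hg hh := ⟨by rw [mv_mul, hh.1, hg.1], by rw [mv_mul, hh.2, hg.2]⟩
  inv_mem' {g} hg := ⟨by conv_lhs => rw [← hg.1, mv_inv_mv],
    by conv_lhs => rw [← hg.2, mv_inv_mv]⟩

theorem mem_Lev {g : EG Q} : g ∈ Fr.Lev ↔ mv g Fr.e = Fr.e ∧ mv g Fr.f = Fr.f := Iff.rfl

theorem rt_mem_Lev {s x : ι → F} (hs : s ∈ Fr.W) (hs0 : Q s = 0) (hx : x ∈ Fr.W)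
    (hsx : 𝔅 s x = 0) : rt Q s x ∈ Fr.Lev :=
  ⟨mv_rt_fix hs0 hsx (by rw [QuadraticMap.polar_comm]; exact hs.1)
      (by rw [QuadraticMap.polar_comm]; exact hx.1),
    mv_rt_fix hs0 hsx (by rw [QuadraticMap.polar_comm]; exact hs.2)
      (by rw [QuadraticMap.polar_comm]; exact hx.2)⟩

theorem mv_mem_W {g : EG Q} (hg : g ∈ Fr.Lev) {x : ι → F} (hx : x ∈ Fr.W) : mv g x ∈ Fr.W := by
  rw [mem_W] at hx ⊢
  exact ⟨by rw [← hg.1, polar_mv, hx.1], by rw [← hg.2, polar_mv, hx.2]⟩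

end Frame

end CfsgLib.MinDegree.Orth
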