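import Cfsg.Agent.MinDegree.OrthPlane

/-!
# Small actions: multiplicities and fixed points

Consequences of `(q - 1) |Ω| + 1 < #{x | Q x = 0}` for the multiplicities of the labels, and the
comparison of the fixed points of conjugate root elements.
-/

set_option autoImplicit false
set_option linter.unusedSectionVars false

namespace CfsgLib.MinDegree.Orth

open Matrix Module CfsgLib.Spinor CfsgLib.Forms CfsgLib.Forms4 CfsgLib.OrthMax
open scoped Classical

variable {F : Type*} [Field F] {ι : Type} [Fintype ι] [DecidableEq ι] {Q : QuadraticForm F (ι → F)}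
  [Fintype F]

set_option quotPrecheck false in
local notation "𝔅" => QuadraticMap.polar (⇑Q)
local notation "qF" => Fintype.card F
local notation "nι" => Fintype.card ι

/-- A set of non-zero vectors closed under scalars has cardinality divisible by `q - 1`. -/
theorem sub_one_dvd_card (T : Finset (ι → F)) (h0 : (0 : ι → F) ∉ T)
    (hsmul : ∀ v ∈ T, ∀ c : F, c ≠ 0 → c • v ∈ T) : qF - 1 ∣ T.card := by
  rw [Finset.card_eq_sum_card_image (fun v => Finset.univ.image fun u : Fˣ => u • v) T]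
  refine Finset.dvd_sum fun O hO => ?_
  obtain ⟨v, hv, rfl⟩ := Finset.mem_image.1 hO
  have hv0 : v ≠ 0 := fun h => h0 (h ▸ hv)
  have h : T.filter (fun w => (Finset.univ.image fun u : Fˣ => u • w) =
      Finset.univ.image fun u : Fˣ => u • v) = Finset.univ.image fun u : Fˣ => u • v := by
    ext w
    simp only [Finset.mem_filter]
    constructor
    · intro hw
      rw [← hw.2]
      exact Finset.mem_image.2 ⟨1, Finset.mem_univ _, one_smul _ _⟩
    · intro hw
      obtain ⟨u, -, rfl⟩ := Finset.mem_image.1 hw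
      refine ⟨hsmul v hv u u.ne_zero, ?_⟩
      ext x
      simp only [Finset.mem_image, Finset.mem_univ, true_and]
      constructor
      · rintro ⟨u', rfl⟩
        exact ⟨u' * u, (smul_smul _ _ _).symm⟩
      · rintro ⟨u', rfl⟩
        exact ⟨u' * u⁻¹, by rw [smul_smul, inv_mul_cancel_right]⟩
  rw [h, Finset.card_image_of_injective _ fun u u' huv => Units.ext ?_, Finset.card_univ,
    Fintype.card_units]
  exact smul_left_injective F hv0 huv

/-- The non-zero singular vectors of a subspace fall into classes of size `q - 1`. -/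
theorem sub_one_dvd_card_singular (S : Submodule F (ι → F)) :
    qF - 1 ∣ ((vals Q S 0).erase 0).card := by
  refine sub_one_dvd_card _ (Finset.notMem_erase _ _) fun v hv c hc => ?_
  obtain ⟨hv0, hv'⟩ := Finset.mem_erase.1 hv
  obtain ⟨hS, hq⟩ := mem_vals.1 hv'
  exact Finset.mem_erase.2 ⟨smul_ne_zero hc hv0,
    mem_vals.2 ⟨S.smul_mem _ hS, by rw [QuadraticMap.map_smul, hq, smul_zero]⟩⟩

/-- The arithmetic in even characteristic. -/
theorem arith_even {K X S0 T d : ℕ} (hK : 3 ≤ K)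
    (hsmall : K * d + 1 < K * ((K + 1) ^ 3 * X) + (K + 1) * (S0 + 1))
    (hup : S0 + 1 ≤ (K * K + 3 * K + 1) * X) (hT : T + (S0 + 1) = (K + 1) ^ 3 * X)
    (hd : 1 + T * 2 ≤ d) : False := by
  have h3 : K * ((K + 1) ^ 3 * X) < (3 * K + 1) * (S0 + 1) := by nlinarith
  have h4 : (3 * K + 1) * (S0 + 1) ≤ (3 * K + 1) * ((K * K + 3 * K + 1) * X) :=
    Nat.mul_le_mul_left _ hup
  have h5 : (3 * K + 1) * (K * K + 3 * K + 1) ≤ K * (K + 1) ^ 3 := by
    obtain ⟨j, rfl⟩ : ∃ j, K = j + 3 := ⟨K - 3, by omega⟩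
    ring_nf
    nlinarith
  have h6 : (3 * K + 1) * ((K * K + 3 * K + 1) * X) ≤ K * ((K + 1) ^ 3 * X) := by
    rw [← mul_assoc, ← mul_assoc]
    exact Nat.mul_le_mul_right _ h5
  exact absurd (h4.trans h6) (not_le.2 h3)

/-- The arithmetic in odd characteristic. -/
theorem arith_odd {K X S0 T k d : ℕ} (hK : 8 ≤ K ∧ 3 ≤ k ∨ 4 ≤ K ∧ 5 ≤ k)
    (hsmall : K * d + 1 < K * ((K + 1) ^ 3 * X) + (K + 1) * (S0 + 1))
    (hup : S0 + 1 ≤ (K * K + 3 * K + 1) * X) (hT : K * ((K * K + 2 * K) * X) ≤ 2 * T)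
    (hd : 1 + T * k ≤ d) : False := by
  have key : 2 * (K * (K + 1) ^ 3 + (K + 1) * (K * K + 3 * K + 1)) ≤
      K * (K * (K * K + 2 * K)) * k := by
    rcases hK with ⟨h8, hk⟩ | ⟨h4, hk⟩
    · obtain ⟨j, rfl⟩ : ∃ j, K = j + 8 := ⟨K - 8, by omega⟩
      refine le_trans ?_ (Nat.mul_le_mul_left _ hk)
      ring_nf
      nlinarith
    · obtain ⟨j, rfl⟩ : ∃ j, K = j + 4 := ⟨K - 4, by omega⟩
      refine le_trans ?_ (Nat.mul_le_mul_left _ hk)
      ring_nf
      nlinarith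
  have h1 : K * (K * ((K * K + 2 * K) * X)) * k ≤ 2 * (K * d) :=
    calc _ ≤ K * (2 * T) * k := Nat.mul_le_mul_right _ (Nat.mul_le_mul_left _ hT)
      _ = 2 * (K * (T * k)) := by ring
      _ ≤ _ := Nat.mul_le_mul_left _ (Nat.mul_le_mul_left _ (by omega))
  have h3 : 2 * (K * ((K + 1) ^ 3 * X) + (K + 1) * ((K * K + 3 * K + 1) * X)) ≤
      K * (K * ((K * K + 2 * K) * X)) * k :=
    calc _ = 2 * (K * (K + 1) ^ 3 + (K + 1) * (K * K + 3 * K + 1)) * X := by ring
      _ ≤ K * (K * (K * K + 2 * K)) * k * X := Nat.mul_le_mul_right _ key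
      _ = _ := by ring
  have h4 := Nat.mul_le_mul_left (K + 1) hup
  omega

namespace Frame

variable (Fr : Frame Q)

/-- A root element is conjugate to one at the base point. -/
theorem exists_conj_rtE (hQ : (QuadraticMap.polarBilin Q).Nondegenerate) {s x : ι → F}
    (hs : Q s = 0) (hsx : 𝔅 s x = 0) (hne : ∀ c : F, x ≠ c • s) (hs0 : s ≠ 0) :
    ∃ g : EG Q, ∃ t : F, t ≠ 0 ∧ ∃ x' ∈ Fr.W, x' ≠ 0 ∧ Q x' = t ^ 2 * Q x ∧
      g * rt Q s x * g⁻¹ = rt Q Fr.e x' := by
  obtain ⟨g, hg, α, hα, hgs⟩ := Fr.outer.exists_to_e hQ hs0 hs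
  have hgs' : mv (⟨g, hg⟩ : EG Q) s = α • Fr.e := hgs
  set g' : EG Q := ⟨g, hg⟩
  have hey : 𝔅 Fr.e (mv g' x) = 0 := by
    have h := polar_mv g' s x
    rw [hgs', QuadraticMap.polar_smul_left, hsx] at h
    exact (smul_eq_zero.1 h).resolve_left hα
  set y := mv g' x - 𝔅 Fr.f (mv g' x) • Fr.e
  have hy : y ∈ Fr.W := by
    refine Fr.mem_W.2 ⟨?_, ?_⟩ <;>
      simp [y, QuadraticMap.polar_sub_right, QuadraticMap.polar_smul_right, hey, Fr.qe, Fr.fe]
  have hgx : mv g' x = y + 𝔅 Fr.f (mv g' x) • Fr.e := (sub_add_cancel _ _).symm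
  refine ⟨g', α, hα, α • y, Fr.W.smul_mem _ hy, smul_ne_zero hα fun h0 => ?_, ?_, ?_⟩
  · refine hne (𝔅 Fr.f (mv g' x) / α) (mv_injective g' ?_)
    rw [mv_smul, hgs', smul_smul, div_mul_cancel₀ _ hα, hgx, h0, zero_add]
    congr 2
    conv_rhs => rw [← zero_add (𝔅 Fr.f (mv g' x) • Fr.e), ← h0, ← hgx]
  · have h1 : Q (mv g' x) = Q x := quad_mv _ _
    rw [hgx, QuadraticMap.map_add (⇑Q), QuadraticMap.map_smul, Fr.qe, QuadraticMap.polar_smul_right,
      QuadraticMap.polar_comm (⇑Q) y Fr.e, (Fr.mem_W.1 hy).1, smul_zero, smul_zero, add_zero,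
      add_zero] at h1
    rw [QuadraticMap.map_smul, h1, smul_eq_mul, sq]
  · have hey' : 𝔅 Fr.e (α • y) = 0 := by
      rw [QuadraticMap.polar_smul_right, (Fr.mem_W.1 hy).1, smul_zero]
    rw [rt_conj g' hs hsx, hgs', rt_smul_left Fr.qe hey,
      show α • mv g' x = α • y + (α * 𝔅 Fr.f (mv g' x)) • Fr.e by
        conv_lhs => rw [hgx]
        rw [smul_add, smul_smul],
      rt_add_self_smul Fr.qe hey']

theorem rtE_eq_one {w : ι → F} (hw : w ∈ Fr.W) (h : rt Q Fr.e w = 1) : w = 0 := by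
  obtain ⟨hew, hfw⟩ := Fr.mem_W.1 hw
  have h1 := congrArg (fun g => mv g Fr.f) h
  simp only [mv_one, mv_rt Fr.qe hew, Fr.ef, one_smul, QuadraticMap.polar_comm (⇑Q) w Fr.f, hfw,
    zero_smul, sub_zero, mul_one, add_eq_left] at h1
  have h2 := congrArg (𝔅 Fr.f) h1
  simp [QuadraticMap.polar_sub_right, QuadraticMap.polar_smul_right, hfw, Fr.fe] at h2
  rwa [h2, zero_smul, sub_zero] at h1

variable {Ω : Type*} [MulAction (EG Q) Ω] [Fintype Ω]

/-- The fixed points of an element. -/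
noncomputable def fixF (Ω : Type*) [MulAction (EG Q) Ω] [Fintype Ω] (g : EG Q) : Finset Ω :=
  Finset.univ.filter fun x => g • x = x

theorem card_fixF_conj (g h : EG Q) : (fixF Ω (g * h * g⁻¹)).card = (fixF Ω h).card := by
  refine Finset.card_bij' (fun x _ => g⁻¹ • x) (fun x _ => g • x) ?_ ?_
    (fun x _ => smul_inv_smul g x) (fun x _ => inv_smul_smul g x)
  · intro x hx
    simp only [fixF, Finset.mem_filter, Finset.mem_univ, true_and] at hx ⊢
    conv_rhs => rw [← hx]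
    simp [mul_smul]
  · intro x hx
    simp only [fixF, Finset.mem_filter, Finset.mem_univ, true_and] at hx ⊢
    simp [mul_smul, hx]

theorem card_fixF_eq_sum (g : EG Q) :
    (fixF Ω g).card = ∑ y, ((Fr.pts (Ω := Ω) y).filter fun x => g • x = x).card := by
  rw [Finset.card_eq_sum_card_fiberwise (s := fixF Ω g) (t := Finset.univ) (f := Fr.cls)
    fun _ _ => Finset.mem_univ _]
  refine Finset.sum_congr rfl fun y _ => congrArg Finset.card ?_
  ext x
  simp [fixF, Frame.pts, and_comm]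

/-- A root element at `e` fixes whole orbits or none of their points. -/
theorem filter_fix_rtE {w : ι → F} (hw : w ∈ Fr.W) (y : Fr.Orb Ω) :
    ((Fr.pts y).filter fun x => rt Q Fr.e w • x = x) = if w ∈ Fr.kst y.out then Fr.pts y else ∅ := by
  have key : ∀ x ∈ Fr.pts y, (w ∈ Fr.kst y.out ↔ rt Q Fr.e w • x = x) := fun x hx => by
    rw [Fr.kst_eq_of_cls ((Fr.cls_out y).trans (Fr.mem_pts.1 hx).symm), mem_kst]
    exact and_iff_right hw
  split_ifs with h
  · exact Finset.filter_true_of_mem fun x hx => (key x hx).1 h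
  · exact Finset.filter_false_of_mem fun x hx hfix => h ((key x hx).2 hfix)

variable {p : ℕ} (pr : F →+ ZMod p)

/-- A regular orbit. -/
def Reg (y : Fr.Orb Ω) : Prop := ∀ x ∈ Fr.W, x ∈ Fr.lab pr y

/-- An orbit with labels in a line. -/
def Lin (y : Fr.Orb Ω) : Prop := ∃ u, ∀ x ∈ Fr.lab pr y, ∃ c : F, x = c • u

theorem exists_pr_scale (hpr : pr ≠ 0) {z : F} (hz : z ≠ 0) : ∃ c : F, pr (c * z) ≠ 0 := by
  by_contra! h
  refine hpr (AddMonoidHom.ext fun t => ?_)
  rw [show t = t / z * z by field_simp]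
  exact h _

theorem kst_eq_zero_of_reg (hQ : (QuadraticMap.polarBilin Q).Nondegenerate) (hpr : pr ≠ 0)
    {x : Ω} (hreg : Fr.Reg pr (Fr.cls x)) {w : ι → F} (hw : w ∈ Fr.kst x) : w = 0 := by
  refine Fr.sepW hQ w hw.1 fun v hv => ?_
  by_contra hne
  obtain ⟨c, hc⟩ := exists_pr_scale pr hpr hne
  have := ((Fr.mem_lab pr).1 (hreg (c • v) (Fr.W.smul_mem _ hv))).2 w hw
  rw [QuadraticMap.polar_smul_left, QuadraticMap.polar_comm (⇑Q) v w, smul_eq_mul] at this
  exact hc this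

theorem card_labF_of_reg {y : Fr.Orb Ω} (h : Fr.Reg pr y) :
    Fr.labF pr y = elts Fr.W := by
  ext x
  rw [mem_labF, mem_elts]
  exact ⟨fun hx => hx.1, h x⟩

theorem card_labF_le_of_lin {y : Fr.Orb Ω} (h : Fr.Lin pr y) : (Fr.labF pr y).card ≤ qF := by
  obtain ⟨u, hu⟩ := h
  refine le_trans (Finset.card_le_card (t := Finset.univ.image fun c : F => c • u) fun x hx => ?_)
    (Finset.card_image_le.trans (Finset.card_univ (α := F)).le)
  obtain ⟨c, rfl⟩ := hu x ((Fr.mem_labF pr).1 hx)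
  exact Finset.mem_image.2 ⟨c, Finset.mem_univ _, rfl⟩

theorem one_le_mult_zero [Nonempty Ω] : 1 ≤ Fr.mult (Ω := Ω) pr 0 :=
  Finset.card_pos.2 ⟨Fr.cls (Classical.arbitrary Ω), Finset.mem_filter.2
    ⟨Finset.mem_univ _, zero_mem _⟩⟩

section transitive

variable (hQ : (QuadraticMap.polarBilin Q).Nondegenerate) [Fact p.Prime] [CharP F p] (hpr : pr ≠ 0)

include hQ hpr in
theorem sum_mc_le [Nonempty Ω] (C : Finset F) :
    1 + ∑ c ∈ C, ((vals Q Fr.W c).erase 0).card * Fr.mc Ω pr c ≤ Fintype.card Ω := by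
  rw [Fr.card_eq_sum_mult pr hQ hpr, ← Finset.add_sum_erase _ _ (mem_elts.2 (zero_mem Fr.W))]
  refine Nat.add_le_add (Fr.one_le_mult_zero pr) ?_
  calc ∑ c ∈ C, ((vals Q Fr.W c).erase 0).card * Fr.mc Ω pr c
      = ∑ c ∈ C, ∑ v ∈ (vals Q Fr.W c).erase 0, Fr.mult (Ω := Ω) pr v := by
        refine Finset.sum_congr rfl fun c _ => ?_
        rw [← smul_eq_mul, ← Finset.sum_const]
        refine Finset.sum_congr rfl fun v hv => ?_
        obtain ⟨hv0, hv⟩ := Finset.mem_erase.1 hv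
        obtain ⟨hvW, hvq⟩ := mem_vals.1 hv
        rw [Fr.mult_eq_mc pr hQ hvW hv0, hvq]
    _ = ∑ v ∈ C.biUnion fun c => (vals Q Fr.W c).erase 0, Fr.mult (Ω := Ω) pr v := by
        refine (Finset.sum_biUnion fun c _ c' _ hcc => Finset.disjoint_left.2 fun v h h' => ?_).symm
        exact hcc ((mem_vals.1 (Finset.mem_erase.1 h).2).2.symm.trans
          (mem_vals.1 (Finset.mem_erase.1 h').2).2)
    _ ≤ _ := by
        refine Finset.sum_le_sum_of_subset fun v hv => ?_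
        obtain ⟨c, -, hv⟩ := Finset.mem_biUnion.1 hv
        obtain ⟨hv0, hv⟩ := Finset.mem_erase.1 hv
        exact Finset.mem_erase.2 ⟨hv0, mem_elts.2 (mem_vals.1 hv).1⟩

/-- The smallness hypothesis. -/
def Small (Q : QuadraticForm F (ι → F)) (Ω : Type*) [Fintype Ω] : Prop :=
  (Fintype.card F - 1) * Fintype.card Ω + 1 < (vals Q (⊤ : Submodule F (ι → F)) 0).card

/-- The numerical data of the frame. -/
theorem numerics : ∃ X S0 : ℕ, X = qF ^ (nι - 5) ∧ (vals Q Fr.W 0).card = S0 + 1 ∧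
    ((vals Q Fr.W 0).erase 0).card = S0 ∧ (qF * qF - 1) * X ≤ S0 ∧
      S0 + 1 ≤ (qF * qF + qF - 1) * X ∧ (elts Fr.W).card = qF ^ 3 * X ∧
        (∀ c, (qF * qF - 1) * X ≤ (vals Q Fr.W c).card) ∧
          (vals Q (⊤ : Submodule F (ι → F)) 0).card = (qF - 1) * (qF ^ 3 * X) + qF * (S0 + 1) := by
  obtain ⟨h6, hW, -, -⟩ := Fr.six_le
  have h0 : (0 : ι → F) ∈ vals Q Fr.W 0 := mem_vals.2 ⟨zero_mem _, QuadraticMap.map_zero Q⟩
  obtain ⟨S0, hS0⟩ : ∃ S0, (vals Q Fr.W 0).card = S0 + 1 :=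
    ⟨_, (Nat.succ_pred_eq_of_pos (Finset.card_pos.2 ⟨0, h0⟩)).symm⟩
  set X := qF ^ (nι - 5) with hX
  have h4 : qF ^ (nι - 4) = qF * X := by
    rw [hX, ← pow_succ', show nι - 5 + 1 = nι - 4 by omega]
  have h2 : qF ^ (nι - 2) = qF ^ 3 * X := by
    rw [hX, ← pow_add]
    congr 1
    omega
  have hq := two_le_q (F := F)
  have e1 : (qF * qF - 1) * X = (qF - 1) * (qF * X) + (qF - 1) * X := by
    zify [show 1 ≤ qF by omega, show 1 ≤ qF * qF by nlinarith]
    ring
  have e2 : (qF * qF + qF - 1) * X = (qF - 1) * (qF * X) + (qF - 1) * X + qF * X := by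
    zify [show 1 ≤ qF by omega, show 1 ≤ qF * qF + qF by nlinarith]
    ring
  refine ⟨X, S0, rfl, hS0, by rw [Finset.card_erase_of_mem h0, hS0]; omega, ?_, ?_,
    by rw [hW, h2], fun c => ?_, ?_⟩
  · have := Fr.card_singular_W_pos (Q := Q)
    rw [h4, ← hX, hS0] at this
    nlinarith
  · have := Fr.card_singular_W_le (Q := Q)
    rw [h4, ← hX, hS0] at this
    omega
  · have := Fr.le_card_vals_W (Q := Q) c
    rw [h4, ← hX] at this
    omega
  · rw [Fr.card_vals_top 0, hS0, h2]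

variable (hq4 : 4 ≤ Fintype.card F) (hsmall : Small Q Ω)

include hQ hpr hq4 hsmall in
theorem mc_zero_le [Nonempty Ω] : Fr.mc Ω pr 0 ≤ qF + 1 := by
  obtain ⟨X, S0, hX, -, hS, hlo, -, -, -, hV⟩ := Fr.numerics
  have h := Fr.sum_mc_le (Ω := Ω) pr hQ hpr {0}
  rw [Finset.sum_singleton, hS] at h
  unfold Small at hsmall
  rw [hV] at hsmall
  obtain ⟨K, hK⟩ : ∃ K, qF = K + 1 := ⟨qF - 1, by omega⟩
  rw [hK] at hsmall hlo hq4 ⊢
  simp only [Nat.add_sub_cancel] at hsmall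
  have e : (K + 1) * (K + 1) - 1 = K * K + 2 * K := by
    rw [show (K + 1) * (K + 1) = K * K + 2 * K + 1 by ring, Nat.add_sub_cancel]
  rw [e] at hlo
  by_contra! hm
  have h1 : 1 + S0 * (K + 3) ≤ Fintype.card Ω := le_trans (by nlinarith) h
  have h2 : (K * K + 2 * K - 1) * S0 < K * ((K + 1) ^ 3 * X) := by
    zify [show 1 ≤ K * K + 2 * K by nlinarith]
    nlinarith
  have h3 : (K + 1) ^ 3 * X * K ≤ (K * K + 2 * K - 1) * ((K * K + 2 * K) * X) := by
    zify [show 1 ≤ K * K + 2 * K by nlinarith]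
    nlinarith [Nat.mul_le_mul hq4 hq4]
  have h4 := Nat.mul_le_mul_left (K * K + 2 * K - 1) hlo
  linarith

include hQ in
/-- Values in the same square class carry the same multiplicity, and there are enough of them. -/
theorem exists_square_class {c : F} (hc : c ≠ 0) : ∃ C : Finset F, 0 ∉ C ∧
    (∀ d ∈ C, Fr.mc Ω pr d = Fr.mc Ω pr c) ∧ qF - 1 ≤ 2 * C.card ∧
      ((2 : F) = 0 → qF - 1 ≤ C.card) := by
  refine ⟨((Finset.univ : Finset F).erase 0).image fun μ => μ ^ 2 * c, ?_, ?_, ?_, ?_⟩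
  · intro h
    obtain ⟨μ, hμ, h0⟩ := Finset.mem_image.1 h
    exact mul_ne_zero (pow_ne_zero _ (Finset.mem_erase.1 hμ).1) hc h0
  · intro d hd
    obtain ⟨μ, hμ, rfl⟩ := Finset.mem_image.1 hd
    exact Fr.mc_mul_sq pr hQ (Finset.mem_erase.1 hμ).1
  · rw [← Finset.card_univ, ← Finset.card_erase_of_mem (Finset.mem_univ (0 : F))]
    refine Finset.card_le_mul_card_image _ 2 fun d hd => ?_
    obtain ⟨μ, -, rfl⟩ := Finset.mem_image.1 hd
    refine le_trans (Finset.card_le_card (t := {μ, -μ}) fun ν hν => ?_) Finset.card_le_two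
    rcases sq_eq_sq_iff_eq_or_eq_neg.1 (mul_right_cancel₀ hc (Finset.mem_filter.1 hν).2) with h | h
    · simp [h]
    · simp [h]
  · intro h2
    rw [Finset.card_image_of_injective, Finset.card_erase_of_mem (Finset.mem_univ _),
      Finset.card_univ]
    intro μ ν h
    rcases sq_eq_sq_iff_eq_or_eq_neg.1 (mul_right_cancel₀ hc h) with h | h
    · exact h
    · rw [h, eq_comm, ← add_eq_zero_iff_eq_neg, ← two_mul, h2, zero_mul]

include hQ hpr hq4 hsmall in
theorem mc_nonsingular_lt [Nonempty Ω] {c : F} (hc : c ≠ 0) :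
    Fr.mc Ω pr c < p ∨ Fr.mc Ω pr c ≤ 1 := by
  obtain ⟨X, S0, hX, hS1, hS, -, hup, hW, hlo, hV⟩ := Fr.numerics
  obtain ⟨C, hC0, hCmc, hC2, hC1⟩ := Fr.exists_square_class (Ω := Ω) pr hQ hc
  have h := Fr.sum_mc_le (Ω := Ω) pr hQ hpr C
  rw [Finset.sum_congr rfl fun d hd => by rw [hCmc d hd], ← Finset.sum_mul] at h
  have hsum : C.card * ((qF * qF - 1) * X) ≤ ∑ d ∈ C, ((vals Q Fr.W d).erase 0).card := by
    rw [← smul_eq_mul, ← Finset.sum_const]
    refine Finset.sum_le_sum fun d hd => ?_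
    rw [Finset.erase_eq_of_notMem fun h0 => (by
      have := (mem_vals.1 h0).2
      rw [QuadraticMap.map_zero] at this
      exact hC0 (this ▸ hd))]
    exact hlo d
  obtain ⟨k, hk⟩ : ∃ k, k = Fr.mc Ω pr c := ⟨_, rfl⟩
  rw [← hk] at h ⊢
  have hX0 : 0 < X := by rw [hX]; positivity
  unfold Small at hsmall
  rw [hV] at hsmall
  obtain ⟨K, hK⟩ : ∃ K, qF = K + 1 := ⟨qF - 1, by omega⟩
  rw [hK] at hsmall hup hW hsum hC1 hC2 hq4
  simp only [Nat.add_sub_cancel] at hsmall hC1 hC2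
  have e : (K + 1) * (K + 1) - 1 = K * K + 2 * K := by
    rw [show (K + 1) * (K + 1) = K * K + 2 * K + 1 by ring, Nat.add_sub_cancel]
  have e' : (K + 1) * (K + 1) + (K + 1) - 1 = K * K + 3 * K + 1 := by
    rw [show (K + 1) * (K + 1) + (K + 1) = K * K + 3 * K + 1 + 1 by ring, Nat.add_sub_cancel]
  rw [e] at hsum
  rw [e'] at hup
  by_cases h2 : (2 : F) = 0
  · -- even characteristic
    refine Or.inr ?_
    by_contra! hk2
    have hall : ∑ d ∈ C, ((vals Q Fr.W d).erase 0).card + (vals Q Fr.W 0).card = (elts Fr.W).card := by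
      have hCeq : C = (Finset.univ : Finset F).erase 0 := by
        refine Finset.eq_of_subset_of_card_le (fun d hd => Finset.mem_erase.2
          ⟨fun h0 => hC0 (h0 ▸ hd), Finset.mem_univ _⟩) ?_
        rw [Finset.card_erase_of_mem (Finset.mem_univ _), Finset.card_univ, hK, Nat.add_sub_cancel]
        exact hC1 h2
      rw [hCeq, ← sum_vals, ← Finset.sum_erase_add _ _ (Finset.mem_univ (0 : F))]
      refine congrArg (· + _) (Finset.sum_congr rfl fun d hd => ?_)
      rw [Finset.erase_eq_of_notMem fun h0 => (Finset.mem_erase.1 hd).1 (by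
        have := (mem_vals.1 h0).2
        rw [QuadraticMap.map_zero] at this
        exact this.symm)]
    rw [hW, hS1] at hall
    exact arith_even (by omega) hsmall hup hall
      (le_trans (Nat.add_le_add_left (Nat.mul_le_mul_left _ hk2) _) h)
  · -- odd characteristic
    refine Or.inl ?_
    have hp3 : 3 ≤ p ∧ (p = 3 → 8 ≤ K) ∧ (p ≠ 3 → 5 ≤ p) := by
      have hp := (Fact.out : p.Prime)
      have hp2 : p ≠ 2 := fun hp2 => h2 (by
        subst hp2
        exact CharTwo.two_eq_zero)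
      have h4 : ¬ p = 4 := fun h => by rw [h] at hp; norm_num at hp
      refine ⟨by have := hp.two_le; omega, fun h3 => ?_, fun h3 => by have := hp.two_le; omega⟩
      subst h3
      obtain ⟨⟨n, hn1⟩, -, hn⟩ := FiniteField.card F 3
      simp only [PNat.mk_coe] at hn
      rw [hK] at hn
      rcases (show n = 1 ∨ 2 ≤ n by omega) with rfl | hn2
      · omega
      · have := Nat.pow_le_pow_right (show 0 < 3 by norm_num) hn2
        omega
    by_contra! hkp
    have hK4 : 4 ≤ K := by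
      have hne : qF ≠ 4 := fun h4 => h2 (by
        have h' : ringChar F = 2 := by
          by_contra hne
          have := FiniteField.odd_card_of_char_ne_two hne
          omega
        have := ringChar.eq_iff.1 h'
        exact CharTwo.two_eq_zero)
      omega
    refine arith_odd ?_ hsmall hup ((Nat.mul_le_mul_right _ hC2).trans
      (le_of_eq_of_le (mul_assoc _ _ _) (Nat.mul_le_mul_left _ hsum))) h
    by_cases h3 : p = 3
    · exact Or.inl ⟨hp3.2.1 h3, by omega⟩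
    · exact Or.inr ⟨hK4, by have := hp3.2.2 h3; omega⟩

include hQ hpr hq4 hsmall in
/-- The kinds of orbits. -/
theorem orbit_kinds [Nonempty Ω] (hn : 7 ≤ Fintype.card ι) (y : Fr.Orb Ω) :
    Fr.Reg pr y ∨ Fr.Lin pr y ∨ (Fr.IsFlat pr y ∧
      ∃ v ∈ Fr.lab pr y, v ≠ 0 ∧ ∃ z ∈ Fr.lab pr y, ∀ c : F, z ≠ c • v) := by
  have hm := Fr.mc_zero_le pr hQ hpr hq4 hsmall
  have hm' : Fr.mc Ω pr 0 ≤ qF ^ (nι - 6) + 1 :=
    hm.trans (Nat.succ_le_succ (Nat.le_self_pow (by omega) _))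
  have hns : ∀ u ∈ Fr.lab pr y, Q u ≠ 0 → ∀ s ∈ Fr.W, Q s = 0 → 𝔅 u s = 0 →
      ∃ w ∈ Fr.W, ∃ w' ∈ Fr.W, 𝔅 s w = 0 ∧ 𝔅 s w' = 0 ∧ 𝔅 w w' = 1 ∧
        (∀ c : F, Fr.sh (rt Q s (c • w)) y = y) ∧ Fr.sh (rt Q s w') y = y := by
    intro u hu hu0 s hs hsq hus
    obtain ⟨w, hw, w', hw', huw, hsw, huw', hsw', hww'⟩ := Fr.exists_pair_perp hQ hn u s
    have hmult : Fr.mult (Ω := Ω) pr u < p ∨ Fr.mult (Ω := Ω) pr u ≤ 1 := by
      rw [Fr.mult_eq_mc pr hQ hu.1 fun h => hu0 (by rw [h, QuadraticMap.map_zero])]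
      exact Fr.mc_nonsingular_lt pr hQ hpr hq4 hsmall hu0
    refine ⟨w, hw, w', hw', hsw, hsw', hww', fun c => ?_,
      Fr.root_fix_nonsingular pr hmult hu hs hsq hw' hsw' hus huw'⟩
    exact Fr.root_fix_nonsingular pr hmult hu hs hsq (Fr.W.smul_mem c hw)
      (by rw [QuadraticMap.polar_smul_right, hsw, smul_zero]) hus
      (by rw [QuadraticMap.polar_smul_right, huw, smul_zero])
  rcases Fr.lab_trichotomy pr hQ hn
    (fun v hv hv0 hq w hw hvw => Fr.root_fix_singular pr hQ hpr hn hm' hv hv0 hq hw hvw) hns with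
    h | h | ⟨h1, h2, h3⟩
  · exact Or.inl h
  · exact Or.inr (Or.inl h)
  · exact Or.inr (Or.inr ⟨⟨h1, h2⟩, h3⟩)

end transitive

end Frame

end CfsgLib.MinDegree.Orth
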