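import Cfsg.Agent.MinDegree.OrthRegular

/-!
# No action with one regular orbit only, over a field of two or three elements

With a single regular orbit the complement of the root group at `e` acts by affine maps. A root
element in it that has a fixed point contradicts regularity: it is found either by writing it as a
commutator inside the stabilisers of enough vectors, or with an element of order prime to the
characteristic that commutes with it.
-/

set_option autoImplicit false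
set_option linter.unusedSectionVars false

namespace CfsgLib.MinDegree.Orth

open Matrix Module CfsgLib.Spinor CfsgLib.Forms CfsgLib.Forms4 CfsgLib.OrthMax
open scoped Classical commutatorElement

variable {F : Type*} [Field F] {ι : Type} [Fintype ι] [DecidableEq ι] {Q : QuadraticForm F (ι → F)}
  [Fintype F]

set_option quotPrecheck false in
local notation "𝔅" => QuadraticMap.polar (⇑Q)
local notation "qF" => Fintype.card F
local notation "nι" => Fintype.card ι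

namespace Frame

variable (Fr : Frame Q) {Ω : Type*} [MulAction (EG Q) Ω] [Fintype Ω] {p : ℕ} (pr : F →+ ZMod p)
  (hQ : (QuadraticMap.polarBilin Q).Nondegenerate) [Fact p.Prime] [CharP F p] (hpr : pr ≠ 0)

/-- The displacements of a base point in a single regular orbit. -/
structure Cocycle (x₀ : Ω) (τ : EG Q → ι → F) : Prop where
  mem : ∀ g, τ g ∈ Fr.W
  spec : ∀ g, rt Q Fr.e (τ g) • x₀ = g • x₀
  uniq : ∀ {w w'}, w ∈ Fr.W → w' ∈ Fr.W → rt Q Fr.e w • x₀ = rt Q Fr.e w' • x₀ → w = w'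
  mul : ∀ g ∈ Fr.Lev, ∀ h, τ (g * h) = τ g + mv g (τ h)

variable (hone : (Fr.regs (Ω := Ω) pr).card ≤ 1) (hall : ∀ y : Fr.Orb Ω, Fr.Reg pr y)

include hQ hpr hone hall in
theorem exists_cocycle (x₀ : Ω) : ∃ τ, Fr.Cocycle x₀ τ := by
  have hregs : Fr.regs (Ω := Ω) pr = Finset.univ := Finset.filter_true_of_mem fun y _ => hall y
  have hτ : ∀ g : EG Q, ∃ w, w ∈ Fr.W ∧ rt Q Fr.e w • x₀ = g • x₀ := fun g => by
    obtain ⟨w, hw, h⟩ := Fr.cls_eq_iff.1 (Finset.card_le_one.1 (hregs ▸ hone) (Fr.cls x₀)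
      (Finset.mem_univ _) (Fr.cls (g • x₀)) (Finset.mem_univ _))
    exact ⟨w, hw, h⟩
  choose τ hτW hτe using hτ
  have huniq : ∀ {w w'}, w ∈ Fr.W → w' ∈ Fr.W →
      rt Q Fr.e w • x₀ = rt Q Fr.e w' • x₀ → w = w' := by
    intro w w' hw hw' h
    refine (sub_eq_zero.1 (Fr.kst_eq_zero_of_reg pr hQ hpr (hall _) (x := x₀)
      ⟨sub_mem hw' hw, ?_⟩)).symm
    refine smul_left_cancel (rt Q Fr.e w) ?_
    rw [← mul_smul, Fr.rtE_mul hw (sub_mem hw' hw), add_sub_cancel, h]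
  refine ⟨τ, hτW, hτe, huniq, fun g hg h => ?_⟩
  have hgh := Fr.mv_mem_W hg (hτW h)
  refine huniq (hτW _) (add_mem (hτW g) hgh) ?_
  rw [hτe, mul_smul, ← hτe h, Scales.smul_rtE Fr (Fr.scales_of_lev hg) (hτW h), one_smul, ← hτe g,
    ← mul_smul, Fr.rtE_mul hgh (hτW g), add_comm]

include hQ hpr hall in
/-- A root element at `a` has no fixed point. -/
theorem not_fix_a {u : ι → F} (hau : 𝔅 Fr.a u = 0) (hne : ∀ c : F, u ≠ c • Fr.a) (x : Ω) :
    rt Q Fr.a u • x ≠ x := by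
  intro hfix
  obtain ⟨g, t', -, x', hx', hx'0, -, hg⟩ := Fr.exists_conj_rtE hQ Fr.qa hau hne (fun h => by
    have := Fr.aa'
    rw [h, QuadraticMap.polar_zero_left] at this
    exact zero_ne_one this)
  refine hx'0 (Fr.kst_eq_zero_of_reg pr hQ hpr (hall _) (x := g • x) ⟨hx', ?_⟩)
  rw [← hg, mul_smul, mul_smul, inv_smul_smul, hfix]

namespace Cocycle

variable {Fr} {x₀ : Ω} {τ : EG Q → ι → F} (hc : Fr.Cocycle x₀ τ)

include hc in
theorem one : τ 1 = 0 := by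
  have := hc.mul 1 (one_mem _) 1
  rw [one_mul, mv_one] at this
  exact left_eq_add.1 this

include hc in
theorem coord_mul {z : ι → F} {g : EG Q} (hg : g ∈ Fr.Lev) (hgz : mv g z = z) (h : EG Q) :
    𝔅 z (τ (g * h)) = 𝔅 z (τ g) + 𝔅 z (τ h) := by
  rw [hc.mul g hg, QuadraticMap.polar_add_right]
  congr 1
  conv_lhs => rw [← hgz, polar_mv]

include hc in
theorem coord_inv {z : ι → F} {g : EG Q} (hg : g ∈ Fr.Lev) (hgz : mv g z = z) :
    𝔅 z (τ g⁻¹) = -𝔅 z (τ g) := by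
  have := hc.coord_mul hg hgz g⁻¹
  rw [mul_inv_cancel, hc.one, QuadraticMap.polar_zero_right] at this
  linear_combination -this

include hc in
theorem coord_commutator {z : ι → F} {g h : EG Q} (hg : g ∈ Fr.Lev) (hgz : mv g z = z)
    (hh : h ∈ Fr.Lev) (hhz : mv h z = z) : 𝔅 z (τ ⁅g, h⁆) = 0 := by
  have hgz' : mv g⁻¹ z = z := by conv_lhs => rw [← hgz, mv_inv_mv]
  rw [commutatorElement_def,
    hc.coord_mul (mul_mem (mul_mem hg hh) (inv_mem hg)) (by rw [mv_mul, mv_mul, hgz', hhz, hgz]),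
    hc.coord_mul (mul_mem hg hh) (by rw [mv_mul, hhz, hgz]), hc.coord_mul hg hgz,
    hc.coord_inv hg hgz, hc.coord_inv hh hhz]
  ring

include hc in
/-- A displacement in the image gives a fixed point. -/
theorem fixed {g : EG Q} (hg : g ∈ Fr.Lev) {w : ι → F} (hw : w ∈ Fr.W)
    (h : mv g w + τ g = w) : g • rt Q Fr.e w • x₀ = rt Q Fr.e w • x₀ := by
  rw [Scales.smul_rtE Fr (Fr.scales_of_lev hg) hw, one_smul, ← hc.spec g, ← mul_smul,
    Fr.rtE_mul (Fr.mv_mem_W hg hw) (hc.mem g), h]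

end Cocycle

variable [MulAction.IsPretransitive (EG Q) Ω] [Nontrivial Ω] (hn : 7 ≤ Fintype.card ι)

include hQ hpr hone hall hn in
/-- Enough pairs: the long root element `rt a b` gets a fixed point. -/
theorem regular_false_of_pairs (hpair : ∀ z ∈ Fr.W3, ∃ u ∈ Fr.W3, ∃ y ∈ Fr.W3,
    𝔅 z u = 0 ∧ 𝔅 z y = 0 ∧ 𝔅 u y = 1) : False := by
  obtain ⟨x₀⟩ := (inferInstance : Nonempty Ω)
  obtain ⟨τ, hc⟩ := Fr.exists_cocycle pr hQ hpr hone hall x₀
  set ρ := rt Q Fr.a Fr.b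
  have hρL := Fr.rt_mem_Lev Fr.a_mem Fr.qa Fr.b_mem Fr.ab
  have hcoord : ∀ z, 𝔅 Fr.a z = 0 → 𝔅 Fr.b z = 0 →
      (∃ u ∈ Fr.W3, ∃ y ∈ Fr.W3, 𝔅 z u = 0 ∧ 𝔅 z y = 0 ∧ 𝔅 u y = 1) → 𝔅 z (τ ρ) = 0 := by
    rintro z haz hbz ⟨u, hu, y, hy, hzu, hzy, huy⟩
    obtain ⟨hu2, hbu, -⟩ := Fr.mem_W3.1 hu
    obtain ⟨huW, hau, -⟩ := Fr.mem_W2.1 hu2
    obtain ⟨hy2, hby, -⟩ := Fr.mem_W3.1 hy
    obtain ⟨hyW, hay, -⟩ := Fr.mem_W2.1 hy2
    have hbu' : 𝔅 u Fr.b = 0 := by rw [QuadraticMap.polar_comm, hbu]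
    have hcomm : ρ = ⁅rt Q Fr.a u, rt Q Fr.b y⁆ := by
      have h1 : 𝔅 Fr.b (y - Fr.a) = 0 := by
        rw [QuadraticMap.polar_sub_right, hby, Fr.ba, sub_zero]
      rw [rt_commutator Fr.qb hby, mv_rt_perp Fr.qa hau Fr.ab, mv_rt_perp Fr.qa hau hay, hbu',
        huy, zero_smul, sub_zero, one_smul, rt_mul Fr.qb h1
          (by rw [QuadraticMap.polar_neg_right, hby, neg_zero]),
        show y - Fr.a + -y = -Fr.a by module]
      exact rt_swap Fr.qa Fr.qb Fr.ab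
    rw [hcomm]
    exact hc.coord_commutator (Fr.rt_mem_Lev Fr.a_mem Fr.qa huW hau)
      (mv_rt_fix Fr.qa hau haz (by rw [QuadraticMap.polar_comm, hzu]))
      (Fr.rt_mem_Lev Fr.b_mem Fr.qb hyW hby)
      (mv_rt_fix Fr.qb hby hbz (by rw [QuadraticMap.polar_comm, hzy]))
  have hperp3 : ∀ {v}, v = Fr.a ∨ v = Fr.b → ∀ x ∈ Fr.W3, 𝔅 v x = 0 := fun hv x hx => by
    obtain ⟨hx2, hbx, -⟩ := Fr.mem_W3.1 hx
    rcases hv with rfl | rfl
    · exact (Fr.mem_W2.1 hx2).2.1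
    · exact hbx
  obtain ⟨u₀, hu₀, y₀, hy₀, -, -, huy₀⟩ := hpair 0 (zero_mem _)
  have ha := hcoord Fr.a Fr.aa Fr.ba
    ⟨u₀, hu₀, y₀, hy₀, hperp3 (Or.inl rfl) _ hu₀, hperp3 (Or.inl rfl) _ hy₀, huy₀⟩
  have hb := hcoord Fr.b Fr.ab Fr.bb
    ⟨u₀, hu₀, y₀, hy₀, hperp3 (Or.inr rfl) _ hu₀, hperp3 (Or.inr rfl) _ hy₀, huy₀⟩
  set t := τ ρ with ht
  obtain ⟨t2, ht2, htd⟩ := Fr.exists_decomp (hc.mem ρ)
  rw [← ht, ha, zero_smul, add_zero] at htd
  obtain ⟨-, hat2, -⟩ := Fr.mem_W2.1 ht2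
  have hbt2 : 𝔅 Fr.b t2 = 0 := by
    have := hb
    rw [htd, QuadraticMap.polar_add_right, QuadraticMap.polar_smul_right, Fr.ba, smul_zero,
      zero_add] at this
    exact this
  have ht3 : t2 = 𝔅 Fr.b' t2 • Fr.b := by
    refine sub_eq_zero.1 (Fr.sepW3 hQ _ ⟨sub_mem ht2 (Fr.W2.smul_mem _ Fr.b_mem2),
      mem_perp2.2 ⟨?_, ?_⟩⟩ fun z hz => ?_)
    · simp [QuadraticMap.polar_sub_right, QuadraticMap.polar_smul_right, hbt2, Fr.qb]
    · simp [QuadraticMap.polar_sub_right, QuadraticMap.polar_smul_right, Fr.b'b]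
    · have haz := hperp3 (Or.inl rfl) z hz
      have hbz := hperp3 (Or.inr rfl) z hz
      have := hcoord z haz hbz (hpair z hz)
      rw [htd, QuadraticMap.polar_add_right, QuadraticMap.polar_smul_right,
        QuadraticMap.polar_comm (⇑Q) z Fr.a, haz, smul_zero, zero_add] at this
      rw [QuadraticMap.polar_sub_left, QuadraticMap.polar_smul_left, hbz, smul_zero, sub_zero,
        QuadraticMap.polar_comm, this]
  set w := -𝔅 Fr.b' t2 • Fr.a' + 𝔅 Fr.a' t • Fr.b' with hw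
  have hwW : w ∈ Fr.W := add_mem (Fr.W.smul_mem _ Fr.a'_mem) (Fr.W.smul_mem _ Fr.b'_mem)
  have hρw : mv ρ w + t = w := by
    have htt : t = 𝔅 Fr.a' t • Fr.a + 𝔅 Fr.b' t2 • Fr.b := by rw [← ht3, ← htd]
    rw [mv_rt Fr.qa Fr.ab, Fr.qb, hw]
    simp only [QuadraticMap.polar_add_right, QuadraticMap.polar_smul_right, Fr.aa', Fr.ab', Fr.ba',
      Fr.bb', smul_eq_mul]
    linear_combination (norm := module) htt
  exact Fr.not_fix_a pr hQ hpr hall Fr.ab (fun c h => by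
    have := congrArg (𝔅 Fr.b') h
    simp [QuadraticMap.polar_smul_right, Fr.b'b, Fr.b'a] at this) _ (hc.fixed hρL hwW hρw)

include hQ hpr hone hall hn in
/-- An element of order prime to the characteristic: a short root element `rt a u` gets a fixed
point. -/
theorem regular_false_of_elem (h23 : (2 : F) = 0 ∨ (3 : F) = 0) {u : ι → F} (hu : u ∈ Fr.W2) (hu0 : Q u ≠ 0) {h : EG Q}
    (hh : h ∈ Fr.Lev) (ha : mv h Fr.a = Fr.a) (hhu : mv h u = u) {k : ℕ} (hk : h ^ k = 1)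
    (hkF : (k : F) ≠ 0)
    (hfix : ∀ z ∈ Fr.W, mv h z = z → 𝔅 Fr.a z = 0 → ((2 : F) = 0 → 𝔅 u z = 0) →
      ∃ α γ : F, z = α • Fr.a + γ • u) : False := by
  obtain ⟨huW, hau, -⟩ := Fr.mem_W2.1 hu
  obtain ⟨x₁⟩ := (inferInstance : Nonempty Ω)
  obtain ⟨τ₁, hc₁⟩ := Fr.exists_cocycle pr hQ hpr hone hall x₁
  -- a fixed point of `h`, the centre of an orbit
  set S := ∑ j ∈ Finset.range k, τ₁ (h ^ j) with hS
  set w := (k : F)⁻¹ • S
  have hwW : w ∈ Fr.W := Fr.W.smul_mem _ (Submodule.sum_mem _ fun j _ => hc₁.mem _)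
  have hhw : mv h w + τ₁ h = w := by
    have h1 : mv h S + (k : F) • τ₁ h = S := by
      have hsum : ∀ (m : ℕ), mv h (∑ j ∈ Finset.range m, τ₁ (h ^ j)) + (m : F) • τ₁ h =
          ∑ j ∈ Finset.range m, τ₁ (h ^ (j + 1)) := by
        intro m
        induction m with
        | zero => simp
        | succ m ih =>
          rw [Finset.sum_range_succ, Finset.sum_range_succ, mv_add, ← ih, Nat.cast_add, Nat.cast_one,
            add_smul, one_smul, pow_succ' h m, hc₁.mul h hh]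
          abel
      rw [hS, hsum]
      have h0 := Finset.sum_range_succ' (fun j => τ₁ (h ^ j)) k
      rw [Finset.sum_range_succ, hk, pow_zero, hc₁.one, add_zero, add_zero] at h0
      exact h0.symm
    rw [mv_smul]
    conv_rhs => rw [show w = (k : F)⁻¹ • S from rfl, ← h1]
    rw [smul_add, inv_smul_smul₀ hkF]
  obtain ⟨x₀, hx₀⟩ : ∃ x : Ω, h • x = x := ⟨_, hc₁.fixed hh hwW hhw⟩
  obtain ⟨τ, hc⟩ := Fr.exists_cocycle pr hQ hpr hone hall x₀
  have hτh : τ h = 0 := hc.uniq (hc.mem h) (zero_mem _)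
    (by rw [hc.spec, hx₀, rt_zero Fr.qe, one_smul])
  set σ := rt Q Fr.a u
  have hσL : σ ∈ Fr.Lev := Fr.rt_mem_Lev Fr.a_mem Fr.qa huW hau
  have hcomm : h * σ = σ * h := by
    rw [← mul_inv_eq_iff_eq_mul, rt_conj h Fr.qa hau, ha, hhu]
  set t := τ σ with ht
  have htW : t ∈ Fr.W := hc.mem σ
  have hht : mv h t = t := by
    have h1 := hc.mul h hh σ
    rw [hcomm, hc.mul σ hσL h, hτh, mv_zero, add_zero, zero_add] at h1
    exact h1.symm
  -- coordinates, from the order of `σ`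
  have hua' : 𝔅 u Fr.a' = 0 := by rw [QuadraticMap.polar_comm, (Fr.mem_W2.1 hu).2.2]
  have hua : 𝔅 u Fr.a = 0 := by rw [QuadraticMap.polar_comm, hau]
  have huu : 𝔅 u u = 2 * Q u := polar_self' Q u
  have hσ : ∀ x : ι → F,
      mv σ x = x + (𝔅 Fr.a x • u - 𝔅 u x • Fr.a - (Q u * 𝔅 Fr.a x) • Fr.a) :=
    fun x => mv_rt Fr.qa hau x
  have hord : 𝔅 Fr.a t = 0 ∧ ((2 : F) = 0 → 𝔅 u t = 0) := by
    rcases h23 with h2 | h3
    · have hsq : σ * σ = 1 := by
        rw [rt_mul Fr.qa hau hau, ← two_smul F u, h2, zero_smul, rt_zero Fr.qa]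
      have h1 := hc.mul σ hσL σ
      rw [hsq, hc.one, ← ht, hσ] at h1
      obtain ⟨v, hv, hvu⟩ : ∃ v ∈ Fr.W2, 𝔅 v u ≠ 0 := by
        by_contra! h0
        exact hu0 (by rw [Fr.sepW2 hQ u hu fun w hw => by
          rw [QuadraticMap.polar_comm]; exact h0 w hw, QuadraticMap.map_zero])
      have hva : 𝔅 v Fr.a = 0 := by rw [QuadraticMap.polar_comm, (Fr.mem_W2.1 hv).2.1]
      have h4 := congrArg (𝔅 v) h1
      simp only [QuadraticMap.polar_zero_right, QuadraticMap.polar_add_right,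
        QuadraticMap.polar_sub_right, QuadraticMap.polar_smul_right, hva, smul_eq_mul] at h4
      have hat : 𝔅 Fr.a t = 0 := by
        refine (mul_eq_zero.1 (?_ : 𝔅 Fr.a t * 𝔅 v u = 0)).resolve_right hvu
        linear_combination -h4 - 𝔅 v t * h2
      refine ⟨hat, fun _ => ?_⟩
      have h5 := congrArg (𝔅 Fr.a') h1
      simp only [QuadraticMap.polar_zero_right, QuadraticMap.polar_add_right,
        QuadraticMap.polar_sub_right, QuadraticMap.polar_smul_right, hat, Fr.a'a,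
        smul_eq_mul] at h5
      linear_combination h5 + 𝔅 Fr.a' t * h2
    · have hcube : σ * (σ * σ) = 1 := by
        rw [rt_mul Fr.qa hau hau, rt_mul Fr.qa hau
          (by rw [QuadraticMap.polar_add_right, hau, add_zero]),
          show u + (u + u) = (3 : F) • u by module, h3, zero_smul, rt_zero Fr.qa]
      have h1 := hc.mul σ hσL (σ * σ)
      rw [hcube, hc.one, hc.mul σ hσL σ, ← ht, hσ, hσ] at h1
      have h5 := congrArg (𝔅 Fr.a') h1
      simp only [QuadraticMap.polar_zero_right, QuadraticMap.polar_add_right,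
        QuadraticMap.polar_sub_right, QuadraticMap.polar_smul_right,
        QuadraticMap.polar_comm (⇑Q) Fr.a' u, hua', hua, huu, hau, Fr.aa, Fr.a'a,
        smul_eq_mul] at h5
      refine ⟨?_, fun h2 => absurd (show (1 : F) = 0 by linear_combination h3 - h2) one_ne_zero⟩
      refine (mul_eq_zero.1 (?_ : 𝔅 Fr.a t * Q u = 0)).resolve_right hu0
      linear_combination -h5 + (-𝔅 Fr.a' t + 𝔅 u t + 2 * Q u * 𝔅 Fr.a t) * h3
  obtain ⟨hat, hut⟩ := hord
  obtain ⟨α, γ, htd⟩ := hfix t htW hht hat hut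
  -- a preimage
  obtain ⟨v, hv, hvu⟩ : ∃ v ∈ Fr.W2, 𝔅 u v = 1 := by
    obtain ⟨v, hv, hne⟩ : ∃ v ∈ Fr.W2, 𝔅 u v ≠ 0 := by
      by_contra! h0
      exact hu0 (by rw [Fr.sepW2 hQ u hu h0, QuadraticMap.map_zero])
    exact ⟨_, Fr.W2.smul_mem (𝔅 u v)⁻¹ hv,
      by rw [QuadraticMap.polar_smul_right, smul_eq_mul, inv_mul_cancel₀ hne]⟩
  obtain ⟨hvW, hav, -⟩ := Fr.mem_W2.1 hv
  set w' := (-γ) • Fr.a' + (α + γ * Q u) • v
  have hw'W : w' ∈ Fr.W := add_mem (Fr.W.smul_mem _ Fr.a'_mem) (Fr.W.smul_mem _ hvW)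
  have hσw : mv σ w' + t = w' := by
    have hua' : 𝔅 u Fr.a' = 0 := by
      rw [QuadraticMap.polar_comm, (Fr.mem_W2.1 hu).2.2]
    rw [mv_rt Fr.qa hau, htd]
    simp only [w', QuadraticMap.polar_add_right, QuadraticMap.polar_smul_right, Fr.aa', hav, hua',
      hvu, smul_eq_mul]
    module
  exact Fr.not_fix_a pr hQ hpr hall hau (fun c hcu => hu0 (by
    rw [hcu, QuadraticMap.map_smul, Fr.qa, smul_zero])) _ (hc.fixed hσL hw'W hσw)

end Frame

end CfsgLib.MinDegree.Orth
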