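import Cfsg.Agent.MinDegree.OrthTorus

/-!
# Vectors of a given value in the spaces of a frame

`vals Q S c` are the vectors of value `c` of `S`. Splitting off a hyperbolic pair gives a recursion
for their numbers.
-/

set_option autoImplicit false
set_option linter.unusedSectionVars false

namespace CfsgLib.MinDegree.Orth

open Matrix Module CfsgLib.Spinor CfsgLib.Forms CfsgLib.Forms4 CfsgLib.OrthMax
open scoped Classical

variable {F : Type*} [Field F] {ι : Type} [Fintype ι] [DecidableEq ι] {Q : QuadraticForm F (ι → F)}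
  [Fintype F]

set_option quotPrecheck false in
local notation "𝔅" => QuadraticMap.polar (⇑Q)
local notation "qF" => Fintype.card F

/-- The vectors of a subspace. -/
noncomputable def elts (S : Submodule F (ι → F)) : Finset (ι → F) := Finset.univ.filter (· ∈ S)

variable (Q) in
/-- The vectors of value `c` in a subspace. -/
noncomputable def vals (S : Submodule F (ι → F)) (c : F) : Finset (ι → F) :=
  (elts S).filter fun x => Q x = c

theorem mem_elts {S : Submodule F (ι → F)} {x : ι → F} : x ∈ elts S ↔ x ∈ S := by simp [elts]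

theorem mem_vals {S : Submodule F (ι → F)} {c : F} {x : ι → F} :
    x ∈ vals Q S c ↔ x ∈ S ∧ Q x = c := by simp [vals, mem_elts]

theorem two_le_q : 2 ≤ qF := Fintype.one_lt_card

theorem sum_vals (S : Submodule F (ι → F)) : ∑ c, (vals Q S c).card = (elts S).card :=
  (Finset.card_eq_sum_card_fiberwise (fun _ _ => Finset.mem_univ _)).symm

/-- Splitting off a hyperbolic pair. -/
theorem card_split {S : Submodule F (ι → F)} {x y : ι → F} (hx : x ∈ S) (hy : y ∈ S)
    (qx : Q x = 0) (qy : Q y = 0) (hxy : 𝔅 x y = 1) :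
    (elts S).card = qF ^ 2 * (elts (S ⊓ perp2 Q x y)).card ∧ ∀ c, (vals Q S c).card =
      (qF - 1) * (elts (S ⊓ perp2 Q x y)).card + qF * (vals Q (S ⊓ perp2 Q x y) c).card := by
  set T := S ⊓ perp2 Q x y with hT
  have hyx : 𝔅 y x = 1 := by rw [QuadraticMap.polar_comm, hxy]
  have hq : ∀ (α β : F) z, z ∈ T → Q (α • x + β • y + z) = α * β + Q z := by
    intro α β z hz
    rw [QuadraticMap.map_add (⇑Q), QuadraticMap.map_add (⇑Q), QuadraticMap.map_smul,
      QuadraticMap.map_smul, qx, qy, QuadraticMap.polar_add_left, QuadraticMap.polar_smul_left,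
      QuadraticMap.polar_smul_left, QuadraticMap.polar_smul_left, QuadraticMap.polar_smul_right,
      hxy, (mem_perp2.1 hz.2).1, (mem_perp2.1 hz.2).2]
    simp
  have hα : ∀ (α β : F) z, z ∈ T → 𝔅 y (α • x + β • y + z) = α ∧ 𝔅 x (α • x + β • y + z) = β := by
    intro α β z hz
    simp [QuadraticMap.polar_add_right, QuadraticMap.polar_smul_right, qx, qy,
      hxy, hyx, show 𝔅 x z = 0 from hz.2.1, show 𝔅 y z = 0 from hz.2.2]
  have hbij : ∀ p : (F × F) × (ι → F) → Prop, ((Finset.univ ×ˢ elts T).filter p).card =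
      ((elts S).filter fun v =>
        p ((𝔅 y v, 𝔅 x v), v - 𝔅 y v • x - 𝔅 x v • y)).card := by
    intro p
    refine Finset.card_bij' (fun t _ => t.1.1 • x + t.1.2 • y + t.2)
      (fun v _ => ((𝔅 y v, 𝔅 x v), v - 𝔅 y v • x - 𝔅 x v • y)) ?_ ?_ ?_ ?_
    · rintro ⟨⟨α, β⟩, z⟩ ht
      simp only [Finset.mem_filter, Finset.mem_product, mem_elts, Finset.mem_univ, true_and] at ht ⊢
      refine ⟨S.add_mem (S.add_mem (S.smul_mem _ hx) (S.smul_mem _ hy)) ht.1.1, ?_⟩
      rw [(hα α β z ht.1).1, (hα α β z ht.1).2]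
      convert ht.2 using 3
      module
    · intro v hv
      simp only [Finset.mem_filter, Finset.mem_product, mem_elts, Finset.mem_univ, true_and] at hv ⊢
      refine ⟨⟨S.sub_mem (S.sub_mem hv.1 (S.smul_mem _ hx)) (S.smul_mem _ hy),
        mem_perp2.2 ⟨?_, ?_⟩⟩, hv.2⟩ <;>
      simp [QuadraticMap.polar_sub_right, QuadraticMap.polar_smul_right, qx, qy,
        hxy, hyx]
    · rintro ⟨⟨α, β⟩, z⟩ ht
      simp only [Finset.mem_filter, Finset.mem_product, mem_elts, Finset.mem_univ, true_and] at ht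
      simp only [(hα α β z ht.1).1, (hα α β z ht.1).2, Prod.mk.injEq, true_and]
      module
    · intro v _
      module
  refine ⟨?_, fun c => ?_⟩
  · have := hbij fun _ => True
    rw [Finset.filter_true, Finset.filter_true, Finset.card_product, Finset.card_univ,
      Fintype.card_prod] at this
    rw [← this, sq]
  · have h0 : (vals Q S c).card =
        (((Finset.univ : Finset (F × F)) ×ˢ elts T).filter fun t : (F × F) × (ι → F) =>
          t.1.1 * t.1.2 + Q t.2 = c).card := by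
      rw [hbij, vals]
      refine congrArg Finset.card (Finset.filter_congr fun v hv => ?_)
      rw [← hq (𝔅 y v) (𝔅 x v) (v - 𝔅 y v • x - 𝔅 x v • y) ?_]
      · rw [show 𝔅 y v • x + 𝔅 x v • y + (v - 𝔅 y v • x - 𝔅 x v • y) = v by module]
      · refine ⟨S.sub_mem (S.sub_mem (mem_elts.1 hv) (S.smul_mem _ hx)) (S.smul_mem _ hy),
          mem_perp2.2 ⟨?_, ?_⟩⟩ <;>
        simp [QuadraticMap.polar_sub_right, QuadraticMap.polar_smul_right, qx, qy,
          hxy, hyx]
    rw [h0, Finset.card_filter, Finset.sum_product]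
    simp only [← Finset.card_filter]
    rw [Fintype.sum_prod_type, ← Finset.sum_erase_add _ _ (Finset.mem_univ (0 : F))]
    congr 1
    · have : ∀ α ∈ (Finset.univ : Finset F).erase 0,
          ∑ β, ((elts T).filter fun z => α * β + Q z = c).card = (elts T).card := by
        intro α hα0
        have hne : α ≠ 0 := (Finset.mem_erase.1 hα0).1
        rw [Finset.card_eq_sum_card_fiberwise (t := Finset.univ) (f := fun z => (c - Q z) / α)
          (fun _ _ => Finset.mem_univ _)]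
        refine Finset.sum_congr rfl fun β _ => congrArg Finset.card (Finset.filter_congr fun z _ => ?_)
        rw [div_eq_iff hne]
        exact ⟨fun h => by linear_combination -h, fun h => by linear_combination -h⟩
      rw [Finset.sum_congr rfl this, Finset.sum_const, Finset.card_erase_of_mem (Finset.mem_univ _),
        Finset.card_univ, smul_eq_mul]
    · simp only [zero_mul, zero_add, Finset.sum_const, Finset.card_univ, smul_eq_mul]
      rfl

namespace Frame

variable (Fr : Frame Q)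

local notation "nι" => Fintype.card ι

theorem card_top : (elts (⊤ : Submodule F (ι → F))).card = qF ^ nι := by
  simp [elts]

theorem six_le : 6 ≤ nι ∧
    (elts Fr.W).card = qF ^ (nι - 2) ∧ (elts Fr.W2).card = qF ^ (nι - 4) ∧
      (elts Fr.W3).card = qF ^ (nι - 6) := by
  have h1 := (card_split (S := ⊤) Submodule.mem_top Submodule.mem_top Fr.qe Fr.qf Fr.ef).1
  rw [← Fr.W_eq, card_top] at h1
  have h2 : (elts Fr.W).card = qF ^ 2 * (elts Fr.W2).card :=
    (card_split (S := Fr.W) Fr.a_mem Fr.a'_mem Fr.qa Fr.qa' Fr.aa').1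
  have h3 : (elts Fr.W2).card = qF ^ 2 * (elts Fr.W3).card :=
    (card_split (S := Fr.W2) Fr.b_mem2 Fr.b'_mem2 Fr.qb Fr.qb' Fr.bb').1
  rw [h2, h3, ← mul_assoc, ← mul_assoc, ← pow_add, ← pow_add] at h1
  have hq := two_le_q (F := F)
  have h6 : 6 ≤ nι := by
    refine (Nat.pow_le_pow_iff_right hq).1 ?_
    rw [h1]
    exact Nat.le_mul_of_pos_right _ (Finset.card_pos.2 ⟨0, mem_elts.2 (zero_mem _)⟩)
  have h4 : (elts Fr.W3).card = qF ^ (nι - 6) := by
    refine Nat.eq_of_mul_eq_mul_left (pow_pos (by omega : 0 < qF) 6) ?_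
    rw [← h1, ← pow_add, Nat.add_sub_cancel' h6]
  have h5 : (elts Fr.W2).card = qF ^ (nι - 4) := by
    rw [h3, h4, ← pow_add]
    congr 1
    omega
  refine ⟨h6, ?_, h5, h4⟩
  rw [h2, h5, ← pow_add]
  congr 1
  omega

theorem card_vals_top (c : F) :
    (vals Q (⊤ : Submodule F (ι → F)) c).card =
      (qF - 1) * qF ^ (nι - 2) + qF * (vals Q Fr.W c).card := by
  have := (card_split (S := ⊤) Submodule.mem_top Submodule.mem_top Fr.qe Fr.qf Fr.ef).2 c
  rwa [← Fr.W_eq, Fr.six_le.2.1] at this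

theorem card_vals_W (c : F) :
    (vals Q Fr.W c).card = (qF - 1) * qF ^ (nι - 4) + qF * (vals Q Fr.W2 c).card ∧
      (vals Q Fr.W2 c).card = (qF - 1) * qF ^ (nι - 6) + qF * (vals Q Fr.W3 c).card ∧
        (vals Q Fr.W3 c).card ≤ qF ^ (nι - 6) := by
  obtain ⟨-, -, h2, h3⟩ := Fr.six_le
  refine ⟨h2 ▸ (card_split (S := Fr.W) Fr.a_mem Fr.a'_mem Fr.qa Fr.qa' Fr.aa').2 c,
    h3 ▸ (card_split (S := Fr.W2) Fr.b_mem2 Fr.b'_mem2 Fr.qb Fr.qb' Fr.bb').2 c,
    h3 ▸ Finset.card_le_card (Finset.filter_subset _ _)⟩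

/-- Lower bound for every fibre. -/
theorem le_card_vals_W (c : F) :
    (qF - 1) * qF ^ (nι - 4) + (qF - 1) * qF ^ (nι - 5) ≤ (vals Q Fr.W c).card := by
  obtain ⟨h1, h2, -⟩ := Fr.card_vals_W c
  obtain ⟨h6, -⟩ := Fr.six_le
  rw [h1, h2, mul_add, mul_left_comm qF (qF - 1), ← pow_succ', show nι - 6 + 1 = nι - 5 by omega]
  omega

theorem card_singular_W_pos :
    (qF - 1) * qF ^ (nι - 4) + (qF - 1) * qF ^ (nι - 5) + qF ^ 2 ≤ (vals Q Fr.W 0).card := by
  obtain ⟨h1, h2, -⟩ := Fr.card_vals_W 0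
  obtain ⟨h6, -⟩ := Fr.six_le
  have h3 : 1 ≤ (vals Q Fr.W3 0).card :=
    Finset.card_pos.2 ⟨0, mem_vals.2 ⟨zero_mem _, QuadraticMap.map_zero Q⟩⟩
  rw [h1, h2, mul_add, mul_left_comm qF (qF - 1), ← pow_succ', show nι - 6 + 1 = nι - 5 by omega]
  have := Nat.mul_le_mul_left (qF * qF) h3
  rw [mul_one, mul_assoc, ← sq] at this
  omega

/-- Upper bound for the singular vectors. -/
theorem card_singular_W_le :
    (vals Q Fr.W 0).card ≤
      (qF - 1) * qF ^ (nι - 4) + (qF - 1) * qF ^ (nι - 5) + qF ^ (nι - 4) := by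
  obtain ⟨h1, h2, h3⟩ := Fr.card_vals_W 0
  obtain ⟨h6, -⟩ := Fr.six_le
  rw [h1, h2, mul_add, mul_left_comm qF (qF - 1), ← pow_succ', show nι - 6 + 1 = nι - 5 by omega]
  have := Nat.mul_le_mul_left (qF * qF) h3
  rw [mul_assoc, mul_assoc, ← pow_succ', ← pow_succ', show nι - 6 + 1 + 1 = nι - 4 by omega] at this
  omega

/-- Two vectors leave a non-isotropic common perpendicular in `W`. -/
theorem exists_pair_perp (hQ : (QuadraticMap.polarBilin Q).Nondegenerate) (hn : 7 ≤ nι)
    (u s : ι → F) : ∃ w ∈ Fr.W, ∃ w' ∈ Fr.W, 𝔅 u w = 0 ∧ 𝔅 s w = 0 ∧ 𝔅 u w' = 0 ∧ 𝔅 s w' = 0 ∧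
      𝔅 w w' = 1 := by
  set S := perpSub Q ![Fr.e, Fr.f, u, s] with hS
  have hmem : ∀ w ∈ S, w ∈ Fr.W ∧ 𝔅 u w = 0 ∧ 𝔅 s w = 0 := fun w hw =>
    ⟨⟨mem_perpSub.1 hw 0, mem_perpSub.1 hw 1⟩, mem_perpSub.1 hw 2, mem_perpSub.1 hw 3⟩
  obtain ⟨w, hw, w', hw', hne⟩ : ∃ w ∈ S, ∃ w' ∈ S, 𝔅 w w' ≠ 0 := by
    by_contra! hc
    have hdim : Fintype.card ι ≤ finrank F S + 4 := by
      have := le_finrank_perpSub Q ![Fr.e, Fr.f, u, s]
      rwa [Module.finrank_pi] at this
    have heS : Fr.e ∉ S := fun he => by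
      have := (Fr.mem_W.1 (hmem _ he).1).2
      rw [Fr.fe] at this
      exact one_ne_zero this
    have he0 : Fr.e ≠ 0 := fun h => heS (h ▸ zero_mem S)
    have hdis : Disjoint S (Submodule.span F {Fr.e}) :=
      (Submodule.disjoint_span_singleton' he0).2 heS
    have h1 := Submodule.finrank_sup_add_finrank_inf_eq S (Submodule.span F {Fr.e})
    rw [hdis.eq_bot, finrank_bot, finrank_span_singleton he0] at h1
    have hiso : S ⊔ Submodule.span F {Fr.e} ≤ qperp Q (S ⊔ Submodule.span F {Fr.e}) := by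
      intro x hx
      rw [mem_qperp]
      intro y hy
      obtain ⟨x1, hx1, x2, hx2, rfl⟩ := Submodule.mem_sup.1 hx
      obtain ⟨y1, hy1, y2, hy2, rfl⟩ := Submodule.mem_sup.1 hy
      obtain ⟨c, rfl⟩ := Submodule.mem_span_singleton.1 hx2
      obtain ⟨d, rfl⟩ := Submodule.mem_span_singleton.1 hy2
      simp [QuadraticMap.polar_add_left, QuadraticMap.polar_add_right, QuadraticMap.polar_smul_left,
        QuadraticMap.polar_smul_right, hc _ hy1 _ hx1, Fr.qe,
        QuadraticMap.polar_comm (⇑Q) y1 Fr.e, show 𝔅 Fr.e y1 = 0 from (hmem _ hy1).1.1,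
        show 𝔅 Fr.e x1 = 0 from (hmem _ hx1).1.1]
    have h2 := Submodule.finrank_mono hiso
    rw [finrank_qperp hQ] at h2
    omega
  obtain ⟨hwW, huw, hsw⟩ := hmem w hw
  obtain ⟨hwW', huw', hsw'⟩ := hmem w' hw'
  exact ⟨w, hwW, (𝔅 w w')⁻¹ • w', Fr.W.smul_mem _ hwW', huw, hsw,
    by rw [QuadraticMap.polar_smul_right, huw', smul_zero],
    by rw [QuadraticMap.polar_smul_right, hsw', smul_zero],
    by rw [QuadraticMap.polar_smul_right, smul_eq_mul, inv_mul_cancel₀ hne]⟩

end Frame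

end CfsgLib.MinDegree.Orth
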