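import Cfsg.Agent.MinDegree.OrthLine

/-!
# No small action has line label sets only

`line_false`: the regular orbit is unique, the multiplicities are at most two, and both remaining
possibilities contradict transitivity.
-/

set_option autoImplicit false
set_option linter.unusedSectionVars false

namespace CfsgLib.MinDegree.Orth

open Matrix Module CfsgLib.Spinor CfsgLib.Forms CfsgLib.Forms4 CfsgLib.OrthMax
open scoped Classical commutatorElement

variable {F : Type*} [Field F] {ι : Type} [Fintype ι] [DecidableEq ι] {Q : QuadraticForm F (ι → F)}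
  [Fintype F]

set_option quotPrecheck false in
local notation "𝔅" => QuadraticMap.polar (⇑Q)
local notation "qF" => Fintype.card F
local notation "nι" => Fintype.card ι

variable {Ω : Type*} [MulAction (EG Q) Ω]

variable (Q) in
/-- The root group at `s` acts freely at `x`. -/
def Free (x : Ω) (s : ι → F) : Prop :=
  ∀ w, 𝔅 s w = 0 → rt Q s w • x = x → rt Q s w = 1

variable (Q) in
/-- The root group at `s` fixes `x`. -/
def Fixed (x : Ω) (s : ι → F) : Prop := ∀ w, 𝔅 s w = 0 → rt Q s w • x = x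

theorem free_mv {x : Ω} {s : ι → F} (hs : Q s = 0) (h : Free Q x s) (g : EG Q) :
    Free Q (g • x) (mv g s) := by
  intro w hw hfix
  have hw' : 𝔅 s (mv g⁻¹ w) = 0 := by rw [← polar_mv g, mv_mv_inv, hw]
  have hc : g * rt Q s (mv g⁻¹ w) * g⁻¹ = rt Q (mv g s) w := by rw [rt_conj g hs hw', mv_mv_inv]
  rw [← hc, h (mv g⁻¹ w) hw' ?_, mul_one, mul_inv_cancel]
  rw [← hc, mul_smul, mul_smul, inv_smul_smul] at hfix
  exact smul_left_cancel g hfix

theorem fixed_mv {x : Ω} {s : ι → F} (hs : Q s = 0) (h : Fixed Q x s) (g : EG Q) :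
    Fixed Q (g • x) (mv g s) := by
  intro w hw
  have hw' : 𝔅 s (mv g⁻¹ w) = 0 := by rw [← polar_mv g, mv_mv_inv, hw]
  rw [show w = mv g (mv g⁻¹ w) from (mv_mv_inv g w).symm, ← rt_conj g hs hw', mul_smul, mul_smul,
    inv_smul_smul, h _ hw']

theorem free_smul {x : Ω} {s : ι → F} (hs : Q s = 0) {t : F} (ht : t ≠ 0) (h : Free Q x s) :
    Free Q x (t • s) := by
  intro w hw
  rw [QuadraticMap.polar_smul_left, smul_eq_zero] at hw
  have hw' := hw.resolve_left ht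
  rw [rt_smul_left hs hw']
  exact h _ (by rw [QuadraticMap.polar_smul_right, hw', smul_zero])

theorem fixed_smul {x : Ω} {s : ι → F} (hs : Q s = 0) {t : F} (ht : t ≠ 0) (h : Fixed Q x s) :
    Fixed Q x (t • s) := by
  intro w hw
  rw [QuadraticMap.polar_smul_left, smul_eq_zero] at hw
  have hw' := hw.resolve_left ht
  rw [rt_smul_left hs hw']
  exact h _ (by rw [QuadraticMap.polar_smul_right, hw', smul_zero])

/-- A point fixed at two non-perpendicular singular vectors is fixed by everything. -/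
theorem smul_eq_of_fixed_pair (hQ : (QuadraticMap.polarBilin Q).Nondegenerate)
    (hn : 5 ≤ Fintype.card ι) {x : Ω} {u v : ι → F} (hu : Q u = 0) (hv : Q v = 0)
    (huv : 𝔅 u v ≠ 0) (fu : Fixed Q x u) (fv : Fixed Q x v) (g : EG Q) : g • x = x := by
  set M := (MulAction.stabilizer (EG Q) x).map (eichGroup Q).subtype
  have hfull : ∀ {s}, Q s = 0 → Fixed Q x s → Full M s := by
    intro s hs hf w hw k hk
    exact ⟨rt Q s w, hf w hw, mat_ext Q ((mat_rt hs hw).trans hk.symm)⟩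
  obtain ⟨P⟩ := nonempty_twoPairs hQ hn
  have hle := omega_le_of_full_pair hQ hn hu hv huv (hfull hu fu) (hfull hv fv)
  rw [P.omega_eq_eichGroup hQ hn] at hle
  obtain ⟨k, hk, hkg⟩ := hle g.2
  rw [← Subtype.ext (a1 := k) hkg]
  exact hk

/-- A non-trivial transitive action moves every point. -/
theorem not_all_fix [MulAction.IsPretransitive (EG Q) Ω] [Nontrivial Ω] (x : Ω) :
    ¬ ∀ g : EG Q, g • x = x := fun h => by
  obtain ⟨y, hy⟩ := exists_ne x
  obtain ⟨g, hg⟩ := MulAction.exists_smul_eq (EG Q) x y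
  exact hy (hg.symm.trans (h g))

namespace Frame

variable (Fr : Frame Q) [Fintype Ω] {p : ℕ} (pr : F →+ ZMod p)
  (hQ : (QuadraticMap.polarBilin Q).Nondegenerate) [Fact p.Prime] [CharP F p] (hpr : pr ≠ 0)

include hQ hpr in
theorem free_e_iff (x : Ω) : Free Q x Fr.e ↔ Fr.Reg pr (Fr.cls x) := by
  constructor
  · intro h v hv
    have hk : ∀ w ∈ elts Fr.W, w ∈ Fr.kst x → w = 0 := fun w hw hk =>
      Fr.rtE_eq_one (mem_elts.1 hw) (h w (Fr.mem_W.1 hk.1).1 hk.2)
    have h1 := Fr.card_pts_mul (Ω := Ω) x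
    rw [show ((elts Fr.W).filter fun w => w ∈ Fr.kst x) = {0} by
      ext w
      simp only [Finset.mem_filter, Finset.mem_singleton]
      exact ⟨fun hw => hk w hw.1 hw.2, fun hw => hw ▸ ⟨mem_elts.2 (zero_mem _), zero_mem _⟩⟩,
      Finset.card_singleton, mul_one, (Fr.card_pts_eq pr hQ hpr _).1] at h1
    have h2 : Fr.labF pr (Fr.cls x) = elts Fr.W :=
      Finset.eq_of_subset_of_card_le (fun u hu => mem_elts.2 ((Fr.mem_labF pr).1 hu).1) h1.ge
    rw [← Fr.mem_labF pr, h2]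
    exact mem_elts.2 hv
  · intro h w hw hfix
    set w' := w - 𝔅 Fr.f w • Fr.e
    have hw' : w' ∈ Fr.W := by
      refine Fr.mem_W.2 ⟨?_, ?_⟩ <;>
        simp [w', QuadraticMap.polar_sub_right, QuadraticMap.polar_smul_right, hw, Fr.qe, Fr.fe]
    have he : rt Q Fr.e w = rt Q Fr.e w' := by
      rw [← rt_add_self_smul Fr.qe (Fr.mem_W.1 hw').1 (𝔅 Fr.f w), sub_add_cancel]
    rw [he] at hfix ⊢
    rw [Fr.kst_eq_zero_of_reg pr hQ hpr h ⟨hw', hfix⟩, rt_zero Fr.qe]

include hQ hpr in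
theorem fixed_e_of_lab_zero {x : Ω} (h : ∀ v ∈ Fr.lab pr (Fr.cls x), v = 0) :
    Fixed Q x Fr.e := by
  intro w hw
  set w' := w - 𝔅 Fr.f w • Fr.e
  have hw' : w' ∈ Fr.W := by
    refine Fr.mem_W.2 ⟨?_, ?_⟩ <;>
      simp [w', QuadraticMap.polar_sub_right, QuadraticMap.polar_smul_right, hw, Fr.qe, Fr.fe]
  have hk := (Fr.card_pts_eq pr hQ hpr (Fr.cls x)).2 w' hw' fun v hv => by
    rw [h v hv, QuadraticMap.polar_zero_left, map_zero]
  rw [Fr.kst_eq_of_cls (Fr.cls_out _)] at hk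
  have he : rt Q Fr.e w' = rt Q Fr.e w := by
    rw [← rt_add_self_smul Fr.qe (Fr.mem_W.1 hw').1 (𝔅 Fr.f w), sub_add_cancel]
  rw [← he]
  exact hk.2

variable [MulAction.IsPretransitive (EG Q) Ω] [Nontrivial Ω] (hn : 7 ≤ Fintype.card ι)

include hQ hpr hn in
/-- Every point is regular: the contradiction by a cocycle. -/
theorem regular_false (hq4 : 4 ≤ Fintype.card F) (hone : (Fr.regs (Ω := Ω) pr).card ≤ 1)
    (hall : ∀ y : Fr.Orb Ω, Fr.Reg pr y) : False := by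
  have : Nonempty Ω := inferInstance
  obtain ⟨x₀⟩ := this
  have hregs : Fr.regs (Ω := Ω) pr = Finset.univ := Finset.filter_true_of_mem fun y _ => hall y
  have hone' : ∀ x : Ω, Fr.cls x₀ = Fr.cls x := fun x =>
    Finset.card_le_one.1 (hregs ▸ hone) _ (Finset.mem_univ _) _ (Finset.mem_univ _)
  have hτ : ∀ g : EG Q, ∃ w, w ∈ Fr.W ∧ rt Q Fr.e w • x₀ = g • x₀ := fun g => by
    obtain ⟨w, hw, h⟩ := Fr.cls_eq_iff.1 (hone' (g • x₀))
    exact ⟨w, hw, h⟩
  choose τ hτW hτe using hτ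
  have huniq : ∀ {w w'}, w ∈ Fr.W → w' ∈ Fr.W →
      rt Q Fr.e w • x₀ = rt Q Fr.e w' • x₀ → w = w' := by
    intro w w' hw hw' h
    refine (sub_eq_zero.1 (Fr.kst_eq_zero_of_reg pr hQ hpr (hall _) (x := x₀)
      ⟨sub_mem hw' hw, ?_⟩)).symm
    refine smul_left_cancel (rt Q Fr.e w) ?_
    rw [← mul_smul, Fr.rtE_mul hw (sub_mem hw' hw), add_sub_cancel, h]
  have hmul : ∀ g ∈ Fr.Lev, ∀ h, τ (g * h) = τ g + mv g (τ h) := by
    intro g hg h
    have hgh := Fr.mv_mem_W hg (hτW h)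
    refine huniq (hτW _) (add_mem (hτW g) hgh) ?_
    rw [hτe, mul_smul, ← hτe h, Scales.smul_rtE Fr (Fr.scales_of_lev hg) (hτW h), one_smul, ← hτe g,
      ← mul_smul, Fr.rtE_mul hgh (hτW g), add_comm]
  have hφmul : ∀ {z g}, g ∈ Fr.Lev → mv g z = z → ∀ h,
      𝔅 z (τ (g * h)) = 𝔅 z (τ g) + 𝔅 z (τ h) := by
    intro z g hg hgz h
    rw [hmul g hg, QuadraticMap.polar_add_right]
    congr 1
    conv_lhs => rw [← hgz, polar_mv]
  have hτ1 : τ 1 = 0 := by
    have := hmul 1 (one_mem _) 1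
    rw [one_mul, mv_one] at this
    exact left_eq_add.1 this
  have hφinv : ∀ {z g}, g ∈ Fr.Lev → mv g z = z → 𝔅 z (τ g⁻¹) = -𝔅 z (τ g) := by
    intro z g hg hgz
    have := hφmul hg hgz g⁻¹
    rw [mul_inv_cancel, hτ1, QuadraticMap.polar_zero_right] at this
    linear_combination -this
  have hφconj : ∀ {z g}, g ∈ Fr.Lev → mv g z = z → ∀ {h}, h ∈ Fr.Lev → mv h z = z →
      𝔅 z (τ (g * h * g⁻¹)) = 𝔅 z (τ h) := by
    intro z g hg hgz h hh hhz
    rw [hφmul (mul_mem hg hh) (by rw [mv_mul, hhz, hgz]), hφmul hg hgz, hφinv hg hgz]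
    ring
  set ρ := rt Q Fr.a Fr.b
  have hρL := Fr.rt_mem_Lev Fr.a_mem Fr.qa Fr.b_mem Fr.ab
  obtain ⟨-, -, -, h3⟩ := Fr.six_le
  obtain ⟨u, hu, y, hy, huy⟩ : ∃ u ∈ Fr.W3, ∃ y ∈ Fr.W3, 𝔅 u y = 1 := by
    obtain ⟨u, hu, y, hy, hne⟩ : ∃ u ∈ Fr.W3, ∃ y ∈ Fr.W3, 𝔅 u y ≠ 0 := by
      by_contra! h
      have hsub : elts Fr.W3 ⊆ {0} := fun z hz => Finset.mem_singleton.2
        (Fr.sepW3 hQ z (mem_elts.1 hz) fun w hw => h z (mem_elts.1 hz) w hw)
      have := Finset.card_le_card hsub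
      rw [h3, Finset.card_singleton] at this
      have : 2 ≤ qF ^ (nι - 6) := (two_le_q (F := F)).trans (Nat.le_self_pow (by omega) _)
      omega
    exact ⟨u, hu, _, Fr.W3.smul_mem (𝔅 u y)⁻¹ hy,
      by rw [QuadraticMap.polar_smul_right, smul_eq_mul, inv_mul_cancel₀ hne]⟩
  obtain ⟨hu2, hbu, hb'u⟩ := Fr.mem_W3.1 hu
  obtain ⟨huW, hau, ha'u⟩ := Fr.mem_W2.1 hu2
  obtain ⟨hy2, hby, hb'y⟩ := Fr.mem_W3.1 hy
  obtain ⟨hyW, hay, ha'y⟩ := Fr.mem_W2.1 hy2
  -- the coordinates of `a` and `b`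
  have hab : ∀ z, z = Fr.a ∨ z = Fr.b → 𝔅 z (τ ρ) = 0 := by
    intro z hz
    have hgL := Fr.rt_mem_Lev Fr.a_mem Fr.qa huW hau
    have hhL := Fr.rt_mem_Lev Fr.b_mem Fr.qb hyW hby
    have hbu' : 𝔅 u Fr.b = 0 := by rw [QuadraticMap.polar_comm, hbu]
    have hcomm : ρ = ⁅rt Q Fr.a u, rt Q Fr.b y⁆ := by
      have h1 : 𝔅 Fr.b (y - Fr.a) = 0 := by
        rw [QuadraticMap.polar_sub_right, hby, Fr.ba, sub_zero]
      rw [rt_commutator Fr.qb hby, mv_rt_perp Fr.qa hau Fr.ab, mv_rt_perp Fr.qa hau hay, hbu',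
        huy, zero_smul, sub_zero, one_smul, rt_mul Fr.qb h1
          (by rw [QuadraticMap.polar_neg_right, hby, neg_zero]),
        show y - Fr.a + -y = -Fr.a by module]
      exact rt_swap Fr.qa Fr.qb Fr.ab
    have hgz : mv (rt Q Fr.a u) z = z := by
      rcases hz with rfl | rfl
      · exact mv_rt_fix Fr.qa hau Fr.aa (by rw [QuadraticMap.polar_comm, hau])
      · exact mv_rt_fix Fr.qa hau Fr.ab hbu'
    have hhz : mv (rt Q Fr.b y) z = z := by
      rcases hz with rfl | rfl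
      · exact mv_rt_fix Fr.qb hby Fr.ba (by rw [QuadraticMap.polar_comm, hay])
      · exact mv_rt_fix Fr.qb hby Fr.bb (by rw [QuadraticMap.polar_comm, hby])
    rw [hcomm, commutatorElement_def,
      hφmul (mul_mem (mul_mem hgL hhL) (inv_mem hgL))
        (by
          have : mv (rt Q Fr.a u)⁻¹ z = z := by conv_lhs => rw [← hgz, mv_inv_mv]
          rw [mv_mul, mv_mul, this, hhz, hgz]),
      hφconj hgL hgz hhL hhz, hφinv hhL hhz, add_neg_cancel]
  -- the coordinates outside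
  have hz3 : ∀ z ∈ Fr.W3, 𝔅 z (τ ρ) = 0 := by
    intro z hz
    obtain ⟨hz2, hbz, hb'z⟩ := Fr.mem_W3.1 hz
    obtain ⟨hzW, haz, ha'z⟩ := Fr.mem_W2.1 hz2
    obtain ⟨μ, hμ0, hμ⟩ : ∃ μ : F, μ ≠ 0 ∧ μ ^ 2 ≠ 1 := by
      by_contra! h
      have hsub : (Finset.univ : Finset F) ⊆ {0, 1, -1} := by
        intro x _
        by_cases hx : x = 0
        · simp [hx]
        rcases sq_eq_one_iff.1 (h x hx) with rfl | rfl <;> simp
      have := (Finset.card_le_card hsub).trans Finset.card_le_three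
      rw [Finset.card_univ] at this
      omega
    have hbc : ∀ c : F, 𝔅 Fr.a (c • Fr.b) = 0 := fun c => by
      rw [QuadraticMap.polar_smul_right, Fr.ab, smul_zero]
    have hρc : ∀ c : F, rt Q Fr.a (c • Fr.b) ∈ Fr.Lev ∧ mv (rt Q Fr.a (c • Fr.b)) z = z := fun c =>
      ⟨Fr.rt_mem_Lev Fr.a_mem Fr.qa (Fr.W.smul_mem _ Fr.b_mem) (hbc c),
        mv_rt_fix Fr.qa (hbc c) haz (by rw [QuadraticMap.polar_smul_left, hbz, smul_zero])⟩
    have hadd : ∀ c d : F, 𝔅 z (τ (rt Q Fr.a ((c + d) • Fr.b))) =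
        𝔅 z (τ (rt Q Fr.a (c • Fr.b))) + 𝔅 z (τ (rt Q Fr.a (d • Fr.b))) := fun c d => by
      rw [add_smul, ← rt_mul Fr.qa (hbc c) (hbc d)]
      exact hφmul (hρc c).1 (hρc c).2 _
    set h := torus Fr.inner μ
    have hhL : h ∈ Fr.Lev := Fr.torus_inner_mem_Lev
    have hhz : mv h z = z := torus_fix Fr.inner haz ha'z hbz hb'z
    obtain ⟨ta, -, tb, -⟩ := torus_pairs Fr.inner hμ0
    have hsq : ∀ c : F, 𝔅 z (τ (rt Q Fr.a ((μ ^ 2 * c) • Fr.b))) =
        𝔅 z (τ (rt Q Fr.a (c • Fr.b))) := fun c => by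
      rw [← hφconj hhL hhz (hρc c).1 (hρc c).2, rt_conj h Fr.qa (hbc c),
        show mv h Fr.a = μ • Fr.a from ta, mv_smul, show mv h Fr.b = μ • Fr.b from tb,
        rt_smul_left Fr.qa (by rw [smul_smul]; exact hbc _), smul_smul, smul_smul,
        show μ * c * μ = μ ^ 2 * c by ring]
    set c := (μ ^ 2 - 1)⁻¹
    have h1 := hadd (μ ^ 2 * c - c) c
    rw [sub_add_cancel, hsq c, show μ ^ 2 * c - c = 1 by
      simp only [c]; field_simp [sub_ne_zero.2 hμ], one_smul] at h1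
    linear_combination -h1
  -- so the cocycle is a coboundary
  set t := τ ρ with ht
  obtain ⟨t2, ht2, htd⟩ := Fr.exists_decomp (hτW ρ)
  rw [← ht, hab _ (Or.inl rfl), zero_smul, add_zero] at htd
  obtain ⟨ht2W, hat2, ha't2⟩ := Fr.mem_W2.1 ht2
  have hbt2 : 𝔅 Fr.b t2 = 0 := by
    have := hab _ (Or.inr rfl)
    rw [htd, QuadraticMap.polar_add_right, QuadraticMap.polar_smul_right, Fr.ba, smul_zero,
      zero_add] at this
    exact this
  have ht3 : t2 = 𝔅 Fr.b' t2 • Fr.b := by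
    refine sub_eq_zero.1 (Fr.sepW3 hQ _ ⟨sub_mem ht2 (Fr.W2.smul_mem _ Fr.b_mem2),
      mem_perp2.2 ⟨?_, ?_⟩⟩ fun z hz => ?_)
    · simp [QuadraticMap.polar_sub_right, QuadraticMap.polar_smul_right, hbt2, Fr.qb]
    · simp [QuadraticMap.polar_sub_right, QuadraticMap.polar_smul_right, Fr.b'b]
    · obtain ⟨hz2, hbz, -⟩ := Fr.mem_W3.1 hz
      obtain ⟨-, haz, -⟩ := Fr.mem_W2.1 hz2
      have := hz3 z hz
      rw [htd, QuadraticMap.polar_add_right, QuadraticMap.polar_smul_right,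
        QuadraticMap.polar_comm (⇑Q) z Fr.a, haz, smul_zero, zero_add] at this
      rw [QuadraticMap.polar_sub_left, QuadraticMap.polar_smul_left, hbz, smul_zero, sub_zero,
        QuadraticMap.polar_comm, this]
  set w := -𝔅 Fr.b' t2 • Fr.a' + 𝔅 Fr.a' t • Fr.b' with hw
  have hwW : w ∈ Fr.W := add_mem (Fr.W.smul_mem _ Fr.a'_mem) (Fr.W.smul_mem _ Fr.b'_mem)
  have hρw : mv ρ w + t = w := by
    have htt : t = 𝔅 Fr.a' t • Fr.a + 𝔅 Fr.b' t2 • Fr.b := by rw [← ht3, ← htd]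
    rw [mv_rt Fr.qa Fr.ab, Fr.qb, hw]
    simp only [QuadraticMap.polar_add_right, QuadraticMap.polar_smul_right, Fr.aa', Fr.ab', Fr.ba',
      Fr.bb', smul_eq_mul]
    linear_combination (norm := module) htt
  have hfix : ρ • rt Q Fr.e w • x₀ = rt Q Fr.e w • x₀ := by
    rw [Scales.smul_rtE Fr (Fr.scales_of_lev hρL) hwW, one_smul, ← hτe ρ, ← mul_smul,
      Fr.rtE_mul (Fr.mv_mem_W hρL hwW) (hτW ρ), hρw]
  -- but it is conjugate to a free element
  obtain ⟨g, t', -, x', hx', hx'0, -, hg⟩ := Fr.exists_conj_rtE hQ Fr.qa Fr.ab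
    (fun c h => by
      have := congrArg (𝔅 Fr.b') h
      simp [QuadraticMap.polar_smul_right, Fr.b'b, Fr.b'a] at this)
    (fun h => by
      have := Fr.aa'
      rw [h, QuadraticMap.polar_zero_left] at this
      exact zero_ne_one this)
  refine hx'0 (Fr.kst_eq_zero_of_reg pr hQ hpr (hall _) (x := g • rt Q Fr.e w • x₀) ⟨hx', ?_⟩)
  rw [← hg, mul_smul, mul_smul, inv_smul_smul, hfix]

include hQ hpr hn in
/-- The case without flat label sets, from a bound on the regular orbits. -/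
theorem line_core (hsmall : Small Q Ω)
    (hcls : ∀ y : Fr.Orb Ω, Fr.Reg pr y ∨ Fr.Lin pr y)
    (hr1 : (Fr.regs (Ω := Ω) pr).card ≤ 1)
    (hne : (∀ c, 1 ≤ Fr.mc Ω pr c) → (∀ C : Finset F, ∑ c ∈ C, (Fr.mc Ω pr c - 1) ≤ 1) →
      ∀ c, c ≠ 0 → Fr.mc Ω pr c = 1)
    (hregf : (Fr.regs (Ω := Ω) pr).card ≤ 1 → (∀ y : Fr.Orb Ω, Fr.Reg pr y) → False) : False := by
  have hsum := Fr.sum_mc_le_regs pr hQ hpr hn hcls
  obtain ⟨X, S0, hX, hS1, hS, hlo, hup, hW, hNlo, hV⟩ := Fr.numerics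
  have hd := Fr.card_eq_sum_pts (Ω := Ω)
  have hpts : ∀ y ∈ Fr.regs (Ω := Ω) pr, (Fr.pts y).card = (elts Fr.W).card := fun y hy => by
    rw [(Fr.card_pts_eq pr hQ hpr y).1, Fr.card_labF_of_reg pr (Finset.mem_filter.1 hy).2]
  have hX0 : 0 < X := by rw [hX]; positivity
  have hsmall' := hsmall
  unfold Small at hsmall'
  rw [hV] at hsmall'
  have hq2 := two_le_q (F := F)
  -- it exists
  obtain ⟨y₀, hy₀⟩ : (Fr.regs (Ω := Ω) pr).Nonempty := by
    rw [Finset.nonempty_iff_ne_empty]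
    intro he
    rw [he, Finset.card_empty, mul_zero, Nat.le_zero, Finset.sum_eq_zero_iff] at hsum
    have hlab : ∀ (y : Fr.Orb Ω) v, v ∈ Fr.lab pr y → v = 0 := by
      intro y v hv
      by_contra hv0
      have h := hsum (Q v) (Finset.mem_univ _)
      rw [← Fr.mult_eq_mc pr hQ hv.1 hv0] at h
      exact Finset.card_ne_zero.2 ⟨y, Finset.mem_filter.2 ⟨Finset.mem_univ _, hv⟩⟩ h
    have hfix : ∀ (x : Ω), Fixed Q x Fr.e := fun x => Fr.fixed_e_of_lab_zero pr hQ hpr (hlab _)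
    obtain ⟨g, hg, α, hα, hgf⟩ := Fr.outer.exists_to_e hQ (x := Fr.f) (fun h => by
      have := Fr.ef
      rw [h, QuadraticMap.polar_zero_right] at this
      exact zero_ne_one this) Fr.qf
    obtain ⟨x⟩ := (inferInstance : Nonempty Ω)
    refine not_all_fix x (smul_eq_of_fixed_pair hQ (by omega) Fr.qe Fr.qf
      (by rw [Fr.ef]; exact one_ne_zero) (hfix x) ?_)
    have h1 := fixed_mv Fr.qe (hfix ((⟨g, hg⟩ : EG Q) • x)) (⟨g, hg⟩ : EG Q)⁻¹
    rw [inv_smul_smul] at h1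
    have h2 := fixed_smul (by rw [quad_mv, Fr.qe]) hα h1
    rw [← mv_smul, show α • Fr.e = mv (⟨g, hg⟩ : EG Q) Fr.f from hgf.symm, mv_inv_mv] at h2
    exact h2
  have hregs : Fr.regs (Ω := Ω) pr = {y₀} := by
    refine Finset.eq_singleton_iff_unique_mem.2 ⟨hy₀, fun y hy => ?_⟩
    exact Finset.card_le_one.1 hr1 _ hy _ hy₀
  rw [hregs, Finset.card_singleton, mul_one] at hsum
  have hreg₀ : Fr.Reg pr y₀ := (Finset.mem_filter.1 hy₀).2
  have hmc1 : ∀ c, 1 ≤ Fr.mc Ω pr c := fun c =>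
    Finset.card_pos.2 ⟨y₀, Finset.mem_filter.2 ⟨Finset.mem_univ _, hreg₀ _ (Fr.std_mem c)⟩⟩
  have hexc : ∀ C : Finset F, ∑ c ∈ C, (Fr.mc Ω pr c - 1) ≤ 1 := by
    intro C
    refine (Finset.sum_le_sum_of_subset (Finset.subset_univ C)).trans ?_
    have : ∑ c, (Fr.mc Ω pr c - 1) + qF = ∑ c, Fr.mc Ω pr c := by
      rw [← Finset.card_univ, Finset.card_eq_sum_ones, ← Finset.sum_add_distrib]
      exact Finset.sum_congr rfl fun c _ => Nat.sub_add_cancel (hmc1 c)
    omega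
  have hmc_ne : ∀ c, c ≠ 0 → Fr.mc Ω pr c = 1 := hne hmc1 hexc
  have hnot : ∀ (y : Fr.Orb Ω), y ≠ y₀ → ∀ v ∈ Fr.lab pr y, v ≠ 0 → Q v = 0 ∧ Fr.mc Ω pr 0 = 2 := by
    intro y hy v hv hv0
    have h2 : 2 ≤ Fr.mc Ω pr (Q v) := by
      rw [← Fr.mult_eq_mc pr hQ hv.1 hv0]
      exact Finset.one_lt_card.2 ⟨y, Finset.mem_filter.2 ⟨Finset.mem_univ _, hv⟩, y₀,
        Finset.mem_filter.2 ⟨Finset.mem_univ _, hreg₀ v hv.1⟩, hy⟩
    have hq0 : Q v = 0 := by
      by_contra hne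
      rw [hmc_ne _ hne] at h2
      omega
    have := hexc {0}
    rw [Finset.sum_singleton] at this
    rw [hq0] at h2
    exact ⟨hq0, by omega⟩
  by_cases hm0 : Fr.mc Ω pr 0 = 2
  swap
  · -- only the regular orbit and fixed points
    have hdich : ∀ x : Ω, Free Q x Fr.e ∨ Fixed Q x Fr.e := by
      intro x
      by_cases hx : Fr.cls x = y₀
      · exact Or.inl ((Fr.free_e_iff pr hQ hpr x).2 (hx ▸ hreg₀))
      · refine Or.inr (Fr.fixed_e_of_lab_zero pr hQ hpr fun v hv => ?_)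
        by_contra hv0
        exact hm0 (hnot _ hx v hv hv0).2
    refine hregf hr1 fun y => ?_
    rw [← Fr.cls_out y, ← Fr.free_e_iff pr hQ hpr]
    refine (hdich y.out).resolve_right fun hfix => ?_
    have ha0 : Fr.a ≠ 0 := fun h => by
      have := Fr.aa'
      rw [h, QuadraticMap.polar_zero_left] at this
      exact zero_ne_one this
    have hpart : ∀ {a : ι → F}, a ∈ Fr.W → Q a = 0 → a ≠ 0 → Fixed Q y.out a := by
      intro a haW hq ha
      obtain ⟨g, hg, α, hα, hga⟩ := Fr.outer.exists_to_e hQ ha hq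
      have hga' : α • Fr.e = mv (⟨g, hg⟩ : EG Q) a := hga.symm
      rcases hdich ((⟨g, hg⟩ : EG Q) • y.out) with h | h
      · exfalso
        have h1 := free_mv Fr.qe h (⟨g, hg⟩ : EG Q)⁻¹
        rw [inv_smul_smul] at h1
        have h2 := free_smul (by rw [quad_mv, Fr.qe]) hα h1
        rw [← mv_smul, hga', mv_inv_mv] at h2
        have hea : 𝔅 a Fr.e = 0 := by rw [QuadraticMap.polar_comm]; exact (Fr.mem_W.1 haW).1
        have hae : 𝔅 a (-Fr.e) = 0 := by rw [QuadraticMap.polar_neg_right, hea, neg_zero]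
        have hswap : rt Q a (-Fr.e) = rt Q Fr.e a :=
          (rt_swap Fr.qe hq (Fr.mem_W.1 haW).1).symm
        have := h2 _ hae (by rw [hswap]; exact hfix a (Fr.mem_W.1 haW).1)
        rw [hswap] at this
        exact ha (Fr.rtE_eq_one haW this)
      · have h1 := fixed_mv Fr.qe h (⟨g, hg⟩ : EG Q)⁻¹
        rw [inv_smul_smul] at h1
        have h2 := fixed_smul (by rw [quad_mv, Fr.qe]) hα h1
        rwa [← mv_smul, hga', mv_inv_mv] at h2
    exact not_all_fix y.out (smul_eq_of_fixed_pair hQ (by omega) Fr.qa Fr.qa'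
      (by rw [Fr.aa']; exact one_ne_zero) (hpart Fr.a_mem Fr.qa ha0)
      (hpart Fr.a'_mem Fr.qa' fun h => by
        have := Fr.aa'
        rw [h, QuadraticMap.polar_zero_right] at this
        exact zero_ne_one this))
  -- the multiplicity two: counting
  set L := (Finset.univ : Finset (Fr.Orb Ω)).erase y₀ with hL
  have hdsplit : Fintype.card Ω = (elts Fr.W).card + ∑ y ∈ L, (Fr.labF pr y).card := by
    rw [hd, ← Finset.add_sum_erase _ _ (Finset.mem_univ y₀), hpts y₀ hy₀, hL]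
    exact congrArg _ (Finset.sum_congr rfl fun y _ => (Fr.card_pts_eq pr hQ hpr y).1)
  have hLlin : ∀ y ∈ L, (qF - 1) * (Fr.labF pr y).card ≥ qF * ((Fr.labF pr y).card - 1) := by
    intro y hy
    have hne := (Finset.mem_erase.1 hy).1
    have hlin := (hcls y).resolve_left fun h => hne (Finset.eq_singleton_iff_unique_mem.1 hregs |>.2 y
      (Finset.mem_filter.2 ⟨Finset.mem_univ _, h⟩))
    have := Fr.card_labF_le_of_lin pr hlin
    rw [Nat.mul_sub, Nat.sub_mul, mul_one, one_mul]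
    omega
  have hcount : ((vals Q Fr.W 0).erase 0).card ≤ ∑ y ∈ L, ((Fr.labF pr y).card - 1) := by
    have h1 : ∀ v ∈ (vals Q Fr.W 0).erase 0, 1 ≤ (L.filter fun y => v ∈ Fr.lab pr y).card := by
      intro v hv
      obtain ⟨hv0, hv'⟩ := Finset.mem_erase.1 hv
      obtain ⟨hvW, hvq⟩ := mem_vals.1 hv'
      have hm : Fr.mult (Ω := Ω) pr v = 2 := by rw [Fr.mult_eq_mc pr hQ hvW hv0, hvq, hm0]
      rw [Finset.filter_erase]
      have := Finset.card_erase_of_mem (s := Finset.univ.filter fun y => v ∈ Fr.lab pr y) (a := y₀)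
        (Finset.mem_filter.2 ⟨Finset.mem_univ _, hreg₀ v hvW⟩)
      rw [Frame.mult] at hm
      omega
    calc ((vals Q Fr.W 0).erase 0).card = ∑ v ∈ (vals Q Fr.W 0).erase 0, 1 := by simp
      _ ≤ ∑ v ∈ (vals Q Fr.W 0).erase 0, (L.filter fun y => v ∈ Fr.lab pr y).card :=
          Finset.sum_le_sum h1
      _ = ∑ y ∈ L, (((vals Q Fr.W 0).erase 0).filter fun v => v ∈ Fr.lab pr y).card := by
          simp only [Finset.card_filter]; exact Finset.sum_comm
      _ ≤ _ := Finset.sum_le_sum fun y _ => by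
          rw [← Finset.card_erase_of_mem ((Fr.mem_labF pr).2 (zero_mem _))]
          refine Finset.card_le_card fun v hv => ?_
          obtain ⟨hv1, hv2⟩ := Finset.mem_filter.1 hv
          exact Finset.mem_erase.2 ⟨(Finset.mem_erase.1 hv1).1, (Fr.mem_labF pr).2 hv2⟩
  have hlow : qF * S0 ≤ (qF - 1) * ∑ y ∈ L, (Fr.labF pr y).card := by
    rw [← hS]
    refine (Nat.mul_le_mul_left _ hcount).trans ?_
    rw [Finset.mul_sum, Finset.mul_sum]
    exact Finset.sum_le_sum fun y hy => hLlin y hy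
  obtain ⟨D0, hD0⟩ : qF - 1 ∣ S0 := hS ▸ sub_one_dvd_card_singular Fr.W
  set E := ∑ y ∈ L, (Fr.labF pr y).card
  have hEeq : E = qF * D0 := by
    rw [hdsplit, hW, mul_add, mul_add] at hsmall'
    have h1 : (qF - 1) * (qF * D0) ≤ (qF - 1) * E :=
      le_trans (le_of_eq (by rw [hD0]; ring)) hlow
    have hge := Nat.le_of_mul_le_mul_left h1 (by omega)
    refine le_antisymm ?_ hge
    by_contra! hlt
    have h2 : (qF - 1) * (qF * D0 + 1) ≤ (qF - 1) * E := Nat.mul_le_mul_left _ hlt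
    rw [mul_add, mul_one] at h2
    have h3 : qF * S0 = (qF - 1) * (qF * D0) := by rw [hD0]; ring
    omega
  -- `d = q D` with `D` prime to `p`
  set D := qF * qF * X + D0 with hDdef
  have hdD : Fintype.card Ω = qF * D := by rw [hdsplit, hW, hEeq, hDdef]; ring
  obtain ⟨k, hp, hk⟩ := FiniteField.card F p
  have hqp : qF = p ^ (k : ℕ) := hk
  have hpq : p ∣ qF := hqp ▸ dvd_pow_self p k.pos.ne'
  have hpX : p ∣ X := by
    rw [hX]
    exact hpq.trans (dvd_pow_self _ (by omega))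
  have hpD : ¬ p ∣ D := by
    intro hdvd
    have h1 : p ∣ D0 := (Nat.dvd_add_right (hpX.mul_left _)).1 hdvd
    have h2 : p ∣ S0 + 1 := by
      rw [← hS1, (Fr.card_vals_W 0).1]
      exact dvd_add ((hpq.trans (dvd_pow_self _ (by omega))).mul_left _) (hpq.mul_right _)
    rw [hD0] at h2
    exact hp.not_dvd_one ((Nat.dvd_add_right (h1.mul_left _)).1 h2)
  -- count free pairs
  set Sing := (vals Q (⊤ : Submodule F (ι → F)) 0).erase 0
  have hSing : Sing.card = (qF - 1) * (Fintype.card Ω + 1) := by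
    rw [Finset.card_erase_of_mem (mem_vals.2 ⟨Submodule.mem_top, QuadraticMap.map_zero Q⟩), hV,
      hdsplit, hW, hEeq, hD0]
    obtain ⟨K, hK⟩ : ∃ K, qF = K + 1 := ⟨qF - 1, by omega⟩
    rw [hK, Nat.add_sub_cancel,
      show K * ((K + 1) ^ 3 * X) + (K + 1) * (K * D0 + 1) =
        K * ((K + 1) ^ 3 * X + (K + 1) * D0 + 1) + 1 by ring, Nat.add_sub_cancel]
  have hfree_e : (Finset.univ.filter fun x : Ω => Free Q x Fr.e).card = (elts Fr.W).card := by
    rw [← hpts y₀ hy₀]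
    congr 1
    ext x
    simp only [Finset.mem_filter, Finset.mem_univ, true_and, Fr.free_e_iff pr hQ hpr, Fr.mem_pts]
    exact ⟨fun h => Finset.eq_singleton_iff_unique_mem.1 hregs |>.2 _
      (Finset.mem_filter.2 ⟨Finset.mem_univ _, h⟩), fun h => h ▸ hreg₀⟩
  have hfree : ∀ s ∈ Sing, (Finset.univ.filter fun x : Ω => Free Q x s).card = (elts Fr.W).card := by
    intro s hs
    obtain ⟨hs0, hs'⟩ := Finset.mem_erase.1 hs
    obtain ⟨g, hg, α, hα, hgs⟩ := Fr.outer.exists_to_e hQ hs0 (mem_vals.1 hs').2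
    set g' : EG Q := ⟨g, hg⟩
    have hgs' : mv g' s = α • Fr.e := hgs
    rw [← hfree_e]
    refine Finset.card_bij' (fun x _ => g' • x) (fun x _ => g'⁻¹ • x) ?_ ?_
      (fun x _ => inv_smul_smul g' x) (fun x _ => smul_inv_smul g' x)
    · intro x hx
      simp only [Finset.mem_filter, Finset.mem_univ, true_and] at hx ⊢
      have h1 := free_mv (mem_vals.1 hs').2 hx g'
      rw [hgs'] at h1
      have h2 := free_smul (by rw [QuadraticMap.map_smul, Fr.qe, smul_zero]) (inv_ne_zero hα) h1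
      rwa [inv_smul_smul₀ hα] at h2
    · intro x hx
      simp only [Finset.mem_filter, Finset.mem_univ, true_and] at hx ⊢
      have h1 := free_mv (by rw [QuadraticMap.map_smul, Fr.qe, smul_zero])
        (free_smul Fr.qe hα hx) g'⁻¹
      rwa [← hgs', mv_inv_mv] at h1
  obtain ⟨x₀⟩ := (inferInstance : Nonempty Ω)
  have hconst : ∀ x : Ω, (Sing.filter fun s => Free Q x s).card =
      (Sing.filter fun s => Free Q x₀ s).card := by
    intro x
    obtain ⟨g, rfl⟩ := MulAction.exists_smul_eq (EG Q) x₀ x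
    refine Finset.card_bij' (fun s _ => mv g⁻¹ s) (fun s _ => mv g s) ?_ ?_
      (fun s _ => mv_mv_inv g s) (fun s _ => mv_inv_mv g s)
    · intro s hs
      obtain ⟨hs1, hs2⟩ := Finset.mem_filter.1 hs
      obtain ⟨hs0, hs'⟩ := Finset.mem_erase.1 hs1
      refine Finset.mem_filter.2 ⟨Finset.mem_erase.2 ⟨fun h => hs0 ?_, mem_vals.2
        ⟨Submodule.mem_top, by rw [quad_mv, (mem_vals.1 hs').2]⟩⟩, ?_⟩
      · rw [← mv_mv_inv g s, h, mv_zero]
      · have := free_mv (mem_vals.1 hs').2 hs2 g⁻¹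
        rwa [inv_smul_smul] at this
    · intro s hs
      obtain ⟨hs1, hs2⟩ := Finset.mem_filter.1 hs
      obtain ⟨hs0, hs'⟩ := Finset.mem_erase.1 hs1
      exact Finset.mem_filter.2 ⟨Finset.mem_erase.2 ⟨fun h => hs0 (mv_injective g
        (h.trans (mv_zero g).symm)), mem_vals.2 ⟨Submodule.mem_top,
          by rw [quad_mv, (mem_vals.1 hs').2]⟩⟩, free_mv (mem_vals.1 hs').2 hs2 g⟩
  have hpairs : Fintype.card Ω * (Sing.filter fun s => Free Q x₀ s).card =
      (qF - 1) * (Fintype.card Ω + 1) * (qF ^ 3 * X) := by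
    have h1 : ∑ x : Ω, (Sing.filter fun s => Free Q x s).card =
        ∑ s ∈ Sing, (Finset.univ.filter fun x : Ω => Free Q x s).card := by
      simp only [Finset.card_filter]; exact Finset.sum_comm
    rw [Finset.sum_congr rfl fun x _ => hconst x, Finset.sum_congr rfl hfree, Finset.sum_const,
      Finset.sum_const, Finset.card_univ, smul_eq_mul, smul_eq_mul, hSing, hW] at h1
    exact h1
  have hdvd : Fintype.card Ω ∣ (qF - 1) * (qF ^ 3 * X) := by
    have h1 : Fintype.card Ω ∣ (qF - 1) * (Fintype.card Ω + 1) * (qF ^ 3 * X) := ⟨_, hpairs.symm⟩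
    rw [show (qF - 1) * (Fintype.card Ω + 1) * (qF ^ 3 * X) =
      Fintype.card Ω * ((qF - 1) * (qF ^ 3 * X)) + (qF - 1) * (qF ^ 3 * X) by ring] at h1
    exact (Nat.dvd_add_right (dvd_mul_right _ _)).1 h1
  rw [hdD] at hdvd
  have h1 : D ∣ (qF - 1) * qF ^ (3 + (nι - 5)) := by
    rw [pow_add, ← hX]
    exact (dvd_mul_left _ _).trans hdvd
  have hcop : Nat.Coprime D (qF ^ (3 + (nι - 5))) := by
    rw [hqp, ← pow_mul]
    exact (Nat.Coprime.pow_left _ (hp.coprime_iff_not_dvd.2 hpD)).symm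
  have h2 := Nat.le_of_dvd (by omega) (hcop.dvd_of_dvd_mul_right h1)
  have : qF * qF * 1 ≤ qF * qF * X := Nat.mul_le_mul_left _ hX0
  have : qF ≤ qF * qF := Nat.le_mul_self _
  omega

include hQ hpr hn in
/-- The case without flat label sets, `q ≥ 4`. -/
theorem line_false (hq4 : 4 ≤ Fintype.card F) (hsmall : Small Q Ω)
    (hcls : ∀ y : Fr.Orb Ω, Fr.Reg pr y ∨ Fr.Lin pr y) : False := by
  obtain ⟨X, S0, hX, hS1, hS, hlo, hup, hW, hNlo, hV⟩ := Fr.numerics
  have hd := Fr.card_eq_sum_pts (Ω := Ω)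
  have hpts : ∀ y ∈ Fr.regs (Ω := Ω) pr, (Fr.pts y).card = (elts Fr.W).card := fun y hy => by
    rw [(Fr.card_pts_eq pr hQ hpr y).1, Fr.card_labF_of_reg pr (Finset.mem_filter.1 hy).2]
  have hX0 : 0 < X := by rw [hX]; positivity
  have hsmall' := hsmall
  unfold Small at hsmall'
  rw [hV] at hsmall'
  -- at most one regular orbit
  have hr1 : (Fr.regs (Ω := Ω) pr).card ≤ 1 := by
    by_contra! h2
    have h1 : (Fr.regs (Ω := Ω) pr).card * (elts Fr.W).card ≤ Fintype.card Ω := by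
      rw [hd, ← smul_eq_mul, ← Finset.sum_const, ← Finset.sum_congr rfl hpts]
      exact Finset.sum_le_sum_of_subset (Finset.subset_univ _)
    rw [hW] at h1
    obtain ⟨K, hK⟩ : ∃ K, qF = K + 1 := ⟨qF - 1, by omega⟩
    rw [hK] at hsmall' hup h1
    have e' : (K + 1) * (K + 1) + (K + 1) - 1 = K * K + 3 * K + 1 := by
      rw [show (K + 1) * (K + 1) + (K + 1) = K * K + 3 * K + 1 + 1 by ring, Nat.add_sub_cancel]
    rw [e'] at hup
    simp only [Nat.add_sub_cancel] at hsmall'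
    have h3 : (K + 1) * (K * K + 3 * K + 1) ≤ K * (K + 1) ^ 3 := by
      obtain ⟨j, rfl⟩ : ∃ j, K = j + 3 := ⟨K - 3, by omega⟩
      ring_nf
      nlinarith
    have h4 := Nat.mul_le_mul_right X h3
    have h5 := Nat.mul_le_mul_left (K + 1) hup
    have h6 : 2 * ((K + 1) ^ 3 * X) ≤ Fintype.card Ω :=
      (Nat.mul_le_mul_right _ h2).trans h1
    have h7 := Nat.mul_le_mul_left K h6
    linarith
  refine Fr.line_core pr hQ hpr hn hsmall hcls hr1 (fun hmc1 hexc c hc => ?_)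
    fun h => Fr.regular_false pr hQ hpr hn hq4 h
  obtain ⟨μ, hμ0, hμ⟩ : ∃ μ : F, μ ≠ 0 ∧ μ ^ 2 ≠ 1 := by
    by_contra! h
    have hsub : (Finset.univ : Finset F) ⊆ {0, 1, -1} := by
      intro x _
      by_cases hx : x = 0
      · simp [hx]
      rcases sq_eq_one_iff.1 (h x hx) with rfl | rfl <;> simp
    have := (Finset.card_le_card hsub).trans Finset.card_le_three
    rw [Finset.card_univ] at this
    omega
  have h1 := hexc {c, μ ^ 2 * c}
  rw [Finset.sum_pair (fun h => hμ ((mul_eq_right₀ hc).1 h.symm)), Fr.mc_mul_sq pr hQ hμ0] at h1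
  have := hmc1 c
  omega

end Frame

end CfsgLib.MinDegree.Orth
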