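import Cfsg.Agent.MinDegree.OrthFlatTools
import Cfsg.Agent.MinDegree.OrthRegular

/-!
# The exceptional case of dimension eight

No point is fixed by a whole root group (counting the pairs), and then a short root element that
acts without fixed points has a conjugate with a fixed point (a cocycle).
-/

set_option autoImplicit false
set_option linter.unusedSectionVars false

namespace CfsgLib.MinDegree.Orth

open Matrix Module CfsgLib.Spinor CfsgLib.Forms CfsgLib.Forms4 CfsgLib.OrthMax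
open scoped Classical

variable {F : Type*} [Field F] {ι : Type} [Fintype ι] [DecidableEq ι] {Q : QuadraticForm F (ι → F)}
  [Fintype F]

set_option quotPrecheck false in
local notation "𝔅" => QuadraticMap.polar (⇑Q)
local notation "qF" => Fintype.card F
local notation "nι" => Fintype.card ι

/-- The arithmetic of the pairs of a point and a fixed root group. -/
theorem arith_pairs {K N H o k : ℕ} (hK : 1 ≤ K) (hN : N < 4 * H) (ho0 : 1 ≤ o) (hoN : o < N)
    (hk : k ≤ N) (h : (N * H + o) * k = N * (H + 1) * o) : False := by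
  rcases Nat.lt_or_eq_of_le hk with hlt | rfl
  · obtain ⟨e, rfl⟩ : ∃ e, N = k + (e + 1) := ⟨N - k - 1, by omega⟩
    have hok : o < k := by
      by_contra! hle
      have h1 := Nat.mul_le_mul_left ((k + (e + 1)) * H + o) hle
      have h2 := Nat.mul_lt_mul_of_pos_right hoN (show 0 < o by omega)
      linarith
    obtain ⟨j, rfl⟩ : ∃ j, k = o + (j + 1) := ⟨k - o - 1, by omega⟩
    set N := o + (j + 1) + (e + 1) with hN'
    have h1 : N * H * (j + 1) = o * (e + 1) := by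
      rw [hN'] at h ⊢
      linarith
    have h2 : N * H ≤ o * (e + 1) := h1 ▸ Nat.le_mul_of_pos_right _ (by omega)
    have h3 : 4 * (o * (e + 1)) ≤ (o + (e + 1)) * (o + (e + 1)) := by
      have := four_mul_le_sq_add o (e + 1)
      rw [sq] at this
      linarith
    have h4 : (o + (e + 1)) * (o + (e + 1)) ≤ N * N := Nat.mul_le_mul (by omega) (by omega)
    have h5 := Nat.mul_lt_mul_of_pos_left hN (show 0 < N by omega)
    linarith
  · have : k * H + o = (H + 1) * o := by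
      refine Nat.eq_of_mul_eq_mul_left (show 0 < k by omega) ?_
      linarith
    nlinarith

namespace Frame

variable (Fr : Frame Q) {Ω : Type*} [MulAction (EG Q) Ω] [Fintype Ω] {p : ℕ} (pr : F →+ ZMod p)
  [Fact p.Prime] [CharP F p] (hQ : (QuadraticMap.polarBilin Q).Nondegenerate) (hpr : pr ≠ 0)
  (h8 : Fintype.card ι = 8) (hq4 : 4 ≤ Fintype.card F)

include hQ hpr h8 hq4 in
/-- No point is fixed by a whole root group. -/
theorem eight_no_fixed [MulAction.IsPretransitive (EG Q) Ω] [Nontrivial Ω] {H o : ℕ}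
    (hfc : Fr.FlatCase pr Ω H o) : o = 0 := by
  by_contra ho
  have hH3 : H = qF ^ 3 := by rw [hfc.hH, h8]
  -- points fixed at `e`
  have hfix_iff : ∀ x : Ω, Fixed Q x Fr.e ↔ ∀ v ∈ Fr.lab pr (Fr.cls x), v = 0 := by
    intro x
    refine ⟨fun h v hv => ?_, Fr.fixed_e_of_lab_zero pr hQ hpr⟩
    refine Fr.sepW hQ v hv.1 fun w hw => ?_
    by_contra hne
    obtain ⟨c, hc⟩ := exists_pr_scale pr hpr hne
    have := ((Fr.mem_lab pr).1 hv).2 (c • w)
      ⟨Fr.W.smul_mem c hw, h _ (Fr.mem_W.1 (Fr.W.smul_mem c hw)).1⟩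
    rw [QuadraticMap.polar_smul_right, smul_eq_mul] at this
    exact hc this
  have hfixe : (Finset.univ.filter fun x : Ω => Fixed Q x Fr.e).card = o := by
    rw [hfc.card_zero, Finset.card_eq_sum_card_fiberwise (s := Finset.univ.filter fun x : Ω =>
      Fixed Q x Fr.e) (t := (Finset.univ : Finset (Fr.Orb Ω)).filter fun y => ∀ v ∈ Fr.lab pr y, v = 0)
      (f := Fr.cls) fun x hx => Finset.mem_filter.2 ⟨Finset.mem_univ _,
        (hfix_iff x).1 (Finset.mem_filter.1 hx).2⟩,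
      Finset.card_eq_sum_ones ((Finset.univ : Finset (Fr.Orb Ω)).filter fun y =>
        ∀ v ∈ Fr.lab pr y, v = 0)]
    refine Finset.sum_congr rfl fun y hy => ?_
    have h1 := FlatCase.pts_card Fr pr hQ hpr hfc y
    rw [if_pos (Finset.mem_filter.1 hy).2] at h1
    rw [← h1]
    refine congrArg Finset.card ?_
    ext x
    simp only [Finset.mem_filter, Finset.mem_univ, true_and, Fr.mem_pts]
    exact ⟨fun h => h.2, fun h => ⟨(hfix_iff x).2 (h ▸ (Finset.mem_filter.1 hy).2), h⟩⟩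
  set Sing := (vals Q (⊤ : Submodule F (ι → F)) 0).erase 0
  have hSmem : ∀ {s}, s ∈ Sing ↔ s ≠ 0 ∧ Q s = 0 := fun {s} => by
    simp [Sing, mem_vals]
  have hfix : ∀ s ∈ Sing, (Finset.univ.filter fun x : Ω => Fixed Q x s).card = o := by
    intro s hs
    obtain ⟨hs0, hsq⟩ := hSmem.1 hs
    obtain ⟨g, hg, α, hα, hgs⟩ := Fr.outer.exists_to_e hQ hs0 hsq
    set g' : EG Q := ⟨g, hg⟩
    have hgs' : mv g' s = α • Fr.e := hgs
    rw [← hfixe]
    refine Finset.card_bij' (fun x _ => g' • x) (fun x _ => g'⁻¹ • x) ?_ ?_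
      (fun x _ => inv_smul_smul g' x) (fun x _ => smul_inv_smul g' x)
    · intro x hx
      simp only [Finset.mem_filter, Finset.mem_univ, true_and] at hx ⊢
      have h1 := fixed_mv hsq hx g'
      rw [hgs'] at h1
      have h2 := fixed_smul (by rw [QuadraticMap.map_smul, Fr.qe, smul_zero]) (inv_ne_zero hα) h1
      rwa [inv_smul_smul₀ hα] at h2
    · intro x hx
      simp only [Finset.mem_filter, Finset.mem_univ, true_and] at hx ⊢
      have h1 := fixed_mv (by rw [QuadraticMap.map_smul, Fr.qe, smul_zero])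
        (fixed_smul Fr.qe hα hx) g'⁻¹
      rwa [← hgs', mv_inv_mv] at h1
  obtain ⟨x₀⟩ := (inferInstance : Nonempty Ω)
  set E := Sing.filter fun s => Fixed Q x₀ s with hE
  have hconst : ∀ x : Ω, (Sing.filter fun s => Fixed Q x s).card = E.card := by
    intro x
    obtain ⟨g, rfl⟩ := MulAction.exists_smul_eq (EG Q) x₀ x
    refine Finset.card_bij' (fun s _ => mv g⁻¹ s) (fun s _ => mv g s) ?_ ?_
      (fun s _ => mv_mv_inv g s) (fun s _ => mv_inv_mv g s)
    · intro s hs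
      obtain ⟨hs1, hs2⟩ := Finset.mem_filter.1 hs
      obtain ⟨hs0, hsq⟩ := hSmem.1 hs1
      refine Finset.mem_filter.2 ⟨hSmem.2 ⟨fun h => hs0 (mv_injective g⁻¹
        (h.trans (mv_zero g⁻¹).symm)), by rw [quad_mv, hsq]⟩, ?_⟩
      have := fixed_mv hsq hs2 g⁻¹
      rwa [inv_smul_smul] at this
    · intro s hs
      obtain ⟨hs1, hs2⟩ := Finset.mem_filter.1 hs
      obtain ⟨hs0, hsq⟩ := hSmem.1 hs1
      exact Finset.mem_filter.2 ⟨hSmem.2 ⟨fun h => hs0 (mv_injective g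
        (h.trans (mv_zero g).symm)), by rw [quad_mv, hsq]⟩, fixed_mv hsq hs2 g⟩
  have hpairs : Fintype.card Ω * E.card = Sing.card * o := by
    have h1 : ∑ x : Ω, (Sing.filter fun s => Fixed Q x s).card =
        ∑ s ∈ Sing, (Finset.univ.filter fun x : Ω => Fixed Q x s).card := by
      simp only [Finset.card_filter]; exact Finset.sum_comm
    rwa [Finset.sum_congr rfl fun x _ => hconst x, Finset.sum_congr rfl hfix, Finset.sum_const,
      Finset.sum_const, Finset.card_univ, smul_eq_mul, smul_eq_mul] at h1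
  -- the number of singular vectors
  obtain ⟨K, hK⟩ : ∃ K, qF = K + 1 := ⟨qF - 1, by omega⟩
  have hq3 : 0 < H := by rw [hH3]; positivity
  have hS : Sing.card = ((K + 2) * ((K + 1) ^ 2 + 1) * (H + 1)) * K := by
    obtain ⟨y, hy⟩ := FlatCase.exists_through Fr pr hfc Fr.a_mem
      (fun h => by
        have := Fr.aa'
        rw [h, QuadraticMap.polar_zero_left] at this
        exact zero_ne_one this) Fr.qa
    obtain ⟨hflat, hcard⟩ := hfc.through y _ hy fun h => by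
      have := Fr.aa'
      rw [h, QuadraticMap.polar_zero_left] at this
      exact zero_ne_one this
    obtain ⟨-, hW, -, -⟩ := Fr.six_le
    rw [h8, show (8 : ℕ) - 2 = 6 from rfl] at hW
    have e := Fr.card_singular_of_half pr hQ hpr hflat (by rw [hcard, hW, hH3, ← pow_add])
    have e' := Fr.card_vals_top (Q := Q) 0
    rw [h8, show (8 : ℕ) - 2 = 6 from rfl, hK, Nat.add_sub_cancel] at e'
    rw [hcard, hW, hK] at e
    have h0 : (0 : ι → F) ∈ vals Q (⊤ : Submodule F (ι → F)) 0 :=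
      mem_vals.2 ⟨Submodule.mem_top, QuadraticMap.map_zero Q⟩
    have h1 := Finset.card_erase_add_one h0
    rw [hH3, hK] at e ⊢
    nlinarith
  -- the fixed vectors of a point
  have hspan : ∀ u ∈ Submodule.span F (↑E : Set (ι → F)), Q u = 0 ∧ ∀ s ∈ E, 𝔅 s u = 0 := by
    have hpair : ∀ s ∈ E, ∀ s' ∈ E, 𝔅 s s' = 0 := by
      intro s hs s' hs'
      by_contra hne
      obtain ⟨hs1, hs2⟩ := Finset.mem_filter.1 hs
      obtain ⟨hs1', hs2'⟩ := Finset.mem_filter.1 hs'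
      exact not_all_fix x₀ (smul_eq_of_fixed_pair hQ (by omega) (hSmem.1 hs1).2 (hSmem.1 hs1').2
        hne hs2 hs2')
    have hperp : ∀ u ∈ Submodule.span F (↑E : Set (ι → F)), ∀ s ∈ E, 𝔅 s u = 0 := by
      intro u hu s hs
      refine Submodule.span_induction (p := fun u _ => 𝔅 s u = 0) (fun v hv => hpair s hs v hv)
        (QuadraticMap.polar_zero_right _ _) (fun v w _ _ hv hw => ?_) (fun c v _ hv => ?_) hu
      · rw [QuadraticMap.polar_add_right, hv, hw, add_zero]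
      · rw [QuadraticMap.polar_smul_right, hv, smul_zero]
    intro u hu
    refine ⟨?_, hperp u hu⟩
    refine Submodule.span_induction (p := fun u _ => Q u = 0)
      (fun v hv => (hSmem.1 (Finset.mem_filter.1 (Finset.mem_coe.1 hv)).1).2) (QuadraticMap.map_zero Q)
      (fun v w hv hw hv0 hw0 => ?_) (fun c v _ hv => ?_) hu
    · rw [QuadraticMap.map_add (⇑Q), hv0, hw0]
      have : 𝔅 v w = 0 := by
        refine Submodule.span_induction (p := fun u _ => 𝔅 u w = 0)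
          (fun x hx => hperp w hw x hx) (QuadraticMap.polar_zero_left _ _)
          (fun x x' _ _ hx hx' => ?_) (fun c x _ hx => ?_) hv
        · rw [QuadraticMap.polar_add_left, hx, hx', add_zero]
        · rw [QuadraticMap.polar_smul_left, hx, smul_zero]
      rw [this]
      simp
    · rw [QuadraticMap.map_smul, hv, smul_zero]
  have hEle : E.card + 1 ≤ qF ^ 4 := by
    set U := Submodule.span F (↑E : Set (ι → F))
    have h2 := two_finrank_le hQ fun u hu => (hspan u hu).1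
    change 2 * finrank F U ≤ Fintype.card ι at h2
    rw [h8] at h2
    refine le_trans ?_ ((card_elts U).le.trans
      (Nat.pow_le_pow_right Fintype.card_pos (show finrank F U ≤ 4 by omega)))
    rw [← Finset.card_insert_of_notMem (show (0 : ι → F) ∉ E from fun h =>
      (hSmem.1 (Finset.mem_filter.1 h).1).1 rfl)]
    refine Finset.card_le_card fun s hs => mem_elts.2 ?_
    rcases Finset.mem_insert.1 hs with rfl | hs
    · exact zero_mem _
    · exact Submodule.subset_span hs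
  obtain ⟨k, hk⟩ : qF - 1 ∣ E.card := by
    refine sub_one_dvd_card _ (fun h => (hSmem.1 (Finset.mem_filter.1 h).1).1 rfl)
      fun s hs c hc => ?_
    obtain ⟨hs1, hs2⟩ := Finset.mem_filter.1 hs
    obtain ⟨hs0, hsq⟩ := hSmem.1 hs1
    exact Finset.mem_filter.2 ⟨hSmem.2 ⟨smul_ne_zero hc hs0,
      by rw [QuadraticMap.map_smul, hsq, smul_zero]⟩, fixed_smul hsq hc hs2⟩
  -- arithmetic
  rw [hk, hS, hfc.card_eq, hK, Nat.add_sub_cancel] at hpairs
  rw [hk, hK, Nat.add_sub_cancel] at hEle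
  have hle := hfc.card_le
  rw [hK, Nat.add_sub_cancel, hH3, hK] at hle
  set N := (K + 2) * ((K + 1) ^ 2 + 1) with hN
  have hKN : K * N + 1 = (K + 1) ^ 4 := by rw [hN]; ring
  have hK3 : 3 ≤ K := by omega
  refine arith_pairs (K := K) (N := N) (H := H) (o := o) (k := k) (by omega) ?_ (by omega) ?_ ?_ ?_
  · rw [hN, hH3, hK]; nlinarith
  · by_contra! hge
    have := Nat.mul_le_mul_left K hge
    nlinarith
  · exact Nat.le_of_mul_le_mul_left (show K * k ≤ K * N by omega) (by omega)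
  · refine Nat.eq_of_mul_eq_mul_left (show 0 < K by omega) ?_
    linarith

include hQ hpr h8 hq4 in
/-- The exceptional case of dimension eight does not occur. -/
theorem eight_false [MulAction.IsPretransitive (EG Q) Ω] [Nontrivial Ω] {H o : ℕ}
    (hfc : Fr.FlatCase pr Ω H o) : False := by
  have ho := Fr.eight_no_fixed pr hQ hpr h8 hq4 hfc
  have hn : 7 ≤ nι := by omega
  have hH3 : H = qF ^ 3 := by rw [hfc.hH, h8]
  have hqH : qF < H := by
    rw [hH3]
    exact lt_self_pow₀ (by omega) (by omega)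
  obtain ⟨-, hWcard, -, -⟩ := Fr.six_le
  rw [h8, show (8 : ℕ) - 2 = 6 from rfl] at hWcard
  have hnz : ∀ y : Fr.Orb Ω, ∃ v ∈ Fr.lab pr y, v ≠ 0 := by
    intro y
    by_contra! h
    have := hfc.card_zero
    rw [ho, eq_comm, Finset.card_eq_zero] at this
    exact Finset.notMem_empty y (this ▸ Finset.mem_filter.2 ⟨Finset.mem_univ _, h⟩)
  have hflat : ∀ y : Fr.Orb Ω, Fr.IsFlat pr y ∧ (Fr.labF pr y).card = H := fun y => by
    obtain ⟨v, hv, hv0⟩ := hnz y
    exact hfc.through y v hv hv0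
  have hkst : ∀ (x : Ω) {w : ι → F}, w ∈ Fr.kst x → w ∈ Fr.lab pr (Fr.cls x) := by
    intro x w hw
    obtain ⟨hfl, hc⟩ := hflat (Fr.cls x)
    refine (Fr.card_flat_sq pr hQ hpr hfl).2 (by rw [hc, hWcard, hH3, ← pow_add]) w hw.1
      fun u hu => ?_
    by_contra hne
    obtain ⟨c, hc⟩ := exists_pr_scale pr hpr (show 𝔅 u w ≠ 0 by rwa [QuadraticMap.polar_comm])
    have := ((Fr.mem_lab pr).1 (hfl.2 u hu c)).2 w hw
    rw [QuadraticMap.polar_smul_left, smul_eq_mul] at this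
    exact hc this
  have hkst' : ∀ (x : Ω) {w : ι → F}, w ∈ Fr.lab pr (Fr.cls x) → w ∈ Fr.kst x := by
    intro x w hw
    rw [← Fr.kst_eq_of_cls (Fr.cls_out (Fr.cls x))]
    refine (Fr.card_pts_eq pr hQ hpr (Fr.cls x)).2 w hw.1 fun v hv => ?_
    rw [((hflat (Fr.cls x)).1.1 v hv).2 w hw, map_zero]
  -- a flat set through `a` and a basis of it
  obtain ⟨y₀, hy₀a, hy₀b⟩ := Fr.exists_flat_pair hQ hn pr hfc hqH Fr.b_mem2 Fr.qb Fr.b_ne_zero
  obtain ⟨hflat₀, hcard₀⟩ := hflat y₀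
  set U := Fr.flatSub pr hflat₀
  have hUperp : ∀ {x x'}, x ∈ U → x' ∈ U → 𝔅 x x' = 0 := fun hx hx' => (hflat₀.1 _ hx).2 _ hx'
  obtain ⟨c, hcU, hc3, hc0⟩ : ∃ c, c ∈ U ∧ c ∈ Fr.W3 ∧ c ≠ 0 := by
    by_contra! h
    have hsub : elts U ⊆ ((Finset.univ : Finset F) ×ˢ (Finset.univ : Finset F)).image
        fun t => t.1 • Fr.a + t.2 • Fr.b := by
      intro x hx
      rw [mem_elts] at hx
      set x' := x - 𝔅 Fr.a' x • Fr.a - 𝔅 Fr.b' x • Fr.b with hx'
      have hx'U : x' ∈ U := sub_mem (sub_mem hx (U.smul_mem _ hy₀a)) (U.smul_mem _ hy₀b)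
      have hax : 𝔅 Fr.a x = 0 := hUperp hy₀a hx
      have hbx : 𝔅 Fr.b x = 0 := hUperp hy₀b hx
      have hx'3 : x' ∈ Fr.W3 := by
        refine ⟨⟨hx'U.1, mem_perp2.2 ⟨?_, ?_⟩⟩, mem_perp2.2 ⟨?_, ?_⟩⟩ <;>
        simp [x', QuadraticMap.polar_sub_right, QuadraticMap.polar_smul_right, Fr.qa, Fr.qb,
          Fr.a'a, Fr.b'b, Fr.ab, Fr.a'b, Fr.ba, Fr.b'a, hax, hbx]
      refine Finset.mem_image.2 ⟨(𝔅 Fr.a' x, 𝔅 Fr.b' x), by simp, ?_⟩
      have h0 : x' = 0 := h x' hx'U hx'3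
      rw [hx', sub_sub, sub_eq_zero] at h0
      exact h0.symm
    have := (Finset.card_le_card hsub).trans Finset.card_image_le
    rw [Fr.elts_flatSub pr hflat₀, hcard₀, hH3, Finset.card_product, Finset.card_univ, ← sq] at this
    have := Nat.pow_lt_pow_right (show 1 < qF by omega) (show 2 < 3 by omega)
    omega
  have hcq : Q c = 0 := (hflat₀.1 _ hcU).1
  obtain ⟨c', hc'3, hc'q, hcc'⟩ := exists_partner_in (K := Fr.W3) hc3 hcq (by
    by_contra! h
    exact hc0 (Fr.sepW3 hQ c hc3 h))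
  obtain ⟨hc2, hbc, hb'c⟩ := Fr.mem_W3.1 hc3
  obtain ⟨hcW, hac, ha'c⟩ := Fr.mem_W2.1 hc2
  obtain ⟨hc'2, hbc', hb'c'⟩ := Fr.mem_W3.1 hc'3
  obtain ⟨hc'W, hac', ha'c'⟩ := Fr.mem_W2.1 hc'2
  have hc'c : 𝔅 c' c = 1 := by rw [QuadraticMap.polar_comm, hcc']
  have hUspan : ∀ x ∈ U, ∃ α β γ : F, x = α • Fr.a + β • Fr.b + γ • c := by
    intro x hx
    refine ⟨𝔅 Fr.a' x, 𝔅 Fr.b' x, 𝔅 c' x, ?_⟩
    set f : F × F × F → ι → F := fun t => t.1 • Fr.a + t.2.1 • Fr.b + t.2.2 • c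
    have hf : ∀ t, 𝔅 Fr.a' (f t) = t.1 ∧ 𝔅 Fr.b' (f t) = t.2.1 ∧ 𝔅 c' (f t) = t.2.2 := fun t => by
      refine ⟨?_, ?_, ?_⟩ <;>
      simp [f, QuadraticMap.polar_add_right, QuadraticMap.polar_smul_right, Fr.a'a, Fr.a'b,
        Fr.b'a, Fr.b'b, ha'c, hb'c, hc'c, QuadraticMap.polar_comm (⇑Q) c' Fr.a, hac',
        QuadraticMap.polar_comm (⇑Q) c' Fr.b, hbc']
    have heq : (Finset.univ : Finset (F × F × F)).image f = elts U := by
      refine Finset.eq_of_subset_of_card_le (fun v hv => ?_) ?_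
      · obtain ⟨t, -, rfl⟩ := Finset.mem_image.1 hv
        exact mem_elts.2 (add_mem (add_mem (U.smul_mem _ hy₀a) (U.smul_mem _ hy₀b)) (U.smul_mem _ hcU))
      · rw [Finset.card_image_of_injective _ fun t t' h => ?_, Finset.card_univ, Fintype.card_prod,
          Fintype.card_prod, Fr.elts_flatSub pr hflat₀, hcard₀, hH3, pow_succ', sq]
        obtain ⟨h1, h2, h3⟩ := hf t
        obtain ⟨h1', h2', h3'⟩ := hf t'
        rw [h] at h1 h2 h3
        exact Prod.ext (h1.symm.trans h1') (Prod.ext (h2.symm.trans h2') (h3.symm.trans h3'))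
    obtain ⟨t, -, rfl⟩ := Finset.mem_image.1 (heq.symm ▸ mem_elts.2 hx)
    obtain ⟨h1, h2, h3⟩ := hf t
    rw [h1, h2, h3]
  -- the stabiliser of the flat set
  have hstab : ∀ g ∈ Fr.Lev, (∀ x ∈ U, mv g x ∈ U) → mv g Fr.a = Fr.a → Fr.sh g y₀ = y₀ := by
    intro g hg hgU hga
    refine hfc.inj _ _ Fr.a Fr.a_ne_zero (hga ▸ Fr.mem_lab_lev pr hg hy₀a) hy₀a ?_
    refine (Finset.eq_of_subset_of_card_le ?_ ?_).symm
    · intro x hx
      rw [mem_labF] at hx ⊢
      have hbij : ((Fr.labF pr y₀).image (mv g)) = Fr.labF pr y₀ := by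
        refine Finset.eq_of_subset_of_card_le (fun v hv => ?_)
          (le_of_eq (Finset.card_image_of_injective _ (mv_injective g)).symm)
        obtain ⟨u, hu, rfl⟩ := Finset.mem_image.1 hv
        exact (Fr.mem_labF pr).2 (hgU u ((Fr.mem_labF pr).1 hu))
      obtain ⟨u, hu, rfl⟩ := Finset.mem_image.1 (hbij.symm ▸ (Fr.mem_labF pr).2 hx)
      exact Fr.mem_lab_lev pr hg ((Fr.mem_labF pr).1 hu)
    · rw [Fr.card_labF_sh pr hg]
  set x₀ := y₀.out with hx₀
  have hx₀cls : Fr.cls x₀ = y₀ := Fr.cls_out y₀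
  have hτ : ∀ g : EG Q, ∃ w, w ∈ Fr.W ∧
      (Fr.sh g y₀ = y₀ → rt Q Fr.e w • x₀ = g • x₀) := by
    intro g
    by_cases h : Fr.sh g y₀ = y₀
    · have : Fr.cls x₀ = Fr.cls (g • x₀) := hx₀cls.trans h.symm
      obtain ⟨w, hw, hwe⟩ := Fr.cls_eq_iff.1 this
      exact ⟨w, hw, fun _ => hwe⟩
    · exact ⟨0, zero_mem _, fun h' => absurd h' h⟩
  choose τ hτW hτe using hτ
  have hcongr : ∀ {w w'}, w ∈ Fr.W → w' ∈ Fr.W → rt Q Fr.e w • x₀ = rt Q Fr.e w' • x₀ →
      ∀ z ∈ U, 𝔅 z w = 𝔅 z w' := by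
    intro w w' hw hw' h z hz
    have hk : w' - w ∈ Fr.kst x₀ := by
      refine ⟨sub_mem hw' hw, smul_left_cancel (rt Q Fr.e w) ?_⟩
      rw [← mul_smul, Fr.rtE_mul hw (sub_mem hw' hw), add_sub_cancel, h]
    have h1 := hkst x₀ hk
    rw [hx₀cls] at h1
    have h2 := hUperp hz (show w' - w ∈ U from h1)
    rw [QuadraticMap.polar_sub_right, sub_eq_zero] at h2
    exact h2.symm
  have hφ : ∀ {z g h}, z ∈ U → g ∈ Fr.Lev → mv g z = z → Fr.sh g y₀ = y₀ → h ∈ Fr.Lev →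
      Fr.sh h y₀ = y₀ → 𝔅 z (τ (g * h)) = 𝔅 z (τ g) + 𝔅 z (τ h) := by
    intro z g h hz hg hgz hgy hh hhy
    have hgh := Fr.mv_mem_W hg (hτW h)
    have hy : Fr.sh (g * h) y₀ = y₀ := by rw [Fr.sh_mul hg, hhy, hgy]
    rw [hcongr (hτW (g * h)) (add_mem (hτW g) hgh) ?_ z hz, QuadraticMap.polar_add_right]
    · congr 1
      conv_lhs => rw [← hgz, polar_mv]
    · rw [hτe _ hy, mul_smul, ← hτe h hhy, Scales.smul_rtE Fr (Fr.scales_of_lev hg) (hτW h),
        one_smul, ← hτe g hgy, ← mul_smul, Fr.rtE_mul hgh (hτW g), add_comm]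
  have hφconj : ∀ {z g h}, z ∈ U → g ∈ Fr.Lev → mv g z = z → Fr.sh g y₀ = y₀ → h ∈ Fr.Lev →
      mv h z = z → Fr.sh h y₀ = y₀ → 𝔅 z (τ (g * h * g⁻¹)) = 𝔅 z (τ h) := by
    intro z g h hz hg hgz hgy hh hhz hhy
    have hgi : Fr.sh g⁻¹ y₀ = y₀ := by
      conv_lhs => rw [← hgy, Fr.sh_sh (Fr.scales_of_lev hg)]
    have h1 : 𝔅 z (τ (1 : EG Q)) = 0 := by
      have := hφ hz (one_mem _) (mv_one z) (Fr.sh_one y₀) (one_mem _) (Fr.sh_one y₀)
      rw [one_mul] at this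
      linear_combination -this
    have h2 := hφ hz hg hgz hgy (inv_mem hg) hgi
    rw [mul_inv_cancel, h1] at h2
    rw [hφ hz (mul_mem hg hh) (by rw [mv_mul, hhz, hgz]) (by rw [Fr.sh_mul hg, hhy, hgy])
      (inv_mem hg) hgi, hφ hz hg hgz hgy hh hhy]
    linear_combination -h2
  -- root elements at `a` stabilise
  have hroot : ∀ w ∈ Fr.W, 𝔅 Fr.a w = 0 → rt Q Fr.a w ∈ Fr.Lev ∧
      mv (rt Q Fr.a w) Fr.a = Fr.a ∧ Fr.sh (rt Q Fr.a w) y₀ = y₀ := by
    intro w hw haw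
    have hL := Fr.rt_mem_Lev Fr.a_mem Fr.qa hw haw
    have ha := mv_rt_fix Fr.qa haw Fr.aa (by rw [QuadraticMap.polar_comm, haw])
    refine ⟨hL, ha, hstab _ hL (fun x hx => ?_) ha⟩
    rw [mv_rt_perp Fr.qa haw (hUperp hy₀a hx)]
    exact sub_mem hx (U.smul_mem _ hy₀a)
  -- the diagonal element scaling `c`
  obtain ⟨μ, hμ0, hμ⟩ : ∃ μ : F, μ ≠ 0 ∧ μ ^ 2 ≠ 1 := by
    by_contra! h
    have hsub : (Finset.univ : Finset F) ⊆ {0, 1, -1} := by
      intro x _
      by_cases hx : x = 0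
      · simp [hx]
      rcases sq_eq_one_iff.1 (h x hx) with rfl | rfl <;> simp
    have := (Finset.card_le_card hsub).trans Finset.card_le_three
    rw [Finset.card_univ] at this
    omega
  let P₁ : TwoPairs Q := ⟨c, c', Fr.b, Fr.b', hcq, hc'q, Fr.qb, Fr.qb', hcc', Fr.bb',
    by rw [QuadraticMap.polar_comm, hbc], by rw [QuadraticMap.polar_comm, hb'c],
    by rw [QuadraticMap.polar_comm, hbc'], by rw [QuadraticMap.polar_comm, hb'c']⟩
  let P₂ : TwoPairs Q := ⟨c, c', Fr.b', Fr.b, hcq, hc'q, Fr.qb', Fr.qb, hcc', Fr.b'b,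
    by rw [QuadraticMap.polar_comm, hb'c], by rw [QuadraticMap.polar_comm, hbc],
    by rw [QuadraticMap.polar_comm, hb'c'], by rw [QuadraticMap.polar_comm, hbc']⟩
  set d := torus P₁ μ * torus P₂ μ
  obtain ⟨s1, s2, s3, -⟩ := torus_pairs P₁ hμ0
  obtain ⟨t1, t2, -, t4⟩ := torus_pairs P₂ hμ0
  have hdfix : ∀ {x}, 𝔅 c x = 0 → 𝔅 c' x = 0 → 𝔅 Fr.b x = 0 → 𝔅 Fr.b' x = 0 → mv d x = x :=
    fun h1 h2 h3 h4 => by
      rw [mv_mul, torus_fix P₂ h1 h2 h4 h3, torus_fix P₁ h1 h2 h3 h4]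
  have hdc : mv d c = μ ^ 2 • c := by
    rw [mv_mul, show mv (torus P₂ μ) c = μ • c from t1, mv_smul,
      show mv (torus P₁ μ) c = μ • c from s1, smul_smul, sq]
  have hdc' : mv d c' = (μ⁻¹) ^ 2 • c' := by
    rw [mv_mul, show mv (torus P₂ μ) c' = μ⁻¹ • c' from t2, mv_smul,
      show mv (torus P₁ μ) c' = μ⁻¹ • c' from s2, smul_smul, sq]
  have hdb : mv d Fr.b = Fr.b := by
    rw [mv_mul, show mv (torus P₂ μ) Fr.b = μ⁻¹ • Fr.b from t4, mv_smul,
      show mv (torus P₁ μ) Fr.b = μ • Fr.b from s3, smul_smul, inv_mul_cancel₀ hμ0, one_smul]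
  have hda : mv d Fr.a = Fr.a := hdfix (by rw [QuadraticMap.polar_comm, hac])
    (by rw [QuadraticMap.polar_comm, hac']) Fr.ba Fr.b'a
  have hdL : d ∈ Fr.Lev := by
    obtain ⟨hec, hfc'⟩ := Fr.mem_W.1 hcW
    obtain ⟨hec', hfc''⟩ := Fr.mem_W.1 hc'W
    constructor
    · exact hdfix (by rw [QuadraticMap.polar_comm, hec]) (by rw [QuadraticMap.polar_comm, hec'])
        (by rw [QuadraticMap.polar_comm, Fr.eb]) (by rw [QuadraticMap.polar_comm, Fr.eb'])
    · exact hdfix (by rw [QuadraticMap.polar_comm, hfc']) (by rw [QuadraticMap.polar_comm, hfc''])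
        (by rw [QuadraticMap.polar_comm, Fr.fb]) (by rw [QuadraticMap.polar_comm, Fr.fb'])
  have hdy : Fr.sh d y₀ = y₀ := by
    refine hstab d hdL (fun x hx => ?_) hda
    obtain ⟨α, β, γ, rfl⟩ := hUspan x hx
    rw [mv_add, mv_add, mv_smul, mv_smul, mv_smul, hda, hdb, hdc]
    exact add_mem (add_mem (U.smul_mem _ hy₀a) (U.smul_mem _ hy₀b))
      (U.smul_mem _ (U.smul_mem _ hcU))
  -- the cocycle vanishes on `a` and `b`
  have hzero : ∀ z, z = Fr.a ∨ z = Fr.b → ∀ (w : ι → F) (μ' : F), μ' ≠ 1 → w ∈ Fr.W → 𝔅 Fr.a w = 0 →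
      𝔅 w z = 0 → mv d w = μ' • w → 𝔅 z (τ (rt Q Fr.a w)) = 0 := by
    intro z hz w μ' hμ' hw haw hwz hdw
    have hzU : z ∈ U := by rcases hz with rfl | rfl; exacts [hy₀a, hy₀b]
    have hdz : mv d z = z := by rcases hz with rfl | rfl; exacts [hda, hdb]
    have haz : 𝔅 Fr.a z = 0 := hUperp hy₀a hzU
    have hts : ∀ t : F, 𝔅 Fr.a (t • w) = 0 := fun t => by
      rw [QuadraticMap.polar_smul_right, haw, smul_zero]
    have hrz : ∀ t : F, mv (rt Q Fr.a (t • w)) z = z := fun t =>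
      mv_rt_fix Fr.qa (hts t) haz (by rw [QuadraticMap.polar_smul_left, hwz, smul_zero])
    have hsq : ∀ t : F, 𝔅 z (τ (rt Q Fr.a ((μ' * t) • w))) = 𝔅 z (τ (rt Q Fr.a (t • w))) := by
      intro t
      obtain ⟨h1, -, h3⟩ := hroot _ (Fr.W.smul_mem t hw) (hts t)
      rw [← hφconj hzU hdL hdz hdy h1 (hrz t) h3, rt_conj d Fr.qa (hts t), hda, mv_smul, hdw,
        smul_smul, mul_comm t μ']
    have hadd : ∀ s t : F, 𝔅 z (τ (rt Q Fr.a ((s + t) • w))) =
        𝔅 z (τ (rt Q Fr.a (s • w))) + 𝔅 z (τ (rt Q Fr.a (t • w))) := by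
      intro s t
      obtain ⟨h1, -, h3⟩ := hroot _ (Fr.W.smul_mem s hw) (hts s)
      obtain ⟨h1', -, h3'⟩ := hroot _ (Fr.W.smul_mem t hw) (hts t)
      rw [add_smul, ← rt_mul Fr.qa (hts s) (hts t)]
      exact hφ hzU h1 (hrz s) h3 h1' h3'
    set t := (μ' - 1)⁻¹
    have h := hadd (μ' * t - t) t
    rw [sub_add_cancel, hsq t, show μ' * t - t = 1 by
      simp only [t]; field_simp [sub_ne_zero.2 hμ'], one_smul] at h
    linear_combination -h
  set u := c + c' with hu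
  have huW : u ∈ Fr.W := add_mem hcW hc'W
  have hau : 𝔅 Fr.a u = 0 := by rw [QuadraticMap.polar_add_right, hac, hac', add_zero]
  have hQu : Q u = 1 := by
    rw [hu, QuadraticMap.map_add (⇑Q), hcq, hc'q, hcc']; simp
  obtain ⟨hL, -, hy⟩ := hroot u huW hau
  have hμ2 : (μ⁻¹) ^ 2 ≠ 1 := by rwa [inv_pow, ne_eq, inv_eq_one]
  have hab : ∀ z, z = Fr.a ∨ z = Fr.b → 𝔅 z (τ (rt Q Fr.a u)) = 0 := by
    intro z hz
    have hzc : 𝔅 c z = 0 ∧ 𝔅 c' z = 0 := by
      rcases hz with rfl | rfl <;> constructor <;> rw [QuadraticMap.polar_comm]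
      exacts [hac, hac', hbc, hbc']
    obtain ⟨hL1, -, hy1⟩ := hroot c hcW hac
    obtain ⟨hL2, -, hy2⟩ := hroot c' hc'W hac'
    have haz : 𝔅 Fr.a z = 0 := by rcases hz with rfl | rfl; exacts [Fr.aa, Fr.ab]
    rw [hu, ← rt_mul Fr.qa hac hac', hφ (by rcases hz with rfl | rfl; exacts [hy₀a, hy₀b]) hL1
      (mv_rt_fix Fr.qa hac haz hzc.1) hy1 hL2 hy2, hzero z hz c _ hμ hcW hac hzc.1 hdc,
      hzero z hz c' _ hμ2 hc'W hac' hzc.2 hdc', add_zero]
  -- a fixed point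
  set t := τ (rt Q Fr.a u)
  set w₀ := (-𝔅 c t) • Fr.a' with hw₀
  have hw₀W : w₀ ∈ Fr.W := Fr.W.smul_mem _ Fr.a'_mem
  set w₁ := mv (rt Q Fr.a u) w₀ + t
  have hw₁W : w₁ ∈ Fr.W := add_mem (Fr.mv_mem_W hL hw₀W) (hτW _)
  have hfix : rt Q Fr.a u • rt Q Fr.e w₀ • x₀ = rt Q Fr.e w₀ • x₀ := by
    rw [Scales.smul_rtE Fr (Fr.scales_of_lev hL) hw₀W, one_smul, ← hτe _ hy, ← mul_smul,
      Fr.rtE_mul (Fr.mv_mem_W hL hw₀W) (hτW _)]
    show rt Q Fr.e w₁ • x₀ = rt Q Fr.e w₀ • x₀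
    have hd : w₁ - w₀ ∈ Fr.kst x₀ := by
      refine hkst' x₀ (hx₀cls ▸ ?_)
      refine (Fr.card_flat_sq pr hQ hpr hflat₀).2 (by rw [hcard₀, hWcard, hH3, ← pow_add]) _
        (sub_mem hw₁W hw₀W) fun x hx => ?_
      have huc : 𝔅 c u = 1 := by
        rw [hu, QuadraticMap.polar_add_right, polar_self', hcq, hcc', mul_zero, zero_add]
      have hub : 𝔅 Fr.b u = 0 := by rw [hu, QuadraticMap.polar_add_right, hbc, hbc', add_zero]
      have hua : 𝔅 u Fr.a' = 0 := by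
        rw [hu, QuadraticMap.polar_add_left, QuadraticMap.polar_comm (⇑Q) c, ha'c,
          QuadraticMap.polar_comm (⇑Q) c', ha'c', add_zero]
      have he : w₁ - w₀ = (-𝔅 c t) • u + (𝔅 c t * Q u) • Fr.a + t := by
        simp only [w₁, w₀]
        rw [mv_smul, mv_rt Fr.qa hau, Fr.aa', hua]
        module
      obtain ⟨α, β, γ, rfl⟩ := hUspan x hx
      rw [he, QuadraticMap.polar_comm]
      simp only [QuadraticMap.polar_add_left, QuadraticMap.polar_add_right,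
        QuadraticMap.polar_smul_left, QuadraticMap.polar_smul_right, Fr.aa, Fr.ba, hau, hub, huc,
        QuadraticMap.polar_comm (⇑Q) c Fr.a, hac, hab _ (Or.inl rfl), hab _ (Or.inr rfl),
        smul_eq_mul]
      ring
    conv_lhs => rw [show w₁ = w₀ + (w₁ - w₀) by abel, ← Fr.rtE_mul hw₀W (sub_mem hw₁W hw₀W),
      mul_smul, hd.2]
  obtain ⟨g, s, hs, x', hx', -, hx'q, hg⟩ := Fr.exists_conj_rtE hQ Fr.qa hau
    (fun e he => by
      rw [he, QuadraticMap.map_smul, Fr.qa, smul_zero] at hQu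
      exact zero_ne_one hQu) Fr.a_ne_zero
  have hk : x' ∈ Fr.kst (g • rt Q Fr.e w₀ • x₀) := by
    refine ⟨hx', ?_⟩
    rw [← hg, mul_smul, mul_smul, inv_smul_smul, hfix]
  have h1 := ((hflat _).1.1 x' (hkst _ hk)).1
  rw [hx'q, hQu, mul_one] at h1
  exact hs (eq_zero_of_pow_eq_zero h1)

end Frame

end CfsgLib.MinDegree.Orth
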