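import Cfsg.Agent.MinDegree.OrthBound

/-!
# Small actions with a flat label set

`exists_flatCase`: all non-zero labels are singular, through each of them pass exactly `q + 1` orbits
with distinct half dimensional label sets, and few points are fixed by the root group.
-/

set_option autoImplicit false
set_option linter.unusedSectionVars false

namespace CfsgLib.MinDegree.Orth

open Matrix Module CfsgLib.Spinor CfsgLib.Forms CfsgLib.Forms4 CfsgLib.OrthMax
open scoped Classical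

variable {F : Type*} [Field F] {ι : Type} [Fintype ι] [DecidableEq ι] {Q : QuadraticForm F (ι → F)}
  [Fintype F]

set_option quotPrecheck false in
local notation "𝔅" => QuadraticMap.polar (⇑Q)
local notation "qF" => Fintype.card F
local notation "nι" => Fintype.card ι

/-- The arithmetic excluding other orbits: `o` counts their points. -/
theorem arith_rest {K H o R d : ℕ} (hK : 3 ≤ K) (hR : (K * K + 2 * K) * H ≤ R)
    (hd : d = ((K + 2) * ((K + 1) ^ 2 + 1)) * H + o) (hRo : R ≤ o)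
    (hsmall : K * d + 1 < K * ((K + 1) ^ 3 * H) + (K + 1) * (((K + 1) ^ 2 + 1) * (H - 1) + 1))
    (hH : 0 < H) : False := by
  obtain ⟨j, rfl⟩ : ∃ j, H = j + 1 := ⟨H - 1, by omega⟩
  rw [Nat.add_sub_cancel] at hsmall
  have h1 := Nat.mul_le_mul_left K (hR.trans hRo)
  have h2 := Nat.mul_le_mul_right ((K * K + 2 * K) * (j + 1)) hK
  subst hd
  nlinarith

/-- The bound on the fixed points. -/
theorem arith_le {K j o : ℕ}
    (h : K * ((K + 1 + 1) * ((K + 1) ^ 2 + 1) * (j + 1) + o) + 1 <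
      K * ((K + 1) ^ 3 * (j + 1)) + (K + 1) * (((K + 1) ^ 2 + 1) * j + 1)) :
    K * o + (K + 1) ^ 3 + 2 ≤ (K + 1 + 1) * (j + 1) := by
  zify at h ⊢
  linarith

namespace Frame

variable (Fr : Frame Q) {Ω : Type*} [MulAction (EG Q) Ω] [Fintype Ω] {p : ℕ} (pr : F →+ ZMod p)

/-- All non-zero labels lie in half dimensional flat sets. -/
structure FlatCase (Ω : Type*) [MulAction (EG Q) Ω] [Fintype Ω] (H o : ℕ) : Prop where
  hH : H = Fintype.card F ^ (Fintype.card ι - 5)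
  through : ∀ (y : Fr.Orb Ω) (v : ι → F), v ∈ Fr.lab pr y → v ≠ 0 →
    Fr.IsFlat pr y ∧ (Fr.labF pr y).card = H
  inj : ∀ (y y' : Fr.Orb Ω) (v : ι → F), v ≠ 0 → v ∈ Fr.lab pr y → v ∈ Fr.lab pr y' →
    Fr.labF pr y = Fr.labF pr y' → y = y'
  mult_eq : ∀ v : ι → F, v ∈ Fr.W → v ≠ 0 → Q v = 0 →
    Fr.mult (Ω := Ω) pr v = Fintype.card F + 1
  card_zero : o = ((Finset.univ : Finset (Fr.Orb Ω)).filter fun y => ∀ v ∈ Fr.lab pr y, v = 0).card
  card_eq : Fintype.card Ω = (Fintype.card F + 1) * (Fintype.card F ^ 2 + 1) * H + o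
  card_le : (Fintype.card F - 1) * o + Fintype.card F ^ 3 + 2 ≤ (Fintype.card F + 1) * H

theorem card_labF_sh {g : EG Q} (hg : g ∈ Fr.Lev) (y : Fr.Orb Ω) :
    (Fr.labF pr (Fr.sh g y)).card = (Fr.labF pr y).card := by
  refine (Finset.card_bij' (fun x _ => mv g x) (fun x _ => mv g⁻¹ x) ?_ ?_
    (fun x _ => mv_inv_mv g x) (fun x _ => mv_mv_inv g x)).symm
  · intro x hx
    rw [mem_labF] at hx ⊢
    exact Fr.mem_lab_lev pr hg hx
  · intro x hx
    rw [mem_labF] at hx ⊢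
    have := Fr.mem_lab_lev pr (inv_mem hg) hx
    rwa [Fr.sh_sh (Fr.scales_of_lev hg)] at this

variable (hQ : (QuadraticMap.polarBilin Q).Nondegenerate) [Fact p.Prime] [CharP F p] (hpr : pr ≠ 0)
  (hn : 7 ≤ Fintype.card ι) (hq4 : 4 ≤ Fintype.card F) (hsmall : Small Q Ω)

include hQ hn in
theorem card_vals_W3_seven (h7 : Fintype.card ι = 7) : (vals Q Fr.W3 0).card = 1 := by
  obtain ⟨-, -, -, h3⟩ := Fr.six_le
  rw [h7, pow_one] at h3
  rw [Finset.card_eq_one]
  refine ⟨0, Finset.eq_singleton_iff_unique_mem.2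
    ⟨mem_vals.2 ⟨zero_mem _, QuadraticMap.map_zero Q⟩, fun z hz => ?_⟩⟩
  obtain ⟨hzW, hzq⟩ := mem_vals.1 hz
  by_contra hz0
  have hall : ((Finset.univ : Finset F).image fun c => c • z) = elts Fr.W3 := by
    refine Finset.eq_of_subset_of_card_le (fun x hx => ?_) ?_
    · obtain ⟨c, -, rfl⟩ := Finset.mem_image.1 hx
      exact mem_elts.2 (Fr.W3.smul_mem c hzW)
    · rw [h3, Finset.card_image_of_injective _ (smul_left_injective F hz0), Finset.card_univ]
  refine hz0 (Fr.sepW3 hQ z hzW fun w hw => ?_)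
  obtain ⟨c, -, rfl⟩ := Finset.mem_image.1 (hall.symm ▸ mem_elts.2 hw)
  rw [QuadraticMap.polar_smul_right, polar_self', hzq, mul_zero, smul_zero]

include hQ hpr hn hq4 hsmall in
/-- A flat label set makes every orbit flat or fixed. -/
theorem exists_flatCase [Nonempty Ω] {y : Fr.Orb Ω} (hflat : Fr.IsFlat pr y) {v z : ι → F}
    (hv : v ∈ Fr.lab pr y) (hv0 : v ≠ 0) (hz : z ∈ Fr.lab pr y) (hzv : ∀ c : F, z ≠ c • v) :
    ((Fintype.card ι = 7 ∧ (Fr.labF pr y).card = Fintype.card F ^ 2) ∨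
      (Fintype.card ι = 8 ∧ (Fr.labF pr y).card = Fintype.card F ^ 3)) ∧
      ∃ o, Fr.FlatCase pr Ω (Fr.labF pr y).card o := by
  have hm := Fr.mc_zero_le pr hQ hpr hq4 hsmall
  have hmv : ∀ u : ι → F, u ∈ Fr.W → u ≠ 0 → Q u = 0 → Fr.mult (Ω := Ω) pr u ≤ qF + 1 :=
    fun u hu hu0 hq => by rw [Fr.mult_eq_mc pr hQ hu hu0, hq]; exact hm
  have hqv := (hflat.1 v hv).1
  have hdim := Fr.plane_dim pr hQ hn hpr hflat hv hv0 hz hzv (hmv v hv.1 hv0 hqv)
  refine ⟨hdim, ?_⟩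
  obtain ⟨H, hH⟩ : ∃ H, H = (Fr.labF pr y).card := ⟨_, rfl⟩
  rw [← hH] at hdim ⊢
  have hqpos : 0 < qF := Fintype.card_pos
  have hH5 : H = qF ^ (nι - 5) := by
    rcases hdim with ⟨h7, h⟩ | ⟨h8, h⟩
    · rw [h, h7]
    · rw [h, h8]
  have hH4 : qF * H = qF ^ (nι - 4) := by
    rw [hH5, ← pow_succ', show nι - 5 + 1 = nι - 4 by omega]
  have hHq : qF < H := by
    have h2 : qF ^ 2 ≤ H := by rw [hH5]; exact Nat.pow_le_pow_right hqpos (by omega)
    have h1 : qF * 4 ≤ qF * qF := Nat.mul_le_mul_left _ hq4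
    rw [sq] at h2
    omega
  -- through a singular vector there are `q + 1` different flat sets
  have hkey : ∀ u : ι → F, u ∈ Fr.W → u ≠ 0 → Q u = 0 → Fr.mult (Ω := Ω) pr u = qF + 1 ∧
      (∀ y' : Fr.Orb Ω, u ∈ Fr.lab pr y' → Fr.IsFlat pr y' ∧ (Fr.labF pr y').card = H) ∧
        Set.InjOn (fun y' => Fr.labF pr y')
          {y' : Fr.Orb Ω | u ∈ Fr.lab pr y'} := by
    intro u hu hu0 hqu
    obtain ⟨g, hg, hgv⟩ := Fr.exists_lev_map hQ hv.1 hv0 hu hu0 (hqv.trans hqu.symm)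
    have hy1 : u ∈ Fr.lab pr (Fr.sh g y) := hgv ▸ Fr.mem_lab_lev pr hg hv
    have h1 := Fr.plane_count pr hQ hn (Fr.isFlat_sh pr hg hflat) hy1 hu0
      (Fr.mem_lab_lev pr hg hz) (fun c h => hzv c (mv_injective g (by rw [h, mv_smul, hgv])))
    rw [Fr.card_labF_sh pr hg, ← hH, ← hH4] at h1
    set T := (Finset.univ : Finset (Fr.Orb Ω)).filter fun y' => u ∈ Fr.lab pr y' ∧
      Fr.IsFlat pr y' ∧ (Fr.labF pr y').card = H with hT
    have h2 : qF + 1 ≤ (T.image fun y' => Fr.labF pr y').card := by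
      refine Nat.le_of_mul_le_mul_left (le_trans (le_of_eq ?_) h1) (by omega : 0 < H)
      ring
    have h3 : T ⊆ (Finset.univ : Finset (Fr.Orb Ω)).filter fun y' => u ∈ Fr.lab pr y' :=
      fun y' hy' => Finset.mem_filter.2 ⟨Finset.mem_univ _, (Finset.mem_filter.1 hy').2.1⟩
    have h4 := Finset.card_le_card h3
    have h5 := hmv u hu hu0 hqu
    have h6 : (T.image fun y' => Fr.labF pr y').card ≤ T.card := Finset.card_image_le
    unfold Frame.mult at h5 ⊢
    have hTeq := Finset.eq_of_subset_of_card_le h3 (by omega)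
    refine ⟨by omega, fun y' hy' => ?_, ?_⟩
    · exact (Finset.mem_filter.1 (hTeq.symm ▸
        Finset.mem_filter.2 ⟨Finset.mem_univ _, hy'⟩ : y' ∈ T)).2.2
    · intro y₁ hy₁ y₂ hy₂ he
      have hinj : Set.InjOn (fun y' => Fr.labF pr y') (T : Set (Fr.Orb Ω)) :=
        (Finset.card_image_iff (s := T) (f := fun y' => Fr.labF pr y')).1 (by omega)
      exact hinj (hTeq.symm ▸ Finset.mem_filter.2 ⟨Finset.mem_univ _, hy₁⟩ : y₁ ∈ T)
        (hTeq.symm ▸ Finset.mem_filter.2 ⟨Finset.mem_univ _, hy₂⟩ : y₂ ∈ T) he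
  -- the singular vectors of `W`
  obtain ⟨X, S0, hX, hS1, hS, -, -, hW, hNlo, hV⟩ := Fr.numerics
  rw [← hH5] at hX
  rw [hX] at hW hNlo hV
  obtain ⟨K, hK⟩ : ∃ K, qF = K + 1 := ⟨qF - 1, by omega⟩
  have hS0 : S0 = (qF ^ 2 + 1) * (H - 1) := by
    obtain ⟨j, hj⟩ : ∃ j, H = j + 1 := ⟨H - 1, by omega⟩
    rcases hdim with ⟨h7, h⟩ | ⟨h8, h⟩
    · obtain ⟨e1, e2, -⟩ := Fr.card_vals_W (Q := Q) 0
      rw [Fr.card_vals_W3_seven hQ hn h7] at e2
      rw [e2, hS1, h7, show (7 : ℕ) - 4 = 3 from rfl, show (7 : ℕ) - 6 = 1 from rfl, pow_one,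
        mul_one] at e1
      rw [hj, Nat.add_sub_cancel]
      rw [hj, hK] at h
      rw [hK] at e1 ⊢
      rw [Nat.add_sub_cancel] at e1
      nlinarith
    · have e := Fr.card_singular_of_half pr hQ hpr hflat (by
        rw [← hH, hW, h])
      rw [← hH, hS1, hW] at e
      rw [hj, Nat.add_sub_cancel]
      rw [hj, hK] at h e
      rw [hK]
      have : (K + 1) * (S0 + 1) = (K + 1) * (((K + 1) ^ 2 + 1) * j + 1) := by nlinarith
      exact Nat.add_right_cancel (Nat.eq_of_mul_eq_mul_left (by omega) this)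
  -- counting the flat orbits
  set F2 := (Finset.univ : Finset (Fr.Orb Ω)).filter fun y' => Fr.IsFlat pr y' ∧
    (Fr.labF pr y').card = H with hF2
  have hmemF2 : ∀ {y'}, y' ∈ F2 ↔ Fr.IsFlat pr y' ∧ (Fr.labF pr y').card = H := fun {y'} => by
    simp [F2]
  have hF2card : F2.card = (qF + 1) * (qF ^ 2 + 1) := by
    have h1 : ∑ y' ∈ F2, ((Fr.labF pr y').card - 1) = (qF + 1) * S0 := by
      have hA : ∀ y' ∈ F2, (Fr.labF pr y').card - 1 =
          (((vals Q Fr.W 0).erase 0).filter fun u => u ∈ Fr.lab pr y').card := by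
        intro y' hy'
        rw [← Finset.card_erase_of_mem ((Fr.mem_labF pr).2 (zero_mem _))]
        refine congrArg Finset.card ?_
        ext u
        simp only [Finset.mem_erase, mem_labF, Finset.mem_filter, mem_vals]
        exact ⟨fun h => ⟨⟨h.1, h.2.1, ((hmemF2.1 hy').1.1 u h.2).1⟩, h.2⟩,
          fun h => ⟨h.1.1, h.2⟩⟩
      rw [Finset.sum_congr rfl hA, ← hS, mul_comm, ← smul_eq_mul, ← Finset.sum_const]
      simp only [Finset.card_filter]
      rw [Finset.sum_comm]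
      refine Finset.sum_congr rfl fun u hu => ?_
      obtain ⟨hu0, hu'⟩ := Finset.mem_erase.1 hu
      obtain ⟨hk1, hk2, -⟩ := hkey u (mem_vals.1 hu').1 hu0 (mem_vals.1 hu').2
      rw [← Finset.card_filter, ← hk1]
      refine congrArg Finset.card ?_
      ext y'
      simp only [Finset.mem_filter, Finset.mem_univ, true_and, hmemF2]
      exact ⟨fun h => h.2, fun h => ⟨hk2 y' h, h⟩⟩
    rw [Finset.sum_congr rfl fun y' hy' => by rw [(hmemF2.1 hy').2], Finset.sum_const, smul_eq_mul,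
      hS0] at h1
    exact Nat.eq_of_mul_eq_mul_right (by omega : 0 < H - 1) (h1.trans (by ring))
  set R := (Finset.univ : Finset (Fr.Orb Ω)).filter fun y' => y' ∉ F2 with hR
  have hmemR : ∀ {y'}, y' ∈ R ↔ y' ∉ F2 := fun {y'} => by simp [R]
  have hd : Fintype.card Ω = (qF + 1) * (qF ^ 2 + 1) * H + ∑ y' ∈ R, (Fr.labF pr y').card := by
    rw [Fr.card_eq_sum_pts, Finset.sum_congr rfl fun y' _ => (Fr.card_pts_eq pr hQ hpr y').1,
      ← hF2card, ← Finset.sum_filter_add_sum_filter_not Finset.univ (fun y' => y' ∈ F2),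
      Finset.filter_univ_mem, Finset.sum_congr rfl fun y' hy' => (hmemF2.1 hy').2, Finset.sum_const,
      smul_eq_mul]
  have hsmall' := hsmall
  unfold Small at hsmall'
  rw [hV, hS0, hK, Nat.add_sub_cancel] at hsmall'
  -- no other non-zero label
  have hzero : ∀ y' ∈ R, ∀ u ∈ Fr.lab pr y', u = 0 := by
    intro y' hy' u hu
    by_contra hu0
    by_cases hqu : Q u = 0
    · exact hmemR.1 hy' (hmemF2.2 ((hkey u hu.1 hu0 hqu).2.1 y' hu))
    have hcls : ∀ w ∈ vals Q Fr.W (Q u), ∃ y'' ∈ R, w ∈ Fr.lab pr y'' := by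
      intro w hw
      obtain ⟨hwW, hwq⟩ := mem_vals.1 hw
      have hw0 : w ≠ 0 := fun h => hqu (by rw [← hwq, h, QuadraticMap.map_zero])
      obtain ⟨g, hg, hgu⟩ := Fr.exists_lev_map hQ hu.1 hu0 hwW hw0 hwq.symm
      refine ⟨Fr.sh g y', hmemR.2 fun h => hqu ?_, hgu ▸ Fr.mem_lab_lev pr hg hu⟩
      have := ((hmemF2.1 h).1.1 _ (Fr.mem_lab_lev pr hg hu)).1
      rwa [quad_mv] at this
    have hsub : vals Q Fr.W (Q u) ⊆ R.biUnion fun y'' => Fr.labF pr y'' := fun w hw => by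
      obtain ⟨y'', h1, h2⟩ := hcls w hw
      exact Finset.mem_biUnion.2 ⟨y'', h1, (Fr.mem_labF pr).2 h2⟩
    have h1 := (Finset.card_le_card hsub).trans Finset.card_biUnion_le
    have h2 := hNlo (Q u)
    rw [hK] at hd h2
    rw [show (K + 1) * (K + 1) - 1 = K * K + 2 * K by
      rw [show (K + 1) * (K + 1) = K * K + 2 * K + 1 by ring, Nat.add_sub_cancel]] at h2
    exact arith_rest (by omega) h2 (hd.trans (by ring)) h1 hsmall' (by omega)
  set o := ((Finset.univ : Finset (Fr.Orb Ω)).filter fun y' => ∀ u ∈ Fr.lab pr y', u = 0).card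
  have hsumR : ∑ y' ∈ R, (Fr.labF pr y').card = o := by
    have hone : ∀ y' ∈ R, (Fr.labF pr y').card = 1 := fun y' hy' => Finset.card_eq_one.2
      ⟨0, Finset.eq_singleton_iff_unique_mem.2 ⟨(Fr.mem_labF pr).2 (zero_mem _),
        fun u hu => hzero y' hy' u ((Fr.mem_labF pr).1 hu)⟩⟩
    rw [Finset.sum_congr rfl hone, Finset.sum_const, smul_eq_mul, mul_one]
    refine congrArg Finset.card ?_
    ext y'
    simp only [hmemR, Finset.mem_filter, Finset.mem_univ, true_and]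
    refine ⟨fun h => hzero y' (hmemR.2 h), fun h hF => ?_⟩
    have h1 : (Fr.labF pr y').card = 1 := Finset.card_eq_one.2
      ⟨0, Finset.eq_singleton_iff_unique_mem.2 ⟨(Fr.mem_labF pr).2 (zero_mem _),
        fun u hu => h u ((Fr.mem_labF pr).1 hu)⟩⟩
    rw [(hmemF2.1 hF).2] at h1
    omega
  rw [hsumR] at hd
  refine ⟨o, ⟨hH5, fun y' u hu hu0 => ?_, fun y₁ y₂ u hu0 h₁ h₂ he => ?_,
    fun u hu hu0 hqu => (hkey u hu hu0 hqu).1, rfl, hd, ?_⟩⟩
  · by_cases hy' : y' ∈ F2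
    · exact hmemF2.1 hy'
    · exact absurd (hzero y' (hmemR.2 hy') u hu) hu0
  · have hqu : Q u = 0 := by
      by_contra hqu
      refine hu0 (hzero y₁ (hmemR.2 fun h => hqu ((hmemF2.1 h).1.1 u h₁).1) u h₁)
    exact (hkey u h₁.1 hu0 hqu).2.2 h₁ h₂ he
  · obtain ⟨j, hj⟩ : ∃ j, H = j + 1 := ⟨H - 1, by omega⟩
    rw [hd, hK, hj, Nat.add_sub_cancel] at hsmall'
    rw [hK, hj, Nat.add_sub_cancel]
    exact arith_le hsmall'

/-- A flat set with a non-zero label is flat of the common size; there is one through each pair. -/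
theorem FlatCase.exists_through {H o : ℕ} (h : Fr.FlatCase pr Ω H o) {v : ι → F} (hv : v ∈ Fr.W)
    (hv0 : v ≠ 0) (hq : Q v = 0) : ∃ y : Fr.Orb Ω, v ∈ Fr.lab pr y := by
  have := h.mult_eq v hv hv0 hq
  unfold Frame.mult at this
  obtain ⟨y, hy⟩ := Finset.card_pos.1
    (show 0 < ((Finset.univ : Finset (Fr.Orb Ω)).filter fun y => v ∈ Fr.lab pr y).card by
      rw [this]; exact Nat.succ_pos _)
  exact ⟨y, (Finset.mem_filter.1 hy).2⟩

include hQ hpr in
/-- An orbit with all labels zero has one point, which the root group fixes. -/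
theorem FlatCase.pts_card {H o : ℕ} (h : Fr.FlatCase pr Ω H o)
    (y : Fr.Orb Ω) : (Fr.pts y).card = if ∀ v ∈ Fr.lab pr y, v = 0 then 1 else H := by
  rw [(Fr.card_pts_eq pr hQ hpr y).1]
  split_ifs with h0
  · exact Finset.card_eq_one.2 ⟨0, Finset.eq_singleton_iff_unique_mem.2
      ⟨(Fr.mem_labF pr).2 (zero_mem _), fun u hu => h0 u ((Fr.mem_labF pr).1 hu)⟩⟩
  · push Not at h0
    obtain ⟨v, hv, hv0⟩ := h0
    exact (h.through y v hv hv0).2

end Frame

end CfsgLib.MinDegree.Orth
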