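import Cfsg.Agent.MinDegree.OrthFlat

/-!
# Flat sets through two given vectors

`exists_flat_pair`: in the flat case some orbit carries `a` and any given singular vector of `W₂`.
-/

set_option autoImplicit false
set_option linter.unusedSectionVars false

namespace CfsgLib.MinDegree.Orth

open Matrix Module CfsgLib.Spinor CfsgLib.Forms CfsgLib.Forms4 CfsgLib.OrthMax
open scoped Classical

variable {F : Type*} [Field F] {ι : Type} [Fintype ι] [DecidableEq ι] {Q : QuadraticForm F (ι → F)}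
  [Fintype F]

set_option quotPrecheck false in
local notation "𝔅" => QuadraticMap.polar (⇑Q)
local notation "qF" => Fintype.card F
local notation "nι" => Fintype.card ι

namespace Frame

variable (Fr : Frame Q) (hQ : (QuadraticMap.polarBilin Q).Nondegenerate)
  (hn : 7 ≤ Fintype.card ι)

theorem a_ne_zero : Fr.a ≠ 0 := fun h => by
  have := Fr.aa'
  rw [h, QuadraticMap.polar_zero_left] at this
  exact zero_ne_one this

theorem b_ne_zero : Fr.b ≠ 0 := fun h => by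
  have := Fr.bb'
  rw [h, QuadraticMap.polar_zero_left] at this
  exact zero_ne_one this

theorem b'_ne_zero : Fr.b' ≠ 0 := fun h => by
  have := Fr.bb'
  rw [h, QuadraticMap.polar_zero_right] at this
  exact zero_ne_one this

/-- Moving a singular vector of `W₂` to one pairing with it. -/
theorem exists_move_pairing {z s : ι → F} (hz : z ∈ Fr.W2) (hzq : Q z = 0) (hs : s ∈ Fr.W2)
    (hsq : Q s = 0) {x : ι → F} (hx : x ∈ Fr.W2) (hxq : Q x = 0) (hxz : 𝔅 x z ≠ 0)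
    (hxs : 𝔅 x s ≠ 0) : ∃ g ∈ Fr.Lev, mv g Fr.a = Fr.a ∧ ∃ κ : F, κ ≠ 0 ∧ mv g z = κ • s := by
  set κ := 𝔅 x z / 𝔅 x s
  obtain ⟨hxt, hmove⟩ := eich_move (u := x) (v := z) (y := κ • s) hxq hzq
    (by rw [QuadraticMap.map_smul, hsq, smul_zero]) hxz
    (by rw [QuadraticMap.polar_smul_right, smul_eq_mul, div_mul_cancel₀ _ hxs])
  set t := (𝔅 x z)⁻¹ • (κ • s - z)
  have htW2 : t ∈ Fr.W2 := Fr.W2.smul_mem _ (sub_mem (Fr.W2.smul_mem _ hs) hz)
  obtain ⟨hxW, hxa, -⟩ := Fr.mem_W2.1 hx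
  obtain ⟨htW, hta, -⟩ := Fr.mem_W2.1 htW2
  exact ⟨rt Q x t, Fr.rt_mem_Lev hxW hxq htW hxt,
    mv_rt_fix hxq hxt (by rw [QuadraticMap.polar_comm]; exact hxa)
      (by rw [QuadraticMap.polar_comm]; exact hta),
    κ, div_ne_zero hxz hxs, by rw [mv, mat_rt hxq hxt]; exact hmove⟩

include hQ hn in
/-- The stabiliser of `a` is transitive on the singular points of `W₂`. -/
theorem exists_move_W2 {z s : ι → F} (hz : z ∈ Fr.W2) (hzq : Q z = 0) (hz0 : z ≠ 0)
    (hs : s ∈ Fr.W2) (hsq : Q s = 0) (hs0 : s ≠ 0) :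
    ∃ g ∈ Fr.Lev, mv g Fr.a = Fr.a ∧ ∃ κ : F, κ ≠ 0 ∧ mv g z = κ • s := by
  obtain ⟨x, hx, hxq, hzx⟩ := exists_partner_in (K := Fr.W2) hz hzq (by
    by_contra! h0
    exact hz0 (Fr.sepW2 hQ z hz h0))
  have hxz : 𝔅 x z = 1 := by rw [QuadraticMap.polar_comm, hzx]
  by_cases hxs : 𝔅 x s = 0
  swap
  · exact Fr.exists_move_pairing hz hzq hs hsq hx hxq (by rw [hxz]; exact one_ne_zero) hxs
  have hne : ∀ t : F, s ≠ t • z := fun t h => by
    rw [h, QuadraticMap.polar_smul_right, hxz, smul_eq_mul, mul_one] at hxs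
    exact hs0 (by rw [h, hxs, zero_smul])
  set T := Fr.W2 ⊓ perp2 Q z x
  have hsep := sep_inter_perp2 (Fr.sepW2 hQ) hz hx hzq hxq hzx
  have hT : ∀ {w}, w ∈ T → w ∈ Fr.W2 ∧ 𝔅 z w = 0 ∧ 𝔅 x w = 0 := fun hw => ⟨hw.1, hw.2.1, hw.2.2⟩
  -- a translate of `x` pairing with `s`
  obtain ⟨w, hw, hne'⟩ : ∃ w ∈ T, 𝔅 w s - Q w * 𝔅 z s ≠ 0 := by
    by_contra! h
    have hmul : ∀ w ∈ T, ∀ w' ∈ T, 𝔅 w w' * 𝔅 z s = 0 := fun w hw w' hw' => by
      have h3 := h (w + w') (add_mem hw hw')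
      rw [QuadraticMap.polar_add_left, QuadraticMap.map_add (⇑Q)] at h3
      linear_combination h w hw + h w' hw' - h3
    set s' := s - 𝔅 x s • z - 𝔅 z s • x with hs'
    have hs'T : s' ∈ T := by
      refine ⟨sub_mem (sub_mem hs (Fr.W2.smul_mem _ hz)) (Fr.W2.smul_mem _ hx),
        mem_perp2.2 ⟨?_, ?_⟩⟩ <;>
      simp [s', QuadraticMap.polar_sub_right, QuadraticMap.polar_smul_right, hzq, hxq, hzx, hxz]
    by_cases hzs : 𝔅 z s = 0
    · have h0 : s' = 0 := hsep s' hs'T fun w hw => by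
        obtain ⟨-, hzw, hxw⟩ := hT hw
        have := h w hw
        rw [hzs, mul_zero, sub_zero] at this
        simp [s', hxs, hzs, QuadraticMap.polar_comm (⇑Q) s w, this]
      rw [hs', hxs, hzs, zero_smul, zero_smul, sub_zero, sub_zero] at h0
      exact hs0 h0
    · have hW2card := Fr.six_le.2.2.1
      have h2 := (card_split hz hx hzq hxq hzx).1
      rw [hW2card, show nι - 4 = 2 + (nι - 6) by omega, pow_add] at h2
      have h3 := Nat.eq_of_mul_eq_mul_left (pow_pos Fintype.card_pos 2) h2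
      have hsub : elts T ⊆ {0} := fun y hy => Finset.mem_singleton.2
        (hsep y (mem_elts.1 hy) fun w hw =>
          (mul_eq_zero.1 (hmul y (mem_elts.1 hy) w hw)).resolve_right hzs)
      have h4 := Finset.card_le_card hsub
      rw [Finset.card_singleton] at h4
      change qF ^ (nι - 6) = (elts T).card at h3
      have : 2 ≤ qF ^ (nι - 6) := (two_le_q (F := F)).trans (Nat.le_self_pow (by omega) _)
      omega
  obtain ⟨hw2, hzw, hxw⟩ := hT hw
  set x' := mv (rt Q z w) x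
  have hx'e : x' = x + (w - (Q w) • z) := by
    rw [show x' = mv (rt Q z w) x from rfl, mv_rt hzq hzw, hzx,
      QuadraticMap.polar_comm (⇑Q) w x, hxw]
    module
  refine Fr.exists_move_pairing hz hzq hs hsq (x := x')
    (hx'e ▸ add_mem hx (sub_mem hw2 (Fr.W2.smul_mem _ hz))) (by rw [quad_mv, hxq]) ?_ ?_
  · rw [QuadraticMap.polar_comm, polar_centre_mv_rt hzq hzw, hzx]
    exact one_ne_zero
  · rw [hx'e, QuadraticMap.polar_add_left, QuadraticMap.polar_sub_left,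
      QuadraticMap.polar_smul_left, hxs, zero_add, smul_eq_mul]
    exact hne'

variable {Ω : Type*} [MulAction (EG Q) Ω] [Fintype Ω] {p : ℕ} (pr : F →+ ZMod p)
  [Fact p.Prime] [CharP F p]

include hQ hn in
theorem exists_flat_pair {H o : ℕ} (hfc : Fr.FlatCase pr Ω H o) (hH : Fintype.card F < H)
    {s : ι → F} (hs : s ∈ Fr.W2) (hsq : Q s = 0) (hs0 : s ≠ 0) :
    ∃ y : Fr.Orb Ω, Fr.a ∈ Fr.lab pr y ∧ s ∈ Fr.lab pr y := by
  obtain ⟨y, hy⟩ := FlatCase.exists_through Fr pr hfc Fr.a_mem Fr.a_ne_zero Fr.qa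
  obtain ⟨hflat, hcard⟩ := hfc.through y _ hy Fr.a_ne_zero
  obtain ⟨z, hz, hza⟩ : ∃ z ∈ Fr.lab pr y, ∀ c : F, z ≠ c • Fr.a := by
    by_contra! h
    have hle : Fr.labF pr y ⊆ (Finset.univ : Finset F).image fun c => c • Fr.a := fun x hx => by
      obtain ⟨c, rfl⟩ := h x ((Fr.mem_labF pr).1 hx)
      exact Finset.mem_image.2 ⟨c, Finset.mem_univ _, rfl⟩
    have := (Finset.card_le_card hle).trans Finset.card_image_le
    rw [hcard, Finset.card_univ] at this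
    omega
  obtain ⟨z₂, hz₂, hd⟩ := Fr.exists_decomp hz.1
  rw [(hflat.1 _ hy).2 z hz, zero_smul, add_zero] at hd
  obtain ⟨-, haz₂, -⟩ := Fr.mem_W2.1 hz₂
  have hz₂A : z₂ ∈ Fr.lab pr y := by
    convert sub_mem hz (hflat.2 _ hy (𝔅 Fr.a' z)) using 1
    exact (sub_eq_of_eq_add' hd).symm
  obtain ⟨g, hg, hga, κ, hκ, hgz⟩ := Fr.exists_move_W2 hQ hn hz₂ (hflat.1 _ hz₂A).1
    (fun h0 => hza (𝔅 Fr.a' z) (by rw [← add_zero (𝔅 Fr.a' z • Fr.a), ← h0, ← hd])) hs hsq hs0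
  refine ⟨Fr.sh g y, ?_, ?_⟩
  · rw [← hga]
    exact Fr.mem_lab_lev pr hg hy
  · have := (Fr.isFlat_sh pr hg hflat).2 _ (Fr.mem_lab_lev pr hg hz₂A) κ⁻¹
    rwa [hgz, inv_smul_smul₀ hκ] at this

end Frame

end CfsgLib.MinDegree.Orth
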