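import Cfsg.Agent.MinDegree.OrthOrbit

/-!
# The label sets of the orbits

Root elements fix the orbits with a label of small multiplicity (`root_fix_singular`,
`root_fix_nonsingular`); consequently a label set is all of `W`, lies in a line, or is a totally
singular subspace.
-/

set_option autoImplicit false
set_option linter.unusedSectionVars false

namespace CfsgLib.MinDegree.Orth

open Matrix Module CfsgLib.Spinor CfsgLib.Forms CfsgLib.Forms4 CfsgLib.OrthMax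
open scoped Classical

variable {F : Type*} [Field F] {ι : Type} [Fintype ι] [DecidableEq ι] {Q : QuadraticForm F (ι → F)}

set_option quotPrecheck false in
local notation "𝔅" => QuadraticMap.polar (⇑Q)
local notation "qF" => Fintype.card F
local notation "nι" => Fintype.card ι

namespace Frame

variable (Fr : Frame Q) {Ω : Type*} [MulAction (EG Q) Ω]

theorem sh_one (y : Fr.Orb Ω) : Fr.sh 1 y = y := by rw [sh, one_smul, Fr.cls_out]

theorem sh_mul {g h : EG Q} (hg : g ∈ Fr.Lev) (y : Fr.Orb Ω) :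
    Fr.sh (g * h) y = Fr.sh g (Fr.sh h y) := by
  rw [sh.eq_def Fr h y, Scales.sh_cls Fr (Fr.scales_of_lev hg), sh, mul_smul]

theorem sh_injective {g : EG Q} (hg : g ∈ Fr.Lev) :
    Function.Injective (Fr.sh (Ω := Ω) g) :=
  Function.LeftInverse.injective (Fr.sh_sh (Fr.scales_of_lev hg))

/-- A vector not on the line of a singular one pairs with its perpendicular. -/
theorem exists_perp_pairing (hQ : (QuadraticMap.polarBilin Q).Nondegenerate) {v z : ι → F}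
    (hv : v ∈ Fr.W) (hv0 : v ≠ 0) (hq : Q v = 0) (hz : z ∈ Fr.W) (hzv : ∀ c : F, z ≠ c • v) :
    ∃ w ∈ Fr.W, 𝔅 v w = 0 ∧ 𝔅 w z ≠ 0 := by
  by_contra! h
  obtain ⟨v', hv', -, hvv'⟩ := exists_partner_in (K := Fr.W) hv hq (by
    by_contra! h0
    exact hv0 (Fr.sepW hQ v hv h0))
  refine hzv (𝔅 v' z) (sub_eq_zero.1 (Fr.sepW hQ _ (sub_mem hz (Fr.W.smul_mem _ hv)) fun x hx => ?_))
  have h1 := h (x - 𝔅 v x • v') (sub_mem hx (Fr.W.smul_mem _ hv'))
    (by rw [QuadraticMap.polar_sub_right, QuadraticMap.polar_smul_right, hvv', smul_eq_mul, mul_one,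
      sub_self])
  rw [QuadraticMap.polar_sub_left, QuadraticMap.polar_smul_left] at h1
  rw [QuadraticMap.polar_sub_left, QuadraticMap.polar_smul_left, QuadraticMap.polar_comm (⇑Q) z x]
  simp only [smul_eq_mul] at h1 ⊢
  linear_combination h1

variable {p : ℕ} (pr : F →+ ZMod p) [Fintype F]

/-- Second differences: three root elements at `s` fixing an orbit with a label pairing with `s`. -/
theorem smul_mem_lab_of_fix {s z w w' : ι → F} {y : Fr.Orb Ω} (hs : s ∈ Fr.W) (hq : Q s = 0)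
    (hw : w ∈ Fr.W) (hw' : w' ∈ Fr.W) (hsw : 𝔅 s w = 0) (hsw' : 𝔅 s w' = 0) (hww' : 𝔅 w w' = 1)
    (hfix : ∀ c : F, Fr.sh (rt Q s (c • w)) y = y) (hfix' : Fr.sh (rt Q s w') y = y)
    (hz : z ∈ Fr.lab pr y) (hsz : 𝔅 s z ≠ 0) (c : F) : c • s ∈ Fr.lab pr y := by
  set d := -c / 𝔅 s z
  have h1 : 𝔅 s (d • w) = 0 := by rw [QuadraticMap.polar_smul_right, hsw, smul_zero]
  have h12 : 𝔅 s (d • w + w') = 0 := by rw [QuadraticMap.polar_add_right, h1, hsw', add_zero]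
  have g1 := Fr.rt_mem_Lev hs hq (Fr.W.smul_mem d hw) h1
  have g2 := Fr.rt_mem_Lev hs hq hw' hsw'
  have g3 := Fr.rt_mem_Lev hs hq (Fr.W.add_mem (Fr.W.smul_mem d hw) hw') h12
  have hfix3 : Fr.sh (rt Q s (d • w + w')) y = y := by
    rw [← rt_mul hq h1 hsw', Fr.sh_mul g1, hfix', hfix]
  have m1 := Fr.mem_lab_of_fix pr g1 (hfix d) hz
  have m2 := Fr.mem_lab_of_fix pr g2 hfix' hz
  have m3 := Fr.mem_lab_of_fix pr g3 hfix3 hz
  rw [mv_rt hq h1] at m1
  rw [mv_rt hq hsw'] at m2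
  rw [mv_rt hq h12] at m3
  have hc : c = -(𝔅 s z * d) := by
    simp only [d]
    field_simp
  convert add_mem (sub_mem (sub_mem m3 m1) m2) hz using 1
  rw [QuadraticMap.map_add (⇑Q) (d • w) w', QuadraticMap.polar_add_left,
    show QuadraticMap.polar (⇑Q) (d • w) w' = d by
      rw [QuadraticMap.polar_smul_left, hww', smul_eq_mul, mul_one], hc]
  module

/-- A singular label whose root elements fix the orbit, with a non-perpendicular label. -/
theorem lab_eq_W_of_pair (hQ : (QuadraticMap.polarBilin Q).Nondegenerate) (hn : 7 ≤ nι)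
    {y : Fr.Orb Ω}
    (hfix : ∀ v ∈ Fr.lab pr y, v ≠ 0 → Q v = 0 → ∀ w ∈ Fr.W, 𝔅 v w = 0 →
      Fr.sh (rt Q v w) y = y)
    {v z : ι → F} (hv : v ∈ Fr.lab pr y) (hq : Q v = 0) (hz : z ∈ Fr.lab pr y) (hvz : 𝔅 v z ≠ 0)
    {x : ι → F} (hx : x ∈ Fr.W) : x ∈ Fr.lab pr y := by
  have step : ∀ v z, v ∈ Fr.lab pr y → Q v = 0 → z ∈ Fr.lab pr y → 𝔅 v z ≠ 0 →
      ∀ w ∈ Fr.W, 𝔅 v w = 0 → w ∈ Fr.lab pr y := by
    intro v z hv hq hz hvz w hw hvw
    have hv0 : v ≠ 0 := fun h => hvz (by rw [h, QuadraticMap.polar_zero_left])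
    obtain ⟨w₁, hw₁, w₂, hw₂, hv1, -, hv2, -, h12⟩ := Fr.exists_pair_perp hQ hn v 0
    have hline := Fr.smul_mem_lab_of_fix pr hv.1 hq hw₁ hw₂ hv1 hv2 h12
      (fun c => hfix v hv hv0 hq _ (Fr.W.smul_mem c hw₁)
        (by rw [QuadraticMap.polar_smul_right, hv1, smul_zero]))
      (hfix v hv hv0 hq _ hw₂ hv2) hz hvz
    have h1 : 𝔅 v ((𝔅 v z)⁻¹ • w) = 0 := by rw [QuadraticMap.polar_smul_right, hvw, smul_zero]
    have hm := Fr.mem_lab_of_fix pr (Fr.rt_mem_Lev hv.1 hq (Fr.W.smul_mem _ hw) h1)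
      (hfix v hv hv0 hq _ (Fr.W.smul_mem _ hw) h1) hz
    rw [mv_rt hq h1, smul_inv_smul₀ hvz] at hm
    convert add_mem (sub_mem hm hz) (hline (𝔅 ((𝔅 v z)⁻¹ • w) z + Q ((𝔅 v z)⁻¹ • w) * 𝔅 v z))
      using 1
    module
  have hv0 : v ≠ 0 := fun h => hvz (by rw [h, QuadraticMap.polar_zero_left])
  obtain ⟨g, hg, hgv⟩ := Fr.exists_lev_to_std hQ hv.1 hv0
  rw [hq, std, zero_smul, add_zero] at hgv
  set s := mv g⁻¹ Fr.b
  set s' := mv g⁻¹ Fr.b'
  have hvs : 𝔅 v s = 0 := by rw [← polar_mv g, mv_mv_inv, hgv, Fr.ab]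
  have hvs' : 𝔅 v s' = 0 := by rw [← polar_mv g, mv_mv_inv, hgv, Fr.ab']
  have hsW := Fr.mv_mem_W (inv_mem hg) Fr.b_mem
  have hs'W := Fr.mv_mem_W (inv_mem hg) Fr.b'_mem
  have hss' : 𝔅 s s' = 1 := by rw [polar_mv, Fr.bb']
  have hsA := step v z hv hq hz hvz s hsW hvs
  have hs'A := step v z hv hq hz hvz s' hs'W hvs'
  have h1 := step s s' hsA (by rw [quad_mv, Fr.qb]) hs'A (by rw [hss']; exact one_ne_zero)
    (x - 𝔅 s x • s') (sub_mem hx (Fr.W.smul_mem _ hs'W))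
    (by rw [QuadraticMap.polar_sub_right, QuadraticMap.polar_smul_right, hss', smul_eq_mul, mul_one,
      sub_self])
  have h2 := step v z hv hq hz hvz (𝔅 s x • s') (Fr.W.smul_mem _ hs'W)
    (by rw [QuadraticMap.polar_smul_right, hvs', smul_zero])
  simpa using add_mem h1 h2

/-- Singular vectors perpendicular to a non-singular one detect everything outside its line. -/
theorem exists_singular_perp_pairing (hQ : (QuadraticMap.polarBilin Q).Nondegenerate)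
    {u z : ι → F} (hu : u ∈ Fr.W) (hu0 : Q u ≠ 0) (hz : z ∈ Fr.W) (hzu : ∀ c : F, z ≠ c • u) :
    ∃ s ∈ Fr.W, Q s = 0 ∧ 𝔅 u s = 0 ∧ 𝔅 s z ≠ 0 := by
  obtain ⟨g, hg, hgu⟩ := Fr.exists_lev_to_std hQ hu (fun h => hu0 (by rw [h, QuadraticMap.map_zero]))
  suffices h : ∃ s ∈ Fr.W, Q s = 0 ∧ 𝔅 (Fr.std (Q u)) s = 0 ∧ 𝔅 s (mv g z) ≠ 0 by
    obtain ⟨s, hs, h1, h2, h3⟩ := h
    refine ⟨mv g⁻¹ s, Fr.mv_mem_W (inv_mem hg) hs, by rw [quad_mv, h1], ?_, ?_⟩
    · rw [← polar_mv g, mv_mv_inv, hgu, h2]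
    · rwa [← polar_mv g, mv_mv_inv]
  have hzu' : ∀ c : F, mv g z ≠ c • Fr.std (Q u) := fun c h =>
    hzu c (mv_injective g (by rw [mv_smul, hgu, h]))
  revert hzu'
  generalize hy : mv g z = y
  have hyW : y ∈ Fr.W := hy ▸ Fr.mv_mem_W hg hz
  generalize Q u = c at hu0 ⊢
  intro hzu'
  by_contra! h
  obtain ⟨y₂, hy₂, hd⟩ := Fr.exists_decomp hyW
  have hb : 𝔅 Fr.b y = 0 := h _ Fr.b_mem Fr.qb (by
    simp [std, QuadraticMap.polar_add_left, QuadraticMap.polar_smul_left, Fr.ab, Fr.a'b])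
  have hb' : 𝔅 Fr.b' y = 0 := h _ Fr.b'_mem Fr.qb' (by
    simp [std, QuadraticMap.polar_add_left, QuadraticMap.polar_smul_left, Fr.ab', Fr.a'b'])
  have hσ := h (Fr.a + (-c) • Fr.a' + (Fr.b + c • Fr.b'))
    (add_mem (Fr.std_mem (-c)) (add_mem Fr.b_mem (Fr.W.smul_mem _ Fr.b'_mem))) (by
      simp [QuadraticMap.map_add (⇑Q), QuadraticMap.map_smul, Fr.qa, Fr.qa', Fr.qb, Fr.qb',
        QuadraticMap.polar_add_left, QuadraticMap.polar_add_right, QuadraticMap.polar_smul_left,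
        QuadraticMap.polar_smul_right, Fr.aa', Fr.bb', Fr.ab, Fr.ab', Fr.a'b, Fr.a'b']) (by
      simp [std, QuadraticMap.polar_add_left, QuadraticMap.polar_add_right,
        QuadraticMap.polar_smul_left, QuadraticMap.polar_smul_right, Fr.aa, Fr.a'a', Fr.aa', Fr.a'a,
        Fr.ab, Fr.ab', Fr.a'b, Fr.a'b'])
  rw [QuadraticMap.polar_add_left, QuadraticMap.polar_add_left, QuadraticMap.polar_add_left,
    QuadraticMap.polar_smul_left, QuadraticMap.polar_smul_left, hb, hb', smul_zero, add_zero,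
    add_zero, smul_eq_mul] at hσ
  have hy₂b : 𝔅 y₂ Fr.b = 0 ∧ 𝔅 y₂ Fr.b' = 0 := by
    constructor
    · have := hb
      rw [hd, QuadraticMap.polar_comm] at this
      simpa [QuadraticMap.polar_add_left, QuadraticMap.polar_smul_left, Fr.ab, Fr.a'b] using this
    · have := hb'
      rw [hd, QuadraticMap.polar_comm] at this
      simpa [QuadraticMap.polar_add_left, QuadraticMap.polar_smul_left, Fr.ab', Fr.a'b'] using this
  have hy0 : y₂ = 0 := by
    refine Fr.sepW2 hQ y₂ hy₂ fun w hw => ?_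
    set w₃ := w - 𝔅 Fr.b' w • Fr.b - 𝔅 Fr.b w • Fr.b'
    have hw₃ : w₃ ∈ Fr.W3 := ⟨sub_mem (sub_mem hw (Fr.W2.smul_mem _ Fr.b_mem2))
      (Fr.W2.smul_mem _ Fr.b'_mem2), mem_perp2.2 ⟨by
        simp [w₃, QuadraticMap.polar_sub_right, QuadraticMap.polar_smul_right, Fr.qb, Fr.bb'], by
        simp [w₃, QuadraticMap.polar_sub_right, QuadraticMap.polar_smul_right, Fr.qb', Fr.b'b]⟩⟩
    obtain ⟨hw₂, hwb, hwb'⟩ := Fr.mem_W3.1 hw₃
    obtain ⟨hwW, hwa, hwa'⟩ := Fr.mem_W2.1 hw₂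
    have h3 := h (Fr.b + w₃ + (-Q w₃) • Fr.b')
      (add_mem (add_mem Fr.b_mem hwW) (Fr.W.smul_mem _ Fr.b'_mem)) (by
        simp [QuadraticMap.map_add (⇑Q), QuadraticMap.map_smul, Fr.qb, Fr.qb',
          QuadraticMap.polar_add_left, QuadraticMap.polar_smul_right, Fr.bb', hwb,
          QuadraticMap.polar_comm (⇑Q) w₃ Fr.b', hwb']) (by
        simp [std, QuadraticMap.polar_add_left, QuadraticMap.polar_add_right,
          QuadraticMap.polar_smul_left, QuadraticMap.polar_smul_right, Fr.ab, Fr.a'b, Fr.ab',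
          Fr.a'b', hwa, hwa'])
    rw [QuadraticMap.polar_add_left, QuadraticMap.polar_add_left, hb, QuadraticMap.polar_smul_left,
      hb', smul_zero, add_zero, zero_add] at h3
    rw [show w = w₃ + 𝔅 Fr.b' w • Fr.b + 𝔅 Fr.b w • Fr.b' by simp only [w₃]; module,
      QuadraticMap.polar_add_right, QuadraticMap.polar_add_right, QuadraticMap.polar_smul_right,
      QuadraticMap.polar_smul_right, hy₂b.1, hy₂b.2, smul_zero, smul_zero, add_zero, add_zero]
    rw [hd, QuadraticMap.polar_add_right] at h3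
    rw [QuadraticMap.polar_add_right, QuadraticMap.polar_smul_right, QuadraticMap.polar_smul_right,
      QuadraticMap.polar_comm (⇑Q) w₃ Fr.a, hwa, QuadraticMap.polar_comm (⇑Q) w₃ Fr.a', hwa',
      smul_zero, smul_zero, add_zero, zero_add] at h3
    rwa [QuadraticMap.polar_comm]
  refine hzu' (𝔅 Fr.a' y) ?_
  rw [std, hd]
  conv_lhs => rw [← hd, hd, hy0, add_zero, show 𝔅 Fr.a y = c * 𝔅 Fr.a' y by linear_combination hσ]
  rw [← hd]
  module

/-- The three kinds of label sets. -/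
theorem lab_trichotomy (hQ : (QuadraticMap.polarBilin Q).Nondegenerate) (hn : 7 ≤ nι)
    {y : Fr.Orb Ω}
    (hfix : ∀ v ∈ Fr.lab pr y, v ≠ 0 → Q v = 0 → ∀ w ∈ Fr.W, 𝔅 v w = 0 →
      Fr.sh (rt Q v w) y = y)
    (hfix' : ∀ u ∈ Fr.lab pr y, Q u ≠ 0 → ∀ s ∈ Fr.W, Q s = 0 → 𝔅 u s = 0 →
      ∃ w ∈ Fr.W, ∃ w' ∈ Fr.W, 𝔅 s w = 0 ∧ 𝔅 s w' = 0 ∧ 𝔅 w w' = 1 ∧
        (∀ c : F, Fr.sh (rt Q s (c • w)) y = y) ∧ Fr.sh (rt Q s w') y = y) :
    (∀ x ∈ Fr.W, x ∈ Fr.lab pr y) ∨ (∃ u, ∀ x ∈ Fr.lab pr y, ∃ c : F, x = c • u) ∨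
      ((∀ v ∈ Fr.lab pr y, Q v = 0 ∧ ∀ w ∈ Fr.lab pr y, 𝔅 v w = 0) ∧
        (∀ v ∈ Fr.lab pr y, ∀ c : F, c • v ∈ Fr.lab pr y) ∧
          ∃ v ∈ Fr.lab pr y, v ≠ 0 ∧ ∃ z ∈ Fr.lab pr y, ∀ c : F, z ≠ c • v) := by
  refine or_iff_not_imp_left.2 fun hW => or_iff_not_imp_left.2 fun hL => ?_
  push Not at hL
  have hsing : ∀ v ∈ Fr.lab pr y, Q v = 0 := by
    intro u hu
    by_contra hu0
    obtain ⟨z, hz, hzu⟩ := hL u
    obtain ⟨s, hs, hqs, hus, hsz⟩ := Fr.exists_singular_perp_pairing hQ hu.1 hu0 hz.1 hzu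
    obtain ⟨w, hw, w', hw', h1, h2, h3, h4, h5⟩ := hfix' u hu hu0 s hs hqs hus
    have hsA := Fr.smul_mem_lab_of_fix pr hs hqs hw hw' h1 h2 h3 h4 h5 hz hsz 1
    rw [one_smul] at hsA
    exact hW fun x hx => Fr.lab_eq_W_of_pair pr hQ hn hfix hsA hqs hz hsz hx
  refine ⟨fun v hv => ⟨hsing v hv, fun w hw => ?_⟩, fun v hv c => ?_, ?_⟩
  · have := hsing _ (add_mem hv hw)
    rw [QuadraticMap.map_add (⇑Q), hsing v hv, hsing w hw] at this
    simpa using this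
  · by_cases hv0 : v = 0
    · rw [hv0, smul_zero]
      exact zero_mem _
    obtain ⟨z, hz, hzv⟩ := hL v
    obtain ⟨w, hw, hvw, hwz⟩ := Fr.exists_perp_pairing hQ hv.1 hv0 (hsing v hv) hz.1 hzv
    have hvz : 𝔅 v z = 0 := by
      have := hsing _ (add_mem hv hz)
      rw [QuadraticMap.map_add (⇑Q), hsing v hv, hsing z hz] at this
      simpa using this
    have hvt : 𝔅 v ((-c / 𝔅 w z) • w) = 0 := by rw [QuadraticMap.polar_smul_right, hvw, smul_zero]
    have hm := Fr.mem_lab_of_fix pr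
      (Fr.rt_mem_Lev hv.1 (hsing v hv) (Fr.W.smul_mem _ hw) hvt)
      (hfix v hv hv0 (hsing v hv) _ (Fr.W.smul_mem _ hw) hvt) hz
    rw [mv_rt_perp (hsing v hv) hvt hvz, QuadraticMap.polar_smul_left, smul_eq_mul,
      div_mul_cancel₀ _ hwz] at hm
    convert sub_mem hm hz using 1
    module
  · obtain ⟨v, hv, hv0⟩ := hL 0
    exact ⟨v, hv, fun h => hv0 1 (by simp [h]), hL v⟩

section fix

variable [Fintype Ω]

/-- Root elements at a singular label of small multiplicity fix its orbits: the standard case. -/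
theorem root_fix_a (hQ : (QuadraticMap.polarBilin Q).Nondegenerate) [Fact p.Prime] [CharP F p]
    (hpr : pr ≠ 0) (hn : 7 ≤ nι) (hm : Fr.mult (Ω := Ω) pr Fr.a ≤ qF ^ (nι - 6) + 1)
    {y : Fr.Orb Ω} (hy : Fr.a ∈ Fr.lab pr y) {w : ι → F} (hw : w ∈ Fr.W) (haw : 𝔅 Fr.a w = 0) :
    Fr.sh (rt Q Fr.a w) y = y := by
  set Wa : Submodule F (ι → F) := Fr.W ⊓ LinearMap.ker ((QuadraticMap.polarBilin Q) Fr.a)
  have hWa : ∀ {x}, x ∈ Wa ↔ x ∈ Fr.W ∧ 𝔅 Fr.a x = 0 := Iff.rfl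
  have hLev : ∀ {x}, x ∈ Wa → rt Q Fr.a x ∈ Fr.Lev := fun hx =>
    Fr.rt_mem_Lev Fr.a_mem Fr.qa hx.1 hx.2
  have hfa : ∀ {x}, x ∈ Wa → mv (rt Q Fr.a x) Fr.a = Fr.a := fun hx =>
    mv_rt_fix Fr.qa hx.2 Fr.aa (by rw [QuadraticMap.polar_comm]; exact hx.2)
  have hshadd : ∀ {x x'}, x ∈ Wa → x' ∈ Wa → ∀ z : Fr.Orb Ω,
      Fr.sh (rt Q Fr.a x) (Fr.sh (rt Q Fr.a x') z) = Fr.sh (rt Q Fr.a (x + x')) z := by
    intro x x' hx hx' z
    rw [← Fr.sh_mul (hLev hx), rt_mul Fr.qa hx.2 hx'.2]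
  let K : Fr.Orb Ω → AddSubgroup (ι → F) := fun z =>
    { carrier := {x | x ∈ Wa ∧ Fr.sh (rt Q Fr.a x) z = z}
      zero_mem' := ⟨zero_mem _, by rw [rt_zero Fr.qa, Fr.sh_one]⟩
      add_mem' := fun {x x'} h h' => ⟨add_mem h.1 h'.1, by rw [← hshadd h.1 h'.1, h'.2, h.2]⟩
      neg_mem' := fun {x} h => ⟨neg_mem h.1, by
        conv_lhs => rw [← h.2, hshadd (neg_mem h.1) h.1, neg_add_cancel, rt_zero Fr.qa, Fr.sh_one]⟩ }
  let R : Fr.Orb Ω → Finset (ι → F) := fun z =>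
    (elts Fr.W).filter fun r => ∀ x ∈ K z, pr (𝔅 r x) = 0
  have hR : ∀ {z r}, r ∈ R z ↔ r ∈ Fr.W ∧ ∀ x ∈ K z, pr (𝔅 r x) = 0 := fun {z r} => by
    simp [R, mem_elts]
  set Y := (Finset.univ : Finset (Fr.Orb Ω)).filter fun z => Fr.a ∈ Fr.lab pr z
  have hY : ∀ {z}, z ∈ Y ↔ Fr.a ∈ Fr.lab pr z := fun {z} => by simp [Y]
  have hmY : Y.card ≤ qF ^ (nι - 6) + 1 := hm
  have hmem : ∀ {g}, g ∈ Fr.Lev → mv g Fr.a = Fr.a → ∀ {z}, z ∈ Y → Fr.sh g z ∈ Y := by
    intro g hg hga z hz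
    rw [hY] at hz ⊢
    rw [← hga]
    exact Fr.mem_lab_lev pr hg hz
  have hWcard : (elts Fr.W).card = qF * (elts Wa).card := by
    rw [Finset.card_eq_sum_card_fiberwise (t := Finset.univ) (f := fun x => 𝔅 Fr.a x)
      (fun _ _ => Finset.mem_univ _),
      Finset.sum_congr rfl fun c _ => ?_, Finset.sum_const, Finset.card_univ, smul_eq_mul]
    refine Finset.card_bij' (fun x _ => x - c • Fr.a') (fun x _ => x + c • Fr.a') ?_ ?_ (by simp)
      (by simp)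
    · intro x hx
      simp only [Finset.mem_filter, mem_elts] at hx ⊢
      refine hWa.2 ⟨sub_mem hx.1 (Fr.W.smul_mem _ Fr.a'_mem), ?_⟩
      rw [QuadraticMap.polar_sub_right, QuadraticMap.polar_smul_right, Fr.aa', hx.2, smul_eq_mul,
        mul_one, sub_self]
    · intro x hx
      simp only [Finset.mem_filter, mem_elts] at hx ⊢
      refine ⟨add_mem (hWa.1 hx).1 (Fr.W.smul_mem _ Fr.a'_mem), ?_⟩
      rw [QuadraticMap.polar_add_right, QuadraticMap.polar_smul_right, Fr.aa', (hWa.1 hx).2,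
        smul_eq_mul, mul_one, zero_add]
  -- the size of a label class
  have hsize : ∀ z : Fr.Orb Ω,
      (R z).card = qF * ((elts Wa).image fun x => Fr.sh (rt Q Fr.a x) z).card := by
    intro z
    let B : Fr.W →ₗ[F] Fr.W →ₗ[F] F :=
      LinearMap.compl₁₂ (QuadraticMap.polarBilin Q) Fr.W.subtype Fr.W.subtype
    have hB : ∀ z, (∀ w, B z w = 0) → z = 0 := fun z h =>
      Subtype.ext (Fr.sepW hQ z z.2 fun w hw => h ⟨w, hw⟩)
    have h1 := card_addPerp_mul B hB hpr ((K z).comap Fr.W.subtype.toAddMonoidHom)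
    have hcR : Nat.card (addPerp B pr ((K z).comap Fr.W.subtype.toAddMonoidHom)) = (R z).card := by
      rw [← Nat.card_eq_finsetCard]
      exact Nat.card_congr
        ⟨fun v => ⟨v.1.1, hR.2 ⟨v.1.2, fun x hx => v.2 ⟨x, hx.1.1⟩ hx⟩⟩,
          fun v => ⟨⟨v.1, (hR.1 v.2).1⟩, fun x hx => (hR.1 v.2).2 x.1 hx⟩,
          fun v => rfl, fun v => rfl⟩
    have hcK : Nat.card ((K z).comap Fr.W.subtype.toAddMonoidHom) =
        ((elts Wa).filter fun x => x ∈ K z).card := by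
      rw [← Nat.card_eq_finsetCard]
      exact Nat.card_congr
        ⟨fun v => ⟨v.1.1, Finset.mem_filter.2 ⟨mem_elts.2 (show v.1.1 ∈ K z from v.2).1, v.2⟩⟩,
          fun v => ⟨⟨v.1, (mem_elts.1 (Finset.mem_filter.1 v.2).1).1⟩, (Finset.mem_filter.1 v.2).2⟩,
          fun v => rfl, fun v => rfl⟩
    have hcV : Nat.card Fr.W = (elts Fr.W).card := by
      rw [Nat.card_eq_fintype_card, Fintype.card_subtype]
      rfl
    have h2 : (elts Wa).card = ((elts Wa).image fun x => Fr.sh (rt Q Fr.a x) z).card *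
        ((elts Wa).filter fun x => x ∈ K z).card := by
      rw [Finset.card_eq_sum_card_image (fun x => Fr.sh (rt Q Fr.a x) z) (elts Wa),
        Finset.sum_congr rfl fun z' hz' => ?_, Finset.sum_const, smul_eq_mul]
      obtain ⟨x₀, hx₀, rfl⟩ := Finset.mem_image.1 hz'
      rw [mem_elts] at hx₀
      refine Finset.card_bij' (fun x _ => x - x₀) (fun x _ => x + x₀) ?_ ?_ (by simp) (by simp)
      · intro x hx
        simp only [Finset.mem_filter, mem_elts] at hx ⊢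
        refine ⟨sub_mem hx.1 hx₀, sub_mem hx.1 hx₀, Fr.sh_injective (hLev hx₀) ?_⟩
        rw [hshadd hx₀ (sub_mem hx.1 hx₀), add_sub_cancel, hx.2]
      · intro x hx
        simp only [Finset.mem_filter, mem_elts] at hx ⊢
        refine ⟨add_mem hx.1 hx₀, ?_⟩
        rw [add_comm, ← hshadd hx₀ hx.1, hx.2.2]
    rw [hcR, hcK, hcV, hWcard, h2, ← mul_assoc] at h1
    exact Nat.eq_of_mul_eq_mul_right (Finset.card_pos.2
      ⟨0, Finset.mem_filter.2 ⟨mem_elts.2 (zero_mem _), zero_mem _⟩⟩) h1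
  have hline : ∀ {z r} (t : F), r ∈ R z → t • Fr.a + r ∈ R z := by
    intro z r t hr
    refine hR.2 ⟨add_mem (Fr.W.smul_mem _ Fr.a_mem) (hR.1 hr).1, fun x hx => ?_⟩
    rw [QuadraticMap.polar_add_left, QuadraticMap.polar_smul_left, (hWa.1 hx.1).2, smul_zero, zero_add,
      (hR.1 hr).2 x hx]
  set 𝓡 := (Y.biUnion R).filter fun r => ∀ t : F, r ≠ t • Fr.a with h𝓡
  have hup : Y.Nonempty → 𝓡.card + qF ≤ qF * Y.card := by
    intro hne
    set C := (Y.image R) with hC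
    have hsum : ∑ S ∈ C, S.card ≤ qF * Y.card := by
      rw [Finset.card_eq_sum_card_image R Y, Finset.mul_sum]
      refine Finset.sum_le_sum fun S hS => ?_
      obtain ⟨z, hz, rfl⟩ := Finset.mem_image.1 hS
      rw [hsize]
      refine Nat.mul_le_mul_left _ (Finset.card_le_card fun z' hz' => ?_)
      obtain ⟨x, hx, rfl⟩ := Finset.mem_image.1 hz'
      rw [mem_elts] at hx
      refine Finset.mem_filter.2 ⟨hmem (hLev hx) (hfa hx) hz, ?_⟩
      have hK : ∀ x', x' ∈ K (Fr.sh (rt Q Fr.a x) z) ↔ x' ∈ K z := fun x' => by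
        refine and_congr_right fun hx' => ?_
        rw [hshadd hx' hx, add_comm, ← hshadd hx hx']
        exact (Fr.sh_injective (hLev hx)).eq_iff
      ext r
      simp only [hR, hK]
    have hsub : 𝓡 ⊆ C.biUnion fun S => S \ Finset.univ.image fun t : F => t • Fr.a := by
      intro r hr
      obtain ⟨hr1, hr2⟩ := Finset.mem_filter.1 hr
      obtain ⟨z, hz, hrz⟩ := Finset.mem_biUnion.1 hr1
      refine Finset.mem_biUnion.2 ⟨R z, Finset.mem_image_of_mem _ hz, Finset.mem_sdiff.2 ⟨hrz, ?_⟩⟩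
      simp only [Finset.mem_image, Finset.mem_univ, true_and, not_exists]
      exact fun t ht => hr2 t ht.symm
    have hsd : ∀ S ∈ C, (S \ Finset.univ.image fun t : F => t • Fr.a).card + qF ≤ S.card := by
      intro S hS
      obtain ⟨z, -, rfl⟩ := Finset.mem_image.1 hS
      have hLsub : (Finset.univ.image fun t : F => t • Fr.a) ⊆ R z := by
        intro r hr
        obtain ⟨t, -, rfl⟩ := Finset.mem_image.1 hr
        have := hline t (hR.2 ⟨zero_mem _, fun x _ => by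
          rw [QuadraticMap.polar_zero_left, map_zero]⟩ : (0 : ι → F) ∈ R z)
        rwa [add_zero] at this
      have hL : (Finset.univ.image fun t : F => t • Fr.a).card = qF := by
        refine Finset.card_image_of_injective _ fun s t hst => ?_
        have := congrArg (𝔅 Fr.a') hst
        simpa [QuadraticMap.polar_smul_right, Fr.a'a] using this
      rw [Finset.card_sdiff_of_subset hLsub, hL]
      have := Finset.card_le_card hLsub
      rw [hL] at this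
      omega
    have h1 := (Finset.card_le_card hsub).trans Finset.card_biUnion_le
    have h2 : ∑ S ∈ C, (S \ Finset.univ.image fun t : F => t • Fr.a).card + C.card * qF ≤
        ∑ S ∈ C, S.card := by
      rw [← smul_eq_mul, ← Finset.sum_const, ← Finset.sum_add_distrib]
      exact Finset.sum_le_sum hsd
    have h3 : qF ≤ C.card * qF := Nat.le_mul_of_pos_left _ (Finset.card_pos.2 (hne.image R))
    omega
  -- invariance
  have hinv : ∀ {g}, g ∈ Fr.Lev → mv g Fr.a = Fr.a → ∀ {r}, r ∈ 𝓡 → ∀ t : F,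
      t • Fr.a + mv g r ∈ 𝓡 := by
    intro g hg hga r hr t
    obtain ⟨hr1, hr2⟩ := Finset.mem_filter.1 hr
    obtain ⟨z, hz, hrz⟩ := Finset.mem_biUnion.1 hr1
    refine Finset.mem_filter.2 ⟨Finset.mem_biUnion.2
      ⟨Fr.sh g z, hmem hg hga hz, hline t (hR.2 ⟨Fr.mv_mem_W hg (hR.1 hrz).1, fun x hx => ?_⟩)⟩,
      fun s hs => hr2 (s - t) (mv_injective g ?_)⟩
    · have hgi := inv_mem hg
      have hgia : mv g⁻¹ Fr.a = Fr.a := by conv_lhs => rw [← hga, mv_inv_mv]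
      have hxK : mv g⁻¹ x ∈ K z := by
        have hxW : mv g⁻¹ x ∈ Wa := hWa.2 ⟨Fr.mv_mem_W hgi hx.1.1, by
          conv_lhs => rw [← hgia, polar_mv]
          exact hx.1.2⟩
        refine ⟨hxW, ?_⟩
        have hconj : rt Q Fr.a (mv g⁻¹ x) = g⁻¹ * (rt Q Fr.a x * g) := by
          have := rt_conj g⁻¹ Fr.qa hx.1.2
          rw [hgia, inv_inv, mul_assoc] at this
          exact this.symm
        rw [hconj, Fr.sh_mul hgi, Fr.sh_mul (hLev hx.1), hx.2, Fr.sh_sh (Fr.scales_of_lev hg)]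
      rw [polar_mv_left]
      exact (hR.1 hrz).2 _ hxK
    · rw [mv_smul, hga, sub_smul, ← hs]
      module
  by_contra hne
  have hyY := hY.2 hy
  have hwWa : w ∈ Wa := hWa.2 ⟨hw, haw⟩
  -- a class outside the line
  obtain ⟨r, hr⟩ : ∃ r, r ∈ 𝓡 := by
    have h2 : 2 ≤ ((elts Wa).image fun x => Fr.sh (rt Q Fr.a x) y).card := by
      refine Finset.one_lt_card.2 ⟨_, Finset.mem_image_of_mem _ (mem_elts.2 hwWa), y, ?_, hne⟩
      exact Finset.mem_image.2 ⟨0, mem_elts.2 (zero_mem _), by rw [rt_zero Fr.qa, Fr.sh_one]⟩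
    by_contra! h
    have hsub : R y ⊆ Finset.univ.image fun t : F => t • Fr.a := by
      intro r hr
      by_contra hr'
      refine h r (Finset.mem_filter.2 ⟨Finset.mem_biUnion.2 ⟨y, hyY, hr⟩, fun t ht => hr' ?_⟩)
      exact Finset.mem_image.2 ⟨t, Finset.mem_univ _, ht.symm⟩
    have h3 := (Finset.card_le_card hsub).trans Finset.card_image_le
    rw [Finset.card_univ, hsize] at h3
    have hq := two_le_q (F := F)
    nlinarith
  obtain ⟨h6, -, hW2, -⟩ := Fr.six_le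
  have hup' : 𝓡.card ≤ qF ^ (nι - 5) := by
    have h1 := hup ⟨y, hyY⟩
    have h2 := Nat.mul_le_mul_left qF hmY
    rw [mul_add, mul_one, ← pow_succ', show nι - 6 + 1 = nι - 5 by omega] at h2
    omega
  have hrW : r ∈ Fr.W := by
    obtain ⟨z, -, hz⟩ := Finset.mem_biUnion.1 (Finset.mem_filter.1 hr).1
    exact (hR.1 hz).1
  by_cases hβ : 𝔅 Fr.a r = 0
  swap
  · -- translations along the perpendicular
    have hinj : ((elts Wa).image fun x => r + 𝔅 Fr.a r • x).card = (elts Wa).card :=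
      Finset.card_image_of_injective _ fun x x' h => smul_right_injective _ hβ (add_left_cancel h)
    have hle : ((elts Wa).image fun x => r + 𝔅 Fr.a r • x) ⊆ 𝓡 := by
      intro v hv
      obtain ⟨x, hx, rfl⟩ := Finset.mem_image.1 hv
      rw [mem_elts] at hx
      convert hinv (hLev hx) (hfa hx) hr (𝔅 x r + Q x * 𝔅 Fr.a r) using 1
      rw [mv_rt Fr.qa hx.2]
      module
    have h1 := (Finset.card_le_card hle).trans hup'
    rw [hinj] at h1
    have h2 := hWcard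
    rw [Fr.six_le.2.1] at h2
    have hq := two_le_q (F := F)
    have h3 : qF ^ (nι - 4) < qF ^ (nι - 2) := Nat.pow_lt_pow_right hq (by omega)
    have h4 := Nat.mul_le_mul_left qF h1
    rw [← pow_succ', show nι - 5 + 1 = nι - 4 by omega] at h4
    omega
  -- translations inside the perpendicular of the second pair
  obtain ⟨r₀, hr₀, hd⟩ := Fr.exists_decomp hrW
  rw [hβ, zero_smul, add_zero] at hd
  have hinvr : ∀ {g}, g ∈ Fr.Lev → mv g Fr.a = Fr.a → ∀ t : F, t • Fr.a + mv g r₀ ∈ 𝓡 := by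
    intro g hg hga t
    convert hinv hg hga hr (t - 𝔅 Fr.a' r) using 1
    conv_rhs => rw [hd, mv_add, mv_smul, hga, ← hd]
    module
  have hr₀0 : r₀ ≠ 0 := fun h => (Finset.mem_filter.1 hr).2 (𝔅 Fr.a' r) (by
    conv_lhs => rw [hd, h, add_zero])
  have hrtW2 : ∀ {x w}, x ∈ Fr.W2 → w ∈ Fr.W2 → Q x = 0 → 𝔅 x w = 0 →
      rt Q x w ∈ Fr.Lev ∧ mv (rt Q x w) Fr.a = Fr.a ∧
        ∀ {v}, v ∈ Fr.W2 → mv (rt Q x w) v ∈ Fr.W2 := by
    intro x w hx hw hq hxw
    refine ⟨Fr.rt_mem_Lev hx.1 hq hw.1 hxw, mv_rt_fix hq hxw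
      (by rw [QuadraticMap.polar_comm]; exact hx.2.1) (by rw [QuadraticMap.polar_comm]; exact hw.2.1),
      fun {v} hv => ?_⟩
    rw [mv_rt hq hxw]
    exact add_mem hv (sub_mem (sub_mem (Fr.W2.smul_mem _ hw) (Fr.W2.smul_mem _ hx))
      (Fr.W2.smul_mem _ hx))
  obtain ⟨x, hx, hqx, hxr⟩ : ∃ x ∈ Fr.W2, Q x = 0 ∧ 𝔅 x r₀ ≠ 0 := by
    by_contra! h
    refine hr₀0 (Fr.sepW2 hQ r₀ hr₀ fun v hv => ?_)
    have hb := h _ Fr.b_mem2 Fr.qb
    have hb' := h _ Fr.b'_mem2 Fr.qb'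
    set v₃ := v - 𝔅 Fr.b' v • Fr.b - 𝔅 Fr.b v • Fr.b'
    have hv₃b : 𝔅 Fr.b v₃ = 0 ∧ 𝔅 Fr.b' v₃ = 0 := by
      constructor <;>
        simp [v₃, QuadraticMap.polar_sub_right, QuadraticMap.polar_smul_right, Fr.qb, Fr.qb',
          Fr.bb', Fr.b'b]
    have hv₃ : v₃ ∈ Fr.W2 :=
      sub_mem (sub_mem hv (Fr.W2.smul_mem _ Fr.b_mem2)) (Fr.W2.smul_mem _ Fr.b'_mem2)
    have h3 := h (Fr.b + v₃ + (-Q v₃) • Fr.b')
      (add_mem (add_mem Fr.b_mem2 hv₃) (Fr.W2.smul_mem _ Fr.b'_mem2)) (by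
        simp [QuadraticMap.map_add (⇑Q), QuadraticMap.map_smul, Fr.qb, Fr.qb',
          QuadraticMap.polar_add_left, QuadraticMap.polar_smul_right, Fr.bb', hv₃b.1,
          QuadraticMap.polar_comm (⇑Q) v₃ Fr.b', hv₃b.2])
    rw [QuadraticMap.polar_add_left, QuadraticMap.polar_add_left, hb, QuadraticMap.polar_smul_left,
      hb', smul_zero, add_zero, zero_add] at h3
    rw [QuadraticMap.polar_comm, show v = v₃ + 𝔅 Fr.b' v • Fr.b + 𝔅 Fr.b v • Fr.b' by
        simp only [v₃]; module,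
      QuadraticMap.polar_add_left, QuadraticMap.polar_add_left, QuadraticMap.polar_smul_left,
      QuadraticMap.polar_smul_left, h3, hb, hb', smul_zero, smul_zero, add_zero, add_zero]
  obtain ⟨x', hx', hqx', hxx'⟩ := exists_partner_in (K := Fr.W2) hx hqx ⟨r₀, hr₀, hxr⟩
  set T := Fr.W2 ⊓ perp2 Q x x'
  have hTcard : (elts T).card = qF ^ (nι - 6) := by
    have h1 := (card_split hx hx' hqx hqx' hxx').1
    rw [hW2, show nι - 4 = 2 + (nι - 6) by omega, pow_add] at h1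
    exact (Nat.eq_of_mul_eq_mul_left (by positivity) h1).symm
  obtain ⟨t₁, ht₁, t₂, ht₂, ht12⟩ : ∃ t₁ ∈ T, ∃ t₂ ∈ T, 𝔅 t₁ t₂ ≠ 0 := by
    by_contra! h
    have hsub : elts T ⊆ {0} := fun z hz => Finset.mem_singleton.2
      (sep_inter_perp2 (Fr.sepW2 hQ) hx hx' hqx hqx' hxx' z (mem_elts.1 hz) fun w hw =>
        h z (mem_elts.1 hz) w hw)
    have := Finset.card_le_card hsub
    rw [hTcard, Finset.card_singleton] at this
    have : 2 ≤ qF ^ (nι - 6) := (two_le_q (F := F)).trans (Nat.le_self_pow (by omega) _)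
    omega
  have hnc : ∀ {β : F}, β ≠ 0 → ∀ v, ∃ t ∈ T, 𝔅 t v + Q t * β ≠ 0 := by
    intro β hβ v
    by_contra! h
    have h3 := h (t₁ + t₂) (add_mem ht₁ ht₂)
    rw [QuadraticMap.polar_add_left, QuadraticMap.map_add (⇑Q)] at h3
    exact mul_ne_zero ht12 hβ (by linear_combination h3 - h _ ht₁ - h _ ht₂)
  have hT : ∀ {t}, t ∈ T → 𝔅 x t = 0 ∧ 𝔅 x' t = 0 ∧ t ∈ Fr.W2 := fun ht =>
    ⟨ht.2.1, ht.2.2, ht.1⟩
  have hx'x : 𝔅 x' x = 1 := by rw [QuadraticMap.polar_comm, hxx']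
  -- a translate with both coordinates nonzero
  obtain ⟨g₁, hg₁, hg₁a, hg₁W, hβ1, hβ'1⟩ : ∃ g ∈ Fr.Lev, mv g Fr.a = Fr.a ∧ mv g r₀ ∈ Fr.W2 ∧
      𝔅 x (mv g r₀) ≠ 0 ∧ 𝔅 x' (mv g r₀) ≠ 0 := by
    by_cases h : 𝔅 x' r₀ = 0
    · obtain ⟨t, ht, htne⟩ := hnc hxr r₀
      obtain ⟨htx, htx', htW⟩ := hT ht
      obtain ⟨hg, hga, hgW⟩ := hrtW2 hx htW hqx htx
      refine ⟨_, hg, hga, hgW hr₀, by rwa [polar_centre_mv_rt hqx htx], ?_⟩
      rw [mv_rt hqx htx]
      simp only [QuadraticMap.polar_add_right, QuadraticMap.polar_sub_right,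
        QuadraticMap.polar_smul_right, smul_eq_mul, h, htx', hx'x]
      intro h0
      exact htne (by linear_combination -h0)
    · exact ⟨1, one_mem _, mv_one _, by rwa [mv_one], by rwa [mv_one], by rwa [mv_one]⟩
  set r₁ := mv g₁ r₀
  obtain ⟨t₀, ht₀, ht₀ne⟩ := hnc hβ'1 r₁
  obtain ⟨ht₀x, ht₀x', ht₀W⟩ := hT ht₀
  set S := insert (mv (rt Q x' t₀) r₁) ((elts T).image fun t => mv (rt Q x t) r₁)
  have hScard : qF ^ (nι - 6) + 1 ≤ S.card := by
    rw [Finset.card_insert_of_notMem, Finset.card_image_of_injOn, hTcard]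
    · intro t ht t' ht' h
      rw [Finset.mem_coe, mem_elts] at ht ht'
      obtain ⟨htx, htx', -⟩ := hT ht
      obtain ⟨htx2, htx2', -⟩ := hT ht'
      simp only [mv_rt hqx htx, mv_rt hqx htx2] at h
      have h' := congrArg (𝔅 x') h
      simp only [QuadraticMap.polar_add_right, QuadraticMap.polar_sub_right,
        QuadraticMap.polar_smul_right, smul_eq_mul, htx', htx2', hx'x] at h'
      refine smul_right_injective _ hβ1 ?_
      have hc : 𝔅 t r₁ + Q t * 𝔅 x r₁ = 𝔅 t' r₁ + Q t' * 𝔅 x r₁ := by linear_combination -h'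
      show 𝔅 x r₁ • t = 𝔅 x r₁ • t'
      have h2 : 𝔅 x r₁ • t - (𝔅 t r₁ + Q t * 𝔅 x r₁) • x =
          𝔅 x r₁ • t' - (𝔅 t' r₁ + Q t' * 𝔅 x r₁) • x := by
        linear_combination (norm := module) h
      rwa [hc, sub_left_inj] at h2
    · intro hmem'
      obtain ⟨t, ht, h⟩ := Finset.mem_image.1 hmem'
      rw [mem_elts] at ht
      have h' := congrArg (𝔅 x) h
      rw [polar_centre_mv_rt hqx (hT ht).1, mv_rt hqx' ht₀x'] at h'
      simp only [QuadraticMap.polar_add_right, QuadraticMap.polar_sub_right,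
        QuadraticMap.polar_smul_right, smul_eq_mul, ht₀x, hxx'] at h'
      exact ht₀ne (by linear_combination h')
  have hSmem : ∀ v ∈ S, v ∈ Fr.W2 ∧ ∀ t : F, t • Fr.a + v ∈ 𝓡 := by
    intro v hv
    suffices ∃ g ∈ Fr.Lev, mv g Fr.a = Fr.a ∧ mv g r₁ ∈ Fr.W2 ∧ mv g r₁ = v by
      obtain ⟨g, hg, hga, hgW, rfl⟩ := this
      refine ⟨hgW, fun t => ?_⟩
      rw [← mv_mul]
      exact hinvr (mul_mem hg hg₁) (by rw [mv_mul, hg₁a, hga]) t
    rcases Finset.mem_insert.1 hv with rfl | hv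
    · obtain ⟨h1, h2, h3⟩ := hrtW2 hx' ht₀W hqx' ht₀x'
      exact ⟨_, h1, h2, h3 hg₁W, rfl⟩
    · obtain ⟨t, ht, rfl⟩ := Finset.mem_image.1 hv
      obtain ⟨htx, -, htW⟩ := hT (mem_elts.1 ht)
      obtain ⟨h1, h2, h3⟩ := hrtW2 hx htW hqx htx
      exact ⟨_, h1, h2, h3 hg₁W, rfl⟩
  have hle : ((Finset.univ : Finset F) ×ˢ S).image (fun d => d.1 • Fr.a + d.2) ⊆ 𝓡 := by
    intro v hv
    obtain ⟨⟨t, s⟩, hts, rfl⟩ := Finset.mem_image.1 hv
    exact (hSmem s (Finset.mem_product.1 hts).2).2 t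
  have hinj : Set.InjOn (fun d : F × (ι → F) => d.1 • Fr.a + d.2)
      ↑((Finset.univ : Finset F) ×ˢ S) := by
    rintro ⟨t, s⟩ hs ⟨t', s'⟩ hs' h
    simp only [Finset.coe_product, Set.mem_prod, Finset.mem_coe] at hs hs'
    obtain ⟨-, -, h1⟩ := Fr.mem_W2.1 (hSmem s hs.2).1
    obtain ⟨-, -, h2⟩ := Fr.mem_W2.1 (hSmem s' hs'.2).1
    have h' := congrArg (𝔅 Fr.a') h
    simp only [QuadraticMap.polar_add_right, QuadraticMap.polar_smul_right, Fr.a'a, h1, h2,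
      smul_eq_mul, mul_one, add_zero] at h'
    subst h'
    simpa using h
  have h1 := (Finset.card_le_card hle).trans hup'
  rw [Finset.card_image_of_injOn hinj, Finset.card_product, Finset.card_univ] at h1
  have h2 := Nat.mul_le_mul_left qF hScard
  rw [mul_add, mul_one, ← pow_succ', show nι - 6 + 1 = nι - 5 by omega] at h2
  have := two_le_q (F := F)
  omega

/-- Root elements at a singular label of small multiplicity fix its orbits. -/
theorem root_fix_singular (hQ : (QuadraticMap.polarBilin Q).Nondegenerate) [Fact p.Prime]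
    [CharP F p] (hpr : pr ≠ 0) (hn : 7 ≤ nι) (hm : Fr.mc Ω pr 0 ≤ qF ^ (nι - 6) + 1)
    {y : Fr.Orb Ω} {v : ι → F} (hv : v ∈ Fr.lab pr y) (hv0 : v ≠ 0) (hq : Q v = 0) {w : ι → F}
    (hw : w ∈ Fr.W) (hvw : 𝔅 v w = 0) : Fr.sh (rt Q v w) y = y := by
  obtain ⟨g, hg, hgv⟩ := Fr.exists_lev_to_std hQ hv.1 hv0
  rw [mc, std, zero_smul, add_zero] at hm
  rw [hq, std, zero_smul, add_zero] at hgv
  have hy := Fr.mem_lab_lev pr hg hv
  rw [hgv] at hy
  have haw : 𝔅 Fr.a (mv g w) = 0 := by rw [← hgv, polar_mv, hvw]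
  have h := Fr.root_fix_a pr hQ hpr hn hm hy (Fr.mv_mem_W hg hw) haw
  refine Fr.sh_injective hg ?_
  have hc : g * rt Q v w = rt Q Fr.a (mv g w) * g := by
    rw [← mul_inv_eq_iff_eq_mul, rt_conj g hq hvw, hgv]
  rw [← Fr.sh_mul hg, hc, Fr.sh_mul (Fr.rt_mem_Lev Fr.a_mem Fr.qa (Fr.mv_mem_W hg hw) haw), h]

/-- Root elements perpendicular to a label of multiplicity below `p` fix its orbits. -/
theorem root_fix_nonsingular [Fact p.Prime] [CharP F p] {u : ι → F}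
    (hm : Fr.mult (Ω := Ω) pr u < p ∨ Fr.mult (Ω := Ω) pr u ≤ 1) {y : Fr.Orb Ω}
    (hu : u ∈ Fr.lab pr y) {s w : ι → F} (hs : s ∈ Fr.W) (hq : Q s = 0) (hw : w ∈ Fr.W)
    (hsw : 𝔅 s w = 0) (hus : 𝔅 u s = 0) (huw : 𝔅 u w = 0) : Fr.sh (rt Q s w) y = y := by
  have hg := Fr.rt_mem_Lev hs hq hw hsw
  have hgu : mv (rt Q s w) u = u := mv_rt_fix hq hsw (by rw [QuadraticMap.polar_comm, hus])
    (by rw [QuadraticMap.polar_comm, huw])
  set Y := {z : Fr.Orb Ω // u ∈ Fr.lab pr z}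
  have hcY : Fintype.card Y = Fr.mult (Ω := Ω) pr u := Fintype.card_subtype _
  let f : Y → Y := fun z => ⟨Fr.sh (rt Q s w) z.1, by
    have := Fr.mem_lab_lev pr hg z.2
    rwa [hgu] at this⟩
  let σ : Equiv.Perm Y := Equiv.ofBijective f
    ((Finite.injective_iff_bijective).1 fun z z' h =>
      Subtype.ext (Fr.sh_injective hg (congrArg Subtype.val h)))
  have hpow : ∀ (k : ℕ) (z : Y), ((σ ^ k) z).1 = Fr.sh (rt Q s w ^ k) z.1 := by
    intro k
    induction k with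
    | zero => exact fun z => (Fr.sh_one _).symm
    | succ k ih =>
      intro z
      rw [pow_succ', pow_succ', Equiv.Perm.mul_apply, Fr.sh_mul hg, ← ih z]
      rfl
  have hσp : σ ^ p = 1 := by
    refine Equiv.ext fun z => Subtype.ext ?_
    rw [hpow, rt_pow hq hsw, nsmul_char_eq_zero (F := F), rt_zero hq, Fr.sh_one]
    rfl
  have hσ : σ = 1 := by
    rcases hm with hm | hm
    · rw [← orderOf_eq_one_iff]
      rcases (Nat.dvd_prime Fact.out).1 (orderOf_dvd_of_pow_eq_one hσp) with h | h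
      · exact h
      · exfalso
        have h1 := orderOf_dvd_card (x := σ)
        rw [h, Fintype.card_perm, hcY] at h1
        exact absurd ((Nat.Prime.dvd_factorial Fact.out).1 h1) (by omega)
    · have : Subsingleton Y := Fintype.card_le_one_iff_subsingleton.1 (hcY ▸ hm)
      exact Subsingleton.elim _ _
  exact congrArg (fun τ : Equiv.Perm Y => (τ ⟨y, hu⟩).1) hσ

end fix

end Frame

end CfsgLib.MinDegree.Orth
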