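import Cfsg.Agent.MinDegree.OrthBound

/-!
# Small actions whose label sets are lines

If every orbit of the root group at `e` is regular or has its labels in a line, a long root element
and its conjugate inside the Levi complement have incompatible numbers of fixed points.
-/

set_option autoImplicit false
set_option linter.unusedSectionVars false
set_option linter.unusedSimpArgs false
set_option linter.unnecessarySeqFocus false

namespace CfsgLib.MinDegree.Orth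

open Matrix Module CfsgLib.Spinor CfsgLib.Forms CfsgLib.Forms4 CfsgLib.OrthMax
open scoped Classical commutatorElement

variable {F : Type*} [Field F] {ι : Type} [Fintype ι] [DecidableEq ι] {Q : QuadraticForm F (ι → F)}
  [Fintype F]

set_option quotPrecheck false in
local notation "𝔅" => QuadraticMap.polar (⇑Q)
local notation "qF" => Fintype.card F
local notation "nι" => Fintype.card ι

namespace Frame

variable (Fr : Frame Q)

/-- Vectors perpendicular to `a` but not to `b`. -/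
noncomputable def DW : Finset (ι → F) :=
  (elts Fr.W).filter fun v => 𝔅 Fr.a v = 0 ∧ 𝔅 Fr.b v ≠ 0

theorem card_DW_fibre (c : F) :
    ((Fr.DW).filter fun v => Q v = c).card = (qF - 1) * qF ^ (nι - 5) := by
  obtain ⟨h6, -, -, h3⟩ := Fr.six_le
  have hmk : ∀ (α γ δ : F) z, z ∈ Fr.W3 → Q (α • Fr.a + (δ • Fr.b + (γ • Fr.b' + z))) = δ * γ + Q z ∧
      𝔅 Fr.b (α • Fr.a + (δ • Fr.b + (γ • Fr.b' + z))) = γ ∧
      𝔅 Fr.b' (α • Fr.a + (δ • Fr.b + (γ • Fr.b' + z))) = δ ∧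
      𝔅 Fr.a' (α • Fr.a + (δ • Fr.b + (γ • Fr.b' + z))) = α ∧
      𝔅 Fr.a (α • Fr.a + (δ • Fr.b + (γ • Fr.b' + z))) = 0 := by
    intro α γ δ z hz
    obtain ⟨hz2, hbz, hb'z⟩ := Fr.mem_W3.1 hz
    obtain ⟨-, haz, ha'z⟩ := Fr.mem_W2.1 hz2
    refine ⟨?_, ?_, ?_, ?_, ?_⟩ <;>
    simp [QuadraticMap.map_add (⇑Q), QuadraticMap.map_smul, QuadraticMap.polar_add_right,
      QuadraticMap.polar_smul_right, QuadraticMap.polar_smul_left, Fr.qa, Fr.qb, Fr.qb', Fr.aa',
      Fr.a'a, Fr.bb', Fr.b'b, Fr.ab, Fr.ab', Fr.a'b, Fr.a'b', Fr.ba, Fr.b'a, haz, ha'z, hbz, hb'z,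
      Fr.aa, Fr.bb, Fr.b'b''] <;> ring
  have hcard : ((Finset.univ : Finset F) ×ˢ ((Finset.univ : Finset F).erase 0 ×ˢ elts Fr.W3)).card =
      (qF - 1) * qF ^ (nι - 5) := by
    rw [Finset.card_product, Finset.card_product, Finset.card_erase_of_mem (Finset.mem_univ _),
      Finset.card_univ, h3, show nι - 5 = nι - 6 + 1 by omega, pow_succ]
    ring
  rw [← hcard]
  refine Finset.card_bij'
    (fun v _ => (𝔅 Fr.a' v, 𝔅 Fr.b v,
      v - 𝔅 Fr.a' v • Fr.a - 𝔅 Fr.b' v • Fr.b - 𝔅 Fr.b v • Fr.b'))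
    (fun t _ => t.1 • Fr.a + (((c - Q t.2.2) / t.2.1) • Fr.b + (t.2.1 • Fr.b' + t.2.2))) ?_ ?_ ?_ ?_
  · intro v hv
    simp only [DW, Finset.mem_filter, mem_elts] at hv
    simp only [Finset.mem_product, Finset.mem_univ, true_and, Finset.mem_erase, ne_eq, and_true,
      mem_elts]
    refine ⟨hv.1.2.2, ⟨⟨sub_mem (sub_mem (sub_mem hv.1.1 (Fr.W.smul_mem _ Fr.a_mem))
      (Fr.W.smul_mem _ Fr.b_mem)) (Fr.W.smul_mem _ Fr.b'_mem), mem_perp2.2 ⟨?_, ?_⟩⟩,
      mem_perp2.2 ⟨?_, ?_⟩⟩⟩ <;>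
    simp [QuadraticMap.polar_sub_right, QuadraticMap.polar_smul_right, Fr.aa, Fr.bb, Fr.b'b'',
      Fr.ab, Fr.ab', Fr.a'a, Fr.a'b, Fr.a'b', Fr.ba, Fr.b'a, Fr.bb', Fr.b'b, hv.1.2.1]
  · rintro ⟨α, γ, z⟩ ht
    simp only [Finset.mem_product, Finset.mem_univ, true_and, Finset.mem_erase, ne_eq, and_true,
      mem_elts] at ht
    obtain ⟨h1, h2, -, -, h5⟩ := hmk α γ ((c - Q z) / γ) z ht.2
    simp only [DW, Finset.mem_filter, mem_elts]
    refine ⟨⟨add_mem (Fr.W.smul_mem _ Fr.a_mem) (add_mem (Fr.W.smul_mem _ Fr.b_mem)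
      (add_mem (Fr.W.smul_mem _ Fr.b'_mem) (Fr.mem_W2.1 (Fr.mem_W3.1 ht.2).1).1)), h5,
      by rw [h2]; exact ht.1⟩, ?_⟩
    rw [h1, div_mul_cancel₀ _ ht.1, sub_add_cancel]
  · intro v hv
    simp only [DW, Finset.mem_filter, mem_elts] at hv
    set z := v - 𝔅 Fr.a' v • Fr.a - 𝔅 Fr.b' v • Fr.b - 𝔅 Fr.b v • Fr.b' with hz
    have hz3 : z ∈ Fr.W3 := by
      refine ⟨⟨sub_mem (sub_mem (sub_mem hv.1.1 (Fr.W.smul_mem _ Fr.a_mem))
        (Fr.W.smul_mem _ Fr.b_mem)) (Fr.W.smul_mem _ Fr.b'_mem), mem_perp2.2 ⟨?_, ?_⟩⟩,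
        mem_perp2.2 ⟨?_, ?_⟩⟩ <;>
      simp [z, QuadraticMap.polar_sub_right, QuadraticMap.polar_smul_right, Fr.aa, Fr.bb, Fr.b'b'',
        Fr.ab, Fr.ab', Fr.a'a, Fr.a'b, Fr.a'b', Fr.ba, Fr.b'a, Fr.bb', Fr.b'b, hv.1.2.1]
    have hd : v = 𝔅 Fr.a' v • Fr.a + (𝔅 Fr.b' v • Fr.b + (𝔅 Fr.b v • Fr.b' + z)) := by
      rw [hz]; module
    have hq : 𝔅 Fr.b' v * 𝔅 Fr.b v + Q z = c := by
      rw [← (hmk _ _ _ z hz3).1, ← hd, hv.2]
    show 𝔅 Fr.a' v • Fr.a + (((c - Q z) / 𝔅 Fr.b v) • Fr.b + (𝔅 Fr.b v • Fr.b' + z)) = v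
    rw [show (c - Q z) / 𝔅 Fr.b v = 𝔅 Fr.b' v by
      rw [← hq, add_sub_cancel_right, mul_div_cancel_right₀ _ hv.1.2.2], ← hd]
  · rintro ⟨α, γ, z⟩ ht
    simp only [Finset.mem_product, Finset.mem_univ, true_and, Finset.mem_erase, ne_eq, and_true,
      mem_elts] at ht
    obtain ⟨-, h2, h3', h4, -⟩ := hmk α γ ((c - Q z) / γ) z ht.2
    simp only [h2, h3', h4, Prod.mk.injEq, true_and]
    module

theorem rho_eq_iff {w : ι → F} : mv (rt Q Fr.a Fr.b) w = w ↔ 𝔅 Fr.a w = 0 ∧ 𝔅 Fr.b w = 0 := by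
  rw [mv_rt Fr.qa Fr.ab, Fr.qb]
  refine ⟨fun h => ?_, fun h => by simp [h.1, h.2]⟩
  rw [add_eq_left, zero_mul, zero_smul, sub_zero] at h
  have h1 := congrArg (𝔅 Fr.b') h
  have h2 := congrArg (𝔅 Fr.a') h
  simp [QuadraticMap.polar_sub_right, QuadraticMap.polar_smul_right, Fr.b'b, Fr.b'a] at h1
  simp [QuadraticMap.polar_sub_right, QuadraticMap.polar_smul_right, Fr.a'a, Fr.a'b] at h2
  exact ⟨h1, h2⟩

theorem card_rho_fixed : ((elts Fr.W).filter fun w => mv (rt Q Fr.a Fr.b) w = w).card ≤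
    qF ^ (nι - 4) := by
  obtain ⟨h6, -, -, h3⟩ := Fr.six_le
  have hcard : (((Finset.univ : Finset F) ×ˢ (Finset.univ : Finset F)) ×ˢ elts Fr.W3).card =
      qF ^ (nι - 4) := by
    rw [Finset.card_product, Finset.card_product, Finset.card_univ, h3,
      show nι - 4 = 2 + (nι - 6) by omega, pow_add, sq]
  rw [← hcard]
  refine Finset.card_le_card_of_injOn
    (fun v => ((𝔅 Fr.a' v, 𝔅 Fr.b' v), v - 𝔅 Fr.a' v • Fr.a - 𝔅 Fr.b' v • Fr.b)) ?_ ?_
  · intro v hv
    simp only [Finset.coe_filter, Set.mem_ofPred_eq, mem_elts, rho_eq_iff] at hv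
    simp only [Finset.coe_product, Set.mem_prod, Finset.coe_univ, Set.mem_univ, true_and, and_true,
      Finset.mem_coe, mem_elts]
    refine ⟨⟨sub_mem (sub_mem hv.1 (Fr.W.smul_mem _ Fr.a_mem)) (Fr.W.smul_mem _ Fr.b_mem),
      mem_perp2.2 ⟨?_, ?_⟩⟩, mem_perp2.2 ⟨?_, ?_⟩⟩ <;>
    simp [QuadraticMap.polar_sub_right, QuadraticMap.polar_smul_right, Fr.aa, Fr.bb,
      Fr.ab, Fr.a'a, Fr.a'b, Fr.ba, Fr.b'a, Fr.b'b, hv.2.1, hv.2.2]
  · intro v _ v' _ h
    simp only [Prod.mk.injEq] at h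
    have := h.2
    rw [h.1.1, h.1.2, sub_left_inj, sub_left_inj] at this
    exact this

variable {Ω : Type*} [MulAction (EG Q) Ω] [Fintype Ω] {p : ℕ} (pr : F →+ ZMod p)
  (hQ : (QuadraticMap.polarBilin Q).Nondegenerate) [Fact p.Prime] [CharP F p] (hpr : pr ≠ 0)
  (hn : 7 ≤ Fintype.card ι) (hcls : ∀ y : Fr.Orb Ω, Fr.Reg pr y ∨ Fr.Lin pr y)

/-- The regular orbits. -/
noncomputable def regs : Finset (Fr.Orb Ω) := Finset.univ.filter fun y => Fr.Reg pr y

include hQ hpr hn hcls in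
/-- The comparison of fixed points. -/
theorem sum_mc_le_regs :
    ∑ c, Fr.mc Ω pr c ≤ (qF + 1) * (Fr.regs (Ω := Ω) pr).card := by
  set r := (Fr.regs (Ω := Ω) pr).card with hr
  have hρL := Fr.rt_mem_Lev Fr.a_mem Fr.qa Fr.b_mem Fr.ab
  have hρS := Fr.scales_of_lev hρL
  -- the two elements are conjugate
  have hconj : (fixF Ω (rt Q Fr.a Fr.b)).card = (fixF Ω (rt Q Fr.e Fr.a)).card := by
    obtain ⟨g, t, -, x', hx', hx'0, hx'q, hg⟩ := Fr.exists_conj_rtE hQ Fr.qa Fr.ab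
      (fun c h => by
        have := congrArg (𝔅 Fr.b') h
        simp [QuadraticMap.polar_smul_right, Fr.b'b, Fr.b'a] at this)
      (fun h => by
        have := Fr.aa'
        rw [h, QuadraticMap.polar_zero_left] at this
        exact zero_ne_one this)
    rw [Fr.qb, mul_zero] at hx'q
    obtain ⟨h, hh, hhx⟩ := Fr.exists_lev_map hQ hx' hx'0 Fr.a_mem (fun h0 => by
      have := Fr.aa'
      rw [h0, QuadraticMap.polar_zero_left] at this
      exact zero_ne_one this) (by rw [hx'q, Fr.qa])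
    rw [← card_fixF_conj g, hg, ← card_fixF_conj h, rt_conj h Fr.qe (Fr.mem_W.1 hx').1, hh.1, hhx]
  -- the orbits with a label seeing `b`
  set D := (Finset.univ : Finset (Fr.Orb Ω)).filter fun y =>
    ¬ Fr.Reg pr y ∧ ∃ v ∈ Fr.DW, v ∈ Fr.lab pr y
  have hD : ∀ {y}, y ∈ D ↔ ¬ Fr.Reg pr y ∧ ∃ v ∈ Fr.DW, v ∈ Fr.lab pr y := fun {y} => by simp [D]
  have hpt : ∀ y : Fr.Orb Ω, ((Fr.pts y).filter fun x => rt Q Fr.a Fr.b • x = x).card +
      (if y ∈ D then (Fr.labF pr y).card else 0) ≤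
      ((Fr.pts y).filter fun x => rt Q Fr.e Fr.a • x = x).card +
      (if Fr.Reg pr y then qF ^ (nι - 4) else 0) := by
    intro y
    rw [Fr.filter_fix_rtE Fr.a_mem y]
    by_cases hreg : Fr.Reg pr y
    · rw [if_pos hreg, if_neg fun h => (hD.1 h).1 hreg, add_zero]
      refine le_trans ?_ (Nat.le_add_left _ _)
      rcases ((Fr.pts y).filter fun x => rt Q Fr.a Fr.b • x = x).eq_empty_or_nonempty with h | ⟨x₀, hx₀⟩
      · rw [h]; simp
      obtain ⟨hx₀y, hx₀f⟩ := Finset.mem_filter.1 hx₀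
      rw [Fr.mem_pts] at hx₀y
      refine le_trans (Finset.card_le_card (t := ((elts Fr.W).filter fun w =>
        mv (rt Q Fr.a Fr.b) w = w).image fun w => rt Q Fr.e w • x₀) fun x hx => ?_)
        (Finset.card_image_le.trans Fr.card_rho_fixed)
      obtain ⟨hxy, hxf⟩ := Finset.mem_filter.1 hx
      rw [Fr.mem_pts] at hxy
      obtain ⟨w, hw, rfl⟩ := Fr.cls_eq_iff.1 (hx₀y.trans hxy.symm)
      refine Finset.mem_image.2 ⟨w, Finset.mem_filter.2 ⟨mem_elts.2 hw, ?_⟩, rfl⟩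
      rw [Scales.smul_rtE Fr hρS hw, one_smul, hx₀f] at hxf
      set w' := mv (rt Q Fr.a Fr.b) w
      have hw'W : w' ∈ Fr.W := Fr.mv_mem_W hρL hw
      have : w' - w ∈ Fr.kst x₀ := by
        refine ⟨sub_mem hw'W hw, smul_left_cancel (rt Q Fr.e w) ?_⟩
        rw [← mul_smul, Fr.rtE_mul hw (sub_mem hw'W hw), add_sub_cancel, hxf]
      exact sub_eq_zero.1 (Fr.kst_eq_zero_of_reg pr hQ hpr (hx₀y ▸ hreg) this)
    · rw [if_neg hreg, add_zero]
      have hlin := (hcls y).resolve_left hreg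
      obtain ⟨u, hu⟩ := hlin
      by_cases hyD : y ∈ D
      · rw [if_pos hyD]
        obtain ⟨-, v, hv, hvy⟩ := hD.1 hyD
        simp only [DW, Finset.mem_filter, mem_elts] at hv
        have hmult : ∀ x ∈ Fr.lab pr y, ∃ c : F, x = c • v := by
          intro x hx
          obtain ⟨c, hc⟩ := hu v hvy
          obtain ⟨d, rfl⟩ := hu x hx
          have hc0 : c ≠ 0 := fun h => hv.2.2 (by rw [hc, h, zero_smul, QuadraticMap.polar_zero_right])
          exact ⟨d / c, by rw [hc, smul_smul, div_mul_cancel₀ _ hc0]⟩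
        have hka : Fr.a ∈ Fr.kst y.out := (Fr.card_pts_eq pr hQ hpr y).2 _ Fr.a_mem fun x hx => by
          obtain ⟨c, rfl⟩ := hmult x hx
          rw [QuadraticMap.polar_smul_left, QuadraticMap.polar_comm, hv.2.1, smul_zero, map_zero]
        rw [if_pos hka, ← (Fr.card_pts_eq pr hQ hpr y).1]
        refine le_of_eq (add_eq_right.2 (Finset.card_eq_zero.2
          (Finset.filter_eq_empty_iff.2 fun x hx hxf => hv.2.2 ?_)))
        have hfix : Fr.sh (rt Q Fr.a Fr.b) y = y := by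
          rw [← Fr.mem_pts.1 hx, Scales.sh_cls Fr hρS, hxf]
        obtain ⟨c, hc⟩ := hmult _ (Fr.mem_lab_of_fix pr hρL hfix hvy)
        rw [mv_rt_perp Fr.qa Fr.ab hv.2.1] at hc
        have h1 := congrArg (𝔅 Fr.b) hc
        rw [QuadraticMap.polar_sub_right, QuadraticMap.polar_smul_right, Fr.ba, smul_zero, sub_zero,
          QuadraticMap.polar_smul_right, smul_eq_mul] at h1
        have hc1 : c = 1 := (mul_eq_right₀ hv.2.2).1 h1.symm
        have h2 := congrArg (𝔅 Fr.a') hc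
        rw [hc1, one_smul, QuadraticMap.polar_sub_right, QuadraticMap.polar_smul_right, Fr.a'a,
          smul_eq_mul, mul_one, sub_eq_self] at h2
        exact h2
      · rw [if_neg hyD, add_zero]
        by_cases hka : Fr.a ∈ Fr.kst y.out
        · rw [if_pos hka]
          exact Finset.card_filter_le _ _
        · refine le_of_eq_of_le (Finset.card_eq_zero.2 (Finset.filter_eq_empty_iff.2
            fun x hx hxf => hka ?_)) (Nat.zero_le _)
          refine (Fr.card_pts_eq pr hQ hpr y).2 _ Fr.a_mem fun v hv => ?_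
          suffices h : 𝔅 Fr.a v = 0 by rw [QuadraticMap.polar_comm, h, map_zero]
          by_contra hav
          have hfix : Fr.sh (rt Q Fr.a Fr.b) y = y := by
            rw [← Fr.mem_pts.1 hx, Scales.sh_cls Fr hρS, hxf]
          have hm := Fr.mem_lab_of_fix pr hρL hfix hv
          obtain ⟨c, hc⟩ := hu v hv
          obtain ⟨d, hd⟩ := hu _ hm
          have hc0 : c ≠ 0 := fun h => hav (by rw [hc, h, zero_smul, QuadraticMap.polar_zero_right])
          have hd' : mv (rt Q Fr.a Fr.b) v = (d / c) • v := by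
            rw [hd, hc, smul_smul, div_mul_cancel₀ _ hc0]
          have h1 := congrArg (𝔅 Fr.a) hd'
          rw [polar_centre_mv_rt Fr.qa Fr.ab, QuadraticMap.polar_smul_right, smul_eq_mul] at h1
          rw [(mul_eq_right₀ hav).1 h1.symm, one_smul, rho_eq_iff] at hd'
          exact hav hd'.1
  have hsum := Finset.sum_le_sum (s := Finset.univ) fun y _ => hpt y
  rw [Finset.sum_add_distrib, Finset.sum_add_distrib, ← Fr.card_fixF_eq_sum,
    ← Fr.card_fixF_eq_sum, hconj, ← Finset.sum_filter, ← Finset.sum_filter, Finset.sum_const,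
    smul_eq_mul, Finset.filter_univ_mem] at hsum
  have hDsum : ∑ y ∈ D, (Fr.labF pr y).card ≤ r * qF ^ (nι - 4) := by
    rw [hr, regs]
    omega
  -- translate into multiplicities
  have h0DW : (0 : ι → F) ∉ Fr.DW := fun h => by
    have := (Finset.mem_filter.1 h).2.2
    rw [QuadraticMap.polar_zero_right] at this
    exact this rfl
  have hDmult : qF * ∑ v ∈ Fr.DW, Fr.mult (Ω := Ω) pr v ≤
      (qF - 1) * (∑ y ∈ D, (Fr.labF pr y).card) + qF * (r * Fr.DW.card) := by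
    have h1 : ∀ v ∈ Fr.DW, Fr.mult (Ω := Ω) pr v ≤ r + (D.filter fun y => v ∈ Fr.lab pr y).card := by
      intro v hv
      refine le_trans (Finset.card_le_card fun y hy => ?_) (Finset.card_union_le _ _)
      have hy' := (Finset.mem_filter.1 hy).2
      by_cases hreg : Fr.Reg pr y
      · exact Finset.mem_union_left _ (Finset.mem_filter.2 ⟨Finset.mem_univ _, hreg⟩)
      · exact Finset.mem_union_right _ (Finset.mem_filter.2 ⟨hD.2 ⟨hreg, v, hv, hy'⟩, hy'⟩)
    have h2 : ∑ v ∈ Fr.DW, (D.filter fun y => v ∈ Fr.lab pr y).card ≤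
        ∑ y ∈ D, ((Fr.labF pr y).card - 1) := by
      simp only [Finset.card_filter]
      rw [Finset.sum_comm]
      refine Finset.sum_le_sum fun y _ => ?_
      rw [← Finset.card_filter, ← Finset.card_erase_of_mem ((Fr.mem_labF pr).2 (zero_mem _))]
      refine Finset.card_le_card fun v hv => ?_
      obtain ⟨hv1, hv2⟩ := Finset.mem_filter.1 hv
      exact Finset.mem_erase.2 ⟨fun h => h0DW (h ▸ hv1), (Fr.mem_labF pr).2 hv2⟩
    have h3 : qF * ∑ y ∈ D, ((Fr.labF pr y).card - 1) ≤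
        (qF - 1) * ∑ y ∈ D, (Fr.labF pr y).card := by
      rw [Finset.mul_sum, Finset.mul_sum]
      refine Finset.sum_le_sum fun y hy => ?_
      have := Fr.card_labF_le_of_lin pr ((hcls y).resolve_left (hD.1 hy).1)
      rw [Nat.mul_sub, Nat.sub_mul, mul_one, one_mul]
      omega
    calc qF * ∑ v ∈ Fr.DW, Fr.mult (Ω := Ω) pr v
        ≤ qF * (∑ v ∈ Fr.DW, (r + (D.filter fun y => v ∈ Fr.lab pr y).card)) :=
          Nat.mul_le_mul_left _ (Finset.sum_le_sum h1)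
      _ = qF * (r * Fr.DW.card) + qF * ∑ v ∈ Fr.DW, (D.filter fun y => v ∈ Fr.lab pr y).card := by
          rw [Finset.sum_add_distrib, Finset.sum_const, smul_eq_mul, mul_add, mul_comm Fr.DW.card r]
      _ ≤ _ := by
          have := (Nat.mul_le_mul_left qF h2).trans h3
          omega
  set N := (qF - 1) * qF ^ (nι - 5)
  have hDWsum : ∑ v ∈ Fr.DW, Fr.mult (Ω := Ω) pr v = N * ∑ c, Fr.mc Ω pr c := by
    rw [← Finset.sum_fiberwise_of_maps_to (s := Fr.DW) (t := Finset.univ) (g := fun v => Q v)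
      fun _ _ => Finset.mem_univ _, Finset.mul_sum]
    refine Finset.sum_congr rfl fun c _ => ?_
    rw [show N = _ from (Fr.card_DW_fibre c).symm, ← smul_eq_mul, ← Finset.sum_const]
    refine Finset.sum_congr rfl fun v hv => ?_
    obtain ⟨hv1, hv2⟩ := Finset.mem_filter.1 hv
    rw [Fr.mult_eq_mc pr hQ (mem_elts.1 (Finset.mem_filter.1 hv1).1) (fun h => h0DW (h ▸ hv1)), hv2]
  have hDWcard : Fr.DW.card = qF * N := by
    rw [Finset.card_eq_sum_card_fiberwise (s := Fr.DW) (t := Finset.univ) (f := fun v => Q v)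
      fun _ _ => Finset.mem_univ _, Finset.sum_congr rfl fun c _ => Fr.card_DW_fibre c,
      Finset.sum_const, Finset.card_univ, smul_eq_mul]
  have hfinal : qF * (N * ∑ c, Fr.mc Ω pr c) ≤ qF * (N * ((qF + 1) * r)) := by
    calc qF * (N * ∑ c, Fr.mc Ω pr c)
        ≤ (qF - 1) * (∑ y ∈ D, (Fr.labF pr y).card) + qF * (r * (qF * N)) := by
          rw [← hDWsum, ← hDWcard]; exact hDmult
      _ ≤ (qF - 1) * (r * qF ^ (nι - 4)) + qF * (r * (qF * N)) :=
          Nat.add_le_add_right (Nat.mul_le_mul_left _ hDsum) _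
      _ = _ := by
          rw [show nι - 4 = nι - 5 + 1 by omega, pow_succ]
          ring
  have hq := two_le_q (F := F)
  have hN : 0 < qF - 1 := by omega
  exact Nat.le_of_mul_le_mul_left (Nat.le_of_mul_le_mul_left hfinal (by omega)) (by positivity)

end Frame

end CfsgLib.MinDegree.Orth
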