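import Mathlib

/-!
# Duality for additive subgroups of a finite vector space with a nondegenerate bilinear form
-/

set_option autoImplicit false

namespace CfsgLib.MinDegree

variable {F V : Type*} [Field F] [AddCommGroup V] [Module F V] {p : ℕ}

/-- The additive annihilator of `W` for the pairing `pr ∘ B`. -/
def addPerp (B : V →ₗ[F] V →ₗ[F] F) (pr : F →+ ZMod p) (W : AddSubgroup V) : AddSubgroup V where
  carrier := {r | ∀ w ∈ W, pr (B r w) = 0}
  zero_mem' w _ := by rw [map_zero, LinearMap.zero_apply, map_zero]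
  add_mem' ha hb w hw := by rw [map_add, LinearMap.add_apply, map_add, ha w hw, hb w hw, add_zero]
  neg_mem' ha w hw := by rw [map_neg, LinearMap.neg_apply, map_neg, ha w hw, neg_zero]

theorem mem_addPerp {B : V →ₗ[F] V →ₗ[F] F} {pr : F →+ ZMod p} {W : AddSubgroup V} {r : V} :
    r ∈ addPerp B pr W ↔ ∀ w ∈ W, pr (B r w) = 0 := Iff.rfl

theorem nsmul_char_eq_zero [CharP F p] (x : V) : p • x = 0 := by
  rw [← Nat.cast_smul_eq_nsmul F, CharP.cast_eq_zero, zero_smul]

theorem card_addHom_aux [Fact p.Prime] {X : Type*} [AddCommGroup X] [Module (ZMod p) X]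
    [Finite X] : Nat.card (X →+ ZMod p) = Nat.card X := by
  have e : (X →+ ZMod p) ≃ Module.Dual (ZMod p) X :=
    { toFun := fun f => f.toZModLinearMap p
      invFun := fun f => f.toAddMonoidHom
      left_inv := fun f => rfl
      right_inv := fun f => rfl }
  have : Module.Finite (ZMod p) X := Module.Finite.of_finite
  have : Finite (X →+ ZMod p) :=
    Finite.of_injective (fun g => (g : X → ZMod p)) DFunLike.coe_injective
  have : Finite (Module.Dual (ZMod p) X) := Finite.of_equiv _ e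
  rw [Nat.card_congr e, ← FiniteField.pow_finrank_eq_natCard p (Module.Dual (ZMod p) X),
    ← FiniteField.pow_finrank_eq_natCard p X, Subspace.dual_finrank_eq]

theorem card_addHom_zmod [Fact p.Prime] {X : Type*} [AddCommGroup X] [Finite X]
    (h : ∀ x : X, p • x = 0) : Nat.card (X →+ ZMod p) = Nat.card X :=
  @card_addHom_aux p _ X _ (AddCommGroup.zmodModule h) _

theorem exists_extend_aux [Fact p.Prime] {X : Type*} [AddCommGroup X] [Module (ZMod p) X]
    (W : AddSubgroup X) (g : W →+ ZMod p) : ∃ g' : X →+ ZMod p, ∀ w : W, g' w = g w := by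
  let W' : Submodule (ZMod p) X := AddSubgroup.toZModSubmodule p W
  let g₀ : W' →+ ZMod p :=
    { toFun := fun w => g ⟨w.1, w.2⟩, map_zero' := g.map_zero,
      map_add' := fun a b => g.map_add ⟨a.1, a.2⟩ ⟨b.1, b.2⟩ }
  obtain ⟨g', hg'⟩ := LinearMap.exists_extend (g₀.toZModLinearMap p)
  exact ⟨g'.toAddMonoidHom, fun w => LinearMap.congr_fun hg' ⟨w.1, w.2⟩⟩

theorem exists_extend_addHom [Fact p.Prime] {X : Type*} [AddCommGroup X]
    (h : ∀ x : X, p • x = 0) (W : AddSubgroup X) (g : W →+ ZMod p) :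
    ∃ g' : X →+ ZMod p, ∀ w : W, g' w = g w :=
  @exists_extend_aux p _ X _ (AddCommGroup.zmodModule h) W g

theorem exists_addHom_ne_zero_aux [Fact p.Prime] {X : Type*} [AddCommGroup X]
    [Module (ZMod p) X] {W : AddSubgroup X} {x : X} (hx : x ∉ W) :
    ∃ g : X →+ ZMod p, g x ≠ 0 ∧ ∀ w ∈ W, g w = 0 := by
  let W' : Submodule (ZMod p) X := AddSubgroup.toZModSubmodule p W
  obtain ⟨g, hg, hgW⟩ := Submodule.exists_dual_map_eq_bot_of_notMem (p := W') (x := x) hx
    inferInstance
  exact ⟨g.toAddMonoidHom, hg, fun w hw =>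
    (Submodule.eq_bot_iff _).1 hgW _ (Submodule.mem_map_of_mem (p := W') hw)⟩

theorem exists_addHom_ne_zero [Fact p.Prime] {X : Type*} [AddCommGroup X]
    (h : ∀ x : X, p • x = 0) {W : AddSubgroup X} {x : X} (hx : x ∉ W) :
    ∃ g : X →+ ZMod p, g x ≠ 0 ∧ ∀ w ∈ W, g w = 0 :=
  @exists_addHom_ne_zero_aux p _ X _ (AddCommGroup.zmodModule h) W x hx

/-- Every additive functional is `pr (B r ·)`. -/
theorem exists_repr [Fact p.Prime] [CharP F p] [Finite V] (B : V →ₗ[F] V →ₗ[F] F)
    (hB : ∀ x, (∀ y, B x y = 0) → x = 0) {pr : F →+ ZMod p} (hpr : pr ≠ 0) (g : V →+ ZMod p) :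
    ∃ r, ∀ w, pr (B r w) = g w := by
  let φ : V →+ (V →+ ZMod p) :=
    { toFun := fun r => pr.comp (B r).toAddMonoidHom
      map_zero' := by ext; simp
      map_add' := fun a b => by ext; simp }
  have hinj : Function.Injective φ := by
    rw [injective_iff_map_eq_zero]
    intro r hr
    refine hB r fun y => ?_
    by_contra hne
    obtain ⟨c, hc⟩ : ∃ c, pr c ≠ 0 := by
      by_contra! h; exact hpr (AddMonoidHom.ext h)
    refine hc ?_
    have := DFunLike.congr_fun hr ((c / B r y) • y)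
    change pr (B r ((c / B r y) • y)) = 0 at this
    rwa [map_smul, smul_eq_mul, div_mul_cancel₀ _ hne] at this
  have : Finite (V →+ ZMod p) := Finite.of_injective (fun g => (g : V → ZMod p)) DFunLike.coe_injective
  have hbij := (Nat.bijective_iff_injective_and_card φ).2
    ⟨hinj, (card_addHom_zmod (X := V) (nsmul_char_eq_zero (F := F))).symm⟩
  obtain ⟨r, hr⟩ := hbij.2 g
  exact ⟨r, fun w => DFunLike.congr_fun hr w⟩

theorem exists_repr_on [Fact p.Prime] [CharP F p] [Finite V] (B : V →ₗ[F] V →ₗ[F] F)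
    (hB : ∀ x, (∀ y, B x y = 0) → x = 0) {pr : F →+ ZMod p} (hpr : pr ≠ 0)
    (W : AddSubgroup V) (g : W →+ ZMod p) : ∃ r, ∀ w : W, pr (B r w) = g w := by
  obtain ⟨g', hg'⟩ := exists_extend_addHom (nsmul_char_eq_zero (F := F)) W g
  obtain ⟨r, hr⟩ := exists_repr B hB hpr g'
  exact ⟨r, fun w => (hr w).trans (hg' w)⟩

/-- The annihilator has the complementary order. -/
theorem card_addPerp_mul [Fact p.Prime] [CharP F p] [Finite V] (B : V →ₗ[F] V →ₗ[F] F)
    (hB : ∀ x, (∀ y, B x y = 0) → x = 0) {pr : F →+ ZMod p} (hpr : pr ≠ 0)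
    (W : AddSubgroup V) : Nat.card (addPerp B pr W) * Nat.card W = Nat.card V := by
  let φ : V →+ (W →+ ZMod p) :=
    { toFun := fun r => (pr.comp (B r).toAddMonoidHom).comp W.subtype
      map_zero' := by ext; simp
      map_add' := fun a b => by ext; simp }
  have hsurj : Function.Surjective φ := fun g => by
    obtain ⟨r, hr⟩ := exists_repr_on B hB hpr W g
    exact ⟨r, AddMonoidHom.ext hr⟩
  have hker : φ.ker = addPerp B pr W := AddSubgroup.ext fun r =>
    ⟨fun h w hw => DFunLike.congr_fun h ⟨w, hw⟩, fun h => AddMonoidHom.ext fun w => h w w.2⟩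
  have hW : Nat.card (W →+ ZMod p) = Nat.card W :=
    card_addHom_zmod fun x => Subtype.ext (by
      rw [AddSubgroup.coe_nsmul]; exact nsmul_char_eq_zero (F := F) _)
  have h := φ.ker.index_mul_card
  rw [AddSubgroup.index_ker, AddMonoidHom.range_eq_top.2 hsurj, AddSubgroup.card_top, hker, hW]
    at h
  rwa [mul_comm]

theorem exists_ne_zero_addPerp [Fact p.Prime] [CharP F p] [Finite V] (B : V →ₗ[F] V →ₗ[F] F)
    (hB : ∀ x, (∀ y, B x y = 0) → x = 0) {pr : F →+ ZMod p} (hpr : pr ≠ 0)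
    {W : AddSubgroup V} {x : V} (hx : x ∉ W) : ∃ r ∈ addPerp B pr W, pr (B r x) ≠ 0 := by
  obtain ⟨g, hgx, hgW⟩ := exists_addHom_ne_zero (nsmul_char_eq_zero (F := F) (p := p)) hx
  obtain ⟨r, hr⟩ := exists_repr B hB hpr g
  exact ⟨r, fun w hw => (hr w).trans (hgW w hw), by rw [hr]; exact hgx⟩

theorem exists_pr_ne_zero [Fact p.Prime] [CharP F p] : ∃ pr : F →+ ZMod p, pr ≠ 0 := by
  have h : ∀ x : F, p • x = 0 := nsmul_char_eq_zero (F := F) (V := F)
  obtain ⟨g, hg, -⟩ := exists_addHom_ne_zero h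
    (show (1 : F) ∉ (⊥ : AddSubgroup F) from fun h => one_ne_zero (AddSubgroup.mem_bot.1 h))
  exact ⟨g, fun h0 => hg (by rw [h0]; rfl)⟩

end CfsgLib.MinDegree
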