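import Cfsg.Agent.MinDegree.OrthSeven
import Cfsg.Agent.MinDegree.OrthEight
import Cfsg.Agent.MinDegree.Pairing
import Cfsg.Agent.Forms4.POmegaOrders

/-!
# The least index of a proper subgroup of `PΩ(Q)`

`(q - 1) * index + 1` is at least the number of singular vectors, and the stabiliser of a singular
line attains this.
-/

set_option autoImplicit false
set_option linter.unusedSectionVars false

namespace CfsgLib.MinDegree.Orth

open Matrix Module CfsgLib.Spinor CfsgLib.Forms CfsgLib.Forms4 CfsgLib.OrthMax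
open scoped Classical

variable {F : Type*} [Field F] {ι : Type} [Fintype ι] [DecidableEq ι] {Q : QuadraticForm F (ι → F)}
  [Fintype F]

set_option quotPrecheck false in
local notation "qF" => Fintype.card F
local notation "nι" => Fintype.card ι

theorem card_singular_top : (vals Q (⊤ : Submodule F (ι → F)) 0).card = Nat.card {v // Q v = 0} := by
  rw [Nat.card_eq_fintype_card, Fintype.card_subtype]
  congr 1
  ext v
  simp [mem_vals]

/-- There is no small action. -/
theorem Frame.not_small (Fr : Frame Q) (hQ : (QuadraticMap.polarBilin Q).Nondegenerate)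
    (hn : 7 ≤ nι) (hq4 : 4 ≤ qF) {Ω : Type*} [MulAction (EG Q) Ω] [Fintype Ω]
    [MulAction.IsPretransitive (EG Q) Ω] [Nontrivial Ω] : ¬ Small Q Ω := by
  intro hsmall
  obtain ⟨p, hp⟩ := CharP.exists F
  have : Fact p.Prime := ⟨(CharP.char_is_prime_or_zero F p).resolve_right fun h => by
    subst h
    exact CharP.char_ne_zero_of_finite F 0 rfl⟩
  obtain ⟨pr, hpr⟩ := exists_pr_ne_zero (F := F) (p := p)
  by_cases hall : ∀ y : Fr.Orb Ω, Fr.Reg pr y ∨ Fr.Lin pr y
  · exact Fr.line_false pr hQ hpr hn hq4 hsmall hall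
  · push Not at hall
    obtain ⟨y, hy1, hy2⟩ := hall
    rcases Fr.orbit_kinds pr hQ hpr hq4 hsmall hn y with h | h | ⟨hflat, v, hv, hv0, z, hz, hzv⟩
    · exact hy1 h
    · exact hy2 h
    obtain ⟨hdim, o, hfc⟩ := Fr.exists_flatCase pr hQ hpr hn hq4 hsmall hflat hv hv0 hz hzv
    rcases hdim with ⟨h7, -⟩ | ⟨h8, -⟩
    · exact Fr.seven_false pr hQ hpr h7 hfc
    · exact Fr.eight_false pr hQ hpr h8 hq4 hfc

/-- The projection of the group generated by the Eichler elements onto `PΩ`. -/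
noncomputable def toPOmega (h : Cfsg.Omega F ⇑Q = eichGroup Q) : EG Q →* Cfsg.POmega F ⇑Q :=
  (QuotientGroup.mk' (Subgroup.center ↥(Cfsg.Omega F ⇑Q))).comp
    (MulEquiv.subgroupCongr h.symm).toMonoidHom

theorem toPOmega_surjective (h : Cfsg.Omega F ⇑Q = eichGroup Q) :
    Function.Surjective (toPOmega h) :=
  (QuotientGroup.mk'_surjective _).comp (MulEquiv.subgroupCongr h.symm).surjective

/-- A proper subgroup of `PΩ` gives one of the same index upstairs. -/
theorem exists_index_eq (hQ : (QuadraticMap.polarBilin Q).Nondegenerate) (hn : 5 ≤ nι)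
    (H : Subgroup (Cfsg.POmega F ⇑Q)) (hH : H ≠ ⊤) :
    ∃ K : Subgroup (EG Q), K ≠ ⊤ ∧ K.index = H.index := by
  obtain ⟨P⟩ := nonempty_twoPairs hQ hn
  have hs := toPOmega_surjective (P.omega_eq_eichGroup hQ hn)
  refine ⟨H.comap (toPOmega (P.omega_eq_eichGroup hQ hn)), fun h => hH ?_,
    Subgroup.index_comap_of_surjective H hs⟩
  rw [← Subgroup.map_comap_eq_self_of_surjective hs H, h, Subgroup.map_top_of_surjective _ hs]

/-- The bound on the index. -/
theorem Frame.card_zero_le_index (Fr : Frame Q) (hQ : (QuadraticMap.polarBilin Q).Nondegenerate)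
    (hn : 7 ≤ nι) (hq4 : 4 ≤ qF) (H : Subgroup (Cfsg.POmega F ⇑Q)) (hH : H ≠ ⊤) :
    Nat.card {v // Q v = 0} ≤ (qF - 1) * H.index + 1 := by
  obtain ⟨K, hK, hKi⟩ := exists_index_eq hQ (by omega) H hH
  let _ : Fintype (EG Q ⧸ K) := Fintype.ofFinite _
  have hcard : Fintype.card (EG Q ⧸ K) = K.index := by
    rw [← Nat.card_eq_fintype_card, Subgroup.index_eq_card]
  have : Nontrivial (EG Q ⧸ K) := Fintype.one_lt_card_iff_nontrivial.1 (by
    have h1 := Subgroup.index_ne_zero_of_finite (H := K)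
    have h2 : K.index ≠ 1 := fun h => hK (Subgroup.index_eq_one.1 h)
    rw [hcard]
    omega)
  have h := Fr.not_small hQ hn hq4 (Ω := EG Q ⧸ K)
  unfold Small at h
  rw [hcard, card_singular_top, hKi] at h
  omega

variable (Q) in
/-- The stabiliser of a line. -/
def lineStab (e : ι → F) : Subgroup (EG Q) where
  carrier := {g | ∃ c : F, c ≠ 0 ∧ mv g e = c • e}
  one_mem' := ⟨1, one_ne_zero, by rw [mv_one, one_smul]⟩
  mul_mem' {g h} := by
    rintro ⟨c, hc, hg⟩ ⟨d, hd, hh⟩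
    exact ⟨c * d, mul_ne_zero hc hd, by rw [mv_mul, hh, mv_smul, hg, smul_smul, mul_comm d]⟩
  inv_mem' {g} := by
    rintro ⟨c, hc, hg⟩
    refine ⟨c⁻¹, inv_ne_zero hc, mv_injective g ?_⟩
    rw [mv_mv_inv, mv_smul, hg, inv_smul_smul₀ hc]

/-- The singular points form one orbit. -/
theorem card_singular_eq_index (hQ : (QuadraticMap.polarBilin Q).Nondegenerate)
    (P : TwoPairs Q) :
    (qF - 1) * (lineStab Q P.e).index + 1 = Nat.card {v // Q v = 0} := by
  set K := lineStab Q P.e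
  let _ : Fintype (EG Q ⧸ K) := Fintype.ofFinite _
  have h0 : (0 : ι → F) ∈ vals Q (⊤ : Submodule F (ι → F)) 0 :=
    mem_vals.2 ⟨Submodule.mem_top, QuadraticMap.map_zero Q⟩
  have he0 : P.e ≠ 0 := fun h => by
    have h1 := P.ef
    rw [h, QuadraticMap.polar_zero_left] at h1
    exact zero_ne_one h1
  have hne : ∀ g : EG Q, mv g P.e ≠ 0 := fun g h => he0 (mv_injective g (h.trans (mv_zero g).symm))
  rw [← card_singular_top, ← Finset.card_erase_add_one h0, Subgroup.index_eq_card,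
    Nat.card_eq_fintype_card, ← Fintype.card_units, ← Fintype.card_prod, ← Finset.card_univ]
  congr 1
  refine Finset.card_bij (fun x _ => (x.1 : F) • mv x.2.out P.e) ?_ ?_ ?_
  · intro x _
    exact Finset.mem_erase.2 ⟨smul_ne_zero x.1.ne_zero (hne _), mem_vals.2 ⟨Submodule.mem_top,
      by rw [QuadraticMap.map_smul, quad_mv, P.qe, smul_zero]⟩⟩
  · rintro ⟨u, c⟩ _ ⟨u', c'⟩ _ h
    simp only at h
    have hcc : c = c' := by
      rw [← QuotientGroup.out_eq' c, ← QuotientGroup.out_eq' c']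
      refine QuotientGroup.eq.2 ⟨(u' : F)⁻¹ * u, mul_ne_zero (inv_ne_zero u'.ne_zero) u.ne_zero,
        mv_injective c.out ?_⟩
      rw [mv_mul, mv_mv_inv, mv_smul, mul_smul, h, inv_smul_smul₀ u'.ne_zero]
    subst hcc
    exact Prod.ext (Units.ext (smul_left_injective F (hne _) h)) rfl
  · intro v hv
    obtain ⟨hv0, hv⟩ := Finset.mem_erase.1 hv
    obtain ⟨s, hs, α, hα, hsv⟩ := P.exists_to_e hQ hv0 (mem_vals.1 hv).2
    have hsv' : mv (⟨s, hs⟩ : EG Q) v = α • P.e := hsv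
    obtain ⟨k, hk⟩ := QuotientGroup.mk_out_eq_mul K ((⟨s, hs⟩ : EG Q)⁻¹)
    obtain ⟨γ, hγ, hγe⟩ := k.2
    refine ⟨(Units.mk0 (α / γ) (div_ne_zero hα hγ), ((⟨s, hs⟩ : EG Q)⁻¹ : EG Q)), Finset.mem_univ _, ?_⟩
    simp only [Units.val_mk0]
    rw [hk, mv_mul, hγe, mv_smul, smul_smul, div_mul_cancel₀ _ hγ, ← mv_smul, ← hsv', mv_inv_mv]

/-- The line stabiliser contains the kernel, so the bound is attained. -/
theorem exists_index_card_zero (hQ : (QuadraticMap.polarBilin Q).Nondegenerate) (hn : 5 ≤ nι) :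
    ∃ H : Subgroup (Cfsg.POmega F ⇑Q), (qF - 1) * H.index + 1 = Nat.card {v // Q v = 0} := by
  obtain ⟨P⟩ := nonempty_twoPairs hQ hn
  refine ⟨(lineStab Q P.e).map (toPOmega (P.omega_eq_eichGroup hQ hn)), ?_⟩
  rw [Subgroup.index_map_eq _ (toPOmega_surjective _) ?_, card_singular_eq_index hQ P]
  intro g hg
  rw [MonoidHom.mem_ker] at hg
  have hg' : (MulEquiv.subgroupCongr (P.omega_eq_eichGroup hQ hn).symm g) ∈
      Subgroup.center ↥(Cfsg.Omega F ⇑Q) := (QuotientGroup.eq_one_iff _).1 hg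
  obtain ⟨r, hr, hgr⟩ := (TwoPairs.mem_center_omega_iff hQ hn P _).1 hg'
  refine ⟨r, left_ne_zero_of_mul_eq_one hr, ?_⟩
  change mat Q g.1 *ᵥ P.e = r • P.e
  rw [show mat Q g.1 = r • 1 from hgr, smul_mulVec, one_mulVec]

theorem bound_and_attained {N P q : ℕ} {G : Type*} [Group G] (hq : 2 ≤ q) (hN : N = P + 1)
    (h1 : ∀ H : Subgroup G, H ≠ ⊤ → N ≤ (q - 1) * H.index + 1)
    (h2 : ∃ H : Subgroup G, (q - 1) * H.index + 1 = N) :
    (∀ H : Subgroup G, H ≠ ⊤ → P / (q - 1) ≤ H.index) ∧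
      ∃ H : Subgroup G, H.index = P / (q - 1) := by
  subst hN
  refine ⟨fun H hH => Nat.div_le_of_le_mul ?_, ?_⟩
  · have := h1 H hH
    omega
  · obtain ⟨H, hH⟩ := h2
    exact ⟨H, by rw [← Nat.add_right_cancel hH, Nat.mul_div_cancel_left _ (by omega)]⟩

/-- The least index of a proper subgroup, from a frame. -/
theorem Frame.min_index (Fr : Frame Q) (hQ : (QuadraticMap.polarBilin Q).Nondegenerate)
    (hn : 7 ≤ nι) (hq4 : 4 ≤ qF) {N : ℕ} (hN : Nat.card {v // Q v = 0} = N + 1) :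
    (∀ H : Subgroup (Cfsg.POmega F ⇑Q), H ≠ ⊤ → N / (qF - 1) ≤ H.index) ∧
      ∃ H : Subgroup (Cfsg.POmega F ⇑Q), H.index = N / (qF - 1) :=
  bound_and_attained (by omega) hN (Fr.card_zero_le_index hQ hn hq4)
    (exists_index_card_zero hQ (by omega))

end CfsgLib.MinDegree.Orth
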