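import Cfsg.Agent.MinDegree.OrthCount
import Cfsg.Agent.MinDegree.Pairing

/-!
# The orbits of the root group at the point `e` and their labels

For an action of `EG Q` on a finite set the orbits of the root group at `e` are the classes of
`orbSetoid`; `lab pr y` is the annihilator of the stabiliser of the orbit `y`, it has as many
elements as the orbit, and `mult pr v` is the number of orbits carrying `v`.
-/

set_option autoImplicit false
set_option linter.unusedSectionVars false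

namespace CfsgLib.MinDegree.Orth

open Matrix Module CfsgLib.Spinor CfsgLib.Forms CfsgLib.Forms4 CfsgLib.OrthMax
open scoped Classical

variable {F : Type*} [Field F] {ι : Type} [Fintype ι] [DecidableEq ι] {Q : QuadraticForm F (ι → F)}

set_option quotPrecheck false in
local notation "𝔅" => QuadraticMap.polar (⇑Q)

namespace Frame

variable (Fr : Frame Q)

theorem rtE_mul {w w' : ι → F} (hw : w ∈ Fr.W) (hw' : w' ∈ Fr.W) :
    rt Q Fr.e w * rt Q Fr.e w' = rt Q Fr.e (w + w') :=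
  rt_mul Fr.qe (Fr.mem_W.1 hw).1 (Fr.mem_W.1 hw').1

variable (Ω : Type*) [MulAction (EG Q) Ω]

/-- The orbits of the root group at `e`. -/
def orbSetoid : Setoid Ω where
  r x x' := ∃ w ∈ Fr.W, rt Q Fr.e w • x = x'
  iseqv := by
    refine ⟨fun x => ⟨0, zero_mem _, by rw [rt_zero Fr.qe, one_smul]⟩, ?_, ?_⟩
    · rintro x x' ⟨w, hw, rfl⟩
      exact ⟨-w, neg_mem hw, by
        rw [← mul_smul, Fr.rtE_mul (neg_mem hw) hw, neg_add_cancel, rt_zero Fr.qe, one_smul]⟩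
    · rintro x y z ⟨w, hw, rfl⟩ ⟨w', hw', rfl⟩
      exact ⟨w' + w, add_mem hw' hw, by rw [← mul_smul, Fr.rtE_mul hw' hw]⟩

/-- The type of orbits of the root group at `e`. -/
abbrev Orb := Quotient (Fr.orbSetoid Ω)

noncomputable instance orbFintype [Fintype Ω] : Fintype (Fr.Orb Ω) := Fintype.ofFinite _

variable {Ω}

/-- The orbit of a point. -/
def cls (x : Ω) : Fr.Orb Ω := Quotient.mk (Fr.orbSetoid Ω) x

theorem cls_eq_iff {x x' : Ω} : Fr.cls x = Fr.cls x' ↔ ∃ w ∈ Fr.W, rt Q Fr.e w • x = x' :=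
  ⟨fun h => Quotient.exact h, fun h => Quotient.sound h⟩

theorem cls_out (y : Fr.Orb Ω) : Fr.cls y.out = y := Quotient.out_eq y

theorem cls_rtE {w : ι → F} (hw : w ∈ Fr.W) (x : Ω) : Fr.cls (rt Q Fr.e w • x) = Fr.cls x :=
  (Fr.cls_eq_iff.2 ⟨w, hw, rfl⟩).symm

/-- The stabiliser of a point in the root group. -/
def kst (x : Ω) : AddSubgroup (ι → F) where
  carrier := {w | w ∈ Fr.W ∧ rt Q Fr.e w • x = x}
  zero_mem' := ⟨zero_mem _, by rw [rt_zero Fr.qe, one_smul]⟩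
  add_mem' {w w'} h h' := ⟨add_mem h.1 h'.1, by rw [← Fr.rtE_mul h.1 h'.1, mul_smul, h'.2, h.2]⟩
  neg_mem' {w} h := ⟨neg_mem h.1, by
    conv_lhs => rw [← h.2, ← mul_smul, Fr.rtE_mul (neg_mem h.1) h.1, neg_add_cancel, rt_zero Fr.qe,
      one_smul]⟩

theorem mem_kst {x : Ω} {w : ι → F} : w ∈ Fr.kst x ↔ w ∈ Fr.W ∧ rt Q Fr.e w • x = x := Iff.rfl

theorem kst_eq_of_cls {x x' : Ω} (h : Fr.cls x = Fr.cls x') : Fr.kst x = Fr.kst x' := by
  obtain ⟨v, hv, rfl⟩ := Fr.cls_eq_iff.1 h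
  ext w
  simp only [mem_kst]
  refine and_congr_right fun hw => ?_
  rw [← mul_smul, Fr.rtE_mul hw hv, add_comm, ← Fr.rtE_mul hv hw, mul_smul, smul_left_cancel_iff]

variable {p : ℕ} (pr : F →+ ZMod p)

/-- The labels of an orbit: the annihilator of its stabiliser. -/
noncomputable def lab (y : Fr.Orb Ω) : AddSubgroup (ι → F) where
  carrier := {v | v ∈ Fr.W ∧ ∀ w ∈ Fr.kst y.out, pr (𝔅 v w) = 0}
  zero_mem' := ⟨zero_mem _, fun w _ => by rw [QuadraticMap.polar_zero_left, map_zero]⟩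
  add_mem' {v v'} h h' := ⟨add_mem h.1 h'.1, fun w hw => by
    rw [QuadraticMap.polar_add_left, map_add, h.2 w hw, h'.2 w hw, add_zero]⟩
  neg_mem' {v} h := ⟨neg_mem h.1, fun w hw => by
    rw [QuadraticMap.polar_neg_left, map_neg, h.2 w hw, neg_zero]⟩

theorem mem_lab {x : Ω} {v : ι → F} :
    v ∈ Fr.lab pr (Fr.cls x) ↔ v ∈ Fr.W ∧ ∀ w ∈ Fr.kst x, pr (𝔅 v w) = 0 := by
  rw [← Fr.kst_eq_of_cls (Fr.cls_out (Fr.cls x))]
  rfl

theorem lab_le {y : Fr.Orb Ω} {v : ι → F} (h : v ∈ Fr.lab pr y) : v ∈ Fr.W := h.1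

/-- An element with a scaled first pair. -/
def Scales (g : EG Q) (t : F) : Prop :=
  t ≠ 0 ∧ mv g Fr.e = t • Fr.e ∧ mv g Fr.f = t⁻¹ • Fr.f

theorem scales_of_lev {g : EG Q} (hg : g ∈ Fr.Lev) : Fr.Scales g 1 :=
  ⟨one_ne_zero, by rw [hg.1, one_smul], by rw [hg.2, inv_one, one_smul]⟩

theorem Scales.symm {g : EG Q} {t : F} (h : Fr.Scales g t) : Fr.Scales g⁻¹ t⁻¹ := by
  obtain ⟨ht, he, hf⟩ := h
  refine ⟨inv_ne_zero ht, ?_, ?_⟩
  · have h1 := congrArg (mv g⁻¹) he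
    rw [mv_inv_mv, mv_smul] at h1
    exact (inv_smul_eq_iff₀ ht).2 h1 |>.symm
  · have h1 := congrArg (mv g⁻¹) hf
    rw [mv_inv_mv, mv_smul] at h1
    rw [inv_inv]
    conv_rhs => rw [h1, smul_smul, mul_inv_cancel₀ ht, one_smul]

theorem Scales.mem_W {g : EG Q} {t : F} (h : Fr.Scales g t) {x : ι → F} (hx : x ∈ Fr.W) :
    mv g x ∈ Fr.W := by
  obtain ⟨ht, he, hf⟩ := h
  rw [Fr.mem_W] at hx ⊢
  constructor
  · have h1 := polar_mv g Fr.e x
    rw [he, QuadraticMap.polar_smul_left, hx.1] at h1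
    exact (smul_eq_zero.1 h1).resolve_left ht
  · have h1 := polar_mv g Fr.f x
    rw [hf, QuadraticMap.polar_smul_left, hx.2] at h1
    exact (smul_eq_zero.1 h1).resolve_left (inv_ne_zero ht)

theorem Scales.smul_rtE {g : EG Q} {t : F} (h : Fr.Scales g t) {w : ι → F} (hw : w ∈ Fr.W)
    (x : Ω) : g • rt Q Fr.e w • x = rt Q Fr.e (t • mv g w) • g • x := by
  have h1 := rt_conj g Fr.qe (Fr.mem_W.1 hw).1
  rw [h.2.1, rt_smul_left Fr.qe (Fr.mem_W.1 (Scales.mem_W Fr h hw)).1] at h1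
  rw [← h1, ← mul_smul, ← mul_smul, inv_mul_cancel_right]

/-- The action on the orbits. -/
noncomputable def sh (g : EG Q) (y : Fr.Orb Ω) : Fr.Orb Ω := Fr.cls (g • y.out)

theorem Scales.sh_cls {g : EG Q} {t : F} (h : Fr.Scales g t) (x : Ω) :
    Fr.sh g (Fr.cls x) = Fr.cls (g • x) := by
  obtain ⟨w, hw, hwx⟩ := Fr.cls_eq_iff.1 (Fr.cls_out (Fr.cls x)).symm
  rw [sh, ← hwx, Scales.smul_rtE Fr h hw, Fr.cls_rtE (Fr.W.smul_mem _ (Scales.mem_W Fr h hw))]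

theorem Scales.mem_lab_cls {g : EG Q} {t : F} (h : Fr.Scales g t) {v : ι → F} (hv : v ∈ Fr.W)
    (x : Ω) : v ∈ Fr.lab pr (Fr.cls (g • x)) ↔ mv g⁻¹ (t • v) ∈ Fr.lab pr (Fr.cls x) := by
  rw [mem_lab, mem_lab]
  have key : ∀ w, 𝔅 v (t • mv g w) = 𝔅 (mv g⁻¹ (t • v)) w := fun w => by
    rw [polar_mv_left, inv_inv, QuadraticMap.polar_smul_right, QuadraticMap.polar_smul_left]
  refine ⟨fun hh => ⟨Scales.mem_W Fr (Scales.symm Fr h) (Fr.W.smul_mem _ hv), fun w hw => ?_⟩,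
    fun hh => ⟨hv, fun u hu => ?_⟩⟩
  · rw [← key]
    refine hh.2 _ ⟨Fr.W.smul_mem _ (Scales.mem_W Fr h hw.1), ?_⟩
    rw [← Scales.smul_rtE Fr h hw.1, hw.2]
  · have h' := Scales.symm Fr h
    have hu' : t⁻¹ • mv g⁻¹ u ∈ Fr.kst x := by
      refine ⟨Fr.W.smul_mem _ (Scales.mem_W Fr h' hu.1), ?_⟩
      have := Scales.smul_rtE Fr h' hu.1 (g • x)
      rwa [hu.2, inv_smul_smul, eq_comm] at this
    have := hh.2 _ hu'
    rwa [← key, mv_smul, mv_mv_inv, smul_smul, mul_inv_cancel₀ h.1, one_smul] at this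

theorem Scales.mem_lab_sh {g : EG Q} {t : F} (h : Fr.Scales g t) {v : ι → F} (hv : v ∈ Fr.W)
    (y : Fr.Orb Ω) : v ∈ Fr.lab pr (Fr.sh g y) ↔ mv g⁻¹ (t • v) ∈ Fr.lab pr y := by
  rw [← Fr.cls_out y, Scales.sh_cls Fr h, Scales.mem_lab_cls Fr pr h hv, Fr.cls_out]

theorem sh_sh {g : EG Q} {t : F} (h : Fr.Scales g t) (y : Fr.Orb Ω) :
    Fr.sh g⁻¹ (Fr.sh g y) = y := by
  rw [sh.eq_def Fr g y, Scales.sh_cls Fr (Scales.symm Fr h), inv_smul_smul, Fr.cls_out]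

theorem mem_lab_lev {g : EG Q} (hg : g ∈ Fr.Lev) {v : ι → F} {y : Fr.Orb Ω}
    (hv : v ∈ Fr.lab pr y) : mv g v ∈ Fr.lab pr (Fr.sh g y) := by
  rw [Scales.mem_lab_sh Fr pr (Fr.scales_of_lev hg) (Fr.mv_mem_W hg hv.1), one_smul, mv_inv_mv]
  exact hv

theorem mem_lab_of_fix {g : EG Q} (hg : g ∈ Fr.Lev) {v : ι → F} {y : Fr.Orb Ω}
    (hy : Fr.sh g y = y) (hv : v ∈ Fr.lab pr y) : mv g v ∈ Fr.lab pr y :=
  hy ▸ Fr.mem_lab_lev pr hg hv

section finite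

variable [Fintype F] [Fintype Ω]

/-- The points of an orbit. -/
noncomputable def pts (y : Fr.Orb Ω) : Finset Ω := Finset.univ.filter fun x => Fr.cls x = y

/-- The labels of an orbit, as a finite set. -/
noncomputable def labF (y : Fr.Orb Ω) : Finset (ι → F) :=
  Finset.univ.filter fun v => v ∈ Fr.lab pr y

/-- The number of orbits with a given label. -/
noncomputable def mult (v : ι → F) : ℕ :=
  ((Finset.univ : Finset (Fr.Orb Ω)).filter fun y => v ∈ Fr.lab pr y).card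

theorem mem_pts {y : Fr.Orb Ω} {x : Ω} : x ∈ Fr.pts y ↔ Fr.cls x = y := by simp [pts]

theorem mem_labF {y : Fr.Orb Ω} {v : ι → F} : v ∈ Fr.labF pr y ↔ v ∈ Fr.lab pr y := by simp [labF]

theorem card_eq_sum_pts : Fintype.card Ω = ∑ y, (Fr.pts (Ω := Ω) y).card := by
  rw [← Finset.card_univ]
  exact Finset.card_eq_sum_card_fiberwise fun _ _ => Finset.mem_univ _

theorem sum_labF_eq_sum_mult :
    ∑ y : Fr.Orb Ω, (Fr.labF pr y).card = ∑ v ∈ elts Fr.W, Fr.mult (Ω := Ω) pr v := by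
  have : ∀ y : Fr.Orb Ω, Fr.labF pr y = (elts Fr.W).filter fun v => v ∈ Fr.lab pr y := fun y => by
    ext v
    simp only [labF, Finset.mem_filter, Finset.mem_univ, true_and, mem_elts]
    exact ⟨fun h => ⟨h.1, h⟩, fun h => h.2⟩
  simp only [this, mult, Finset.card_filter]
  exact Finset.sum_comm

theorem card_pts_mul (x : Ω) : (Fr.pts (Fr.cls x)).card *
    ((elts Fr.W).filter fun w => w ∈ Fr.kst x).card = (elts Fr.W).card := by
  rw [Finset.card_eq_sum_card_fiberwise (s := elts Fr.W) (t := Fr.pts (Fr.cls x))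
    (f := fun w => rt Q Fr.e w • x) fun w hw => Fr.mem_pts.2 (Fr.cls_rtE (mem_elts.1 hw) x)]
  rw [Finset.sum_congr rfl fun x' hx' => ?_, Finset.sum_const, smul_eq_mul]
  obtain ⟨w₀, hw₀, rfl⟩ := Fr.cls_eq_iff.1 (Fr.mem_pts.1 hx').symm
  refine Finset.card_bij' (fun w _ => w - w₀) (fun w _ => w + w₀) ?_ ?_ (by simp) (by simp)
  · intro w hw
    simp only [Finset.mem_filter, mem_elts, mem_kst] at hw ⊢
    have hw' := sub_mem hw.1 hw₀
    refine ⟨hw', hw', smul_left_cancel (rt Q Fr.e w₀) ?_⟩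
    rw [← mul_smul, Fr.rtE_mul hw₀ hw', add_sub_cancel, hw.2]
  · intro w hw
    simp only [Finset.mem_filter, mem_elts, mem_kst] at hw ⊢
    refine ⟨add_mem hw.1 hw₀, ?_⟩
    rw [add_comm, ← Fr.rtE_mul hw₀ hw.1, mul_smul, hw.2.2]

variable (hQ : (QuadraticMap.polarBilin Q).Nondegenerate) [Fact p.Prime] [CharP F p] (hpr : pr ≠ 0)

include hQ hpr in
/-- An orbit has as many points as labels, and the labels detect the stabiliser. -/
theorem card_pts_eq (y : Fr.Orb Ω) : (Fr.pts y).card = (Fr.labF pr y).card ∧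
    ∀ w ∈ Fr.W, (∀ v ∈ Fr.lab pr y, pr (𝔅 v w) = 0) → w ∈ Fr.kst y.out := by
  let B : Fr.W →ₗ[F] Fr.W →ₗ[F] F :=
    LinearMap.compl₁₂ (QuadraticMap.polarBilin Q) Fr.W.subtype Fr.W.subtype
  have hB : ∀ z, (∀ w, B z w = 0) → z = 0 := fun z h =>
    Subtype.ext (Fr.sepW hQ z z.2 fun w hw => h ⟨w, hw⟩)
  set K : AddSubgroup Fr.W := (Fr.kst y.out).comap Fr.W.subtype.toAddMonoidHom with hK
  have hA : ∀ v : Fr.W, v ∈ addPerp B pr K ↔ (v : ι → F) ∈ Fr.lab pr y := fun v =>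
    ⟨fun h => ⟨v.2, fun w hw => h ⟨w, hw.1⟩ hw⟩, fun h w hw => h.2 w hw⟩
  have hcA : Nat.card (addPerp B pr K) = (Fr.labF pr y).card := by
    rw [← Nat.card_eq_finsetCard]
    exact Nat.card_congr
      ⟨fun v => ⟨v.1.1, (Fr.mem_labF pr).2 ((hA _).1 v.2)⟩,
        fun v => ⟨⟨v.1, ((Fr.mem_labF pr).1 v.2).1⟩, (hA _).2 ((Fr.mem_labF pr).1 v.2)⟩,
        fun v => rfl, fun v => rfl⟩
  have hcK : Nat.card K = ((elts Fr.W).filter fun w => w ∈ Fr.kst y.out).card := by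
    rw [← Nat.card_eq_finsetCard]
    exact Nat.card_congr
      ⟨fun v => ⟨v.1.1, Finset.mem_filter.2 ⟨mem_elts.2 v.1.2, v.2⟩⟩,
        fun v => ⟨⟨v.1, mem_elts.1 (Finset.mem_filter.1 v.2).1⟩, (Finset.mem_filter.1 v.2).2⟩,
        fun v => rfl, fun v => rfl⟩
  have hcV : Nat.card Fr.W = (elts Fr.W).card := by
    rw [Nat.card_eq_fintype_card, Fintype.card_subtype]
    rfl
  refine ⟨?_, fun w hw h => ?_⟩
  · have h1 := card_addPerp_mul B hB hpr K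
    rw [hcA, hcK, hcV] at h1
    have h2 := Fr.card_pts_mul (Ω := Ω) y.out
    rw [Fr.cls_out, ← h1] at h2
    exact Nat.eq_of_mul_eq_mul_right (Finset.card_pos.2
      ⟨0, Finset.mem_filter.2 ⟨mem_elts.2 (zero_mem _), zero_mem _⟩⟩) h2
  · by_contra hk
    obtain ⟨r, hr, hne⟩ := exists_ne_zero_addPerp B hB hpr (W := K) (x := ⟨w, hw⟩) hk
    exact hne (h r ((hA r).1 hr))

include hQ hpr in
theorem card_eq_sum_mult : Fintype.card Ω = ∑ v ∈ elts Fr.W, Fr.mult (Ω := Ω) pr v := by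
  rw [← Fr.sum_labF_eq_sum_mult, Fr.card_eq_sum_pts]
  exact Finset.sum_congr rfl fun y _ => (Fr.card_pts_eq pr hQ hpr y).1

theorem mult_scales {g : EG Q} {t : F} (h : Fr.Scales g t) {v : ι → F} (hv : v ∈ Fr.W) :
    Fr.mult (Ω := Ω) pr v = Fr.mult (Ω := Ω) pr (mv g⁻¹ (t • v)) := by
  refine (Finset.card_bij' (fun y _ => Fr.sh g y) (fun y _ => Fr.sh g⁻¹ y) ?_ ?_ ?_ ?_).symm
  · intro y hy
    simp only [Finset.mem_filter, Finset.mem_univ, true_and] at hy ⊢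
    exact (Scales.mem_lab_sh Fr pr h hv y).2 hy
  · intro y hy
    simp only [Finset.mem_filter, Finset.mem_univ, true_and] at hy ⊢
    rw [← Scales.mem_lab_sh Fr pr h hv]
    have := Fr.sh_sh (Scales.symm Fr h) y
    rw [inv_inv] at this
    rwa [this]
  · exact fun y _ => Fr.sh_sh h y
  · intro y _
    have := Fr.sh_sh (Scales.symm Fr h) y
    rwa [inv_inv] at this

theorem mult_lev {g : EG Q} (hg : g ∈ Fr.Lev) {v : ι → F} (hv : v ∈ Fr.W) :
    Fr.mult (Ω := Ω) pr (mv g v) = Fr.mult (Ω := Ω) pr v := by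
  rw [Fr.mult_scales pr (Fr.scales_of_lev hg) (Fr.mv_mem_W hg hv), one_smul, mv_inv_mv]

variable (Ω) in
/-- The multiplicity of the labels of value `c`. -/
noncomputable def mc (c : F) : ℕ := Fr.mult (Ω := Ω) pr (Fr.std c)

include hQ in
theorem mult_eq_mc {v : ι → F} (hv : v ∈ Fr.W) (hv0 : v ≠ 0) :
    Fr.mult (Ω := Ω) pr v = Fr.mc Ω pr (Q v) := by
  obtain ⟨g, hg, hgv⟩ := Fr.exists_lev_to_std hQ hv hv0
  rw [mc, ← hgv, Fr.mult_lev pr hg hv]

include hQ in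
theorem mc_mul_sq {c μ : F} (hμ : μ ≠ 0) : Fr.mc Ω pr (μ ^ 2 * c) = Fr.mc Ω pr c := by
  obtain ⟨te, tf, ta, tb⟩ := torus_pairs Fr.outer hμ
  have hs : Fr.Scales (torus Fr.outer μ) μ := ⟨hμ, te, tf⟩
  rw [mc, mc, Fr.mult_scales pr hs (Fr.std_mem c)]
  congr 1
  refine mv_injective (torus Fr.outer μ) ?_
  rw [mv_mv_inv, std, std, mv_add, mv_smul]
  refine (congrArg₂ (fun x y => x + (μ ^ 2 * c) • y) ta tb).trans ?_
  show μ • Fr.a + (μ ^ 2 * c) • μ⁻¹ • Fr.a' = μ • (Fr.a + c • Fr.a')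
  rw [smul_add, smul_smul, smul_smul]
  congr 2
  field_simp

end finite

end Frame

end CfsgLib.MinDegree.Orth
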