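import Cfsg.Agent.MinDegree.OrthLabels

/-!
# Totally singular label sets

A totally singular label set with two independent vectors has many images through each of its
vectors (`plane_count`); so it needs dimension at most eight (`plane_dim`). The number of singular
vectors determines whether `W` has a half-dimensional one (`card_singular_of_half`).
-/

set_option autoImplicit false
set_option linter.unusedSectionVars false

namespace CfsgLib.MinDegree.Orth

open Matrix Module CfsgLib.Spinor CfsgLib.Forms CfsgLib.Forms4 CfsgLib.OrthMax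
open scoped Classical

variable {F : Type*} [Field F] {ι : Type} [Fintype ι] [DecidableEq ι] {Q : QuadraticForm F (ι → F)}
  [Fintype F]

set_option quotPrecheck false in
local notation "𝔅" => QuadraticMap.polar (⇑Q)
local notation "qF" => Fintype.card F
local notation "nι" => Fintype.card ι

theorem card_elts (S : Submodule F (ι → F)) : (elts S).card = qF ^ finrank F S := by
  rw [← Module.card_eq_pow_finrank (K := F), ← Fintype.card_coe]
  exact Fintype.card_congr (Equiv.subtypeEquivRight fun x => mem_elts)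

namespace Frame

variable (Fr : Frame Q) {Ω : Type*} [MulAction (EG Q) Ω] [Fintype Ω] {p : ℕ} (pr : F →+ ZMod p)

/-- A totally singular label set, closed under scalars. -/
def IsFlat (y : Fr.Orb Ω) : Prop :=
  (∀ v ∈ Fr.lab pr y, Q v = 0 ∧ ∀ w ∈ Fr.lab pr y, 𝔅 v w = 0) ∧
    ∀ v ∈ Fr.lab pr y, ∀ c : F, c • v ∈ Fr.lab pr y

/-- The subspace of a flat label set. -/
noncomputable def flatSub {y : Fr.Orb Ω} (h : Fr.IsFlat pr y) : Submodule F (ι → F) where
  carrier := Fr.lab pr y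
  zero_mem' := zero_mem _
  add_mem' ha hb := add_mem ha hb
  smul_mem' c x hx := h.2 x hx c

theorem mem_flatSub {y : Fr.Orb Ω} (h : Fr.IsFlat pr y) {x : ι → F} :
    x ∈ Fr.flatSub pr h ↔ x ∈ Fr.lab pr y := Iff.rfl

theorem elts_flatSub {y : Fr.Orb Ω} (h : Fr.IsFlat pr y) :
    elts (Fr.flatSub pr h) = Fr.labF pr y := by
  ext x
  rw [mem_elts, mem_flatSub, mem_labF]

theorem isFlat_sh {g : EG Q} (hg : g ∈ Fr.Lev) {y : Fr.Orb Ω} (h : Fr.IsFlat pr y) :
    Fr.IsFlat pr (Fr.sh g y) := by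
  have key : ∀ v ∈ Fr.lab pr (Fr.sh g y), mv g⁻¹ v ∈ Fr.lab pr y := fun v hv => by
    have := Fr.mem_lab_lev pr (inv_mem hg) hv
    rwa [Fr.sh_sh (Fr.scales_of_lev hg)] at this
  refine ⟨fun v hv => ⟨?_, fun w hw => ?_⟩, fun v hv c => ?_⟩
  · rw [← quad_mv g⁻¹]
    exact (h.1 _ (key v hv)).1
  · rw [← polar_mv g⁻¹]
    exact (h.1 _ (key v hv)).2 _ (key w hw)
  · have := Fr.mem_lab_lev pr hg (h.2 _ (key v hv) c)
    rwa [mv_smul, mv_mv_inv] at this

variable (hQ : (QuadraticMap.polarBilin Q).Nondegenerate) (hn : 7 ≤ Fintype.card ι)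

include hQ hn in
/-- Data for moving inside the stabiliser of a singular vector of a flat set. -/
theorem exists_flat_data {v z : ι → F} (hv : v ∈ Fr.W) (hv0 : v ≠ 0) (hq : Q v = 0)
    (hz : z ∈ Fr.W) (hzq : Q z = 0) (hzv : ∀ c : F, z ≠ c • v) (hvz : 𝔅 v z = 0) :
    ∃ s ∈ Fr.W, Q s = 0 ∧ 𝔅 v s = 0 ∧ 𝔅 s z ≠ 0 ∧
      ∃ g ∈ Fr.Lev, mv g v = v ∧ ∃ κ γ : F, κ ≠ 0 ∧ mv g z = γ • v + κ • s := by
  obtain ⟨h, hh, hhv⟩ := Fr.exists_lev_to_std hQ hv hv0
  rw [hq, std, zero_smul, add_zero] at hhv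
  obtain ⟨z₂, hz₂, hd⟩ := Fr.exists_decomp (Fr.mv_mem_W hh hz)
  have haz : 𝔅 Fr.a (mv h z) = 0 := by rw [← hhv, polar_mv, hvz]
  rw [haz, zero_smul, add_zero] at hd
  set γ := 𝔅 Fr.a' (mv h z)
  obtain ⟨hz₂W, haz₂, ha'z₂⟩ := Fr.mem_W2.1 hz₂
  have hz₂q : Q z₂ = 0 := by
    have h1 : Q (mv h z) = 0 := by rw [quad_mv, hzq]
    rw [hd, QuadraticMap.map_add (⇑Q), QuadraticMap.map_smul, Fr.qa,
      QuadraticMap.polar_smul_left, haz₂] at h1
    simpa using h1
  have hz₂0 : z₂ ≠ 0 := fun h0 => hzv γ (mv_injective h (by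
    rw [mv_smul, hhv, hd, h0, add_zero]))
  obtain ⟨s, hs, hsq, hzs⟩ := exists_partner_in (K := Fr.W2) hz₂ hz₂q (by
    by_contra! h0
    exact hz₂0 (Fr.sepW2 hQ z₂ hz₂ h0))
  obtain ⟨w, hw, hwne⟩ : ∃ w ∈ Fr.W2 ⊓ perp2 Q z₂ s, Q w ≠ 0 := by
    by_contra! hall
    have hsep := sep_inter_perp2 (Fr.sepW2 hQ) hz₂ hs hz₂q hsq hzs
    have hsub : elts (Fr.W2 ⊓ perp2 Q z₂ s) ⊆ {0} := fun x hx => Finset.mem_singleton.2
      (hsep x (mem_elts.1 hx) fun y hy => by
        have := hall (x + y) (add_mem (mem_elts.1 hx) hy)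
        rw [QuadraticMap.map_add (⇑Q), hall x (mem_elts.1 hx), hall y hy] at this
        simpa using this)
    have h1 := Finset.card_le_card hsub
    have h2 := (card_split hz₂ hs hz₂q hsq hzs).1
    rw [Fr.six_le.2.2.1, show nι - 4 = 2 + (nι - 6) by omega, pow_add] at h2
    rw [← Nat.eq_of_mul_eq_mul_left (pow_pos Fintype.card_pos 2) h2, Finset.card_singleton] at h1
    have : 2 ≤ qF ^ (nι - 6) := (two_le_q (F := F)).trans (Nat.le_self_pow (by omega) _)
    omega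
  obtain ⟨hw₂, hzw, hsw⟩ : w ∈ Fr.W2 ∧ 𝔅 z₂ w = 0 ∧ 𝔅 s w = 0 := ⟨hw.1, hw.2⟩
  set x := mv (rt Q z₂ w) s with hxdef
  have hxq : Q x = 0 := by rw [hxdef, quad_mv, hsq]
  have hxe : x = s + (w + (-Q w) • z₂) := by
    rw [hxdef, mv_rt hz₂q hzw, hzs, QuadraticMap.polar_comm (⇑Q) w s, hsw]
    module
  have hxW2 : x ∈ Fr.W2 := hxe ▸ add_mem hs (add_mem hw₂ (Fr.W2.smul_mem _ hz₂))
  have hxz : 𝔅 x z₂ = 1 := by
    rw [hxdef, QuadraticMap.polar_comm, polar_centre_mv_rt hz₂q hzw, hzs]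
  have hxs : 𝔅 x s = -Q w := by
    rw [hxe, QuadraticMap.polar_add_left, QuadraticMap.polar_add_left, polar_self', hsq,
      QuadraticMap.polar_comm (⇑Q) w s, hsw, QuadraticMap.polar_smul_left, hzs]
    simp
  set κ := (-Q w)⁻¹
  have hκ : κ ≠ 0 := inv_ne_zero (neg_ne_zero.2 hwne)
  obtain ⟨hxt, hmove⟩ := eich_move (u := x) (v := z₂) (y := κ • s) hxq hz₂q
    (by rw [QuadraticMap.map_smul, hsq, smul_zero]) (by rw [hxz]; exact one_ne_zero)
    (by rw [hxz, QuadraticMap.polar_smul_right, hxs, smul_eq_mul,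
      inv_mul_cancel₀ (neg_ne_zero.2 hwne)])
  set t := (𝔅 x z₂)⁻¹ • (κ • s - z₂)
  have htW2 : t ∈ Fr.W2 := Fr.W2.smul_mem _ (sub_mem (Fr.W2.smul_mem _ hs) hz₂)
  obtain ⟨hxW, hxa, -⟩ := Fr.mem_W2.1 hxW2
  obtain ⟨htW, hta, -⟩ := Fr.mem_W2.1 htW2
  have hg := Fr.rt_mem_Lev hxW hxq htW hxt
  have hga : mv (rt Q x t) Fr.a = Fr.a := mv_rt_fix hxq hxt
    (by rw [QuadraticMap.polar_comm]; exact hxa) (by rw [QuadraticMap.polar_comm]; exact hta)
  have hgz : mv (rt Q x t) z₂ = κ • s := by rw [mv, mat_rt hxq hxt]; exact hmove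
  obtain ⟨hsW, has, -⟩ := Fr.mem_W2.1 hs
  refine ⟨mv h⁻¹ s, Fr.mv_mem_W (inv_mem hh) hsW, by rw [quad_mv, hsq], ?_, ?_,
    h⁻¹ * (rt Q x t * h), mul_mem (inv_mem hh) (mul_mem hg hh), ?_, κ, γ, hκ, ?_⟩
  · rw [← polar_mv h, mv_mv_inv, hhv, has]
  · rw [← polar_mv h, mv_mv_inv, hd, QuadraticMap.polar_add_right, QuadraticMap.polar_smul_right,
      QuadraticMap.polar_comm (⇑Q) s Fr.a, has, QuadraticMap.polar_comm (⇑Q) s z₂, hzs]
    simp
  · rw [mv_mul, mv_mul, hhv, hga, ← hhv, mv_inv_mv]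
  · refine mv_injective h ?_
    rw [mv_mul, mv_mul, mv_mv_inv, mv_add, mv_smul, mv_smul, mv_mv_inv, hhv, hd, mv_add, mv_smul,
      hga, hgz]

include hQ hn in
/-- Many images of a flat set pass through each of its vectors. -/
theorem plane_count {y : Fr.Orb Ω} (hflat : Fr.IsFlat pr y)
    {v z : ι → F} (hv : v ∈ Fr.lab pr y) (hv0 : v ≠ 0) (hz : z ∈ Fr.lab pr y)
    (hzv : ∀ c : F, z ≠ c • v) :
    qF ^ (nι - 4) + (Fr.labF pr y).card ≤ (Fr.labF pr y).card *
      (((Finset.univ : Finset (Fr.Orb Ω)).filter fun y' => v ∈ Fr.lab pr y' ∧ Fr.IsFlat pr y' ∧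
        (Fr.labF pr y').card = (Fr.labF pr y).card).image fun y' => Fr.labF pr y').card := by
  obtain ⟨hqv, hvall⟩ := hflat.1 v hv
  obtain ⟨hqz, -⟩ := hflat.1 z hz
  obtain ⟨s, hs, hsq, hvs, hsz, g₀, hg₀, hg₀v, κ, γ, hκ, hg₀z⟩ :=
    Fr.exists_flat_data hQ hn hv.1 hv0 hqv hz.1 hqz hzv (hvall z hz)
  set S := perpSub Q ![Fr.e, Fr.f, v, s]
  have hS : ∀ {w}, w ∈ S → w ∈ Fr.W ∧ 𝔅 v w = 0 ∧ 𝔅 s w = 0 := fun hw =>
    ⟨⟨mem_perpSub.1 hw 0, mem_perpSub.1 hw 1⟩, mem_perpSub.1 hw 2, mem_perpSub.1 hw 3⟩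
  have hdom : qF ^ (nι - 4) ≤ (elts S).card := by
    rw [card_elts]
    refine Nat.pow_le_pow_right Fintype.card_pos ?_
    have := le_finrank_perpSub Q ![Fr.e, Fr.f, v, s]
    rw [Module.finrank_pi] at this
    change Fintype.card ι ≤ finrank F S + 4 at this
    omega
  set A := Fr.labF pr y with hA
  have hmA : ∀ {x}, x ∈ A ↔ x ∈ Fr.lab pr y := fun {x} => Fr.mem_labF pr
  set I := (elts S).image fun w => Fr.labF pr (Fr.sh (rt Q s w) y) with hI
  have hlev : ∀ {w}, w ∈ S → rt Q s w ∈ Fr.Lev ∧ mv (rt Q s w) v = v := fun hw =>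
    ⟨Fr.rt_mem_Lev hs hsq (hS hw).1 (hS hw).2.2,
      mv_rt_fix hsq (hS hw).2.2 (by rw [QuadraticMap.polar_comm, hvs])
        (by rw [QuadraticMap.polar_comm, (hS hw).2.1])⟩
  -- a stabiliser is small
  have hfib : ∀ {δ}, δ ∈ S → (∀ x ∈ Fr.lab pr y, mv (rt Q s δ) x ∈ Fr.lab pr y) →
      δ ∈ ((Finset.univ : Finset F) ×ˢ A.filter fun x => 𝔅 s x = 0).image
        fun d => d.1 • s + d.2 := by
    intro δ hδ hfix
    have hm := hfix z hz
    have hd := sub_mem hm hz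
    rw [mv_rt hsq (hS hδ).2.2, add_sub_cancel_left] at hd
    have hd' := hflat.2 _ hd (𝔅 s z)⁻¹
    refine Finset.mem_image.2 ⟨((𝔅 s z)⁻¹ * (𝔅 δ z + Q δ * 𝔅 s z), _),
      Finset.mem_product.2 ⟨Finset.mem_univ _, Finset.mem_filter.2 ⟨hmA.2 hd', ?_⟩⟩, ?_⟩
    · simp only [QuadraticMap.polar_smul_right, QuadraticMap.polar_sub_right, (hS hδ).2.2,
        polar_self', hsq]
      simp
    · simp only [smul_sub, smul_smul, inv_mul_cancel₀ hsz, one_smul]
      module
  have hAs : qF * (A.filter fun x => 𝔅 s x = 0).card = A.card := by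
    rw [Finset.card_eq_sum_card_fiberwise (s := A) (t := Finset.univ) (f := fun x => 𝔅 s x)
      fun _ _ => Finset.mem_univ _, ← Finset.card_univ, ← smul_eq_mul, ← Finset.sum_const]
    refine (Finset.sum_congr rfl fun c _ => ?_).symm
    refine Finset.card_bij' (fun x _ => x - (c / 𝔅 s z) • z) (fun x _ => x + (c / 𝔅 s z) • z)
      ?_ ?_ (by simp) (by simp)
    · intro x hx
      simp only [Finset.mem_filter, hmA] at hx ⊢
      refine ⟨sub_mem hx.1 (hflat.2 z hz _), ?_⟩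
      rw [QuadraticMap.polar_sub_right, QuadraticMap.polar_smul_right, hx.2, smul_eq_mul,
        div_mul_cancel₀ _ hsz, sub_self]
    · intro x hx
      simp only [Finset.mem_filter, hmA] at hx ⊢
      refine ⟨add_mem hx.1 (hflat.2 z hz _), ?_⟩
      rw [QuadraticMap.polar_add_right, QuadraticMap.polar_smul_right, hx.2, smul_eq_mul,
        div_mul_cancel₀ _ hsz, zero_add]
  have hcount : (elts S).card ≤ A.card * I.card := by
    rw [Finset.card_eq_sum_card_image (fun w => Fr.labF pr (Fr.sh (rt Q s w) y)) (elts S), mul_comm,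
      ← smul_eq_mul, ← Finset.sum_const]
    refine Finset.sum_le_sum fun y' hy' => ?_
    obtain ⟨w₀, hw₀, rfl⟩ := Finset.mem_image.1 hy'
    rw [mem_elts] at hw₀
    rw [← hAs]
    refine le_trans (Finset.card_le_card_of_injOn (fun w => w - w₀) (t :=
      ((Finset.univ : Finset F) ×ˢ A.filter fun x => 𝔅 s x = 0).image fun d => d.1 • s + d.2)
      ?_ fun _ _ _ _ h => sub_left_injective h) (Finset.card_image_le.trans ?_)
    · intro w hw
      simp only [Finset.coe_filter, Set.mem_ofPred_eq, mem_elts] at hw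
      refine hfib (sub_mem hw.1 hw₀) fun x hx => ?_
      have h1 : mv (rt Q s w) x ∈ Fr.lab pr (Fr.sh (rt Q s w₀) y) := by
        rw [← Fr.mem_labF pr, ← hw.2, Fr.mem_labF]
        exact Fr.mem_lab_lev pr (hlev hw.1).1 hx
      have h2 := Fr.mem_lab_lev pr (inv_mem (hlev hw₀).1) h1
      rw [Fr.sh_sh (Fr.scales_of_lev (hlev hw₀).1), ← mv_mul] at h2
      have he : (rt Q s w₀)⁻¹ * rt Q s w = rt Q s (w - w₀) := by
        rw [inv_mul_eq_iff_eq_mul, rt_mul hsq (hS hw₀).2.2 (hS (sub_mem hw.1 hw₀)).2.2,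
          add_sub_cancel]
      rwa [he] at h2
    · rw [Finset.card_product, Finset.card_univ]
  have hcard : ∀ {g}, g ∈ Fr.Lev → (Fr.labF pr (Fr.sh g y)).card = A.card := by
    intro g hg
    refine (Finset.card_bij' (fun x _ => mv g x) (fun x _ => mv g⁻¹ x) ?_ ?_
      (fun x _ => mv_inv_mv g x) (fun x _ => mv_mv_inv g x)).symm
    · intro x hx
      rw [mem_labF]
      exact Fr.mem_lab_lev pr hg (hmA.1 hx)
    · intro x hx
      rw [hmA]
      have := Fr.mem_lab_lev pr (inv_mem hg) ((Fr.mem_labF pr).1 hx)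
      rwa [Fr.sh_sh (Fr.scales_of_lev hg)] at this
  have hmore : I.card + 1 ≤ (((Finset.univ : Finset (Fr.Orb Ω)).filter fun y' => v ∈ Fr.lab pr y' ∧
      Fr.IsFlat pr y' ∧ (Fr.labF pr y').card = A.card).image fun y' => Fr.labF pr y').card := by
    have hnot : Fr.labF pr (Fr.sh g₀ y) ∉ I := by
      intro hmem
      obtain ⟨w, hw, hwy⟩ := Finset.mem_image.1 hmem
      rw [mem_elts] at hw
      have h1 := Fr.mem_lab_lev pr hg₀ hz
      rw [← Fr.mem_labF pr, ← hwy, Fr.mem_labF] at h1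
      have h2 := Fr.mem_lab_lev pr (hlev hw).1 hz
      have h3 := ((Fr.isFlat_sh pr (hlev hw).1 hflat).1 _ h2).2 _ h1
      rw [hg₀z, QuadraticMap.polar_add_right, QuadraticMap.polar_smul_right,
        QuadraticMap.polar_smul_right] at h3
      have h4 : 𝔅 (mv (rt Q s w) z) v = 0 := by
        conv_lhs => rw [← (hlev hw).2, polar_mv, QuadraticMap.polar_comm]
        exact hvall z hz
      rw [h4, smul_zero, zero_add, QuadraticMap.polar_comm, polar_centre_mv_rt hsq (hS hw).2.2] at h3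
      exact hsz ((smul_eq_zero.1 h3).resolve_left hκ)
    rw [← Finset.card_insert_of_notMem hnot]
    refine Finset.card_le_card fun L hL => Finset.mem_image.2 ?_
    rcases Finset.mem_insert.1 hL with rfl | hL
    · refine ⟨_, Finset.mem_filter.2 ⟨Finset.mem_univ _, ?_, Fr.isFlat_sh pr hg₀ hflat, hcard hg₀⟩,
        rfl⟩
      rw [← hg₀v]
      exact Fr.mem_lab_lev pr hg₀ hv
    · obtain ⟨w, hw, rfl⟩ := Finset.mem_image.1 hL
      rw [mem_elts] at hw
      refine ⟨_, Finset.mem_filter.2 ⟨Finset.mem_univ _, ?_, Fr.isFlat_sh pr (hlev hw).1 hflat,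
        hcard (hlev hw).1⟩, rfl⟩
      rw [← (hlev hw).2]
      exact Fr.mem_lab_lev pr (hlev hw).1 hv
  calc qF ^ (nι - 4) + A.card ≤ A.card * I.card + A.card := Nat.add_le_add_right (hdom.trans hcount) _
    _ = A.card * (I.card + 1) := by ring
    _ ≤ _ := Nat.mul_le_mul_left _ hmore

variable [Fact p.Prime] [CharP F p] (hpr : pr ≠ 0)

include hQ hpr in
/-- A flat set is at most half dimensional, and then it is its own perpendicular. -/
theorem card_flat_sq {y : Fr.Orb Ω} (hflat : Fr.IsFlat pr y) :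
    (Fr.labF pr y).card * (Fr.labF pr y).card ≤ (elts Fr.W).card ∧
      ((Fr.labF pr y).card * (Fr.labF pr y).card = (elts Fr.W).card → ∀ x ∈ Fr.W,
        (∀ u ∈ Fr.lab pr y, 𝔅 x u = 0) → x ∈ Fr.lab pr y) := by
  let B : Fr.W →ₗ[F] Fr.W →ₗ[F] F :=
    LinearMap.compl₁₂ (QuadraticMap.polarBilin Q) Fr.W.subtype Fr.W.subtype
  have hB : ∀ z, (∀ w, B z w = 0) → z = 0 := fun z h =>
    Subtype.ext (Fr.sepW hQ z z.2 fun w hw => h ⟨w, hw⟩)
  set K : AddSubgroup Fr.W := (Fr.lab pr y).comap Fr.W.subtype.toAddMonoidHom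
  have h1 := card_addPerp_mul B hB hpr K
  have hsub : K ≤ addPerp B pr K := fun r hr w hw => by
    show pr (𝔅 r.1 w.1) = 0
    rw [show 𝔅 r.1 w.1 = 0 from (hflat.1 _ hr).2 _ hw, map_zero]
  have hcK : Nat.card K = (Fr.labF pr y).card := by
    rw [← Nat.card_eq_finsetCard]
    exact Nat.card_congr
      ⟨fun v => ⟨v.1.1, (Fr.mem_labF pr).2 v.2⟩,
        fun v => ⟨⟨v.1, ((Fr.mem_labF pr).1 v.2).1⟩, (Fr.mem_labF pr).1 v.2⟩,
        fun v => rfl, fun v => rfl⟩
  have hcV : Nat.card Fr.W = (elts Fr.W).card := by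
    rw [Nat.card_eq_fintype_card, Fintype.card_subtype]
    rfl
  have h2 : Nat.card K ≤ Nat.card (addPerp B pr K) :=
    Nat.card_le_card_of_injective _ (AddSubgroup.inclusion_injective hsub)
  rw [hcK, hcV] at h1
  rw [hcK] at h2
  refine ⟨(Nat.mul_le_mul_right _ h2).trans h1.le, fun heq x hx hperp => ?_⟩
  have h3 : Nat.card (addPerp B pr K) ≤ Nat.card K := by
    rw [hcK]
    exact (Nat.eq_of_mul_eq_mul_right (Finset.card_pos.2 ⟨0, (Fr.mem_labF pr).2 (zero_mem _)⟩)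
      (h1.trans heq.symm)).le
  have hKeq := AddSubgroup.eq_of_le_of_card_ge hsub h3
  have : (⟨x, hx⟩ : Fr.W) ∈ K := by
    rw [hKeq]
    intro w hw
    show pr (𝔅 x w.1) = 0
    rw [show 𝔅 x w.1 = 0 from hperp _ hw, map_zero]
  exact this

include hQ hn hpr in
/-- A flat set with small multiplicities forces dimension seven or eight and half its size. -/
theorem plane_dim {y : Fr.Orb Ω} (hflat : Fr.IsFlat pr y) {v z : ι → F} (hv : v ∈ Fr.lab pr y)
    (hv0 : v ≠ 0) (hz : z ∈ Fr.lab pr y) (hzv : ∀ c : F, z ≠ c • v)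
    (hm : Fr.mult (Ω := Ω) pr v ≤ qF + 1) :
    (nι = 7 ∧ (Fr.labF pr y).card = qF ^ 2) ∨ (nι = 8 ∧ (Fr.labF pr y).card = qF ^ 3) := by
  have h1 := Fr.plane_count pr hQ hn hflat hv hv0 hz hzv
  have h2 := (Fr.card_flat_sq pr hQ hpr hflat).1
  rw [Fr.six_le.2.1] at h2
  rw [← Fr.elts_flatSub pr hflat, card_elts] at h1 h2 ⊢
  set j := finrank F (Fr.flatSub pr hflat)
  have hq := two_le_q (F := F)
  have h3 : qF ^ (nι - 4) ≤ qF ^ (j + 1) := by
    rw [pow_succ]
    have hle : (((Finset.univ : Finset (Fr.Orb Ω)).filter fun y' => v ∈ Fr.lab pr y' ∧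
        Fr.IsFlat pr y' ∧ (Fr.labF pr y').card = qF ^ j).image fun y' => Fr.labF pr y').card ≤
        Fr.mult (Ω := Ω) pr v := by
      refine Finset.card_image_le.trans (Finset.card_le_card fun y' hy' => ?_)
      exact Finset.mem_filter.2 ⟨Finset.mem_univ _, (Finset.mem_filter.1 hy').2.1⟩
    have := h1.trans (Nat.mul_le_mul_left _ (hle.trans hm))
    rw [mul_add, mul_one] at this
    omega
  rw [← pow_add] at h2
  have h4 := (Nat.pow_le_pow_iff_right hq).1 h2
  have h5 := (Nat.pow_le_pow_iff_right hq).1 h3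
  rcases (show (nι = 7 ∧ j = 2) ∨ (nι = 8 ∧ j = 3) by omega) with ⟨h6, h7⟩ | ⟨h6, h7⟩
  · exact Or.inl ⟨h6, by rw [h7]⟩
  · exact Or.inr ⟨h6, by rw [h7]⟩

include hQ hpr in
/-- The singular vectors around a self-perpendicular flat set. -/
theorem card_singular_of_half {y : Fr.Orb Ω} (hflat : Fr.IsFlat pr y)
    (hsq : (Fr.labF pr y).card * (Fr.labF pr y).card = (elts Fr.W).card) :
    qF * (vals Q Fr.W 0).card + (Fr.labF pr y).card =
      qF * (Fr.labF pr y).card + (elts Fr.W).card := by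
  set A := Fr.labF pr y
  have hmA : ∀ {x}, x ∈ A ↔ x ∈ Fr.lab pr y := fun {x} => Fr.mem_labF pr
  set N := (vals Q Fr.W 0).filter fun x => x ∉ A
  set O := (elts Fr.W).filter fun x => x ∉ A
  have hN : ∀ {x}, x ∈ N ↔ x ∈ Fr.W ∧ Q x = 0 ∧ x ∉ A := fun {x} => by
    simp [N, mem_vals, and_assoc]
  -- count the pairs
  have h1 : A.card * N.card = ∑ x ∈ O, (A.filter fun u => Q (x + u) = 0).card := by
    rw [mul_comm, ← smul_eq_mul, ← Finset.sum_const, eq_comm]
    simp only [Finset.card_filter, Finset.sum_const]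
    rw [Finset.sum_comm, smul_eq_mul, mul_comm, ← smul_eq_mul, ← Finset.sum_const]
    refine Finset.sum_congr rfl fun u hu => ?_
    rw [← Finset.card_filter]
    rw [hmA] at hu
    refine Finset.card_bij' (fun x _ => x + u) (fun x _ => x - u) ?_ ?_ (by simp) (by simp)
    · intro x hx
      simp only [O, Finset.mem_filter, mem_elts, hmA] at hx
      rw [hN, hmA]
      refine ⟨add_mem hx.1.1 hu.1, hx.2, fun h => hx.1.2 ?_⟩
      simpa using sub_mem h hu
    · intro x hx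
      rw [hN, hmA] at hx
      simp only [O, Finset.mem_filter, mem_elts, hmA, sub_add_cancel]
      refine ⟨⟨sub_mem hx.1 hu.1, fun h => hx.2.2 ?_⟩, hx.2.1⟩
      simpa using add_mem h hu
  have h2 : ∀ x ∈ O, qF * (A.filter fun u => Q (x + u) = 0).card = A.card := by
    intro x hx
    simp only [O, Finset.mem_filter, mem_elts, hmA] at hx
    obtain ⟨u₀, hu₀, hne⟩ : ∃ u ∈ Fr.lab pr y, 𝔅 x u ≠ 0 := by
      by_contra! h
      exact hx.2 ((Fr.card_flat_sq pr hQ hpr hflat).2 hsq x hx.1 h)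
    rw [Finset.card_eq_sum_card_fiberwise (s := A) (t := Finset.univ) (f := fun u => Q (x + u))
      fun _ _ => Finset.mem_univ _, ← Finset.card_univ, ← smul_eq_mul, ← Finset.sum_const]
    refine (Finset.sum_congr rfl fun c _ => ?_).symm
    have hQxu : ∀ u ∈ Fr.lab pr y, Q (x + u) = Q x + 𝔅 x u := fun u hu => by
      rw [QuadraticMap.map_add (⇑Q), (hflat.1 u hu).1, add_zero]
    refine Finset.card_bij' (fun u _ => u - (c / 𝔅 x u₀) • u₀) (fun u _ => u + (c / 𝔅 x u₀) • u₀)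
      ?_ ?_ (by simp) (by simp)
    · intro u hu
      simp only [Finset.mem_filter, hmA] at hu ⊢
      have hu' := sub_mem hu.1 (hflat.2 u₀ hu₀ (c / 𝔅 x u₀))
      refine ⟨hu', ?_⟩
      rw [hQxu _ hu', QuadraticMap.polar_sub_right, QuadraticMap.polar_smul_right, smul_eq_mul,
        div_mul_cancel₀ _ hne]
      have := hu.2
      rw [hQxu _ hu.1] at this
      linear_combination this
    · intro u hu
      simp only [Finset.mem_filter, hmA] at hu ⊢
      have hu' := add_mem hu.1 (hflat.2 u₀ hu₀ (c / 𝔅 x u₀))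
      refine ⟨hu', ?_⟩
      rw [hQxu _ hu', QuadraticMap.polar_add_right, QuadraticMap.polar_smul_right, smul_eq_mul,
        div_mul_cancel₀ _ hne]
      have := hu.2
      rw [hQxu _ hu.1] at this
      linear_combination this
  have h3 : qF * (A.card * N.card) = A.card * O.card := by
    rw [h1, Finset.mul_sum, Finset.sum_congr rfl h2, Finset.sum_const, smul_eq_mul, mul_comm]
  have hA0 : 0 < A.card := Finset.card_pos.2 ⟨0, hmA.2 (zero_mem _)⟩
  have h4 : qF * N.card = O.card :=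
    Nat.eq_of_mul_eq_mul_left hA0 (by rw [← h3]; ring)
  have h5 : N.card + A.card = (vals Q Fr.W 0).card := by
    conv_rhs => rw [← Finset.card_filter_add_card_filter_not (fun x => x ∉ A)]
    congr 2
    ext x
    simp only [not_not, Finset.mem_filter, mem_vals, hmA]
    exact ⟨fun h => ⟨⟨h.1, (hflat.1 x h).1⟩, h⟩, fun h => h.2⟩
  have h6 : O.card + A.card = (elts Fr.W).card := by
    conv_rhs => rw [← Finset.card_filter_add_card_filter_not (fun x => x ∉ A)]
    congr 2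
    ext x
    simp only [not_not, Finset.mem_filter, mem_elts, hmA]
    exact ⟨fun h => ⟨h.1, h⟩, fun h => h.2⟩
  rw [← h5, ← h6, mul_add, h4]
  ring

end Frame

end CfsgLib.MinDegree.Orth
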