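import Cfsg.Agent.MinDegree.OrthFlatTools

/-!
# The exceptional case of dimension seven

A short root element at `e` fixes more points than its conjugate at `a`.
-/

set_option autoImplicit false
set_option linter.unusedSectionVars false

namespace CfsgLib.MinDegree.Orth

open Matrix Module CfsgLib.Spinor CfsgLib.Forms CfsgLib.Forms4 CfsgLib.OrthMax
open scoped Classical

variable {F : Type*} [Field F] {ι : Type} [Fintype ι] [DecidableEq ι] {Q : QuadraticForm F (ι → F)}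
  [Fintype F]

set_option quotPrecheck false in
local notation "𝔅" => QuadraticMap.polar (⇑Q)
local notation "qF" => Fintype.card F
local notation "nι" => Fintype.card ι

namespace Frame

variable (Fr : Frame Q) {Ω : Type*} [MulAction (EG Q) Ω] [Fintype Ω] {p : ℕ} (pr : F →+ ZMod p)
  [Fact p.Prime] [CharP F p]

theorem seven_false (hQ : (QuadraticMap.polarBilin Q).Nondegenerate) (hpr : pr ≠ 0)
    (h7 : Fintype.card ι = 7) {H o : ℕ} (hfc : Fr.FlatCase pr Ω H o) : False := by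
  have hn : 7 ≤ nι := h7.ge
  have hH2 : H = qF ^ 2 := by rw [hfc.hH, h7]
  have hq := two_le_q (F := F)
  have hqH : qF < H := by
    rw [hH2, sq]
    have := Nat.mul_le_mul_left qF hq
    omega
  -- the vector outside the three pairs
  obtain ⟨z, hz3, hz0⟩ : ∃ z ∈ Fr.W3, z ≠ 0 := by
    by_contra! h
    have hsub : elts Fr.W3 ⊆ {0} := fun x hx => Finset.mem_singleton.2 (h x (mem_elts.1 hx))
    have := Finset.card_le_card hsub
    rw [Fr.six_le.2.2.2, h7, pow_one, Finset.card_singleton] at this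
    omega
  have hzq : Q z ≠ 0 := fun h0 => hz0 (by
    have hz : z ∈ vals Q Fr.W3 0 := mem_vals.2 ⟨hz3, h0⟩
    have h0' : (0 : ι → F) ∈ vals Q Fr.W3 0 := mem_vals.2 ⟨zero_mem _, QuadraticMap.map_zero Q⟩
    exact Finset.card_le_one.1 (Fr.card_vals_W3_seven hQ hn h7).le _ hz _ h0')
  obtain ⟨hz2, hbz, hb'z⟩ := Fr.mem_W3.1 hz3
  obtain ⟨hzW, haz, ha'z⟩ := Fr.mem_W2.1 hz2
  -- flat sets perpendicular to `z`
  obtain ⟨y₁, hy₁a, hy₁b⟩ := Fr.exists_flat_pair hQ hn pr hfc hqH Fr.b_mem2 Fr.qb Fr.b_ne_zero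
  obtain ⟨y₂, hy₂a, hy₂b⟩ := Fr.exists_flat_pair hQ hn pr hfc hqH Fr.b'_mem2 Fr.qb' Fr.b'_ne_zero
  have hperp : ∀ (y : Fr.Orb Ω) (d d' : ι → F), (d = Fr.b ∧ d' = Fr.b') ∨ (d = Fr.b' ∧ d' = Fr.b) →
      Fr.a ∈ Fr.lab pr y → d ∈ Fr.lab pr y → ∀ v ∈ Fr.lab pr y, 𝔅 z v = 0 := by
    intro y d d' hdd ha hd v hv
    obtain ⟨hflat, -⟩ := hfc.through y _ ha Fr.a_ne_zero
    obtain ⟨hvq, -⟩ := hflat.1 v hv
    have hav : 𝔅 Fr.a v = 0 := (hflat.1 _ ha).2 v hv
    have hdv : 𝔅 d v = 0 := (hflat.1 _ hd).2 v hv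
    obtain ⟨hdq, hdW, hdd', had, ha'd, had', ha'd', hdz⟩ : Q d = 0 ∧ d ∈ Fr.W ∧ 𝔅 d' d = 1 ∧
        𝔅 Fr.a d = 0 ∧ 𝔅 Fr.a' d = 0 ∧ 𝔅 Fr.a d' = 0 ∧ 𝔅 Fr.a' d' = 0 ∧ 𝔅 z d = 0 := by
      rcases hdd with ⟨rfl, rfl⟩ | ⟨rfl, rfl⟩
      · exact ⟨Fr.qb, Fr.b_mem, Fr.b'b, Fr.ab, Fr.a'b, Fr.ab', Fr.a'b',
          by rw [QuadraticMap.polar_comm, hbz]⟩
      · exact ⟨Fr.qb', Fr.b'_mem, Fr.bb', Fr.ab', Fr.a'b', Fr.ab, Fr.a'b,
          by rw [QuadraticMap.polar_comm, hb'z]⟩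
    set t := v - 𝔅 Fr.a' v • Fr.a - 𝔅 d' v • d with ht
    have htW2 : t ∈ Fr.W2 := by
      refine ⟨sub_mem (sub_mem hv.1 (Fr.W.smul_mem _ Fr.a_mem)) (Fr.W.smul_mem _ hdW),
        mem_perp2.2 ⟨?_, ?_⟩⟩ <;>
      simp [t, QuadraticMap.polar_sub_right, QuadraticMap.polar_smul_right, Fr.qa, Fr.a'a, hav,
        had, ha'd]
    have hdt : 𝔅 d t = 0 ∧ 𝔅 d' t = 0 := by
      constructor <;>
      simp [t, QuadraticMap.polar_sub_right, QuadraticMap.polar_smul_right, hdq, hdv, hdd',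
        QuadraticMap.polar_comm (⇑Q) d Fr.a, QuadraticMap.polar_comm (⇑Q) d' Fr.a, had, had']
    have htW3 : t ∈ Fr.W3 := by
      rcases hdd with ⟨rfl, rfl⟩ | ⟨rfl, rfl⟩
      · exact ⟨htW2, hdt.1, hdt.2⟩
      · exact ⟨htW2, hdt.2, hdt.1⟩
    have htq : Q t = 0 := by
      rw [ht, sub_sub, sub_eq_add_neg, QuadraticMap.map_add (⇑Q), hvq, QuadraticMap.map_neg,
        QuadraticMap.map_add (⇑Q), QuadraticMap.map_smul, QuadraticMap.map_smul, Fr.qa, hdq]
      simp [QuadraticMap.polar_neg_right, QuadraticMap.polar_add_right,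
        QuadraticMap.polar_smul_right, QuadraticMap.polar_smul_left, had,
        QuadraticMap.polar_comm (⇑Q) v Fr.a, hav, QuadraticMap.polar_comm (⇑Q) v d, hdv]
    have ht0 : t = 0 := Finset.card_le_one.1 (Fr.card_vals_W3_seven hQ hn h7).le _
      (mem_vals.2 ⟨htW3, htq⟩) _ (mem_vals.2 ⟨zero_mem _, QuadraticMap.map_zero Q⟩)
    rw [show v = t + (𝔅 Fr.a' v • Fr.a + 𝔅 d' v • d) by rw [ht]; module, ht0, zero_add,
      QuadraticMap.polar_add_right, QuadraticMap.polar_smul_right, QuadraticMap.polar_smul_right,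
      QuadraticMap.polar_comm (⇑Q) z Fr.a, haz, hdz, smul_zero, smul_zero, add_zero]
  -- the elements moving them
  have hsb : ∀ s : F, 𝔅 Fr.a' (s • Fr.b) = 0 := fun s => by
    rw [QuadraticMap.polar_smul_right, Fr.a'b, smul_zero]
  set G : F → EG Q := fun s => rt Q Fr.a' (s • Fr.b)
  set k := rt Q Fr.a' Fr.b'
  have hG : ∀ s, G s ∈ Fr.Lev ∧ mv (G s) z = z ∧ mv (G s) Fr.a = Fr.a + s • Fr.b ∧
      mv (G s) Fr.b' = Fr.b' - s • Fr.a' := fun s =>
    ⟨Fr.rt_mem_Lev Fr.a'_mem Fr.qa' (Fr.W.smul_mem _ Fr.b_mem) (hsb s),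
      mv_rt_fix Fr.qa' (hsb s) ha'z (by rw [QuadraticMap.polar_smul_left, hbz, smul_zero]),
      by
        rw [mv_rt Fr.qa' (hsb s), Fr.a'a, QuadraticMap.map_smul, Fr.qb,
          QuadraticMap.polar_smul_left, Fr.ba]
        simp,
      by
        rw [mv_rt_perp Fr.qa' (hsb s) Fr.a'b', QuadraticMap.polar_smul_left, Fr.bb', smul_eq_mul,
          mul_one]⟩
  have hk : k ∈ Fr.Lev ∧ mv k z = z ∧ mv k Fr.a = Fr.a + Fr.b' ∧ mv k Fr.b = Fr.b - Fr.a' :=
    ⟨Fr.rt_mem_Lev Fr.a'_mem Fr.qa' Fr.b'_mem Fr.a'b', mv_rt_fix Fr.qa' Fr.a'b' ha'z hb'z,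
      by rw [mv_rt Fr.qa' Fr.a'b', Fr.a'a, Fr.qb', Fr.b'a]; simp,
      by rw [mv_rt_perp Fr.qa' Fr.a'b' Fr.a'b, Fr.b'b, one_smul]⟩
  have hflat_of : ∀ (y : Fr.Orb Ω), Fr.a ∈ Fr.lab pr y → Fr.IsFlat pr y := fun y hy =>
    (hfc.through y _ hy Fr.a_ne_zero).1
  have himage : ∀ {g}, g ∈ Fr.Lev → mv g z = z → ∀ (y : Fr.Orb Ω),
      (∀ v ∈ Fr.lab pr y, 𝔅 z v = 0) → ∀ v ∈ Fr.lab pr (Fr.sh g y), 𝔅 z v = 0 := by
    intro g hg hgz y hy v hv
    have h1 := Fr.mem_lab_lev pr (inv_mem hg) hv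
    rw [Fr.sh_sh (Fr.scales_of_lev hg)] at h1
    have h2 := hy _ h1
    rwa [← polar_mv g, mv_mv_inv, hgz] at h2
  -- the orbits fixed by the element at `e`
  set Yz := (Finset.univ : Finset (Fr.Orb Ω)).filter fun y =>
    (¬ ∀ v ∈ Fr.lab pr y, v = 0) ∧ z ∈ Fr.kst y.out with hYz
  have hcount : qF + 2 ≤ Yz.card := by
    have hin : ∀ (y : Fr.Orb Ω) v, v ∈ Fr.lab pr y → v ≠ 0 → (∀ v ∈ Fr.lab pr y, 𝔅 z v = 0) →
        y ∈ Yz := fun y v hv hv0 h => Finset.mem_filter.2 ⟨Finset.mem_univ _,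
      fun hall => hv0 (hall v hv), (Fr.card_pts_eq pr hQ hpr y).2 z hzW fun u hu => by
        rw [QuadraticMap.polar_comm, h u hu, map_zero]⟩
    have hsubset : insert y₁ (insert (Fr.sh k y₁)
        ((Finset.univ : Finset F).image fun s => Fr.sh (G s) y₂)) ⊆ Yz := by
      intro y hy
      have h1 := hperp y₁ Fr.b Fr.b' (Or.inl ⟨rfl, rfl⟩) hy₁a hy₁b
      have h2 := hperp y₂ Fr.b' Fr.b (Or.inr ⟨rfl, rfl⟩) hy₂a hy₂b
      rcases Finset.mem_insert.1 hy with rfl | hy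
      · exact hin _ _ hy₁a Fr.a_ne_zero h1
      rcases Finset.mem_insert.1 hy with rfl | hy
      · exact hin _ _ (Fr.mem_lab_lev pr hk.1 hy₁a)
          (fun h0 => Fr.a_ne_zero (mv_injective k (h0.trans (mv_zero k).symm)))
          (himage hk.1 hk.2.1 _ h1)
      obtain ⟨s, -, rfl⟩ := Finset.mem_image.1 hy
      exact hin _ _ (Fr.mem_lab_lev pr (hG s).1 hy₂a)
        (fun h0 => Fr.a_ne_zero (mv_injective (G s) (h0.trans (mv_zero _).symm)))
        (himage (hG s).1 (hG s).2.1 _ h2)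
    refine le_trans ?_ (Finset.card_le_card hsubset)
    have hf₁ := hflat_of _ hy₁a
    have hf₂ := hflat_of _ hy₂a
    rw [Finset.card_insert_of_notMem, Finset.card_insert_of_notMem,
      Finset.card_image_of_injective, Finset.card_univ]
    · intro s t hst
      have h1 := Fr.mem_lab_lev pr (hG s).1 hy₂a
      have h2 := Fr.mem_lab_lev pr (hG t).1 hy₂b
      simp only at hst
      rw [hst] at h1
      have := ((Fr.isFlat_sh pr (hG t).1 hf₂).1 _ h1).2 _ h2
      rw [(hG s).2.2.1, (hG t).2.2.2, QuadraticMap.polar_add_left, QuadraticMap.polar_sub_right,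
        QuadraticMap.polar_sub_right, Fr.ab', QuadraticMap.polar_smul_right, Fr.aa',
        QuadraticMap.polar_smul_left, QuadraticMap.polar_smul_left, Fr.bb',
        QuadraticMap.polar_smul_right, Fr.ba', smul_zero, smul_eq_mul, smul_eq_mul] at this
      simp at this
      linear_combination this
    · intro hmem
      obtain ⟨s, -, hs⟩ := Finset.mem_image.1 hmem
      have h1 := Fr.mem_lab_lev pr hk.1 hy₁b
      have h2 := Fr.mem_lab_lev pr (hG s).1 hy₂b
      rw [hs] at h2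
      have := ((Fr.isFlat_sh pr hk.1 hf₁).1 _ h1).2 _ h2
      rw [hk.2.2.2, (hG s).2.2.2] at this
      simp [QuadraticMap.polar_sub_left, QuadraticMap.polar_sub_right,
        QuadraticMap.polar_smul_right, Fr.bb', Fr.ba', Fr.a'b', Fr.qa'] at this
    · intro hmem
      rcases Finset.mem_insert.1 hmem with h | h
      · have h1 := Fr.mem_lab_lev pr hk.1 hy₁b
        rw [← h] at h1
        have := (hf₁.1 _ hy₁a).2 _ h1
        rw [hk.2.2.2] at this
        simp [QuadraticMap.polar_sub_right, Fr.ab, Fr.aa'] at this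
      · obtain ⟨s, -, hs⟩ := Finset.mem_image.1 h
        have h2 := Fr.mem_lab_lev pr (hG s).1 hy₂b
        rw [hs] at h2
        have := (hf₁.1 _ hy₁b).2 _ h2
        rw [(hG s).2.2.2] at this
        simp [QuadraticMap.polar_sub_right, QuadraticMap.polar_smul_right, Fr.bb', Fr.ba'] at this
  -- fixed points
  set Ya := (Finset.univ : Finset (Fr.Orb Ω)).filter fun y => Fr.a ∈ Fr.lab pr y with hYa
  have hYacard : Ya.card = qF + 1 := hfc.mult_eq _ Fr.a_mem Fr.a_ne_zero Fr.qa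
  obtain ⟨g, t, ht, x', hx', hx'0, hx'q, hg⟩ := Fr.exists_conj_rtE hQ Fr.qa haz
    (fun c h => hzq (by rw [h, QuadraticMap.map_smul, Fr.qa, smul_zero])) Fr.a_ne_zero
  obtain ⟨h', hh', hhx⟩ := Fr.exists_lev_map hQ hx' hx'0 (Fr.W.smul_mem t hzW) (smul_ne_zero ht hz0)
    (by rw [hx'q, QuadraticMap.map_smul, smul_eq_mul, sq])
  have hconj : (fixF Ω (rt Q Fr.a z)).card = (fixF Ω (rt Q Fr.e (t • z))).card := by
    rw [← card_fixF_conj g, hg, ← card_fixF_conj h', rt_conj h' Fr.qe (Fr.mem_W.1 hx').1, hh'.1,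
      hhx]
  have hlev : rt Q Fr.a z ∈ Fr.Lev := Fr.rt_mem_Lev Fr.a_mem Fr.qa hzW haz
  have hup : ∀ y : Fr.Orb Ω, ((Fr.pts y).filter fun x => rt Q Fr.a z • x = x).card ≤
      if (∀ v ∈ Fr.lab pr y, v = 0) then 1 else if y ∈ Ya then H else 0 := by
    intro y
    have hpts := FlatCase.pts_card Fr pr hQ hpr hfc y
    by_cases h0 : ∀ v ∈ Fr.lab pr y, v = 0
    · rw [if_pos h0] at hpts ⊢
      exact (Finset.card_filter_le _ _).trans hpts.le
    rw [if_neg h0] at hpts ⊢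
    by_cases hya : y ∈ Ya
    · rw [if_pos hya]
      exact (Finset.card_filter_le _ _).trans hpts.le
    rw [if_neg hya, Nat.le_zero, Finset.card_eq_zero]
    refine Finset.filter_eq_empty_iff.2 fun x hx hfix => hya ?_
    have hy : Fr.sh (rt Q Fr.a z) y = y := by
      rw [← Fr.mem_pts.1 hx, Scales.sh_cls Fr (Fr.scales_of_lev hlev), hfix]
    push Not at h0
    obtain ⟨v₀, hv₀, hv₀0⟩ := h0
    obtain ⟨hflat, hcard⟩ := hfc.through y v₀ hv₀ hv₀0
    have hperpA : ∀ v ∈ Fr.lab pr y, 𝔅 Fr.a v = 0 := by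
      intro v hv
      by_contra hne
      have hd := sub_mem (Fr.mem_lab_of_fix pr hlev hy hv) hv
      have := (hflat.1 _ hd).1
      rw [mv_rt Fr.qa haz, add_sub_cancel_left, sub_sub, ← add_smul, sub_eq_add_neg, ← neg_smul,
        QuadraticMap.map_add (⇑Q), QuadraticMap.map_smul, QuadraticMap.map_smul, Fr.qa,
        QuadraticMap.polar_smul_left, QuadraticMap.polar_smul_right,
        QuadraticMap.polar_comm (⇑Q) z Fr.a, haz] at this
      simp [hne, hzq] at this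
    refine Finset.mem_filter.2 ⟨Finset.mem_univ _, ?_⟩
    by_contra haA
    set U := Fr.flatSub pr hflat
    have hUW : ∀ u ∈ U, u ∈ Fr.W := fun u hu => hu.1
    set U1 := U ⊔ Submodule.span F {Fr.a}
    set U2 := U1 ⊔ Submodule.span F {Fr.e}
    have hU1W : ∀ u ∈ U1, u ∈ Fr.W := by
      intro u hu
      obtain ⟨p1, hp1, p2, hp2, rfl⟩ := Submodule.mem_sup.1 hu
      obtain ⟨c, rfl⟩ := Submodule.mem_span_singleton.1 hp2
      exact add_mem (hUW _ hp1) (Fr.W.smul_mem _ Fr.a_mem)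
    have heU1 : Fr.e ∉ U1 := fun he => by
      have := (Fr.mem_W.1 (hU1W _ he)).2
      rw [Fr.fe] at this
      exact one_ne_zero this
    have hUrank : finrank F U = 2 := by
      have := card_elts U
      rw [Fr.elts_flatSub pr hflat, hcard, hH2] at this
      exact (Nat.pow_right_injective hq this).symm
    have hU1rank : finrank F U1 = 3 := by
      have := Submodule.finrank_sup_add_finrank_inf_eq U (Submodule.span F {Fr.a})
      rw [((Submodule.disjoint_span_singleton' Fr.a_ne_zero).2 haA).eq_bot, finrank_bot,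
        finrank_span_singleton Fr.a_ne_zero, hUrank] at this
      exact this
    have he0 : Fr.e ≠ 0 := fun h => heU1 (h ▸ zero_mem _)
    have hU2rank : finrank F U2 = 4 := by
      have := Submodule.finrank_sup_add_finrank_inf_eq U1 (Submodule.span F {Fr.e})
      rw [((Submodule.disjoint_span_singleton' he0).2 heU1).eq_bot, finrank_bot,
        finrank_span_singleton he0, hU1rank] at this
      exact this
    have hsing : ∀ u ∈ U2, Q u = 0 := by
      intro u hu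
      obtain ⟨p1, hp1, p2, hp2, rfl⟩ := Submodule.mem_sup.1 hu
      obtain ⟨c, rfl⟩ := Submodule.mem_span_singleton.1 hp2
      obtain ⟨p3, hp3, p4, hp4, rfl⟩ := Submodule.mem_sup.1 hp1
      obtain ⟨d, rfl⟩ := Submodule.mem_span_singleton.1 hp4
      have h1 : 𝔅 (p3 + d • Fr.a) (c • Fr.e) = 0 := by
        rw [QuadraticMap.polar_comm, QuadraticMap.polar_smul_left, (Fr.mem_W.1 (hU1W _ hp1)).1,
          smul_zero]
      rw [QuadraticMap.map_add (⇑Q), h1, QuadraticMap.map_add (⇑Q), (hflat.1 _ hp3).1,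
        QuadraticMap.map_smul, QuadraticMap.map_smul, Fr.qa, Fr.qe,
        QuadraticMap.polar_smul_right, QuadraticMap.polar_comm (⇑Q) p3 Fr.a, hperpA _ hp3]
      simp
    have h8 := two_finrank_le hQ hsing
    rw [hU2rank, h7] at h8
    omega
  have hlow : ∀ y : Fr.Orb Ω, (if (∀ v ∈ Fr.lab pr y, v = 0) then 1 else if y ∈ Yz then H else 0) ≤
      ((Fr.pts y).filter fun x => rt Q Fr.e (t • z) • x = x).card := by
    intro y
    have hpts := FlatCase.pts_card Fr pr hQ hpr hfc y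
    rw [Fr.filter_fix_rtE (Fr.W.smul_mem t hzW)]
    by_cases h0 : ∀ v ∈ Fr.lab pr y, v = 0
    · rw [if_pos h0] at hpts ⊢
      rw [if_pos ((Fr.card_pts_eq pr hQ hpr y).2 _ (Fr.W.smul_mem t hzW) fun v hv => by
        rw [h0 v hv, QuadraticMap.polar_zero_left, map_zero]), hpts]
    rw [if_neg h0] at hpts ⊢
    by_cases hyz : y ∈ Yz
    · have hkst := (Finset.mem_filter.1 hyz).2.2
      push Not at h0
      obtain ⟨v₀, hv₀, hv₀0⟩ := h0
      obtain ⟨hflat, -⟩ := hfc.through y v₀ hv₀ hv₀0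
      rw [if_pos hyz, if_pos ((Fr.card_pts_eq pr hQ hpr y).2 _ (Fr.W.smul_mem t hzW) fun v hv => ?_),
        hpts]
      rw [QuadraticMap.polar_smul_right, ← QuadraticMap.polar_smul_left]
      exact (hflat.2 v hv t).2 z hkst
    · rw [if_neg hyz]
      exact Nat.zero_le _
  have h1 : (fixF Ω (rt Q Fr.a z)).card ≤ o + H * (qF + 1) := by
    rw [Fr.card_fixF_eq_sum]
    refine (Finset.sum_le_sum fun y _ => hup y).trans ?_
    rw [Finset.sum_ite, Finset.sum_const, smul_eq_mul, mul_one, ← hfc.card_zero,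
      ← Finset.sum_filter, Finset.sum_const, smul_eq_mul, mul_comm H, ← hYacard]
    exact Nat.add_le_add_left (Nat.mul_le_mul_right _ (Finset.card_le_card fun y hy =>
      (Finset.mem_filter.1 hy).2)) _
  have h2 : o + H * (qF + 2) ≤ (fixF Ω (rt Q Fr.e (t • z))).card := by
    rw [Fr.card_fixF_eq_sum]
    refine le_trans ?_ (Finset.sum_le_sum fun y _ => hlow y)
    rw [Finset.sum_ite, Finset.sum_const, smul_eq_mul, mul_one, ← hfc.card_zero,
      ← Finset.sum_filter, Finset.sum_const, smul_eq_mul, mul_comm H]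
    refine Nat.add_le_add_left (Nat.mul_le_mul_right _ (hcount.trans (Finset.card_le_card fun y hy =>
      Finset.mem_filter.2 ⟨Finset.mem_filter.2 ⟨Finset.mem_univ _, (Finset.mem_filter.1 hy).2.1⟩,
        hy⟩))) _
  rw [hconj] at h1
  have h3 := h2.trans h1
  rw [mul_add, mul_add] at h3
  omega

end Frame

end CfsgLib.MinDegree.Orth
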