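import Cfsg.Agent.MinDegree.OrthSmallLabels

/-!
# The three kinds of label sets with two independent vectors

Over a field with two or three elements such a label set, if not all of `W`, makes the action large:
`flat_bound` (totally singular), `mixed_bound` (singular and non-singular vectors), `aniso_bound`.
-/

set_option autoImplicit false
set_option linter.unusedSectionVars false

namespace CfsgLib.MinDegree.Orth

open Matrix Module CfsgLib.Spinor CfsgLib.Forms CfsgLib.Forms4 CfsgLib.OrthMax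
open scoped Classical

variable {F : Type*} [Field F] {ι : Type} [Fintype ι] [DecidableEq ι] {Q : QuadraticForm F (ι → F)}
  [Fintype F]

set_option quotPrecheck false in
local notation "𝔅" => QuadraticMap.polar (⇑Q)
local notation "qF" => Fintype.card F
local notation "nι" => Fintype.card ι

namespace Frame

variable (Fr : Frame Q) {Ω : Type*} [MulAction (EG Q) Ω] [Fintype Ω] {p : ℕ} (pr : F →+ ZMod p)
  (hQ : (QuadraticMap.polarBilin Q).Nondegenerate) (hn : 7 ≤ Fintype.card ι) (hpr : pr ≠ 0)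
  [Fact p.Prime] [CharP F p] (hpq : Fintype.card F = p) (hq3 : Fintype.card F ≤ 3)

include hQ hn hpr hpq hq3 in
/-- A totally singular label set with two independent vectors. -/
theorem flat_bound {y : Fr.Orb Ω} {v z : ι → F} (hv : v ∈ Fr.lab pr y) (hv0 : v ≠ 0)
    (hz : z ∈ Fr.lab pr y) (hzv : ∀ c : F, z ≠ c • v) (hsing : ∀ x ∈ Fr.lab pr y, Q x = 0) :
    qF * qF ≤ (Fr.labF pr y).card ∧
      qF * (Fr.labF pr y).card * ((vals Q Fr.W 0).erase 0).card * ((vals Q Fr.W2 0).erase 0).card ≤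
        Fintype.card Ω * ((Fr.labF pr y).card - 1) * ((Fr.labF pr y).card - qF) := by
  obtain ⟨g, hg, hgv, hy₀a, hy₀⟩ := Fr.exists_move pr hQ hv hv0
  rw [hsing v hv, std, zero_smul, add_zero] at hgv hy₀a
  set y₀ := Fr.sh g y with hy₀d
  rw [show (Fr.labF pr y).card = (Fr.labF pr y₀).card from (Fr.card_labF_sh pr hg y).symm]
  set z₀ := mv g z
  have hz₀ : z₀ ∈ Fr.lab pr y₀ := Fr.mem_lab_lev pr hg hz
  have hzv₀ : ∀ c : F, z₀ ≠ c • Fr.a := fun c h => hzv c (mv_injective g (by rw [mv_smul, hgv]; exact h))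
  have hsing₀ : ∀ x ∈ Fr.lab pr y₀, Q x = 0 := fun x hx => by
    rw [← quad_mv g⁻¹ x]; exact hsing _ ((hy₀ x).1 hx)
  have hperp : 𝔅 Fr.a z₀ = 0 := by
    have := hsing₀ _ (add_mem hy₀a hz₀)
    rw [QuadraticMap.map_add (⇑Q), Fr.qa, hsing₀ _ hz₀] at this
    simpa using this
  set s₀ := z₀ - 𝔅 Fr.a' z₀ • Fr.a with hs₀d
  have hs₀ : s₀ ∈ Fr.W2 := ⟨sub_mem hz₀.1 (Fr.W.smul_mem _ Fr.a_mem), mem_perp2.2 ⟨by
      simp [s₀, QuadraticMap.polar_sub_right, QuadraticMap.polar_smul_right, Fr.aa, hperp], by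
      simp [s₀, QuadraticMap.polar_sub_right, QuadraticMap.polar_smul_right, Fr.a'a]⟩⟩
  have hs₀lab : s₀ ∈ Fr.lab pr y₀ := sub_mem hz₀ (Fr.lab_smul pr hpq hy₀a _)
  have hs₀0 : s₀ ≠ 0 := fun h => hzv₀ _ (sub_eq_zero.1 h)
  have ha0 : Fr.a ≠ 0 := fun h => by
    have := Fr.aa'
    rw [h, QuadraticMap.polar_zero_left] at this
    exact zero_ne_one this
  set σ := (Fr.labF pr y₀).card with hσ
  have hinjA : Function.Injective fun c : F => c • Fr.a := smul_left_injective F ha0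
  constructor
  · have hinj : Function.Injective fun d : F × F => d.1 • Fr.a + d.2 • s₀ := by
      rintro ⟨ξ, η⟩ ⟨ξ', η'⟩ h
      simp only at h
      have hξ : ξ = ξ' := by
        have := congrArg (𝔅 Fr.a') h
        simpa [QuadraticMap.polar_add_right, QuadraticMap.polar_smul_right, Fr.a'a,
          (Fr.mem_W2.1 hs₀).2.2] using this
      subst hξ
      rw [add_right_inj] at h
      exact Prod.ext rfl (smul_left_injective F hs₀0 h)
    have h1 := Finset.card_image_of_injective (Finset.univ : Finset (F × F)) hinj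
    rw [Finset.card_univ, Fintype.card_prod] at h1
    rw [← h1]
    refine Finset.card_le_card fun x hx => ?_
    obtain ⟨d, -, rfl⟩ := Finset.mem_image.1 hx
    exact (Fr.mem_labF pr).2 (add_mem (Fr.lab_smul pr hpq hy₀a _) (Fr.lab_smul pr hpq hs₀lab _))
  set P := (Fr.orbF y₀).filter fun y' => Fr.a ∈ Fr.lab pr y' with hP
  set S2 := (vals Q Fr.W2 0).erase 0
  have hmemS2 : ∀ {x}, x ∈ S2 ↔ x ≠ 0 ∧ x ∈ Fr.W2 ∧ Q x = 0 := fun {x} => by simp [S2, mem_vals]
  -- covering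
  have hcover : qF * S2.card ≤ P.card * (σ - qF) := by
    have h1 : ((Finset.univ : Finset F) ×ˢ S2).card = qF * S2.card := by
      rw [Finset.card_product, Finset.card_univ]
    rw [← h1, ← Finset.card_image_of_injOn (f := fun d : F × (ι → F) => d.1 • Fr.a + d.2) ?_]
    swap
    · rintro ⟨t, x⟩ hx ⟨t', x'⟩ hx' h
      simp only [Finset.coe_product, Set.mem_prod, Finset.mem_coe] at hx hx'
      simp only at h
      have ht : t = t' := by
        have := congrArg (𝔅 Fr.a') h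
        simpa [QuadraticMap.polar_add_right, QuadraticMap.polar_smul_right, Fr.a'a,
          (Fr.mem_W2.1 (hmemS2.1 hx.2).2.1).2.2, (Fr.mem_W2.1 (hmemS2.1 hx'.2).2.1).2.2] using this
      subst ht
      rw [add_right_inj] at h
      exact Prod.ext rfl h
    refine le_trans (Finset.card_le_card (t := P.biUnion fun y' =>
      Fr.labF pr y' \ Finset.univ.image fun c : F => c • Fr.a) ?_) ?_
    · intro x hx
      obtain ⟨⟨t, s⟩, hts, rfl⟩ := Finset.mem_image.1 hx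
      obtain ⟨hs0, hsW, hsq⟩ := hmemS2.1 (Finset.mem_product.1 hts).2
      obtain ⟨k, hk, hka, -, μ, hμ, hks⟩ := Fr.exists_lev2_map hQ hn hq3 hs₀ hs₀0 hsW hs0
        (by rw [hsing₀ _ hs₀lab, hsq])
      have hk1 : Fr.a ∈ Fr.lab pr (Fr.sh k y₀) := hka ▸ Fr.mem_lab_lev pr hk hy₀a
      have hk2 : s ∈ Fr.lab pr (Fr.sh k y₀) := by
        have := Fr.lab_smul pr hpq (Fr.mem_lab_lev pr hk hs₀lab) μ⁻¹
        rwa [hks, inv_smul_smul₀ hμ] at this
      refine Finset.mem_biUnion.2 ⟨Fr.sh k y₀, Finset.mem_filter.2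
        ⟨Fr.orbF_sh (Fr.self_mem_orbF y₀) hk, hk1⟩, Finset.mem_sdiff.2
        ⟨(Fr.mem_labF pr).2 (add_mem (Fr.lab_smul pr hpq hk1 t) hk2), fun h => ?_⟩⟩
      obtain ⟨c, -, hc⟩ := Finset.mem_image.1 h
      refine hs0 ?_
      have hc' := congrArg (𝔅 Fr.a') hc
      simp [QuadraticMap.polar_add_right, QuadraticMap.polar_smul_right, Fr.a'a,
        (Fr.mem_W2.1 hsW).2.2] at hc'
      rw [hc'] at hc
      exact (add_eq_left.1 hc.symm)
    · refine Finset.card_biUnion_le.trans ?_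
      rw [← smul_eq_mul, ← Finset.sum_const]
      refine Finset.sum_le_sum fun y' hy' => ?_
      obtain ⟨hy'1, hy'2⟩ := Finset.mem_filter.1 hy'
      obtain ⟨k, hk, rfl⟩ := Fr.mem_orbF.1 hy'1
      rw [Finset.card_sdiff_of_subset, Finset.card_image_of_injective _ hinjA, Finset.card_univ,
        Fr.card_labF_sh pr hk]
      intro x hx
      obtain ⟨c, -, rfl⟩ := Finset.mem_image.1 hx
      exact (Fr.mem_labF pr).2 (Fr.lab_smul pr hpq hy'2 c)
  have ha : Fr.a ∈ (vals Q Fr.W 0).erase 0 :=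
    Finset.mem_erase.2 ⟨ha0, mem_vals.2 ⟨Fr.a_mem, Fr.qa⟩⟩
  have hcount := Fr.orbF_count hQ pr y₀ ha
  rw [show ((vals Q Fr.W 0).erase 0).filter (fun x => x ∈ Fr.lab pr y₀) =
    (Fr.labF pr y₀).erase 0 by
      ext x
      simp only [Finset.mem_filter, Finset.mem_erase, mem_vals, mem_labF]
      exact ⟨fun h => ⟨h.1.1, h.2⟩, fun h => ⟨⟨h.1, h.2.1, hsing₀ x h.2⟩, h.2⟩⟩,
    Finset.card_erase_of_mem ((Fr.mem_labF pr).2 (zero_mem _))] at hcount
  have htot := Fr.orbF_total hQ pr hpr y₀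
  rw [← hP, ← hσ] at hcount
  calc qF * σ * ((vals Q Fr.W 0).erase 0).card * S2.card
      = σ * ((vals Q Fr.W 0).erase 0).card * (qF * S2.card) := by ring
    _ ≤ σ * ((vals Q Fr.W 0).erase 0).card * (P.card * (σ - qF)) := Nat.mul_le_mul_left _ hcover
    _ = σ * (((vals Q Fr.W 0).erase 0).card * P.card) * (σ - qF) := by ring
    _ = σ * ((Fr.orbF y₀).card * (σ - 1)) * (σ - qF) := by rw [hcount]
    _ = (Fr.orbF y₀).card * σ * (σ - 1) * (σ - qF) := by ring
    _ ≤ _ := Nat.mul_le_mul_right _ (Nat.mul_le_mul_right _ htot)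

include hQ hn hpr hpq in
/-- A label set with singular and non-singular vectors, the singular ones perpendicular to all. -/
theorem mixed_bound {y : Fr.Orb Ω} {v u : ι → F} (hv : v ∈ Fr.lab pr y) (hv0 : v ≠ 0)
    (hqv : Q v = 0) (hu : u ∈ Fr.lab pr y) (hqu : Q u ≠ 0)
    (hrad : ∀ x ∈ Fr.lab pr y, Q x = 0 → ∀ z ∈ Fr.lab pr y, 𝔅 x z = 0) :
    ∃ U : Submodule F (ι → F), U ≤ Fr.W ∧ (∀ x ∈ U, Q x = 0) ∧ 2 ≤ (elts U).card ∧
      2 * qF * (elts U).card * ((vals Q Fr.W 0).erase 0).card ≤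
        Fintype.card Ω * ((elts U).card - 1) := by
  obtain ⟨g, hg, hgv, hy₀a, hy₀⟩ := Fr.exists_move pr hQ hv hv0
  rw [hqv, std, zero_smul, add_zero] at hgv hy₀a
  set y₀ := Fr.sh g y with hy₀d
  have hrad₀ : ∀ x ∈ Fr.lab pr y₀, Q x = 0 → ∀ z ∈ Fr.lab pr y₀, 𝔅 x z = 0 := by
    intro x hx hq z hz
    rw [← polar_mv g⁻¹ x z]
    exact hrad _ ((hy₀ x).1 hx) (by rw [quad_mv, hq]) _ ((hy₀ z).1 hz)
  set u₀ := mv g u
  have hu₀ : u₀ ∈ Fr.lab pr y₀ := Fr.mem_lab_lev pr hg hu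
  have hqu₀ : Q u₀ ≠ 0 := by rw [quad_mv]; exact hqu
  let U : Submodule F (ι → F) :=
    { carrier := {x | x ∈ Fr.lab pr y₀ ∧ Q x = 0}
      zero_mem' := ⟨zero_mem _, QuadraticMap.map_zero Q⟩
      add_mem' := fun {x x'} h h' => ⟨add_mem h.1 h'.1, by
        rw [QuadraticMap.map_add (⇑Q), h.2, h'.2, hrad₀ x h.1 h.2 x' h'.1, add_zero, add_zero]⟩
      smul_mem' := fun c x h => ⟨Fr.lab_smul pr hpq h.1 c, by
        rw [QuadraticMap.map_smul, h.2, smul_zero]⟩ }
  have hmemU : ∀ {x}, x ∈ U ↔ x ∈ Fr.lab pr y₀ ∧ Q x = 0 := Iff.rfl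
  have haU : Fr.a ∈ U := ⟨hy₀a, Fr.qa⟩
  have ha0 : Fr.a ≠ 0 := fun h => by
    have := Fr.aa'
    rw [h, QuadraticMap.polar_zero_left] at this
    exact zero_ne_one this
  refine ⟨U, fun x hx => hx.1.1, fun x hx => hx.2, ?_, ?_⟩
  · exact Finset.one_lt_card.2 ⟨0, mem_elts.2 (zero_mem _), Fr.a, mem_elts.2 haU, ha0.symm⟩
  -- the singular vectors and a non-singular one
  have hqU : qF * (elts U).card ≤ (Fr.labF pr y₀).card := by
    have hinj : Set.InjOn (fun d : F × (ι → F) => d.1 • u₀ + d.2)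
        ↑((Finset.univ : Finset F) ×ˢ elts U) := by
      rintro ⟨t, s⟩ hs ⟨t', s'⟩ hs' h
      simp only [Finset.coe_product, Set.mem_prod, Finset.mem_coe, mem_elts] at hs hs'
      simp only at h
      have h1 : (t - t') • u₀ = s' - s := by linear_combination (norm := module) h
      have h2 := congrArg (fun x => Q x) h1
      simp only [QuadraticMap.map_smul, (sub_mem hs'.2 hs.2 : s' - s ∈ U).2, smul_eq_mul] at h2
      have ht : t = t' := sub_eq_zero.1
        (mul_self_eq_zero.1 ((mul_eq_zero.1 h2).resolve_right hqu₀))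
      subst ht
      rw [add_right_inj] at h
      exact Prod.ext rfl h
    rw [← Finset.card_univ, ← Finset.card_product, ← Finset.card_image_of_injOn hinj]
    refine Finset.card_le_card fun x hx => ?_
    obtain ⟨⟨t, s⟩, hts, rfl⟩ := Finset.mem_image.1 hx
    exact (Fr.mem_labF pr).2 (add_mem (Fr.lab_smul pr hpq hu₀ t)
      (mem_elts.1 (Finset.mem_product.1 hts).2).1)
  set P := (Fr.orbF y₀).filter fun y' => Fr.a ∈ Fr.lab pr y' with hP
  have hP2 : 2 ≤ P.card := by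
    by_contra! hlt
    have hfix : ∀ k ∈ Fr.Lev, mv k Fr.a = Fr.a → Fr.sh k y₀ = y₀ := fun k hk hka =>
      Finset.card_le_one.1 (Nat.le_of_lt_succ hlt) _ (Finset.mem_filter.2
        ⟨Fr.orbF_sh (Fr.self_mem_orbF y₀) hk, hka ▸ Fr.mem_lab_lev pr hk hy₀a⟩) _
        (Finset.mem_filter.2 ⟨Fr.self_mem_orbF y₀, hy₀a⟩)
    set u₂ := u₀ - 𝔅 Fr.a' u₀ • Fr.a
    have hau₀ : 𝔅 Fr.a u₀ = 0 := hrad₀ _ hy₀a Fr.qa _ hu₀
    have hu₂ : u₂ ∈ Fr.W2 := ⟨sub_mem hu₀.1 (Fr.W.smul_mem _ Fr.a_mem), mem_perp2.2 ⟨by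
        simp [u₂, QuadraticMap.polar_sub_right, QuadraticMap.polar_smul_right, Fr.aa, hau₀], by
        simp [u₂, QuadraticMap.polar_sub_right, QuadraticMap.polar_smul_right, Fr.a'a]⟩⟩
    have hu₂lab : u₂ ∈ Fr.lab pr y₀ := sub_mem hu₀ (Fr.lab_smul pr hpq hy₀a _)
    have hu₂0 : u₂ ≠ 0 := fun h => hqu₀ (by
      rw [sub_eq_zero.1 h, QuadraticMap.map_smul, Fr.qa, smul_zero])
    obtain ⟨x, hx, hqx, hxr⟩ : ∃ x ∈ Fr.W2, Q x = 0 ∧ 𝔅 x u₂ ≠ 0 := by
      by_contra! h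
      refine hu₂0 (Fr.sepW2 hQ u₂ hu₂ fun v hv => ?_)
      have hb := h _ Fr.b_mem2 Fr.qb
      have hb' := h _ Fr.b'_mem2 Fr.qb'
      set v₃ := v - 𝔅 Fr.b' v • Fr.b - 𝔅 Fr.b v • Fr.b'
      have hv₃b : 𝔅 Fr.b v₃ = 0 ∧ 𝔅 Fr.b' v₃ = 0 := by
        constructor <;>
          simp [v₃, QuadraticMap.polar_sub_right, QuadraticMap.polar_smul_right, Fr.qb, Fr.qb',
            Fr.bb', Fr.b'b]
      have hv₃ : v₃ ∈ Fr.W2 :=
        sub_mem (sub_mem hv (Fr.W2.smul_mem _ Fr.b_mem2)) (Fr.W2.smul_mem _ Fr.b'_mem2)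
      have h3 := h (Fr.b + v₃ + (-Q v₃) • Fr.b')
        (add_mem (add_mem Fr.b_mem2 hv₃) (Fr.W2.smul_mem _ Fr.b'_mem2)) (by
          simp [QuadraticMap.map_add (⇑Q), QuadraticMap.map_smul, Fr.qb, Fr.qb',
            QuadraticMap.polar_add_left, QuadraticMap.polar_smul_right, Fr.bb', hv₃b.1,
            QuadraticMap.polar_comm (⇑Q) v₃ Fr.b', hv₃b.2])
      rw [QuadraticMap.polar_add_left, QuadraticMap.polar_add_left, hb,
        QuadraticMap.polar_smul_left, hb', smul_zero, add_zero, zero_add] at h3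
      rw [QuadraticMap.polar_comm, show v = v₃ + 𝔅 Fr.b' v • Fr.b + 𝔅 Fr.b v • Fr.b' by
          simp only [v₃]; module,
        QuadraticMap.polar_add_left, QuadraticMap.polar_add_left, QuadraticMap.polar_smul_left,
        QuadraticMap.polar_smul_left, h3, hb, hb', smul_zero, smul_zero, add_zero, add_zero]
    obtain ⟨x', hx', hqx', hxx'⟩ := exists_partner_in (K := Fr.W2) hx hqx ⟨u₂, hu₂, hxr⟩
    set T := Fr.W2 ⊓ perp2 Q x x'
    have hTcard : (elts T).card = qF ^ (nι - 6) := by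
      have h1 := (card_split hx hx' hqx hqx' hxx').1
      rw [Fr.six_le.2.2.1, show nι - 4 = 2 + (nι - 6) by omega, pow_add] at h1
      exact (Nat.eq_of_mul_eq_mul_left (by positivity) h1).symm
    obtain ⟨t₁, ht₁, t₂, ht₂, ht12⟩ : ∃ t₁ ∈ T, ∃ t₂ ∈ T, 𝔅 t₁ t₂ ≠ 0 := by
      by_contra! h
      have hsub : elts T ⊆ {0} := fun w hw => Finset.mem_singleton.2
        (sep_inter_perp2 (Fr.sepW2 hQ) hx hx' hqx hqx' hxx' w (mem_elts.1 hw) fun w' hw' =>
          h w (mem_elts.1 hw) w' hw')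
      have := Finset.card_le_card hsub
      rw [hTcard, Finset.card_singleton] at this
      have : 2 ≤ qF ^ (nι - 6) := (two_le_q (F := F)).trans (Nat.le_self_pow (by omega) _)
      omega
    set t₃ := (𝔅 t₁ t₂)⁻¹ • t₂
    have ht₃ : t₃ ∈ T := T.smul_mem _ ht₂
    have h13 : 𝔅 t₁ t₃ = 1 := by
      rw [QuadraticMap.polar_smul_right, smul_eq_mul, inv_mul_cancel₀ ht12]
    obtain ⟨hxW, hax, -⟩ := Fr.mem_W2.1 hx
    have hfixw : ∀ {w}, w ∈ T → Fr.sh (rt Q x w) y₀ = y₀ := by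
      intro w hw
      obtain ⟨hwW, haw, -⟩ := Fr.mem_W2.1 hw.1
      exact hfix _ (Fr.rt_mem_Lev hxW hqx hwW hw.2.1) (mv_rt_fix hqx hw.2.1
        (by rw [QuadraticMap.polar_comm, hax]) (by rw [QuadraticMap.polar_comm, haw]))
    have hxlab := Fr.smul_mem_lab_of_fix pr hxW hqx (Fr.mem_W2.1 ht₁.1).1 (Fr.mem_W2.1 ht₃.1).1
      ht₁.2.1 ht₃.2.1 h13 (fun c => hfixw (T.smul_mem c ht₁)) (hfixw ht₃) hu₂lab hxr 1
    rw [one_smul] at hxlab
    exact hxr (hrad₀ x hxlab hqx _ hu₂lab)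
  have ha : Fr.a ∈ (vals Q Fr.W 0).erase 0 :=
    Finset.mem_erase.2 ⟨ha0, mem_vals.2 ⟨Fr.a_mem, Fr.qa⟩⟩
  have hcount := Fr.orbF_count hQ pr y₀ ha
  rw [show ((vals Q Fr.W 0).erase 0).filter (fun x => x ∈ Fr.lab pr y₀) = (elts U).erase 0 by
      ext x
      simp only [Finset.mem_filter, Finset.mem_erase, mem_vals, mem_elts, hmemU]
      exact ⟨fun h => ⟨h.1.1, h.2, h.1.2.2⟩, fun h => ⟨⟨h.1, h.2.1.1, h.2.2⟩, h.2.1⟩⟩,
    Finset.card_erase_of_mem (mem_elts.2 (zero_mem _))] at hcount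
  have htot := (Nat.mul_le_mul_left (Fr.orbF y₀).card hqU).trans (Fr.orbF_total hQ pr hpr y₀)
  rw [← hP] at hcount
  calc 2 * qF * (elts U).card * ((vals Q Fr.W 0).erase 0).card
      = qF * (elts U).card * (((vals Q Fr.W 0).erase 0).card * 2) := by ring
    _ ≤ qF * (elts U).card * (((vals Q Fr.W 0).erase 0).card * P.card) :=
        Nat.mul_le_mul_left _ (Nat.mul_le_mul_left _ hP2)
    _ = (Fr.orbF y₀).card * (qF * (elts U).card) * ((elts U).card - 1) := by rw [← hcount]; ring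
    _ ≤ _ := Nat.mul_le_mul_right _ htot

include hQ hn hpr hpq hq3 in
/-- A label set without singular vectors. -/
theorem aniso_bound {y : Fr.Orb Ω} {u z : ι → F} (hu : u ∈ Fr.lab pr y) (hu0 : u ≠ 0)
    (hz : z ∈ Fr.lab pr y) (hzu : ∀ c : F, z ≠ c • u)
    (han : ∀ x ∈ Fr.lab pr y, Q x = 0 → x = 0) :
    qF ^ 2 * qF ^ (nι - 6) * ((qF * qF - 1) * qF ^ (nι - 5)) ≤ Fintype.card Ω * (qF + 1) := by
  obtain ⟨g, hg, hgu, hy₀u, hy₀⟩ := Fr.exists_move pr hQ hu hu0
  set c := Q u with hc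
  have hc0 : c ≠ 0 := fun h => hu0 (han u hu h)
  set u₀ := Fr.std c
  set y₀ := Fr.sh g y with hy₀d
  have han₀ : ∀ x ∈ Fr.lab pr y₀, Q x = 0 → x = 0 := fun x hx hq => by
    have := han _ ((hy₀ x).1 hx) (by rw [quad_mv, hq])
    rw [← mv_mv_inv g x, this, mv_zero]
  have hu₀0 : u₀ ≠ 0 := Fr.std_ne_zero c
  have hau₀ : 𝔅 Fr.a u₀ = c := by
    simp [u₀, std, QuadraticMap.polar_add_right, QuadraticMap.polar_smul_right, Fr.aa, Fr.aa']
  set z₀ := mv g z
  have hz₀ : z₀ ∈ Fr.lab pr y₀ := Fr.mem_lab_lev pr hg hz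
  set z₁ := z₀ - (𝔅 Fr.a z₀ / c) • u₀
  have hz₁ : z₁ ∈ Fr.lab pr y₀ := sub_mem hz₀ (Fr.lab_smul pr hpq hy₀u _)
  have hz₁u : ∀ k : F, z₁ ≠ k • u₀ := fun k h => hzu (k + 𝔅 Fr.a z₀ / c)
    (mv_injective g (by rw [mv_smul, hgu, add_smul, ← h]; simp only [z₁]; module))
  have haz₁ : 𝔅 Fr.a z₁ = 0 := by
    simp [z₁, QuadraticMap.polar_sub_right, QuadraticMap.polar_smul_right, hau₀, hc0]
  -- the plane
  have hcard : (Fr.labF pr y₀).card = qF ^ 2 := by
    refine le_antisymm ?_ ?_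
    · let S : Submodule F (ι → F) :=
        { carrier := {x | x ∈ Fr.lab pr y₀}
          zero_mem' := (Fr.lab pr y₀).zero_mem
          add_mem' := fun h h' => (Fr.lab pr y₀).add_mem h h'
          smul_mem' := fun k x h => Fr.lab_smul pr hpq h k }
      rw [show Fr.labF pr y₀ = elts S by ext x; rw [mem_labF, mem_elts]; rfl, card_elts]
      refine Nat.pow_le_pow_right Fintype.card_pos ?_
      by_contra! h3
      obtain ⟨w, hw, hw0, hqw⟩ := exists_singular hQ S h3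
      exact hw0 (han₀ w hw hqw)
    · have hinj : Function.Injective fun d : F × F => d.1 • u₀ + d.2 • z₁ := by
        rintro ⟨ξ, η⟩ ⟨ξ', η'⟩ h
        simp only at h
        have hξ : ξ = ξ' := by
          have := congrArg (𝔅 Fr.a) h
          simp [QuadraticMap.polar_add_right, QuadraticMap.polar_smul_right, hau₀, haz₁] at this
          exact this.resolve_right hc0
        subst hξ
        rw [add_right_inj] at h
        exact Prod.ext rfl (smul_left_injective F (fun h0 => hz₁u 0 (by rw [zero_smul]; exact h0)) h)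
      rw [sq, ← Fintype.card_prod, ← Finset.card_univ, ← Finset.card_image_of_injective _ hinj]
      refine Finset.card_le_card fun x hx => ?_
      obtain ⟨d, -, rfl⟩ := Finset.mem_image.1 hx
      exact (Fr.mem_labF pr).2 (add_mem (Fr.lab_smul pr hpq hy₀u _) (Fr.lab_smul pr hpq hz₁ _))
  have hz₁0 : z₁ ≠ 0 := fun h => hz₁u 0 (by rw [zero_smul]; exact h)
  set T := (vals Q Fr.W c).erase 0
  -- at most `q + 1` vectors of the value `c`
  have hTfilter : (T.filter fun x => x ∈ Fr.lab pr y₀).card ≤ qF + 1 := by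
    by_cases hq2 : qF = 2
    · refine le_trans (Finset.card_le_card (t := (Fr.labF pr y₀).erase 0) fun x hx => ?_) ?_
      · obtain ⟨hx1, hx2⟩ := Finset.mem_filter.1 hx
        exact Finset.mem_erase.2 ⟨(Finset.mem_erase.1 hx1).1, (Fr.mem_labF pr).2 hx2⟩
      · rw [Finset.card_erase_of_mem ((Fr.mem_labF pr).2 (zero_mem _)), hcard, hq2]
        norm_num
    have hp3 : (p : F) = (3 : F) := by
      have : p = 3 := by have := two_le_q (F := F); omega
      rw [this]; norm_num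
    rw [CharP.cast_eq_zero] at hp3
    have h2 : (2 : F) ≠ 0 := fun h => one_ne_zero (by linear_combination -hp3 - h : (1 : F) = 0)
    set z' := z₁ + (𝔅 u₀ z₁ / c) • u₀ with hz'
    have hz'lab : z' ∈ Fr.lab pr y₀ := add_mem hz₁ (Fr.lab_smul pr hpq hy₀u _)
    have hQu₀ : Q u₀ = c := Fr.quad_std c
    have huu₀ : 𝔅 u₀ u₀ = 2 * c := by rw [polar_self' Q u₀, hQu₀]
    have hB : 𝔅 u₀ z' = 0 := by
      simp only [z', QuadraticMap.polar_add_right, QuadraticMap.polar_smul_right, huu₀, smul_eq_mul]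
      field_simp
      linear_combination -(𝔅 u₀ z₁) * hp3
    have hz'u : ∀ k : F, z' ≠ k • u₀ := fun k h => hz₁u (k - 𝔅 u₀ z₁ / c) (by
      rw [sub_smul, ← h, hz', add_sub_cancel_right])
    have hqz'0 : Q z' ≠ 0 := fun h => hz'u 0 (by rw [zero_smul]; exact han₀ _ hz'lab h)
    have hqz' : Q z' = c := by
      have hcc := sq_eq_one_of_le_three hq3 hc0
      have hzz := sq_eq_one_of_le_three hq3 hqz'0
      rcases mul_self_eq_mul_self_iff.1 (hzz.trans hcc.symm) with h | h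
      · exact h
      · exfalso
        refine hz'u (-1) ?_
        have h0 := han₀ _ (add_mem hy₀u hz'lab) (by
          rw [QuadraticMap.map_add (⇑Q), hQu₀, h, hB]; ring)
        rw [neg_smul, one_smul]
        exact eq_neg_of_add_eq_zero_right h0
    refine le_trans (Finset.card_le_card (t := {u₀, -u₀, z', -z'}) fun x hx => ?_) ?_
    · obtain ⟨hx1, hx2⟩ := Finset.mem_filter.1 hx
      have hqx := (mem_vals.1 (Finset.mem_erase.1 hx1).2).2
      obtain ⟨ξ, η, rfl⟩ := Fr.plane_repr pr hpq hcard hy₀u hz'lab hu₀0 hz'u hx2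
      rw [QuadraticMap.map_add (⇑Q), QuadraticMap.map_smul, QuadraticMap.map_smul, hQu₀, hqz',
        QuadraticMap.polar_smul_left, QuadraticMap.polar_smul_right, hB] at hqx
      simp only [smul_eq_mul, mul_zero, add_zero] at hqx
      have hone : ξ * ξ + η * η = 1 := mul_right_cancel₀ hc0 (by linear_combination hqx)
      by_cases hξ : ξ = 0
      · subst hξ
        rw [mul_zero, zero_add, mul_self_eq_one_iff] at hone
        rcases hone with rfl | rfl <;> simp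
      · rw [sq_eq_one_of_le_three hq3 hξ, add_eq_left, mul_self_eq_zero] at hone
        subst hone
        rcases mul_self_eq_one_iff.1 (sq_eq_one_of_le_three hq3 hξ) with rfl | rfl <;> simp
    · have := two_le_q (F := F)
      exact Finset.card_le_four.trans (by omega)
  -- the images through `std c`
  set z₂ := z₁ - 𝔅 Fr.a' z₁ • Fr.a with hz₂d
  have hz₂ : z₂ ∈ Fr.W2 := ⟨sub_mem hz₁.1 (Fr.W.smul_mem _ Fr.a_mem), mem_perp2.2 ⟨by
      simp [z₂, QuadraticMap.polar_sub_right, QuadraticMap.polar_smul_right, Fr.aa, haz₁], by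
      simp [z₂, QuadraticMap.polar_sub_right, QuadraticMap.polar_smul_right, Fr.a'a]⟩⟩
  have hqz₂ : Q z₂ = Q z₁ := by
    conv_rhs => rw [show z₁ = z₂ + 𝔅 Fr.a' z₁ • Fr.a from (sub_add_cancel _ _).symm,
      QuadraticMap.map_add (⇑Q), QuadraticMap.map_smul, Fr.qa, QuadraticMap.polar_smul_right,
      QuadraticMap.polar_comm (⇑Q) z₂ Fr.a, (Fr.mem_W2.1 hz₂).2.1]
    simp
  have hz₂q : Q z₂ ≠ 0 := by rw [hqz₂]; exact fun h => hz₁0 (han₀ _ hz₁ h)
  have hz₂0 : z₂ ≠ 0 := fun h => hz₂q (by rw [h, QuadraticMap.map_zero])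
  set P := (Fr.orbF y₀).filter fun y' => u₀ ∈ Fr.lab pr y' with hP
  have hPcard : qF ^ (nι - 6) ≤ P.card := by
    set S := vals Q Fr.W2 (Q z₂)
    have hS : (qF - 1) * qF ^ (nι - 6) ≤ S.card := by
      rw [(Fr.card_vals_W (Q z₂)).2.1]; exact Nat.le_add_right _ _
    have hmove : ∀ s ∈ S, ∃ y' ∈ P, ∃ t : F, ∃ μ : F, μ ≠ 0 ∧ t • Fr.a + μ • s ∈ Fr.lab pr y' := by
      intro s hs
      obtain ⟨hsW, hsq⟩ := mem_vals.1 hs
      obtain ⟨k, hk, hka, hka', μ, hμ, hks⟩ := Fr.exists_lev2_map hQ hn hq3 hz₂ hz₂0 hsW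
        (fun h => hz₂q (by rw [← hsq, h, QuadraticMap.map_zero])) hsq.symm
      refine ⟨Fr.sh k y₀, Finset.mem_filter.2 ⟨Fr.orbF_sh (Fr.self_mem_orbF y₀) hk, ?_⟩,
        𝔅 Fr.a' z₁, μ, hμ, ?_⟩
      · have := Fr.mem_lab_lev pr hk hy₀u
        rwa [show mv k u₀ = u₀ by simp only [u₀, std, mv_add, mv_smul, hka, hka']] at this
      · have := Fr.mem_lab_lev pr hk hz₁
        rwa [show mv k z₁ = 𝔅 Fr.a' z₁ • Fr.a + μ • s by
          conv_lhs => rw [show z₁ = 𝔅 Fr.a' z₁ • Fr.a + z₂ by simp only [z₂]; module]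
          rw [mv_add, mv_smul, hka, hks]] at this
    choose f hf t μ hμ hmem using hmove
    refine Nat.le_of_mul_le_mul_right (c := qF - 1) ?_ (by have := two_le_q (F := F); omega)
    rw [mul_comm]
    refine hS.trans ?_
    rw [← Finset.card_attach, mul_comm]
    refine Finset.card_le_mul_card_image_of_maps_to (f := fun s => f s.1 s.2)
      (fun s _ => hf s.1 s.2) (qF - 1) fun y' hy' => ?_
    by_cases hne : (S.attach.filter fun s => f s.1 s.2 = y').Nonempty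
    swap
    · rw [Finset.not_nonempty_iff_eq_empty] at hne
      exact (Finset.card_eq_zero.2 hne).le.trans (Nat.zero_le _)
    obtain ⟨s₁, hs₁⟩ := hne
    have hy'mem := Finset.mem_filter.1 hy'
    obtain ⟨k, hk, hky⟩ := Fr.mem_orbF.1 hy'mem.1
    have hcard' : (Fr.labF pr y').card = qF ^ 2 := by
      rw [← hky, Fr.card_labF_sh pr hk, hcard]
    have hs₁W := Fr.mem_W2.1 (mem_vals.1 s₁.2).1
    have hw₁ : t s₁.1 s₁.2 • Fr.a + μ s₁.1 s₁.2 • s₁.1 ∈ Fr.lab pr y' :=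
      (Finset.mem_filter.1 hs₁).2 ▸ hmem s₁.1 s₁.2
    have hs₁0 : s₁.1 ≠ 0 := fun h => hz₂q (by
      rw [← (mem_vals.1 s₁.2).2, h, QuadraticMap.map_zero])
    have hw₁u : ∀ k : F, t s₁.1 s₁.2 • Fr.a + μ s₁.1 s₁.2 • s₁.1 ≠ k • u₀ := by
      intro k h
      have h' := congrArg (𝔅 Fr.a) h
      simp [QuadraticMap.polar_add_right, QuadraticMap.polar_smul_right, Fr.aa, hs₁W.2.1, hau₀,
        hc0] at h'
      rw [h', zero_smul] at h
      have h'' := congrArg (𝔅 Fr.a') h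
      simp [QuadraticMap.polar_add_right, QuadraticMap.polar_smul_right, Fr.a'a, hs₁W.2.2] at h''
      rw [h'', zero_smul, zero_add, smul_eq_zero] at h
      exact h.elim (hμ _ _) hs₁0
    refine le_trans (Finset.card_le_card_of_injOn (fun s => s.1)
      (t := Finset.univ.image fun k : Fˣ => (k : F) • s₁.1) ?_ fun s _ s' _ h => Subtype.ext h) ?_
    · intro s hs
      obtain ⟨-, hsy⟩ := Finset.mem_filter.1 (Finset.mem_coe.1 hs)
      have hw := hsy ▸ hmem s.1 s.2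
      obtain ⟨ξ, η, he⟩ := Fr.plane_repr pr hpq hcard' hy'mem.2 hw₁ hu₀0 hw₁u hw
      have hsW := Fr.mem_W2.1 (mem_vals.1 s.2).1
      have h' := congrArg (𝔅 Fr.a) he
      simp [QuadraticMap.polar_add_right, QuadraticMap.polar_smul_right, Fr.aa, hs₁W.2.1, hsW.2.1,
        hau₀, hc0] at h'
      rw [h', zero_smul, zero_add] at he
      have h'' := congrArg (𝔅 Fr.a') he
      simp [QuadraticMap.polar_add_right, QuadraticMap.polar_smul_right, Fr.a'a, hs₁W.2.2,
        hsW.2.2] at h''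
      have hs_eq : μ s.1 s.2 • s.1 = (η * μ s₁.1 s₁.2) • s₁.1 := by
        rw [h''] at he
        linear_combination (norm := module) he
      have hs0 : s.1 ≠ 0 := fun h => hz₂q (by
        rw [← (mem_vals.1 s.2).2, h, QuadraticMap.map_zero])
      have hk0 : η * μ s₁.1 s₁.2 / μ s.1 s.2 ≠ 0 := fun h => by
        rw [div_eq_zero_iff, or_iff_left (hμ _ _)] at h
        rw [h, zero_smul, smul_eq_zero] at hs_eq
        exact hs_eq.elim (hμ _ _) hs0
      refine Finset.mem_coe.2 (Finset.mem_image.2 ⟨Units.mk0 _ hk0, Finset.mem_univ _, ?_⟩)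
      rw [Units.val_mk0, div_eq_inv_mul, mul_smul, ← hs_eq, inv_smul_smul₀ (hμ _ _)]
    · refine Finset.card_image_le.trans ?_
      rw [Finset.card_univ, Fintype.card_units]
  have hu₀T : u₀ ∈ T := Finset.mem_erase.2 ⟨hu₀0, mem_vals.2 ⟨Fr.std_mem c, Fr.quad_std c⟩⟩
  have hcount := Fr.orbF_count hQ pr y₀ hu₀T
  rw [← hP] at hcount
  have htot := Fr.orbF_total hQ pr hpr y₀
  rw [hcard] at htot
  have hT : (qF * qF - 1) * qF ^ (nι - 5) ≤ T.card := by
    obtain ⟨X, S0, rfl, -, -, -, -, -, hN, -⟩ := Fr.numerics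
    simp only [T]
    rw [Finset.erase_eq_of_notMem fun h => hc0 (by
      rw [← (mem_vals.1 h).2, QuadraticMap.map_zero])]
    exact hN c
  calc qF ^ 2 * qF ^ (nι - 6) * ((qF * qF - 1) * qF ^ (nι - 5))
      ≤ qF ^ 2 * (T.card * P.card) := by
        rw [mul_assoc, mul_comm T.card]
        exact Nat.mul_le_mul_left _ (Nat.mul_le_mul hPcard hT)
    _ = (Fr.orbF y₀).card * qF ^ 2 * (T.filter fun x => x ∈ Fr.lab pr y₀).card := by
        rw [← hcount]; ring
    _ ≤ _ := Nat.mul_le_mul htot hTfilter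

end Frame

end CfsgLib.MinDegree.Orth
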