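import Cfsg.Agent.MinDegree.OrthFlat
import Cfsg.Agent.MinDegree.OrthCocycle

/-!
# Label sets over a field with two or three elements

Over a prime field the label sets are subspaces. One with two independent vectors that is not all of
`W` has so many images under the complement of the root group that the action is large.
-/

set_option autoImplicit false
set_option linter.unusedSectionVars false

namespace CfsgLib.MinDegree.Orth

open Matrix Module CfsgLib.Spinor CfsgLib.Forms CfsgLib.Forms4 CfsgLib.OrthMax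
open scoped Classical

variable {F : Type*} [Field F] {ι : Type} [Fintype ι] [DecidableEq ι] {Q : QuadraticForm F (ι → F)}
  [Fintype F]

set_option quotPrecheck false in
local notation "𝔅" => QuadraticMap.polar (⇑Q)
local notation "qF" => Fintype.card F
local notation "nι" => Fintype.card ι

theorem exists_natCast_eq {p : ℕ} [Fact p.Prime] [CharP F p] (hpq : qF = p) (c : F) :
    ∃ j : ℕ, (j : F) = c := by
  have hb := (Fintype.bijective_iff_injective_and_card (ZMod.castHom (dvd_refl p) F)).2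
    ⟨RingHom.injective _, by rw [ZMod.card, hpq]⟩
  obtain ⟨z, rfl⟩ := hb.2 c
  exact ⟨z.val, by rw [← map_natCast (ZMod.castHom (dvd_refl p) F), ZMod.natCast_zmod_val]⟩

theorem sq_eq_one_of_le_three (hq3 : qF ≤ 3) {x : F} (hx : x ≠ 0) : x * x = 1 := by
  have h := FiniteField.pow_card_sub_one_eq_one x hx
  have h2 := two_le_q (F := F)
  rcases (show qF - 1 = 1 ∨ qF - 1 = 2 by omega) with h1 | h1 <;> rw [h1] at h
  · rw [pow_one] at h
    rw [h, one_mul]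
  · rw [← h, pow_two]

namespace Frame

variable (Fr : Frame Q) (hQ : (QuadraticMap.polarBilin Q).Nondegenerate) (hn : 7 ≤ Fintype.card ι)

include hQ hn in
theorem exists_pair_W3 : ∃ t ∈ Fr.W3, ∃ t' ∈ Fr.W3, 𝔅 t t' = 1 := by
  obtain ⟨t, ht, t', ht', hne⟩ : ∃ t ∈ Fr.W3, ∃ t' ∈ Fr.W3, 𝔅 t t' ≠ 0 := by
    by_contra! h
    have hsub : elts Fr.W3 ⊆ {0} := fun z hz => Finset.mem_singleton.2
      (Fr.sepW3 hQ z (mem_elts.1 hz) fun w hw => h z (mem_elts.1 hz) w hw)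
    have := Finset.card_le_card hsub
    rw [Fr.six_le.2.2.2, Finset.card_singleton] at this
    have : 2 ≤ qF ^ (nι - 6) := (two_le_q (F := F)).trans (Nat.le_self_pow (by omega) _)
    omega
  exact ⟨t, ht, _, Fr.W3.smul_mem (𝔅 t t')⁻¹ ht',
    by rw [QuadraticMap.polar_smul_right, smul_eq_mul, inv_mul_cancel₀ hne]⟩

include hQ hn in
/-- Points of `W2` move to standard ones. -/
theorem exists_lev2_to_std {z : ι → F} (hz : z ∈ Fr.W2) (hz0 : z ≠ 0) :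
    ∃ g ∈ Fr.Lev, mv g Fr.a = Fr.a ∧ mv g Fr.a' = Fr.a' ∧
      ∃ l γ : F, l ≠ 0 ∧ mv g z = l • (Fr.b + γ • Fr.b') := by
  let P : TwoPairs Q := ⟨Fr.b, Fr.b', Fr.a, Fr.a', Fr.qb, Fr.qb', Fr.qa, Fr.qa', Fr.bb', Fr.aa',
    Fr.ba, Fr.ba', Fr.b'a, Fr.b'a'⟩
  have hW : ∀ {v}, v ∈ Fr.W3 → P.InW v := fun hv => hv.2
  have hroot : ∀ {x w}, (x = Fr.b ∨ x = Fr.b') → w ∈ Fr.W3 → Q x = 0 ∧ 𝔅 x w = 0 ∧
      rt Q x w ∈ Fr.Lev ∧ mv (rt Q x w) Fr.a = Fr.a ∧ mv (rt Q x w) Fr.a' = Fr.a' := by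
    intro x w hx hw
    obtain ⟨hw2, hbw, hb'w⟩ := Fr.mem_W3.1 hw
    obtain ⟨hwW, haw, ha'w⟩ := Fr.mem_W2.1 hw2
    rw [QuadraticMap.polar_comm] at haw ha'w
    rcases hx with rfl | rfl
    · exact ⟨Fr.qb, hbw, Fr.rt_mem_Lev Fr.b_mem Fr.qb hwW hbw, mv_rt_fix Fr.qb hbw Fr.ba haw,
        mv_rt_fix Fr.qb hbw Fr.ba' ha'w⟩
    · exact ⟨Fr.qb', hb'w, Fr.rt_mem_Lev Fr.b'_mem Fr.qb' hwW hb'w,
        mv_rt_fix Fr.qb' hb'w Fr.b'a haw, mv_rt_fix Fr.qb' hb'w Fr.b'a' ha'w⟩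
  have step : ∀ (α β : F) (v : ι → F), α ≠ 0 → v ∈ Fr.W3 →
      ∃ g ∈ Fr.Lev, mv g Fr.a = Fr.a ∧ mv g Fr.a' = Fr.a' ∧
        ∃ l γ : F, l ≠ 0 ∧ mv g (α • Fr.b + β • Fr.b' + v) = l • (Fr.b + γ • Fr.b') := by
    intro α β v hα hv
    have hw : (-α⁻¹) • v ∈ Fr.W3 := Fr.W3.smul_mem _ hv
    obtain ⟨hq, hbw, hL, ha, ha'⟩ := hroot (x := Fr.b') (Or.inr rfl) hw
    set β' := β - 𝔅 ((-α⁻¹) • v) v - Q ((-α⁻¹) • v) * α
    have h1 : mv (rt Q Fr.b' ((-α⁻¹) • v)) (α • Fr.b + β • Fr.b' + v) =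
        α • Fr.b + β' • Fr.b' := by
      rw [mv, mat_rt hq hbw]
      refine (P.eich_f_apply α β (hW hv) (hW hw)).trans ?_
      rw [smul_smul, mul_neg, mul_inv_cancel₀ hα, neg_one_smul, add_neg_cancel, add_zero]
    refine ⟨_, hL, ha, ha', α, β' / α, hα, ?_⟩
    rw [h1, smul_add, smul_smul, mul_div_cancel₀ _ hα]
  obtain ⟨v, hv, hd⟩ : ∃ v ∈ Fr.W3, z = 𝔅 Fr.b' z • Fr.b + 𝔅 Fr.b z • Fr.b' + v := by
    refine ⟨z - 𝔅 Fr.b' z • Fr.b - 𝔅 Fr.b z • Fr.b', ⟨sub_mem (sub_mem hz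
      (Fr.W2.smul_mem _ Fr.b_mem2)) (Fr.W2.smul_mem _ Fr.b'_mem2), mem_perp2.2 ⟨?_, ?_⟩⟩,
      by module⟩ <;>
    simp [QuadraticMap.polar_sub_right, QuadraticMap.polar_smul_right, Fr.bb, Fr.b'b'', Fr.bb',
      Fr.b'b]
  set α := 𝔅 Fr.b' z
  set β := 𝔅 Fr.b z
  rw [hd] at hz0 ⊢
  by_cases hα : α = 0
  swap
  · exact step α β v hα hv
  obtain ⟨w, hw, hne⟩ : ∃ w ∈ Fr.W3, α - 𝔅 w v - Q w * β ≠ 0 := by
    by_contra! h
    obtain ⟨t, ht, t', ht', htt⟩ := Fr.exists_pair_W3 hQ hn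
    have hβ : β = 0 := by
      have h3 := h (t + t') (Fr.W3.add_mem ht ht')
      rw [QuadraticMap.polar_add_left, QuadraticMap.map_add (⇑Q), htt] at h3
      linear_combination h _ ht + h _ ht' - h3 - hα
    have hv0 : v = 0 := Fr.sepW3 hQ v hv fun w hw => by
      have := h w hw
      rw [hα, hβ] at this
      rw [QuadraticMap.polar_comm]
      linear_combination -this
    exact hz0 (by rw [hα, hβ, hv0]; simp)
  obtain ⟨hq, hbw, hL, ha, ha'⟩ := hroot (x := Fr.b) (Or.inl rfl) hw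
  obtain ⟨g, hg, hga, hga', l, γ, hl, hgv⟩ := step (α - 𝔅 w v - Q w * β) β (v + β • w) hne
    (Fr.W3.add_mem hv (Fr.W3.smul_mem _ hw))
  refine ⟨g * rt Q Fr.b w, mul_mem hg hL, by rw [mv_mul, ha, hga], by rw [mv_mul, ha', hga'],
    l, γ, hl, ?_⟩
  have h1 : mv (rt Q Fr.b w) (α • Fr.b + β • Fr.b' + v) =
      (α - 𝔅 w v - Q w * β) • Fr.b + β • Fr.b' + (v + β • w) := by
    rw [mv, mat_rt hq hbw]
    exact P.eich_e_apply α β (hW hv) (hW hw)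
  rw [mv_mul, h1, hgv]

include hQ hn in
/-- Transitivity on the points of `W2` of a given value, over a field with at most three elements. -/
theorem exists_lev2_map (hq3 : qF ≤ 3) {z s : ι → F} (hz : z ∈ Fr.W2) (hz0 : z ≠ 0)
    (hs : s ∈ Fr.W2) (hs0 : s ≠ 0) (h : Q z = Q s) :
    ∃ g ∈ Fr.Lev, mv g Fr.a = Fr.a ∧ mv g Fr.a' = Fr.a' ∧ ∃ μ : F, μ ≠ 0 ∧ mv g z = μ • s := by
  obtain ⟨g, hg, hga, hga', l, γ, hl, hgz⟩ := Fr.exists_lev2_to_std hQ hn hz hz0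
  obtain ⟨k, hk, hka, hka', l', γ', hl', hks⟩ := Fr.exists_lev2_to_std hQ hn hs hs0
  have hval : ∀ {e : EG Q} {x : ι → F} {l γ : F}, l ≠ 0 → mv e x = l • (Fr.b + γ • Fr.b') →
      γ = Q x := by
    intro e x l γ hl hx
    rw [← quad_mv e x, hx, QuadraticMap.map_smul, sq_eq_one_of_le_three hq3 hl, one_smul,
      QuadraticMap.map_add (⇑Q), QuadraticMap.map_smul, Fr.qb, Fr.qb', QuadraticMap.polar_smul_right,
      Fr.bb']
    simp
  rw [hval hl hgz, h, ← hval hl' hks] at hgz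
  refine ⟨k⁻¹ * g, mul_mem (inv_mem hk) hg, ?_, ?_, l / l', div_ne_zero hl hl', ?_⟩
  · rw [mv_mul, hga]
    conv_lhs => rw [← hka, mv_inv_mv]
  · rw [mv_mul, hga']
    conv_lhs => rw [← hka', mv_inv_mv]
  · rw [mv_mul, hgz, mv_smul]
    conv_lhs => rw [show Fr.b + γ' • Fr.b' = l'⁻¹ • mv k s by rw [hks, inv_smul_smul₀ hl'],
      mv_smul, mv_inv_mv, smul_smul, ← div_eq_mul_inv]

variable {Ω : Type*} [MulAction (EG Q) Ω] [Fintype Ω] {p : ℕ} (pr : F →+ ZMod p)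

/-- The images of an orbit under the complement. -/
noncomputable def orbF (y : Fr.Orb Ω) : Finset (Fr.Orb Ω) :=
  Finset.univ.filter fun y' => ∃ g ∈ Fr.Lev, Fr.sh g y = y'

theorem mem_orbF {y y' : Fr.Orb Ω} : y' ∈ Fr.orbF y ↔ ∃ g ∈ Fr.Lev, Fr.sh g y = y' := by
  simp [orbF]

theorem orbF_sh {y y' : Fr.Orb Ω} (h : y' ∈ Fr.orbF y) {g : EG Q} (hg : g ∈ Fr.Lev) :
    Fr.sh g y' ∈ Fr.orbF y := by
  obtain ⟨k, hk, rfl⟩ := Fr.mem_orbF.1 h
  exact Fr.mem_orbF.2 ⟨g * k, mul_mem hg hk, Fr.sh_mul hg y⟩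

theorem self_mem_orbF (y : Fr.Orb Ω) : y ∈ Fr.orbF y :=
  Fr.mem_orbF.2 ⟨1, one_mem _, Fr.sh_one y⟩

theorem mem_lab_sh_iff {g : EG Q} (hg : g ∈ Fr.Lev) {v : ι → F} {y : Fr.Orb Ω} :
    mv g v ∈ Fr.lab pr (Fr.sh g y) ↔ v ∈ Fr.lab pr y := by
  refine ⟨fun h => ?_, Fr.mem_lab_lev pr hg⟩
  have := Fr.mem_lab_lev pr (inv_mem hg) h
  rwa [Fr.sh_sh (Fr.scales_of_lev hg), mv_inv_mv] at this

variable (hpr : pr ≠ 0) [Fact p.Prime] [CharP F p] (hpq : Fintype.card F = p)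

include hQ in
/-- Counting the incidences of the images with a class of vectors. -/
theorem orbF_count (y : Fr.Orb Ω) {c : F} {v₀ : ι → F} (hv₀ : v₀ ∈ (vals Q Fr.W c).erase 0) :
    (Fr.orbF y).card * (((vals Q Fr.W c).erase 0).filter fun v => v ∈ Fr.lab pr y).card =
      ((vals Q Fr.W c).erase 0).card *
        ((Fr.orbF y).filter fun y' => v₀ ∈ Fr.lab pr y').card := by
  set T := (vals Q Fr.W c).erase 0 with hT
  have hmem : ∀ {v}, v ∈ T ↔ v ≠ 0 ∧ v ∈ Fr.W ∧ Q v = c := fun {v} => by simp [T, mem_vals]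
  have hTlev : ∀ {g}, g ∈ Fr.Lev → ∀ {v}, v ∈ T → mv g v ∈ T := by
    intro g hg v hv
    rw [hmem] at hv ⊢
    exact ⟨fun h => hv.1 (mv_injective g (h.trans (mv_zero g).symm)), Fr.mv_mem_W hg hv.2.1,
      by rw [quad_mv, hv.2.2]⟩
  have hinv : ∀ {g}, g ∈ Fr.Lev → ∀ z : Fr.Orb Ω, Fr.sh g (Fr.sh g⁻¹ z) = z := fun hg z => by
    rw [← Fr.sh_mul hg, mul_inv_cancel, Fr.sh_one]
  have hL : ∀ y' ∈ Fr.orbF y, (T.filter fun v => v ∈ Fr.lab pr y').card =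
      (T.filter fun v => v ∈ Fr.lab pr y).card := by
    intro y' hy'
    obtain ⟨g, hg, rfl⟩ := Fr.mem_orbF.1 hy'
    refine Finset.card_bij' (fun v _ => mv g⁻¹ v) (fun v _ => mv g v) ?_ ?_
      (fun v _ => mv_mv_inv g v) (fun v _ => mv_inv_mv g v)
    · intro v hv
      obtain ⟨h1, h2⟩ := Finset.mem_filter.1 hv
      refine Finset.mem_filter.2 ⟨hTlev (inv_mem hg) h1, (Fr.mem_lab_sh_iff pr hg).1 ?_⟩
      rwa [mv_mv_inv]
    · intro v hv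
      obtain ⟨h1, h2⟩ := Finset.mem_filter.1 hv
      exact Finset.mem_filter.2 ⟨hTlev hg h1, (Fr.mem_lab_sh_iff pr hg).2 h2⟩
  have hR : ∀ v ∈ T, ((Fr.orbF y).filter fun y' => v ∈ Fr.lab pr y').card =
      ((Fr.orbF y).filter fun y' => v₀ ∈ Fr.lab pr y').card := by
    intro v hv
    rw [hmem] at hv
    obtain ⟨hv00, hv0W, hv0q⟩ := hmem.1 hv₀
    obtain ⟨g, hg, hgv⟩ := Fr.exists_lev_map hQ hv0W hv00 hv.2.1 hv.1 (hv0q.trans hv.2.2.symm)
    refine (Finset.card_bij' (fun z _ => Fr.sh g z) (fun z _ => Fr.sh g⁻¹ z) ?_ ?_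
      (fun z _ => Fr.sh_sh (Fr.scales_of_lev hg) z) (fun z _ => hinv hg z)).symm
    · intro z hz
      obtain ⟨h1, h2⟩ := Finset.mem_filter.1 hz
      exact Finset.mem_filter.2 ⟨Fr.orbF_sh h1 hg, hgv ▸ (Fr.mem_lab_sh_iff pr hg).2 h2⟩
    · intro z hz
      obtain ⟨h1, h2⟩ := Finset.mem_filter.1 hz
      refine Finset.mem_filter.2 ⟨Fr.orbF_sh h1 (inv_mem hg), (Fr.mem_lab_sh_iff pr hg).1 ?_⟩
      rwa [hgv, hinv hg]
  have h1 : ∑ y' ∈ Fr.orbF y, (T.filter fun v => v ∈ Fr.lab pr y').card =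
      ∑ v ∈ T, ((Fr.orbF y).filter fun y' => v ∈ Fr.lab pr y').card := by
    simp only [Finset.card_filter]
    exact Finset.sum_comm
  rw [Finset.sum_congr rfl hL, Finset.sum_congr rfl hR, Finset.sum_const, Finset.sum_const,
    smul_eq_mul, smul_eq_mul] at h1
  exact h1

include hQ hpr in
theorem orbF_total (y : Fr.Orb Ω) :
    (Fr.orbF y).card * (Fr.labF pr y).card ≤ Fintype.card Ω := by
  rw [Fr.card_eq_sum_pts, ← smul_eq_mul, ← Finset.sum_const]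
  refine le_trans (Finset.sum_le_sum fun y' hy' => ?_)
    (Finset.sum_le_sum_of_subset (Finset.subset_univ _))
  obtain ⟨g, hg, rfl⟩ := Fr.mem_orbF.1 hy'
  rw [(Fr.card_pts_eq pr hQ hpr _).1, Fr.card_labF_sh pr hg]

include hpq in
theorem lab_smul {y : Fr.Orb Ω} {v : ι → F} (hv : v ∈ Fr.lab pr y) (c : F) :
    c • v ∈ Fr.lab pr y := by
  obtain ⟨j, rfl⟩ := exists_natCast_eq hpq c
  rw [Nat.cast_smul_eq_nsmul]
  exact nsmul_mem hv j

include hpq in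
/-- The vectors of a label set with two independent ones and `q ^ 2` elements. -/
theorem plane_repr {y : Fr.Orb Ω} (hcard : (Fr.labF pr y).card = qF ^ 2) {u z : ι → F}
    (hu : u ∈ Fr.lab pr y) (hz : z ∈ Fr.lab pr y) (hu0 : u ≠ 0) (hzu : ∀ c : F, z ≠ c • u)
    {x : ι → F} (hx : x ∈ Fr.lab pr y) : ∃ ξ η : F, x = ξ • u + η • z := by
  have hinj : Function.Injective fun d : F × F => d.1 • u + d.2 • z := by
    rintro ⟨ξ, η⟩ ⟨ξ', η'⟩ h
    simp only at h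
    have hη : η = η' := by
      by_contra hne
      refine hzu ((ξ' - ξ) / (η - η')) ?_
      rw [div_eq_inv_mul, mul_smul, eq_inv_smul_iff₀ (sub_ne_zero.2 hne)]
      linear_combination (norm := module) h
    subst hη
    rw [add_left_inj] at h
    exact Prod.ext (smul_left_injective F hu0 h) rfl
  have himg : (Finset.univ.image fun d : F × F => d.1 • u + d.2 • z) = Fr.labF pr y := by
    refine Finset.eq_of_subset_of_card_le (fun v hv => ?_) ?_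
    · obtain ⟨d, -, rfl⟩ := Finset.mem_image.1 hv
      exact (Fr.mem_labF pr).2 (add_mem (Fr.lab_smul pr hpq hu _) (Fr.lab_smul pr hpq hz _))
    · rw [Finset.card_image_of_injective _ hinj, hcard, Finset.card_univ, Fintype.card_prod, sq]
  obtain ⟨d, -, hd⟩ := Finset.mem_image.1 (himg ▸ (Fr.mem_labF pr).2 hx : x ∈ _)
  exact ⟨d.1, d.2, hd.symm⟩

/-- Move an orbit with a given label to the standard one. -/
theorem exists_move (hQ : (QuadraticMap.polarBilin Q).Nondegenerate) {y : Fr.Orb Ω} {v : ι → F}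
    (hv : v ∈ Fr.lab pr y) (hv0 : v ≠ 0) :
    ∃ g ∈ Fr.Lev, mv g v = Fr.std (Q v) ∧ Fr.std (Q v) ∈ Fr.lab pr (Fr.sh g y) ∧
      ∀ x, x ∈ Fr.lab pr (Fr.sh g y) ↔ mv g⁻¹ x ∈ Fr.lab pr y := by
  obtain ⟨g, hg, hgv⟩ := Fr.exists_lev_to_std hQ hv.1 hv0
  refine ⟨g, hg, hgv, hgv ▸ Fr.mem_lab_lev pr hg hv, fun x => ?_⟩
  conv_rhs => rw [← Fr.mem_lab_sh_iff pr hg, mv_mv_inv]

end Frame

end CfsgLib.MinDegree.Orth
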