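import Cfsg.Agent.MinDegree.OrthSmallCases
import Cfsg.Agent.MinDegree.OrthMain

/-!
# No small action over a field with two or three elements
-/

set_option autoImplicit false
set_option linter.unusedSectionVars false

namespace CfsgLib.MinDegree.Orth

open Matrix Module CfsgLib.Spinor CfsgLib.Forms CfsgLib.Forms4 CfsgLib.OrthMax
open scoped Classical

variable {F : Type*} [Field F] {ι : Type} [Fintype ι] [DecidableEq ι] {Q : QuadraticForm F (ι → F)}
  [Fintype F]

set_option quotPrecheck false in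
local notation "𝔅" => QuadraticMap.polar (⇑Q)
local notation "qF" => Fintype.card F
local notation "nι" => Fintype.card ι

theorem arith_flat {q σ M d K : ℕ} (hq : 1 ≤ q) (hσ : q * q ≤ σ) (hM : σ ≤ M)
    (h1 : K * σ ≤ d * (σ - 1) * (σ - q)) (h2 : d * (M - 1) * (M - q) < K * M) : False := by
  have hqq : q ≤ q * q := Nat.le_mul_self q
  have key : (σ - 1) * (σ - q) * M ≤ (M - 1) * (M - q) * σ := by
    zify [show 1 ≤ σ by omega, show q ≤ σ by omega, show 1 ≤ M by omega, show q ≤ M by omega]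
    have h : (q : ℤ) ≤ (σ : ℤ) * M := by
      have : q ≤ σ * M := le_trans (le_trans hqq hσ) (Nat.le_mul_of_pos_right _ (by omega))
      exact_mod_cast this
    nlinarith [mul_nonneg (sub_nonneg.2 (show (σ : ℤ) ≤ M by exact_mod_cast hM))
      (sub_nonneg.2 h)]
  have h3 := Nat.mul_le_mul_right M h1
  have h4 := Nat.mul_le_mul_left d key
  have h5 := Nat.mul_lt_mul_of_pos_right h2 (show 0 < σ by omega)
  linarith

theorem arith_mixed {σ M d K : ℕ} (hσ : 1 ≤ σ) (hM : σ ≤ M)
    (h1 : K * σ ≤ d * (σ - 1)) (h2 : d * (M - 1) < K * M) : False := by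
  have key : (σ - 1) * M ≤ (M - 1) * σ := by
    zify [hσ, show 1 ≤ M by omega]
    nlinarith
  have h3 := Nat.mul_le_mul_right M h1
  have h4 := Nat.mul_le_mul_left d key
  have h5 := Nat.mul_lt_mul_of_pos_right h2 (show 0 < σ by omega)
  linarith

namespace Frame

variable (Fr : Frame Q)

/-- What excludes a single regular orbit. -/
def RegWitness : Prop :=
  (∀ z ∈ Fr.W3, ∃ u ∈ Fr.W3, ∃ y ∈ Fr.W3, 𝔅 z u = 0 ∧ 𝔅 z y = 0 ∧ 𝔅 u y = 1) ∨
    ∃ u ∈ Fr.W2, Q u ≠ 0 ∧ ∃ h ∈ Fr.Lev, mv h Fr.a = Fr.a ∧ mv h u = u ∧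
      ∃ k : ℕ, h ^ k = 1 ∧ (k : F) ≠ 0 ∧ ∀ z ∈ Fr.W, mv h z = z → 𝔅 Fr.a z = 0 →
        ((2 : F) = 0 → 𝔅 u z = 0) → ∃ α γ : F, z = α • Fr.a + γ • u

variable (hQ : (QuadraticMap.polarBilin Q).Nondegenerate) (hn : 7 ≤ Fintype.card ι)
  (hq3 : Fintype.card F ≤ 3) (hn8 : Fintype.card F = 2 → 8 ≤ Fintype.card ι)

include hQ hn hq3 hn8 in
theorem small_false {Ω : Type*} [MulAction (EG Q) Ω] [Fintype Ω]
    [MulAction.IsPretransitive (EG Q) Ω] [Nontrivial Ω] (hsmall : Small Q Ω)
    (hclass : ∀ c : F, c ≠ 0 →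
      (qF - 1) * Fintype.card Ω < (vals Q (⊤ : Submodule F (ι → F)) c).card)
    {M : ℕ}
    (hwitt : ∀ U : Submodule F (ι → F), U ≤ Fr.W → (∀ x ∈ U, Q x = 0) → (elts U).card ≤ M)
    (hmixed : Fintype.card Ω * (M - 1) < 2 * qF * ((vals Q Fr.W 0).erase 0).card * M)
    (hflat : Fintype.card Ω * (M - 1) * (M - qF) <
      qF * ((vals Q Fr.W 0).erase 0).card * ((vals Q Fr.W2 0).erase 0).card * M)
    (hreg : Fr.RegWitness) : False := by
  obtain ⟨p, hp⟩ := CharP.exists F
  have : Fact p.Prime := ⟨(CharP.char_is_prime_or_zero F p).resolve_right fun h => by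
    subst h
    exact CharP.char_ne_zero_of_finite F 0 rfl⟩
  have hq2 := two_le_q (F := F)
  have hpq : qF = p := by
    obtain ⟨k, hkp, hk⟩ := FiniteField.card F p
    have h2p := hkp.two_le
    rcases Nat.lt_or_ge (k : ℕ) 2 with hk2 | hk2
    · have : (k : ℕ) = 1 := by have := k.pos; omega
      rw [hk, this, pow_one]
    · exfalso
      have := Nat.pow_le_pow_right (show 0 < p by omega) hk2
      have := Nat.mul_le_mul h2p h2p
      rw [sq] at *
      omega
  obtain ⟨pr, hpr⟩ := exists_pr_ne_zero (F := F) (p := p)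
  obtain ⟨X, S0, hX, hS1, hS, hlo, hup, hW, hNlo, hV⟩ := Fr.numerics
  obtain ⟨Y, hY⟩ : ∃ Y, qF ^ (nι - 6) = Y := ⟨_, rfl⟩
  have hXY : X = qF * Y := by
    rw [hX, ← hY, ← pow_succ', show nι - 6 + 1 = nι - 5 by omega]
  have hY4 : qF = 2 ∧ 4 ≤ Y ∨ qF = 3 ∧ 3 ≤ Y := by
    rcases (show qF = 2 ∨ qF = 3 by omega) with h | h
    · refine Or.inl ⟨h, ?_⟩
      rw [← hY, h]
      exact le_trans (by norm_num) (Nat.pow_le_pow_right (by norm_num : 0 < 2)
        (show 2 ≤ nι - 6 by have := hn8 h; omega))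
    · refine Or.inr ⟨h, ?_⟩
      rw [← hY, h]
      exact Nat.le_self_pow (by omega) _
  -- the multiplicity of the singular labels
  have hm0 : Fr.mc Ω pr 0 ≤ qF ^ (nι - 6) + 1 := by
    have h := Fr.sum_mc_le (Ω := Ω) pr hQ hpr {0}
    rw [Finset.sum_singleton, hS] at h
    have hs := hsmall
    unfold Small at hs
    rw [hV] at hs
    rw [hY]
    by_contra! hm
    have h1 := (Nat.add_le_add_left (Nat.mul_le_mul_left S0
      (show Y + 2 ≤ Fr.mc Ω pr 0 by omega)) 1).trans h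
    rcases hY4 with ⟨h', hY'⟩ | ⟨h', hY'⟩ <;> rw [h'] at hs hlo <;> norm_num at hs hlo <;>
      have := Nat.mul_le_mul_left S0 hY' <;> nlinarith
  have hrad : ∀ {y : Fr.Orb Ω}, ¬ Fr.Reg pr y → ∀ x ∈ Fr.lab pr y, Q x = 0 →
      ∀ z ∈ Fr.lab pr y, 𝔅 x z = 0 := by
    intro y hy x hx hq z hz
    by_contra hne
    exact hy fun w hw => Fr.lab_eq_W_of_pair pr hQ hn
      (fun v hv hv0 hqv w hw hvw => Fr.root_fix_singular pr hQ hpr hn hm0 hv hv0 hqv hw hvw)
      hx hq hz hne hw
  -- the number of points is below `q ^ (n - 1) / (q - 1)`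
  have hd : qF * ((qF - 1) * Fintype.card Ω) < qF ^ nι := by
    rw [← card_top (F := F) (ι := ι), ← sum_vals (Q := Q),
      ← Finset.add_sum_erase _ _ (Finset.mem_univ (0 : F))]
    have h1 : ((Finset.univ : Finset F).erase 0).card * ((qF - 1) * Fintype.card Ω) ≤
        ∑ c ∈ (Finset.univ : Finset F).erase 0, (vals Q (⊤ : Submodule F (ι → F)) c).card := by
      rw [← smul_eq_mul, ← Finset.sum_const]
      exact Finset.sum_le_sum fun c hc => (hclass c (Finset.mem_erase.1 hc).1).le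
    rw [Finset.card_erase_of_mem (Finset.mem_univ _), Finset.card_univ] at h1
    have h0 := hsmall
    unfold Small at h0
    generalize hA : (qF - 1) * Fintype.card Ω = A at h0 h1 ⊢
    have : qF * A = A + (qF - 1) * A := by
      obtain ⟨K, hK⟩ : ∃ K, qF = K + 1 := ⟨qF - 1, by omega⟩
      rw [hK, Nat.add_sub_cancel]
      ring
    omega
  have hN : qF ^ nι = qF * qF * (qF ^ 3 * X) := by
    rw [hX, ← mul_assoc, ← sq, ← pow_add, ← pow_add]
    congr 1
    omega
  have hcls : ∀ y : Fr.Orb Ω, Fr.Reg pr y ∨ Fr.Lin pr y := by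
    intro y
    by_cases hR : Fr.Reg pr y
    · exact Or.inl hR
    refine Or.inr ?_
    by_contra hL
    simp only [Lin, not_exists, not_forall] at hL
    have hL' : ∀ u, ∃ x ∈ Fr.lab pr y, ∀ c : F, x ≠ c • u := fun u => by
      obtain ⟨x, hx, h⟩ := hL u
      exact ⟨x, hx, h⟩
    by_cases hsv : ∃ v ∈ Fr.lab pr y, v ≠ 0 ∧ Q v = 0
    · obtain ⟨v, hv, hv0, hqv⟩ := hsv
      by_cases hall : ∀ x ∈ Fr.lab pr y, Q x = 0
      · obtain ⟨z, hz, hzv⟩ := hL' v
        obtain ⟨h1, h2⟩ := Fr.flat_bound pr hQ hn hpr hpq hq3 hv hv0 hz hzv hall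
        let U : Submodule F (ι → F) :=
          { carrier := {x | x ∈ Fr.lab pr y}
            zero_mem' := (Fr.lab pr y).zero_mem
            add_mem' := fun h h' => (Fr.lab pr y).add_mem h h'
            smul_mem' := fun k x h => Fr.lab_smul pr hpq h k }
        have hσ : (Fr.labF pr y).card ≤ M := by
          rw [show Fr.labF pr y = elts U by ext x; rw [mem_labF, mem_elts]; rfl]
          exact hwitt U (fun x hx => Fr.lab_le pr hx) fun x hx => hall x hx
        refine arith_flat (by omega) h1 hσ ?_ hflat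
        exact le_of_eq_of_le (by ring) h2
      · push Not at hall
        obtain ⟨u, hu, hqu⟩ := hall
        obtain ⟨U, hUW, hUs, hU2, hU⟩ := Fr.mixed_bound pr hQ hn hpr hpq hv hv0 hqv hu hqu (hrad hR)
        exact arith_mixed (by omega) (hwitt U hUW hUs) (le_of_eq_of_le (by ring) hU) hmixed
    · push Not at hsv
      obtain ⟨u, hu, hu0⟩ := hL' 0
      have hu0' : u ≠ 0 := fun h => hu0 1 (by rw [one_smul]; exact h)
      obtain ⟨z, hz, hzu⟩ := hL' u
      have h := Fr.aniso_bound pr hQ hn hpr hpq hq3 hu hu0' hz hzu fun x hx hq => by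
        by_contra h0
        exact hsv x hx h0 hq
      rw [hY, ← hX, hXY] at h
      rw [hN, hXY] at hd
      rcases hY4 with ⟨h', hY'⟩ | ⟨h', hY'⟩ <;> rw [h'] at h hd <;> norm_num at h hd <;>
        have := Nat.mul_le_mul_left Y hY' <;> nlinarith
  have hr1 : (Fr.regs (Ω := Ω) pr).card ≤ 1 := by
    by_contra! h2
    have h1 : (Fr.regs (Ω := Ω) pr).card * (elts Fr.W).card ≤ Fintype.card Ω := by
      rw [Fr.card_eq_sum_pts, ← smul_eq_mul, ← Finset.sum_const]
      refine le_trans (le_of_eq (Finset.sum_congr rfl fun y hy => ?_).symm)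
        (Finset.sum_le_sum_of_subset (Finset.subset_univ _))
      rw [(Fr.card_pts_eq pr hQ hpr y).1, Fr.card_labF_of_reg pr (Finset.mem_filter.1 hy).2]
    rw [hW] at h1
    have h3 := (Nat.mul_le_mul_right (qF ^ 3 * X) h2).trans h1
    rw [hN] at hd
    rcases hY4 with ⟨h', -⟩ | ⟨h', -⟩ <;> rw [h'] at hd h3 <;> norm_num at hd h3 <;> omega
  refine Fr.line_core pr hQ hpr hn hsmall hcls hr1 (fun hmc1 hexc c hc => ?_) fun h h' => ?_
  · by_contra hne
    have h2 : 2 ≤ Fr.mc Ω pr c := by have := hmc1 c; omega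
    have hsum := Fr.sum_mc_le_regs pr hQ hpr hn hcls
    obtain ⟨y₀, hy₀⟩ : (Fr.regs (Ω := Ω) pr).Nonempty := by
      rw [Finset.nonempty_iff_ne_empty]
      intro he
      rw [he, Finset.card_empty, mul_zero, Nat.le_zero, Finset.sum_eq_zero_iff] at hsum
      have := hsum c (Finset.mem_univ _)
      omega
    have hregs : Fr.regs (Ω := Ω) pr = {y₀} := Finset.eq_singleton_iff_unique_mem.2
      ⟨hy₀, fun y hy => Finset.card_le_one.1 hr1 _ hy _ hy₀⟩
    set L := (Finset.univ : Finset (Fr.Orb Ω)).erase y₀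
    set T := vals Q Fr.W c
    have hT0 : ∀ v ∈ T, v ≠ 0 := fun v hv h => hc (by
      rw [← (mem_vals.1 hv).2, h, QuadraticMap.map_zero])
    have hcount : T.card ≤ ∑ y ∈ L, ((Fr.labF pr y).card - 1) := by
      have h1 : ∀ v ∈ T, 1 ≤ (L.filter fun y => v ∈ Fr.lab pr y).card := by
        intro v hv
        obtain ⟨hvW, hvq⟩ := mem_vals.1 hv
        have hm : 2 ≤ Fr.mult (Ω := Ω) pr v := by rwa [Fr.mult_eq_mc pr hQ hvW (hT0 v hv), hvq]
        rw [Finset.filter_erase]
        have := Finset.card_erase_of_mem (s := Finset.univ.filter fun y => v ∈ Fr.lab pr y) (a := y₀)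
          (Finset.mem_filter.2 ⟨Finset.mem_univ _, (Finset.mem_filter.1 hy₀).2 v hvW⟩)
        unfold Frame.mult at hm
        omega
      calc T.card = ∑ v ∈ T, 1 := by simp
        _ ≤ ∑ v ∈ T, (L.filter fun y => v ∈ Fr.lab pr y).card := Finset.sum_le_sum h1
        _ = ∑ y ∈ L, (T.filter fun v => v ∈ Fr.lab pr y).card := by
            simp only [Finset.card_filter]; exact Finset.sum_comm
        _ ≤ _ := Finset.sum_le_sum fun y _ => by
            rw [← Finset.card_erase_of_mem ((Fr.mem_labF pr).2 (zero_mem _))]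
            refine Finset.card_le_card fun v hv => ?_
            obtain ⟨hv1, hv2⟩ := Finset.mem_filter.1 hv
            exact Finset.mem_erase.2 ⟨hT0 v hv1, (Fr.mem_labF pr).2 hv2⟩
    have hlow : qF * T.card ≤ (qF - 1) * ∑ y ∈ L, (Fr.labF pr y).card := by
      refine (Nat.mul_le_mul_left _ hcount).trans ?_
      rw [Finset.mul_sum, Finset.mul_sum]
      refine Finset.sum_le_sum fun y hy => ?_
      have hlin := (hcls y).resolve_left fun h => (Finset.mem_erase.1 hy).1
        ((Finset.eq_singleton_iff_unique_mem.1 hregs).2 y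
          (Finset.mem_filter.2 ⟨Finset.mem_univ _, h⟩))
      have := Fr.card_labF_le_of_lin pr hlin
      rw [Nat.mul_sub, Nat.sub_mul, mul_one, one_mul]
      omega
    have hdsplit : Fintype.card Ω = (elts Fr.W).card + ∑ y ∈ L, (Fr.labF pr y).card := by
      rw [Fr.card_eq_sum_pts, Finset.sum_congr rfl fun y _ => (Fr.card_pts_eq pr hQ hpr y).1,
        ← Finset.add_sum_erase _ _ (Finset.mem_univ y₀),
        Fr.card_labF_of_reg pr (Finset.mem_filter.1 hy₀).2]
    have hc' := hclass c hc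
    rw [Fr.card_vals_top c, hdsplit, mul_add, Fr.six_le.2.1] at hc'
    simp only [T] at hlow
    omega
  · rcases hreg with hw | ⟨u, hu, hu0, k, hk, hka, hku, j, hj, hjF, hfix⟩
    · exact Fr.regular_false_of_pairs pr hQ hpr h h' hn hw
    · refine Fr.regular_false_of_elem pr hQ hpr h h' hn ?_ hu hu0 hk hka hku hj hjF hfix
      rcases (show p = 2 ∨ p = 3 by omega) with rfl | rfl
      · left; exact_mod_cast CharP.cast_eq_zero F 2
      · right; exact_mod_cast CharP.cast_eq_zero F 3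

end Frame

end CfsgLib.MinDegree.Orth
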