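import Cfsg.Agent.MinDegree.OrthSmallTools

/-!
# The least index for fields with two or three elements, standard forms
-/

set_option autoImplicit false
set_option linter.unusedSectionVars false

namespace CfsgLib.MinDegree.Orth

open Matrix Module CfsgLib.Spinor CfsgLib.Forms CfsgLib.Forms4 CfsgLib.StdForms
open scoped Classical

variable {F : Type*} [Field F] [Fintype F]

/-- The number of vectors of a given value. -/
theorem card_hsum_eq {κ : Type} [Fintype κ] [DecidableEq κ] (f : (κ → F) → F) (m : ℕ) (c : F) :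
    (Fintype.card F : ℤ) * Nat.card {v // hsum m f v = c} -
        (Fintype.card F : ℤ) ^ (2 * m + Fintype.card κ) =
      (Fintype.card F : ℤ) ^ m * ((Fintype.card F : ℤ) * Nat.card {w // f w = c} -
        (Fintype.card F : ℤ) ^ Fintype.card κ) := by
  have h := natCast_card_zero_hsum_eq (fun w => f w - c) m (rfl : Fintype.card F = _)
  have e1 : Nat.card {v // hsum m (fun w => f w - c) v = 0} = Nat.card {v // hsum m f v = c} :=
    Nat.card_congr (Equiv.subtypeEquivRight fun v => by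
      simp [hsum, ← add_sub_assoc, sub_eq_zero])
  have e2 : Nat.card {w // f w - c = 0} = Nat.card {w // f w = c} :=
    Nat.card_congr (Equiv.subtypeEquivRight fun w => sub_eq_zero)
  rw [e1, e2] at h
  exact h

/-- An anisotropic binary form over at most three elements takes every non-zero value. -/
theorem exists_bin_value (hq3 : Fintype.card F ≤ 3) {a b : F}
    (hab : ∀ z₁ z₂ : F, z₁ ^ 2 + a * z₁ * z₂ + b * z₂ ^ 2 = 0 → z₁ = 0 ∧ z₂ = 0) {c : F}
    (hc : c ≠ 0) : ∃ z₁ z₂ : F, z₁ ^ 2 + a * z₁ * z₂ + b * z₂ ^ 2 = c := by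
  by_contra! h
  have hc1 : c ≠ 1 := fun h1 => h 1 0 (by rw [h1]; ring)
  have hm : c = -1 := by
    rcases mul_self_eq_one_iff.1 (sq_eq_one_of_le_three hq3 hc) with h1 | h1
    · exact absurd h1 hc1
    · exact h1
  have key : ∀ z₁ z₂ : F, (z₁ ≠ 0 ∨ z₂ ≠ 0) → z₁ ^ 2 + a * z₁ * z₂ + b * z₂ ^ 2 = 1 := by
    intro z₁ z₂ hz
    have hne : z₁ ^ 2 + a * z₁ * z₂ + b * z₂ ^ 2 ≠ 0 := fun h0 => by
      obtain ⟨e1, e2⟩ := hab _ _ h0
      exact hz.elim (fun h => h e1) fun h => h e2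
    rcases mul_self_eq_one_iff.1 (sq_eq_one_of_le_three hq3 hne) with h1 | h1
    · exact h1
    · exact absurd (h1.trans hm.symm) (h z₁ z₂)
  have h01 := key 0 1 (Or.inr one_ne_zero)
  have h11 := key 1 1 (Or.inr one_ne_zero)
  have h1m := key 1 (-1) (Or.inl one_ne_zero)
  have h2 : (2 : F) = 0 := by linear_combination h11 + h1m - 2 * h01
  exact hc1 (by rw [hm]; linear_combination -h2)

section minus

variable {k : ℕ} {a b : F}
  (hab : ∀ z₁ z₂ : F, z₁ ^ 2 + a * z₁ * z₂ + b * z₂ ^ 2 = 0 → z₁ = 0 ∧ z₂ = 0)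

include hab in
/-- Totally singular subspaces of the minus form. -/
theorem minus_witt {U : Submodule F ((Fin k ⊕ Fin k) ⊕ Fin 2 → F)}
    (hU : ∀ x ∈ U, minusQ k F a b x = 0) : finrank F U ≤ k := by
  let f : (Fin k → F) →ₗ[F] ((Fin k ⊕ Fin k) ⊕ Fin 2 → F) :=
    { toFun := fun x => Sum.elim (Sum.elim x 0) 0
      map_add' := fun x y => funext fun i => by rcases i with (i | i) | i <;> simp
      map_smul' := fun c x => funext fun i => by rcases i with (i | i) | i <;> simp }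
  have hf : Function.Injective f := fun x y h => funext fun i => by
    simpa [f] using congrFun h (.inl (.inl i))
  have hX : finrank F (LinearMap.range f) = k := by
    rw [LinearMap.finrank_range_of_inj hf, Module.finrank_pi, Fintype.card_fin]
  refine le_of_le_of_eq
    (witt_le (Q := minusQ k F a b) (minusQ_nondegenerate k (disc_ne_zero hab)) ?_ ?_ ?_ hU) hX
  · rintro x ⟨x, rfl⟩
    simp [f, minusQ_apply, Cfsg.quadFormMinus]
  · simp only [Fintype.card_sum, Fintype.card_fin]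
    omega
  · intro v hv hqv
    have hright : ∀ i, v (.inl (.inr i)) = 0 := fun i => by
      have := hv (f (Pi.single i 1)) ⟨_, rfl⟩
      simpa [f, polar_minus, Pi.single_apply] using this
    rw [minusQ_apply] at hqv
    obtain ⟨e0, e1⟩ := hab (v (.inr 0)) (v (.inr 1)) (by
      simpa [Cfsg.quadFormMinus, hright] using hqv)
    refine ⟨fun i => v (.inl (.inl i)), funext fun i => ?_⟩
    rcases i with (i | i) | i
    · simp [f]
    · simp [f, hright i]
    · fin_cases i <;> simp [f, e0, e1]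

include hab in
theorem minus_vals_ge (hq3 : Fintype.card F ≤ 3) {c : F} (hc : c ≠ 0) :
    Fintype.card F ^ (2 * k + 2) + Fintype.card F ^ k * Fintype.card F ≤
      Fintype.card F * (vals (minusQ k F a b) (⊤ : Submodule F _) c).card +
        Fintype.card F ^ k * Fintype.card F ^ 2 := by
  have h := card_hsum_eq (⇑(binForm a b)) k c
  rw [hsum_minus, Fintype.card_fin] at h
  have e : Nat.card {v // minusQ k F a b v = c} =
      Nat.card {v : (Fin k ⊕ Fin k) ⊕ Fin 2 → F // Cfsg.quadFormMinus k F a b v = c} := by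
    rw [coe_minusQ]
  rw [card_vals_top_eq, e]
  obtain ⟨z₁, z₂, hz⟩ := exists_bin_value hq3 hab hc
  have hf : 1 ≤ Nat.card {w // binForm a b w = c} := by
    have : Nonempty {w // binForm a b w = c} := ⟨⟨![z₁, z₂], by simp [coe_binForm, hz]⟩⟩
    exact Nat.card_pos
  generalize Nat.card {v : (Fin k ⊕ Fin k) ⊕ Fin 2 → F // Cfsg.quadFormMinus k F a b v = c} = N at h ⊢
  generalize Nat.card {w // binForm a b w = c} = N' at h hf
  zify at hf ⊢
  have hpos : (0 : ℤ) ≤ (Fintype.card F : ℤ) ^ k * Fintype.card F := by positivity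
  nlinarith

end minus

theorem sq_even {q k : ℕ} : q ^ (2 * k) = q ^ k * q ^ k := by rw [two_mul, pow_add]

/-- The least index for the minus form over at most three elements. -/
theorem min_index_minus_small (hq3 : Fintype.card F ≤ 3) (m : ℕ) (hm : 4 ≤ m) (a b : F)
    (hab : ∀ z₁ z₂ : F, z₁ ^ 2 + a * z₁ * z₂ + b * z₂ ^ 2 = 0 → z₁ = 0 ∧ z₂ = 0) :
    (∀ H : Subgroup (Cfsg.POmega F ⇑(minusQ (m - 1) F a b)), H ≠ ⊤ →
      (Fintype.card F ^ m + 1) * (Fintype.card F ^ (m - 1) - 1) / (Fintype.card F - 1) ≤ H.index) ∧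
    ∃ H : Subgroup (Cfsg.POmega F ⇑(minusQ (m - 1) F a b)), H.index =
      (Fintype.card F ^ m + 1) * (Fintype.card F ^ (m - 1) - 1) / (Fintype.card F - 1) := by
  obtain ⟨j, rfl⟩ : ∃ j, m = j + 4 := ⟨m - 4, by omega⟩
  have hk : j + 4 - 1 = j + 3 := rfl
  set q := Fintype.card F with hq
  have hq2 : 2 ≤ q := two_le_q
  set Q := minusQ (j + 4 - 1) F a b
  have hQ := minusQ_nondegenerate (j + 4 - 1) (disc_ne_zero hab)
  let Fr := minusFrame (j + 4 - 1) (by omega) a b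
  have hn : Fintype.card ((Fin (j + 4 - 1) ⊕ Fin (j + 4 - 1)) ⊕ Fin 2) = 2 * j + 8 := by
    simp only [Fintype.card_sum, Fintype.card_fin]; omega
  have hV0 : (vals Q (⊤ : Submodule F _) 0).card =
      (q ^ (j + 4) + 1) * (q ^ (j + 4 - 1) - 1) + 1 := by
    rw [card_vals_top_eq, coe_minusQ, card_zero_quadFormMinus rfl (j + 4) (by omega) a b hab,
      arith_minus hq2 (by omega)]
  obtain ⟨x, hx⟩ : ∃ x, q ^ (j + 2) = x := ⟨_, rfl⟩
  have hxq : q * q ≤ x := by
    rw [← hx, ← sq]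
    exact Nat.pow_le_pow_right (by omega) (by omega)
  have hpk : q ^ (j + 4 - 1) = q * x := by rw [hk, ← hx, ← pow_succ']
  have hpm : q ^ (j + 4) = q * q * x := by rw [← hx, ← sq, ← pow_add]; congr 1; omega
  rw [hpk, hpm] at hV0 ⊢
  -- the numbers of singular vectors
  have e1 := Fr.card_vals_top 0
  have e2 := (Fr.card_vals_W 0).1
  rw [hn, show 2 * j + 8 - 2 = 2 * (j + 3) by omega, sq_even, ← hq,
    show q ^ (j + 3) = q * x by rw [← hx, ← pow_succ'], hV0] at e1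
  rw [hn, show 2 * j + 8 - 4 = 2 * (j + 2) by omega, sq_even, ← hq, hx] at e2
  have hW0 : 1 ≤ (vals Q Fr.W 0).card :=
    Finset.card_pos.2 ⟨0, mem_vals.2 ⟨zero_mem _, QuadraticMap.map_zero Q⟩⟩
  have hW20 : 1 ≤ (vals Q Fr.W2 0).card :=
    Finset.card_pos.2 ⟨0, mem_vals.2 ⟨zero_mem _, QuadraticMap.map_zero Q⟩⟩
  have hwitt : ∀ U : Submodule F ((Fin (j + 4 - 1) ⊕ Fin (j + 4 - 1)) ⊕ Fin 2 → F), U ≤ Fr.W →
      (∀ v ∈ U, Q v = 0) → (elts U).card ≤ x := by
    intro U hU hs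
    rw [card_elts, ← hq, ← hx]
    refine Nat.pow_le_pow_right (by omega) ?_
    have := minus_witt hab (Fr.sup_e_singular hU hs)
    rw [Fr.finrank_sup_e hU] at this
    omega
  have hreg : Fr.RegWitness := by
    by_cases h9 : 9 ≤ 2 * j + 8
    · exact Fr.regWitness_of_nine hQ (hn ▸ h9)
    obtain rfl : j = 0 := by omega
    rcases (show q = 2 ∨ q = 3 by omega) with h | h
    · exact Fr.regWitness_two hQ hn h
    · refine Fr.regWitness_of_eight hn (fun h2 => ?_) fun v hv hqv => ?_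
      · have h3 := Nat.cast_card_eq_zero F
        rw [← hq, h] at h3
        push_cast at h3
        exact one_ne_zero (show (1 : F) = 0 by linear_combination h3 - h2)
      · refine Fr.W3_anisotropic (fun U hU hs => ?_) hv hqv
        rw [← hq]
        exact (hwitt U hU hs).trans (le_of_eq hx.symm)
  set B := (q * q * x + 1) * (q * x - 1) / (q - 1) with hB
  have hatt := exists_index_card_zero hQ (by omega)
  rw [← card_singular_top, hV0] at hatt
  obtain ⟨H₀, hH₀⟩ := hatt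
  have hH₀' : H₀.index = B := by
    rw [hB, ← Nat.add_right_cancel hH₀, Nat.mul_div_cancel_left _ (by omega)]
  refine ⟨fun H hH => ?_, H₀, hH₀'⟩
  have hB1 : (q - 1) * B = (q * q * x + 1) * (q * x - 1) := by
    rw [← hH₀']; exact Nat.add_right_cancel hH₀
  rcases (show q = 2 ∨ q = 3 by omega) with h | h
  · rw [h] at hB1 e1 e2 hxq hV0
    obtain ⟨y, rfl⟩ : ∃ y, x = y + 4 := ⟨x - 4, by omega⟩
    simp only [show (2 : ℕ) * 2 = 4 from rfl, show (2 : ℕ) - 1 = 1 from rfl, one_mul,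
      show 2 * (y + 4) - 1 = 2 * y + 7 by omega] at hB1 e1 e2 hV0
    refine Fr.index_ge_small hQ (by omega) hq3 (fun _ => by omega) ?_ (fun c hc => ?_) hwitt
      (by rw [← hq, h]; omega) ?_ ?_ hreg H hH
    · rw [← hq, h, show (2 : ℕ) - 1 = 1 from rfl, one_mul, hV0, hB1]
    · have hge := minus_vals_ge (k := j + 4 - 1) hab hq3 hc
      rw [← hq, show 2 * (j + 4 - 1) + 2 = 2 * (j + 4) by omega, sq_even, hpm, hpk, h] at hge
      rw [← hq, h, show (2 : ℕ) - 1 = 1 from rfl, one_mul, hB1]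
      nlinarith
    · rw [← hq, h, Finset.card_erase_of_mem (mem_vals.2 ⟨zero_mem _, QuadraticMap.map_zero Q⟩),
        show y + 4 - 1 = y + 3 by omega, hB1]
      obtain ⟨s, hs⟩ : ∃ s, (vals Q Fr.W 0).card = s + 1 := ⟨_, (Nat.sub_add_cancel hW0).symm⟩
      rw [hs, Nat.add_sub_cancel]
      rw [hs] at e1
      nlinarith
    · rw [← hq, h, Finset.card_erase_of_mem (mem_vals.2 ⟨zero_mem _, QuadraticMap.map_zero Q⟩),
        Finset.card_erase_of_mem (mem_vals.2 ⟨zero_mem _, QuadraticMap.map_zero Q⟩),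
        show y + 4 - 1 = y + 3 by omega, show y + 4 - 2 = y + 2 by omega, hB1]
      obtain ⟨s, hs⟩ : ∃ s, (vals Q Fr.W 0).card = s + 1 := ⟨_, (Nat.sub_add_cancel hW0).symm⟩
      obtain ⟨t, ht⟩ : ∃ t, (vals Q Fr.W2 0).card = t + 1 := ⟨_, (Nat.sub_add_cancel hW20).symm⟩
      rw [hs, ht, Nat.add_sub_cancel, Nat.add_sub_cancel]
      rw [hs] at e1 e2
      rw [ht] at e2
      have hs' : s = (2 * (y + 4) + 1) * (y + 3) := by nlinarith
      have ht' : 2 * t = (y + 2) * (y + 5) := by nlinarith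
      calc (4 * (y + 4) + 1) * (2 * y + 7) * (y + 3) * (y + 2)
          ≤ (y + 4) * (2 * (y + 4) + 1) * (y + 5) * (y + 3) * (y + 2) := by
            refine Nat.mul_le_mul_right _ (Nat.mul_le_mul_right _ ?_)
            nlinarith
        _ = (2 * (y + 4) + 1) * (y + 3) * ((y + 2) * (y + 5)) * (y + 4) := by ring
        _ = 2 * s * t * (y + 4) := by rw [← hs', ← ht']; ring
  · rw [h] at hB1 e1 e2 hxq hV0
    obtain ⟨y, rfl⟩ : ∃ y, x = y + 9 := ⟨x - 9, by omega⟩
    simp only [show (3 : ℕ) * 3 = 9 from rfl, show (3 : ℕ) - 1 = 2 from rfl,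
      show 3 * (y + 9) - 1 = 3 * y + 26 by omega] at hB1 e1 e2 hV0
    refine Fr.index_ge_small hQ (by omega) hq3 (fun _ => by omega) ?_ (fun c hc => ?_) hwitt
      (by rw [← hq, h]; omega) ?_ ?_ hreg H hH
    · rw [← hq, h, show (3 : ℕ) - 1 = 2 from rfl, hV0, hB1]
    · have hge := minus_vals_ge (k := j + 4 - 1) hab hq3 hc
      rw [← hq, show 2 * (j + 4 - 1) + 2 = 2 * (j + 4) by omega, sq_even, hpm, hpk, h] at hge
      rw [← hq, h, show (3 : ℕ) - 1 = 2 from rfl, hB1]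
      nlinarith
    · rw [← hq, h, Finset.card_erase_of_mem (mem_vals.2 ⟨zero_mem _, QuadraticMap.map_zero Q⟩),
        show y + 9 - 1 = y + 8 by omega]
      obtain ⟨s, hs⟩ : ∃ s, (vals Q Fr.W 0).card = s + 1 := ⟨_, (Nat.sub_add_cancel hW0).symm⟩
      rw [hs, Nat.add_sub_cancel]
      rw [hs] at e1
      have hs' : s = (3 * (y + 9) + 1) * (y + 8) := by nlinarith
      refine Nat.le_of_mul_le_mul_left ?_ (show 0 < 2 by norm_num)
      calc 2 * (B * (y + 8)) = (9 * (y + 9) + 1) * (3 * y + 26) * (y + 8) := by rw [← hB1]; ring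
        _ ≤ (12 * (y + 9)) * (3 * (y + 9) + 1) * (y + 8) := by
            refine Nat.mul_le_mul_right _ ?_
            nlinarith
        _ = 2 * (2 * 3 * s * (y + 9)) := by rw [hs']; ring
    · rw [← hq, h, Finset.card_erase_of_mem (mem_vals.2 ⟨zero_mem _, QuadraticMap.map_zero Q⟩),
        Finset.card_erase_of_mem (mem_vals.2 ⟨zero_mem _, QuadraticMap.map_zero Q⟩),
        show y + 9 - 1 = y + 8 by omega, show y + 9 - 3 = y + 6 by omega]
      obtain ⟨s, hs⟩ : ∃ s, (vals Q Fr.W 0).card = s + 1 := ⟨_, (Nat.sub_add_cancel hW0).symm⟩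
      obtain ⟨t, ht⟩ : ∃ t, (vals Q Fr.W2 0).card = t + 1 := ⟨_, (Nat.sub_add_cancel hW20).symm⟩
      rw [hs, ht, Nat.add_sub_cancel, Nat.add_sub_cancel]
      rw [hs] at e1 e2
      rw [ht] at e2
      have hs' : s = (3 * (y + 9) + 1) * (y + 8) := by nlinarith
      have ht' : 3 * t = (y + 6) * (y + 10) := by nlinarith
      refine Nat.le_of_mul_le_mul_left ?_ (show 0 < 2 by norm_num)
      calc 2 * (B * (y + 8) * (y + 6))
          = (9 * (y + 9) + 1) * (3 * y + 26) * (y + 8) * (y + 6) := by rw [← hB1]; ring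
        _ ≤ 2 * (y + 9) * (3 * (y + 9) + 1) * (y + 10) * (y + 8) * (y + 6) := by
            refine Nat.mul_le_mul_right _ (Nat.mul_le_mul_right _ ?_)
            nlinarith
        _ = 2 * ((3 * (y + 9) + 1) * (y + 8)) * ((y + 6) * (y + 10)) * (y + 9) := by ring
        _ = 2 * (3 * s * t * (y + 9)) := by rw [← hs', ← ht']; ring

/-- The least index for the plus form over two elements. -/
theorem min_index_plus_two (hF : Fintype.card F = 2) (m : ℕ) (hm : 4 ≤ m) :
    (∀ H : Subgroup (Cfsg.POmega F ⇑(plusQ m F)), H ≠ ⊤ →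
      2 ^ (m - 1) * (2 ^ m - 1) ≤ H.index) ∧
    ∃ H : Subgroup (Cfsg.POmega F ⇑(plusQ m F)), H.index = 2 ^ (m - 1) * (2 ^ m - 1) := by
  obtain ⟨j, rfl⟩ : ∃ j, m = j + 4 := ⟨m - 4, by omega⟩
  set Q := plusQ (j + 4) F
  have hQ := plusQ_nondegenerate (F := F) (j + 4)
  let Fr := plusFrame (F := F) (j + 4) (by omega)
  have hn : Fintype.card (Fin (j + 4) ⊕ Fin (j + 4)) = 2 * j + 8 := by
    simp only [Fintype.card_sum, Fintype.card_fin]; omega
  obtain ⟨x, hx⟩ : ∃ x, 2 ^ (j + 2) = x := ⟨_, rfl⟩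
  have hx4 : 4 ≤ x := hx ▸ le_trans (by norm_num)
    (Nat.pow_le_pow_right (by norm_num : 0 < 2) (show 2 ≤ j + 2 by omega))
  have hp3 : 2 ^ (j + 3) = 2 * x := by rw [← hx, ← pow_succ']
  have hp4 : 2 ^ (j + 4) = 4 * x := by rw [← hx, show (4 : ℕ) = 2 ^ 2 from rfl, ← pow_add]; congr 1; omega
  have hp3' : 2 ^ (j + 4 - 1) = 2 * x := hp3
  rw [hp3', hp4]
  obtain ⟨y, rfl⟩ : ∃ y, x = y + 4 := ⟨x - 4, by omega⟩
  rw [show 4 * (y + 4) - 1 = 4 * y + 15 by omega]
  have hV0 : (vals Q (⊤ : Submodule F _) 0).card = (4 * y + 15) * (2 * (y + 4) + 1) + 1 := by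
    rw [card_vals_top_eq, coe_plusQ, card_zero_quadFormPlus hF (j + 4) (by omega),
      arith_plus le_rfl (by omega), hp3', hp4, show 4 * (y + 4) - 1 = 4 * y + 15 by omega]
  have hone : (vals Q (⊤ : Submodule F _) 1).card = 2 * (y + 4) * (4 * y + 15) := by
    have h := sum_vals (Q := Q) (⊤ : Submodule F (Fin (j + 4) ⊕ Fin (j + 4) → F))
    rw [Frame.card_top, hn, show 2 * j + 8 = 2 * (j + 4) by omega, hF, sq_even, hp4] at h
    have huniv : (Finset.univ : Finset F) = {0, 1} :=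
      (Finset.eq_of_subset_of_card_le (Finset.subset_univ _) (by
        rw [Finset.card_univ, hF, Finset.card_pair zero_ne_one])).symm
    rw [huniv, Finset.sum_pair zero_ne_one, hV0] at h
    nlinarith
  have hel : ∀ c : F, c ≠ 0 → c = 1 := fun c hc => by
    have h := FiniteField.pow_card_sub_one_eq_one c hc
    rwa [hF, pow_one] at h
  obtain ⟨H₀, hH₀⟩ := exists_index_class hQ (by omega) (by omega) (one_ne_zero (α := F))
  rw [hF, show (2 : ℕ) - 1 = 1 from rfl, one_mul, hone] at hH₀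
  refine ⟨fun H hH => ?_, H₀, hH₀⟩
  have e1 := Fr.card_vals_top 0
  have e2 := (Fr.card_vals_W 0).1
  rw [hn, show 2 * j + 8 - 2 = 2 * (j + 3) by omega, sq_even, hF, hp3, hV0,
    show (2 : ℕ) - 1 = 1 from rfl, one_mul] at e1
  rw [hn, show 2 * j + 8 - 4 = 2 * (j + 2) by omega, sq_even, hF, hx,
    show (2 : ℕ) - 1 = 1 from rfl, one_mul] at e2
  have hW0 : 1 ≤ (vals Q Fr.W 0).card :=
    Finset.card_pos.2 ⟨0, mem_vals.2 ⟨zero_mem _, QuadraticMap.map_zero Q⟩⟩
  have hW20 : 1 ≤ (vals Q Fr.W2 0).card :=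
    Finset.card_pos.2 ⟨0, mem_vals.2 ⟨zero_mem _, QuadraticMap.map_zero Q⟩⟩
  obtain ⟨s, hs⟩ : ∃ s, (vals Q Fr.W 0).card = s + 1 := ⟨_, (Nat.sub_add_cancel hW0).symm⟩
  obtain ⟨t, ht⟩ : ∃ t, (vals Q Fr.W2 0).card = t + 1 := ⟨_, (Nat.sub_add_cancel hW20).symm⟩
  rw [hs] at e1 e2
  rw [ht] at e2
  have hs' : s = (2 * (y + 4) - 1) * (y + 5) := by
    rw [show 2 * (y + 4) - 1 = 2 * y + 7 by omega]; nlinarith
  rw [show 2 * (y + 4) - 1 = 2 * y + 7 by omega] at hs'
  have ht' : 2 * t = (y + 3) * (y + 6) := by nlinarith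
  have hwitt : ∀ U : Submodule F (Fin (j + 4) ⊕ Fin (j + 4) → F), U ≤ Fr.W →
      (∀ v ∈ U, Q v = 0) → (elts U).card ≤ 2 * (y + 4) := by
    intro U hU hs
    rw [card_elts, hF, ← hp3]
    refine Nat.pow_le_pow_right (by norm_num) ?_
    have := Fr.two_mul_finrank_lt hQ hU hs
    omega
  have hreg : Fr.RegWitness := by
    by_cases h9 : 9 ≤ 2 * j + 8
    · exact Fr.regWitness_of_nine hQ (hn ▸ h9)
    · exact Fr.regWitness_two hQ (by omega) hF
  refine Fr.index_ge_small hQ (by omega) (by omega) (fun _ => by omega) ?_ (fun c hc => ?_) hwitt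
    (by omega) ?_ ?_ hreg H hH
  · rw [hF, show (2 : ℕ) - 1 = 1 from rfl, one_mul, hV0]
    nlinarith
  · rw [hF, show (2 : ℕ) - 1 = 1 from rfl, one_mul, hel c hc, hone]
  · rw [hF, Finset.card_erase_of_mem (mem_vals.2 ⟨zero_mem _, QuadraticMap.map_zero Q⟩), hs,
      Nat.add_sub_cancel, show 2 * (y + 4) - 1 = 2 * y + 7 by omega, hs']
    nlinarith [Nat.zero_le ((2 * y + 7) * (y + 4))]
  · rw [hF, Finset.card_erase_of_mem (mem_vals.2 ⟨zero_mem _, QuadraticMap.map_zero Q⟩),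
      Finset.card_erase_of_mem (mem_vals.2 ⟨zero_mem _, QuadraticMap.map_zero Q⟩), hs, ht,
      Nat.add_sub_cancel, Nat.add_sub_cancel, show 2 * (y + 4) - 1 = 2 * y + 7 by omega,
      show 2 * (y + 4) - 2 = 2 * (y + 3) by omega]
    calc 2 * (y + 4) * (4 * y + 15) * (2 * y + 7) * (2 * (y + 3))
        = 2 * (y + 4) * (2 * (4 * y + 15)) * (2 * y + 7) * (y + 3) := by ring
      _ ≤ 2 * (y + 4) * ((y + 5) * (y + 6)) * (2 * y + 7) * (y + 3) := by
          refine Nat.mul_le_mul_right _ (Nat.mul_le_mul_right _ (Nat.mul_le_mul_left _ ?_))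
          nlinarith
      _ = (2 * y + 7) * (y + 5) * ((y + 3) * (y + 6)) * (2 * (y + 4)) := by ring
      _ = _ := by rw [← hs', ← ht']; ring

/-- The least index for the odd form over three elements. -/
theorem min_index_odd_three (hF : Fintype.card F = 3) (m : ℕ) (hm : 3 ≤ m) :
    (∀ H : Subgroup (Cfsg.POmega F ⇑(oddQ m F)), H ≠ ⊤ →
      3 ^ m * (3 ^ m - 1) / 2 ≤ H.index) ∧
    ∃ H : Subgroup (Cfsg.POmega F ⇑(oddQ m F)), H.index = 3 ^ m * (3 ^ m - 1) / 2 := by
  obtain ⟨j, rfl⟩ : ∃ j, m = j + 3 := ⟨m - 3, by omega⟩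
  have h3F : (3 : F) = 0 := by
    have h := Nat.cast_card_eq_zero F
    rw [hF] at h
    exact_mod_cast h
  have h2 : (2 : F) ≠ 0 := fun h => one_ne_zero (show (1 : F) = 0 by linear_combination h3F - h)
  set Q := oddQ (j + 3) F
  have hQ := oddQ_nondegenerate (F := F) h2 (j + 3)
  let Fr := oddFrame (F := F) (j + 3) (by omega)
  have hn : Fintype.card (Unit ⊕ (Fin (j + 3) ⊕ Fin (j + 3))) = 2 * j + 7 := by
    simp only [Fintype.card_sum, Fintype.card_fin, Fintype.card_unit]; omega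
  obtain ⟨x, hx⟩ : ∃ x, 3 ^ (j + 1) = x := ⟨_, rfl⟩
  have hx3 : 3 ≤ x := hx ▸ Nat.le_self_pow (by omega) 3
  have hp2 : 3 ^ (j + 2) = 3 * x := by rw [← hx, ← pow_succ']
  have hp3 : 3 ^ (j + 3) = 9 * x := by
    rw [← hx, show (9 : ℕ) = 3 ^ 2 from rfl, ← pow_add]; congr 1; omega
  rw [hp3]
  obtain ⟨y, rfl⟩ : ∃ y, x = y + 3 := ⟨x - 3, by omega⟩
  rw [show 9 * (y + 3) - 1 = 9 * y + 26 by omega]
  have hV0 : (vals Q (⊤ : Submodule F _) 0).card = 81 * ((y + 3) * (y + 3)) := by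
    rw [card_vals_top_eq, coe_oddQ, card_zero_quadFormOdd hF, sq_even, hp3]
    ring
  have hcls : ∀ c : F, 3 * (vals Q (⊤ : Submodule F _) c).card + 27 * (y + 3) =
      243 * ((y + 3) * (y + 3)) + 27 * (y + 3) * Nat.card {w : Unit → F // sqForm F w = c} := by
    intro c
    have h := card_hsum_eq (⇑(sqForm F)) (j + 3) c
    have e : Nat.card {v // hsum (j + 3) (⇑(sqForm F)) v = c} =
        (vals Q (⊤ : Submodule F _) c).card := by
      rw [card_vals_top_eq, coe_oddQ]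
      exact Nat.card_congr ((Equiv.arrowCongr (Equiv.sumComm Unit (Fin (j + 3) ⊕ Fin (j + 3))).symm
        (Equiv.refl F)).subtypeEquiv fun v => by rw [hsum_odd]; rfl)
    have p1 : (3 : ℤ) ^ (2 * (j + 3) + 1) = ((3 * (9 * (y + 3)) * (9 * (y + 3)) : ℕ) : ℤ) := by
      rw [← hp3, mul_assoc, ← pow_add, ← pow_succ', ← two_mul]
      push_cast
      ring
    have p2 : (3 : ℤ) ^ (j + 3) = ((9 * (y + 3) : ℕ) : ℤ) := by rw [← hp3]; push_cast; ring
    rw [e, hF, Fintype.card_unit, pow_one] at h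
    push_cast at h
    rw [p1, p2] at h
    push_cast at h
    zify
    linear_combination h
  have hm1 : Nat.card {w : Unit → F // sqForm F w = -1} = 0 := by
    have : IsEmpty {w : Unit → F // sqForm F w = -1} := ⟨fun ⟨w, hw⟩ => by
      by_cases h0 : w () = 0
      · simp [sqForm, h0] at hw
      · have h1 := sq_eq_one_of_le_three hF.le h0
        simp [sqForm, h1] at hw
        exact h2 (by linear_combination hw)⟩
    exact Nat.card_of_isEmpty
  have hneg := hcls (-1)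
  rw [hm1, mul_zero, add_zero] at hneg
  obtain ⟨H₀, hH₀⟩ := exists_index_class hQ (by omega) (by omega)
    (neg_ne_zero.2 (one_ne_zero (α := F)))
  rw [hF, show (3 : ℕ) - 1 = 2 from rfl] at hH₀
  have hH₀2 : 2 * H₀.index = 9 * (y + 3) * (9 * y + 26) := by
    rw [hH₀]; nlinarith
  have hB : H₀.index = 9 * (y + 3) * (9 * y + 26) / 2 := by omega
  refine ⟨fun H hH => ?_, H₀, hB⟩
  rw [← hB]
  have e1 := Fr.card_vals_top 0
  have e2 := (Fr.card_vals_W 0).1
  rw [hn, hF, hV0, show 2 * j + 7 - 2 = 2 * (j + 2) + 1 by omega, pow_succ, sq_even, hp2] at e1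
  rw [hn, hF, show 2 * j + 7 - 4 = 2 * (j + 1) + 1 by omega, pow_succ, sq_even, hx] at e2
  have hW0 : 1 ≤ (vals Q Fr.W 0).card :=
    Finset.card_pos.2 ⟨0, mem_vals.2 ⟨zero_mem _, QuadraticMap.map_zero Q⟩⟩
  have hW20 : 1 ≤ (vals Q Fr.W2 0).card :=
    Finset.card_pos.2 ⟨0, mem_vals.2 ⟨zero_mem _, QuadraticMap.map_zero Q⟩⟩
  obtain ⟨s, hs⟩ : ∃ s, (vals Q Fr.W 0).card = s + 1 := ⟨_, (Nat.sub_add_cancel hW0).symm⟩
  obtain ⟨t, ht⟩ : ∃ t, (vals Q Fr.W2 0).card = t + 1 := ⟨_, (Nat.sub_add_cancel hW20).symm⟩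
  simp only [show (3 : ℕ) - 1 = 2 from rfl, hs, ht] at e1 e2
  have hs' : s = (3 * y + 8) * (3 * y + 10) := by nlinarith
  have ht' : t = (y + 2) * (y + 4) := by nlinarith
  have hwitt : ∀ U : Submodule F (Unit ⊕ (Fin (j + 3) ⊕ Fin (j + 3)) → F), U ≤ Fr.W →
      (∀ v ∈ U, Q v = 0) → (elts U).card ≤ 3 * (y + 3) := by
    intro U hU hs
    rw [card_elts, hF, ← hp2]
    refine Nat.pow_le_pow_right (by norm_num) ?_
    have := Fr.two_mul_finrank_lt hQ hU hs
    omega
  have hreg : Fr.RegWitness := by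
    by_cases h9 : 9 ≤ 2 * j + 7
    · exact Fr.regWitness_of_nine hQ (hn ▸ h9)
    · exact Fr.regWitness_three hQ (by omega) hF
  refine Fr.index_ge_small hQ (by omega) (by omega) (fun h => by omega) ?_ (fun c hc => ?_) hwitt
    (by omega) ?_ ?_ hreg H hH
  · have h81 : 81 * ((y + 3) * (y + 3)) = 9 * (y + 3) * (9 * y + 26) + 9 * (y + 3) := by ring
    simp only [Q] at hV0
    rw [hF, hV0]
    omega
  · have := hcls c
    simp only [Q] at this hneg
    rw [hF]
    omega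
  · rw [hF, Finset.card_erase_of_mem (mem_vals.2 ⟨zero_mem _, QuadraticMap.map_zero Q⟩), hs,
      Nat.add_sub_cancel, show 3 * (y + 3) - 1 = 3 * y + 8 by omega, hs']
    refine Nat.le_of_mul_le_mul_left ?_ (show 0 < 2 by norm_num)
    calc 2 * (H₀.index * (3 * y + 8)) = 9 * (y + 3) * (9 * y + 26) * (3 * y + 8) := by
          rw [← hH₀2]; ring
      _ ≤ 36 * (y + 3) * (3 * y + 10) * (3 * y + 8) := by
          refine Nat.mul_le_mul_right _ ?_
          nlinarith
      _ = _ := by ring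
  · rw [hF, Finset.card_erase_of_mem (mem_vals.2 ⟨zero_mem _, QuadraticMap.map_zero Q⟩),
      Finset.card_erase_of_mem (mem_vals.2 ⟨zero_mem _, QuadraticMap.map_zero Q⟩), hs, ht,
      Nat.add_sub_cancel, Nat.add_sub_cancel, show 3 * (y + 3) - 1 = 3 * y + 8 by omega,
      show 3 * (y + 3) - 3 = 3 * (y + 2) by omega, hs', ht']
    refine Nat.le_of_mul_le_mul_left ?_ (show 0 < 2 by norm_num)
    calc 2 * (H₀.index * (3 * y + 8) * (3 * (y + 2)))
        = 9 * (y + 3) * (3 * (9 * y + 26)) * (3 * y + 8) * (y + 2) := by rw [← mul_assoc 2, ← mul_assoc 2, hH₀2]; ring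
      _ ≤ 9 * (y + 3) * (2 * (3 * y + 10) * (y + 4)) * (3 * y + 8) * (y + 2) := by
          refine Nat.mul_le_mul_right _ (Nat.mul_le_mul_right _ (Nat.mul_le_mul_left _ ?_))
          nlinarith
      _ = _ := by ring

end CfsgLib.MinDegree.Orth
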