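import Cfsg.Agent.MinDegree.OrthMain

/-!
# Frames of the standard forms
-/

set_option autoImplicit false

namespace CfsgLib.MinDegree.Orth

open Matrix CfsgLib.Spinor CfsgLib.Forms CfsgLib.Forms4 CfsgLib.StdForms

variable {F : Type*} [Field F]

/-- The first three hyperbolic pairs of the plus form. -/
noncomputable def plusFrame (m : ℕ) (hm : 3 ≤ m) : Frame (plusQ m F) where
  e := Pi.single (.inl ⟨0, by omega⟩) 1
  f := Pi.single (.inr ⟨0, by omega⟩) 1
  a := Pi.single (.inl ⟨1, by omega⟩) 1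
  a' := Pi.single (.inr ⟨1, by omega⟩) 1
  b := Pi.single (.inl ⟨2, by omega⟩) 1
  b' := Pi.single (.inr ⟨2, by omega⟩) 1
  qe := by simp [plusQ_apply, Cfsg.quadFormPlus, Pi.single_apply]
  qf := by simp [plusQ_apply, Cfsg.quadFormPlus, Pi.single_apply]
  qa := by simp [plusQ_apply, Cfsg.quadFormPlus, Pi.single_apply]
  qa' := by simp [plusQ_apply, Cfsg.quadFormPlus, Pi.single_apply]
  qb := by simp [plusQ_apply, Cfsg.quadFormPlus, Pi.single_apply]
  qb' := by simp [plusQ_apply, Cfsg.quadFormPlus, Pi.single_apply]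
  ef := by simp [polar_plus, Pi.single_apply]
  aa' := by simp [polar_plus, Pi.single_apply]
  bb' := by simp [polar_plus, Pi.single_apply]
  ea := by simp [polar_plus, Pi.single_apply]
  ea' := by simp [polar_plus, Pi.single_apply]
  eb := by simp [polar_plus, Pi.single_apply]
  eb' := by simp [polar_plus, Pi.single_apply]
  fa := by simp [polar_plus, Pi.single_apply]
  fa' := by simp [polar_plus, Pi.single_apply]
  fb := by simp [polar_plus, Pi.single_apply]
  fb' := by simp [polar_plus, Pi.single_apply]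
  ab := by simp [polar_plus, Pi.single_apply]
  ab' := by simp [polar_plus, Pi.single_apply]
  a'b := by simp [polar_plus, Pi.single_apply]
  a'b' := by simp [polar_plus, Pi.single_apply]

/-- The first three hyperbolic pairs of the odd form. -/
noncomputable def oddFrame (m : ℕ) (hm : 3 ≤ m) : Frame (oddQ m F) where
  e := Pi.single (.inr (.inl ⟨0, by omega⟩)) 1
  f := Pi.single (.inr (.inr ⟨0, by omega⟩)) 1
  a := Pi.single (.inr (.inl ⟨1, by omega⟩)) 1
  a' := Pi.single (.inr (.inr ⟨1, by omega⟩)) 1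
  b := Pi.single (.inr (.inl ⟨2, by omega⟩)) 1
  b' := Pi.single (.inr (.inr ⟨2, by omega⟩)) 1
  qe := by simp [oddQ_apply, Cfsg.quadFormOdd, Pi.single_apply]
  qf := by simp [oddQ_apply, Cfsg.quadFormOdd, Pi.single_apply]
  qa := by simp [oddQ_apply, Cfsg.quadFormOdd, Pi.single_apply]
  qa' := by simp [oddQ_apply, Cfsg.quadFormOdd, Pi.single_apply]
  qb := by simp [oddQ_apply, Cfsg.quadFormOdd, Pi.single_apply]
  qb' := by simp [oddQ_apply, Cfsg.quadFormOdd, Pi.single_apply]
  ef := by simp [polar_odd, Pi.single_apply]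
  aa' := by simp [polar_odd, Pi.single_apply]
  bb' := by simp [polar_odd, Pi.single_apply]
  ea := by simp [polar_odd, Pi.single_apply]
  ea' := by simp [polar_odd, Pi.single_apply]
  eb := by simp [polar_odd, Pi.single_apply]
  eb' := by simp [polar_odd, Pi.single_apply]
  fa := by simp [polar_odd, Pi.single_apply]
  fa' := by simp [polar_odd, Pi.single_apply]
  fb := by simp [polar_odd, Pi.single_apply]
  fb' := by simp [polar_odd, Pi.single_apply]
  ab := by simp [polar_odd, Pi.single_apply]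
  ab' := by simp [polar_odd, Pi.single_apply]
  a'b := by simp [polar_odd, Pi.single_apply]
  a'b' := by simp [polar_odd, Pi.single_apply]

/-- The first three hyperbolic pairs of the minus form. -/
noncomputable def minusFrame (k : ℕ) (hk : 3 ≤ k) (a b : F) : Frame (minusQ k F a b) where
  e := Pi.single (.inl (.inl ⟨0, by omega⟩)) 1
  f := Pi.single (.inl (.inr ⟨0, by omega⟩)) 1
  a := Pi.single (.inl (.inl ⟨1, by omega⟩)) 1
  a' := Pi.single (.inl (.inr ⟨1, by omega⟩)) 1
  b := Pi.single (.inl (.inl ⟨2, by omega⟩)) 1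
  b' := Pi.single (.inl (.inr ⟨2, by omega⟩)) 1
  qe := by simp [minusQ_apply, Cfsg.quadFormMinus, Pi.single_apply]
  qf := by simp [minusQ_apply, Cfsg.quadFormMinus, Pi.single_apply]
  qa := by simp [minusQ_apply, Cfsg.quadFormMinus, Pi.single_apply]
  qa' := by simp [minusQ_apply, Cfsg.quadFormMinus, Pi.single_apply]
  qb := by simp [minusQ_apply, Cfsg.quadFormMinus, Pi.single_apply]
  qb' := by simp [minusQ_apply, Cfsg.quadFormMinus, Pi.single_apply]
  ef := by simp [polar_minus, Pi.single_apply]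
  aa' := by simp [polar_minus, Pi.single_apply]
  bb' := by simp [polar_minus, Pi.single_apply]
  ea := by simp [polar_minus, Pi.single_apply]
  ea' := by simp [polar_minus, Pi.single_apply]
  eb := by simp [polar_minus, Pi.single_apply]
  eb' := by simp [polar_minus, Pi.single_apply]
  fa := by simp [polar_minus, Pi.single_apply]
  fa' := by simp [polar_minus, Pi.single_apply]
  fb := by simp [polar_minus, Pi.single_apply]
  fb' := by simp [polar_minus, Pi.single_apply]
  ab := by simp [polar_minus, Pi.single_apply]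
  ab' := by simp [polar_minus, Pi.single_apply]
  a'b := by simp [polar_minus, Pi.single_apply]
  a'b' := by simp [polar_minus, Pi.single_apply]

theorem arith_plus {q m : ℕ} (hq : 2 ≤ q) (hm : 1 ≤ m) :
    q ^ (2 * m - 1) + q ^ m - q ^ (m - 1) = (q ^ m - 1) * (q ^ (m - 1) + 1) + 1 := by
  obtain ⟨k, rfl⟩ : ∃ k, m = k + 1 := ⟨m - 1, by omega⟩
  obtain ⟨x, hx⟩ : ∃ x, q ^ k = x := ⟨_, rfl⟩
  have hx1 : 1 ≤ x := hx ▸ Nat.one_le_pow _ _ (by omega)
  have h : q ^ (2 * (k + 1) - 1) = q * x * x := by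
    rw [show 2 * (k + 1) - 1 = 1 + k + k by omega, pow_add, pow_add, pow_one, hx]
  rw [h, Nat.add_sub_cancel, pow_succ', hx]
  have h1 : x ≤ q * x := Nat.le_mul_of_pos_left _ (by omega)
  zify [show x ≤ q * x * x + q * x by omega, show 1 ≤ q * x by omega]
  ring

theorem arith_minus {q m : ℕ} (hq : 2 ≤ q) (hm : 2 ≤ m) :
    q ^ (2 * m - 1) + q ^ (m - 1) - q ^ m = (q ^ m + 1) * (q ^ (m - 1) - 1) + 1 := by
  obtain ⟨k, rfl⟩ : ∃ k, m = k + 1 := ⟨m - 1, by omega⟩
  obtain ⟨x, hx⟩ : ∃ x, q ^ k = x := ⟨_, rfl⟩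
  have hx1 : 1 ≤ x := hx ▸ Nat.one_le_pow _ _ (by omega)
  have h : q ^ (2 * (k + 1) - 1) = q * x * x := by
    rw [show 2 * (k + 1) - 1 = 1 + k + k by omega, pow_add, pow_add, pow_one, hx]
  rw [h, Nat.add_sub_cancel, pow_succ', hx]
  have h1 : q * x ≤ q * x * x := Nat.le_mul_of_pos_right _ hx1
  zify [show q * x ≤ q * x * x + x by omega, hx1]
  ring

end CfsgLib.MinDegree.Orth
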