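import Cfsg.Agent.MinDegree.OrthSmallMain
import Cfsg.Agent.MinDegree.OrthStd

/-!
# Tools for the instances over fields with two or three elements

The bound on the index from numerical data, the stabiliser of a non-singular point, totally singular
subspaces, and elements excluding a single regular orbit.
-/

set_option autoImplicit false
set_option linter.unusedSectionVars false

namespace CfsgLib.MinDegree.Orth

open Matrix Module CfsgLib.Spinor CfsgLib.Forms CfsgLib.Forms4 CfsgLib.OrthMax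
open scoped Classical

variable {F : Type*} [Field F] {ι : Type} [Fintype ι] [DecidableEq ι] {Q : QuadraticForm F (ι → F)}
  [Fintype F]

set_option quotPrecheck false in
local notation "𝔅" => QuadraticMap.polar (⇑Q)
local notation "qF" => Fintype.card F
local notation "nι" => Fintype.card ι

theorem card_vals_top_eq (c : F) :
    (vals Q (⊤ : Submodule F (ι → F)) c).card = Nat.card {v // Q v = c} := by
  rw [Nat.card_eq_fintype_card, Fintype.card_subtype]
  congr 1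
  ext v
  simp [mem_vals]

/-- Numerical data bound the index. -/
theorem Frame.index_ge_small (Fr : Frame Q) (hQ : (QuadraticMap.polarBilin Q).Nondegenerate)
    (hn : 7 ≤ nι) (hq3 : qF ≤ 3) (hn8 : qF = 2 → 8 ≤ nι) {B M : ℕ}
    (hB0 : (qF - 1) * B + 1 ≤ (vals Q (⊤ : Submodule F (ι → F)) 0).card)
    (hBc : ∀ c : F, c ≠ 0 → (qF - 1) * B ≤ (vals Q (⊤ : Submodule F (ι → F)) c).card)
    (hwitt : ∀ U : Submodule F (ι → F), U ≤ Fr.W → (∀ x ∈ U, Q x = 0) → (elts U).card ≤ M)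
    (hM : qF < M)
    (hmixed : B * (M - 1) ≤ 2 * qF * ((vals Q Fr.W 0).erase 0).card * M)
    (hflat : B * (M - 1) * (M - qF) ≤
      qF * ((vals Q Fr.W 0).erase 0).card * ((vals Q Fr.W2 0).erase 0).card * M)
    (hreg : Fr.RegWitness) (H : Subgroup (Cfsg.POmega F ⇑Q)) (hH : H ≠ ⊤) : B ≤ H.index := by
  by_contra! hlt
  obtain ⟨K, hK, hKi⟩ := exists_index_eq hQ (by omega) H hH
  let _ : Fintype (EG Q ⧸ K) := Fintype.ofFinite _
  have hcard : Fintype.card (EG Q ⧸ K) = H.index := by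
    rw [← Nat.card_eq_fintype_card, ← Subgroup.index_eq_card, hKi]
  have : Nontrivial (EG Q ⧸ K) := Fintype.one_lt_card_iff_nontrivial.1 (by
    have h1 := Subgroup.index_ne_zero_of_finite (H := K)
    have h2 : K.index ≠ 1 := fun h => hK (Subgroup.index_eq_one.1 h)
    rw [hcard, ← hKi]
    omega)
  have hq := two_le_q (F := F)
  have hlt' := Nat.mul_lt_mul_of_pos_left hlt (show 0 < qF - 1 by omega)
  refine Fr.small_false hQ hn hq3 hn8 (Ω := EG Q ⧸ K) ?_ ?_ hwitt ?_ ?_ hreg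
  · unfold Small
    rw [hcard]
    omega
  · intro c hc
    rw [hcard]
    exact lt_of_lt_of_le hlt' (hBc c hc)
  · rw [hcard]
    exact lt_of_lt_of_le (Nat.mul_lt_mul_of_pos_right hlt (by omega)) hmixed
  · rw [hcard]
    exact lt_of_lt_of_le (Nat.mul_lt_mul_of_pos_right (Nat.mul_lt_mul_of_pos_right hlt (by omega))
      (by omega)) hflat

/-- The stabiliser of a non-singular point. -/
theorem exists_index_class (hQ : (QuadraticMap.polarBilin Q).Nondegenerate) (hn : 5 ≤ nι)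
    (hq3 : qF ≤ 3) {c : F} (hc : c ≠ 0) :
    ∃ H : Subgroup (Cfsg.POmega F ⇑Q),
      (qF - 1) * H.index = (vals Q (⊤ : Submodule F (ι → F)) c).card := by
  obtain ⟨P⟩ := nonempty_twoPairs hQ hn
  set x₀ := P.e + c • P.f with hx₀
  have hqx₀ : Q x₀ = c := by
    rw [hx₀, QuadraticMap.map_add (⇑Q), QuadraticMap.map_smul, P.qe, P.qf,
      QuadraticMap.polar_smul_right, P.ef]
    simp
  have hx₀0 : x₀ ≠ 0 := fun h => hc (by rw [← hqx₀, h, QuadraticMap.map_zero])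
  refine ⟨(lineStab Q x₀).map (toPOmega (P.omega_eq_eichGroup hQ hn)), ?_⟩
  rw [Subgroup.index_map_eq _ (toPOmega_surjective _) ?_]
  swap
  · intro g hg
    rw [MonoidHom.mem_ker] at hg
    have hg' : (MulEquiv.subgroupCongr (P.omega_eq_eichGroup hQ hn).symm g) ∈
        Subgroup.center ↥(Cfsg.Omega F ⇑Q) := (QuotientGroup.eq_one_iff _).1 hg
    obtain ⟨r, hr, hgr⟩ := (TwoPairs.mem_center_omega_iff hQ hn P _).1 hg'
    refine ⟨r, left_ne_zero_of_mul_eq_one hr, ?_⟩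
    change mat Q g.1 *ᵥ x₀ = r • x₀
    rw [show mat Q g.1 = r • 1 from hgr, smul_mulVec, one_mulVec]
  set K := lineStab Q x₀
  let _ : Fintype (EG Q ⧸ K) := Fintype.ofFinite _
  have hne : ∀ g : EG Q, mv g x₀ ≠ 0 := fun g h => hx₀0 (mv_injective g (h.trans (mv_zero g).symm))
  rw [Subgroup.index_eq_card, Nat.card_eq_fintype_card, ← Fintype.card_units, ← Fintype.card_prod,
    ← Finset.card_univ]
  refine Finset.card_bij (fun x _ => (x.1 : F) • mv x.2.out x₀) ?_ ?_ ?_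
  · intro x _
    exact mem_vals.2 ⟨Submodule.mem_top, by rw [QuadraticMap.map_smul, quad_mv, hqx₀,
      sq_eq_one_of_le_three hq3 x.1.ne_zero, one_smul]⟩
  · rintro ⟨u, k⟩ _ ⟨u', k'⟩ _ h
    simp only at h
    have hkk : k = k' := by
      rw [← QuotientGroup.out_eq' k, ← QuotientGroup.out_eq' k']
      refine QuotientGroup.eq.2 ⟨(u' : F)⁻¹ * u, mul_ne_zero (inv_ne_zero u'.ne_zero) u.ne_zero,
        mv_injective k.out ?_⟩
      rw [mv_mul, mv_mv_inv, mv_smul, mul_smul, h, inv_smul_smul₀ u'.ne_zero]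
    subst hkk
    exact Prod.ext (Units.ext (smul_left_injective F (hne _) h)) rfl
  · intro v hv
    obtain ⟨s, hs, hsv⟩ := P.exists_to_value hQ hc (mem_vals.1 hv).2
    have hsv' : mv (⟨s, hs⟩ : EG Q) v = x₀ := hsv
    obtain ⟨k, hk⟩ := QuotientGroup.mk_out_eq_mul K ((⟨s, hs⟩ : EG Q)⁻¹)
    obtain ⟨γ, hγ, hγe⟩ := k.2
    refine ⟨(Units.mk0 γ⁻¹ (inv_ne_zero hγ), ((⟨s, hs⟩ : EG Q)⁻¹ : EG Q)), Finset.mem_univ _, ?_⟩
    simp only [Units.val_mk0]
    rw [hk, mv_mul, hγe, mv_smul, inv_smul_smul₀ hγ, ← hsv', mv_inv_mv]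

/-- A totally singular subspace is at most as large as one with anisotropic perpendicular. -/
theorem witt_le (hQ : (QuadraticMap.polarBilin Q).Nondegenerate) {X U : Submodule F (ι → F)}
    (hX : ∀ x ∈ X, Q x = 0) (hn : nι ≤ 2 * finrank F X + 2)
    (hani : ∀ v, (∀ x ∈ X, 𝔅 x v = 0) → Q v = 0 → v ∈ X) (hU : ∀ x ∈ U, Q x = 0) :
    finrank F U ≤ finrank F X := by
  by_contra! hlt
  have hiso : U ≤ qperp Q U := fun x hx => mem_qperp.2 fun w hw => by
    have h := hU _ (add_mem hw hx)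
    rwa [QuadraticMap.map_add (⇑Q), hU w hw, hU x hx, zero_add, zero_add] at h
  have h1 := Submodule.finrank_mono hiso
  rw [finrank_qperp hQ] at h1
  have hUeq : U = qperp Q U := Submodule.eq_of_le_of_finrank_le hiso (by
    rw [finrank_qperp hQ]; omega)
  have hinf : qperp Q (U ⊔ X) = U ⊓ X := by
    ext x
    rw [mem_qperp]
    constructor
    · intro h
      have hxU : x ∈ U := by
        rw [hUeq, mem_qperp]
        exact fun w hw => h w (Submodule.mem_sup_left hw)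
      exact ⟨hxU, hani x (fun w hw => h w (Submodule.mem_sup_right hw)) (hU x hxU)⟩
    · rintro ⟨hxU, hxX⟩ w hw
      obtain ⟨u, hu, v, hv, rfl⟩ := Submodule.mem_sup.1 hw
      have h1 := hU _ (add_mem hu hxU)
      have h2 := hX _ (add_mem hv hxX)
      rw [QuadraticMap.map_add (⇑Q), hU u hu, hU x hxU, zero_add, zero_add] at h1
      rw [QuadraticMap.map_add (⇑Q), hX v hv, hX x hxX, zero_add, zero_add] at h2
      rw [QuadraticMap.polar_add_left, h1, h2, add_zero]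
  have h2 := Submodule.finrank_sup_add_finrank_inf_eq U X
  have h3 := finrank_qperp hQ (U ⊔ X)
  rw [hinf] at h3
  have h4 := Submodule.finrank_le (U ⊔ X)
  rw [Module.finrank_pi] at h4
  omega

namespace Frame

variable (Fr : Frame Q) (hQ : (QuadraticMap.polarBilin Q).Nondegenerate)

/-- Adjoining the first vector. -/
theorem finrank_sup_e {U : Submodule F (ι → F)} (hU : U ≤ Fr.W) :
    finrank F (U ⊔ Submodule.span F {Fr.e} : Submodule F (ι → F)) = finrank F U + 1 := by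
  have he0 : Fr.e ≠ 0 := fun h => by
    have := Fr.ef
    rw [h, QuadraticMap.polar_zero_left] at this
    exact zero_ne_one this
  have hdis : Disjoint U (Submodule.span F {Fr.e}) :=
    (Submodule.disjoint_span_singleton' he0).2 fun he => by
      have := (Fr.mem_W.1 (hU he)).2
      rw [Fr.fe] at this
      exact one_ne_zero this
  have h1 := Submodule.finrank_sup_add_finrank_inf_eq U (Submodule.span F {Fr.e})
  rw [hdis.eq_bot, finrank_bot, finrank_span_singleton he0, add_zero] at h1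
  exact h1

theorem sup_e_singular {U : Submodule F (ι → F)} (hU : U ≤ Fr.W) (hs : ∀ x ∈ U, Q x = 0) :
    ∀ x ∈ U ⊔ Submodule.span F {Fr.e}, Q x = 0 := by
  intro x hx
  obtain ⟨u, hu, v, hv, rfl⟩ := Submodule.mem_sup.1 hx
  obtain ⟨c, rfl⟩ := Submodule.mem_span_singleton.1 hv
  rw [QuadraticMap.map_add (⇑Q), QuadraticMap.map_smul, hs u hu, Fr.qe,
    QuadraticMap.polar_smul_right, QuadraticMap.polar_comm, (Fr.mem_W.1 (hU hu)).1]
  simp

include hQ in
/-- Totally singular subspaces of `W` have less than half of the dimension. -/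
theorem two_mul_finrank_lt {U : Submodule F (ι → F)} (hU : U ≤ Fr.W) (hs : ∀ x ∈ U, Q x = 0) :
    2 * (finrank F U + 1) ≤ nι := by
  rw [← Fr.finrank_sup_e hU]
  have hs' := Fr.sup_e_singular hU hs
  have h1 := Submodule.finrank_mono (show (U ⊔ Submodule.span F {Fr.e} : Submodule F (ι → F)) ≤
      qperp Q (U ⊔ Submodule.span F {Fr.e}) from fun x hx => mem_qperp.2 fun w hw => by
    have h := hs' _ (add_mem hw hx)
    rwa [QuadraticMap.map_add (⇑Q), hs' w hw, hs' x hx, zero_add, zero_add] at h)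
  rw [finrank_qperp hQ] at h1
  omega

theorem quad_span3 {v : ι → F} (hv : v ∈ Fr.W3) (α β γ : F) :
    Q (α • Fr.a + β • Fr.b + γ • v) = γ * γ * Q v := by
  obtain ⟨hv2, hbv, -⟩ := Fr.mem_W3.1 hv
  obtain ⟨-, hav, -⟩ := Fr.mem_W2.1 hv2
  simp [QuadraticMap.map_add (⇑Q), QuadraticMap.map_smul, QuadraticMap.polar_add_left,
    QuadraticMap.polar_smul_left, QuadraticMap.polar_smul_right, Fr.qa, Fr.qb, Fr.ab, hav, hbv]

/-- A singular vector in `W3` gives a totally singular subspace of dimension three in `W`. -/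
theorem W3_anisotropic
    (hwitt : ∀ U : Submodule F (ι → F), U ≤ Fr.W → (∀ x ∈ U, Q x = 0) → (elts U).card ≤ qF ^ 2)
    {v : ι → F} (hv : v ∈ Fr.W3) (hq : Q v = 0) : v = 0 := by
  by_contra hv0
  obtain ⟨hv2, hbv, hb'v⟩ := Fr.mem_W3.1 hv
  obtain ⟨hvW, hav, ha'v⟩ := Fr.mem_W2.1 hv2
  set U := Submodule.span F ({Fr.a, Fr.b, v} : Set (ι → F))
  have hmem : ∀ {x}, x ∈ U ↔ ∃ α β γ : F, α • Fr.a + β • Fr.b + γ • v = x := fun {x} => by
    simp only [U, Submodule.mem_span_insert, Submodule.mem_span_singleton]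
    constructor
    · rintro ⟨α, _, ⟨β, _, ⟨γ, rfl⟩, rfl⟩, rfl⟩
      exact ⟨α, β, γ, by rw [add_assoc]⟩
    · rintro ⟨α, β, γ, rfl⟩
      exact ⟨α, _, ⟨β, _, ⟨γ, rfl⟩, rfl⟩, by rw [add_assoc]⟩
  have hUW : U ≤ Fr.W := Submodule.span_le.2 (by
    rintro x (rfl | rfl | rfl)
    exacts [Fr.a_mem, Fr.b_mem, hvW])
  have h := hwitt U hUW fun x hx => by
    obtain ⟨α, β, γ, rfl⟩ := hmem.1 hx
    rw [Fr.quad_span3 hv, hq, mul_zero]
  have hinj : Function.Injective fun d : (F × F) × F => d.1.1 • Fr.a + d.1.2 • Fr.b + d.2 • v := by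
    rintro ⟨⟨α, β⟩, γ⟩ ⟨⟨α', β'⟩, γ'⟩ h
    simp only at h
    have h1 : α = α' := by
      have := congrArg (𝔅 Fr.a') h
      simpa [QuadraticMap.polar_add_right, QuadraticMap.polar_smul_right, Fr.a'a, Fr.a'b, ha'v]
        using this
    have h2 : β = β' := by
      have := congrArg (𝔅 Fr.b') h
      simpa [QuadraticMap.polar_add_right, QuadraticMap.polar_smul_right, Fr.b'b, Fr.b'a, hb'v]
        using this
    subst h1 h2
    rw [add_right_inj] at h
    exact Prod.ext rfl (smul_left_injective F hv0 h)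
  have h1 : (Finset.univ.image fun d : (F × F) × F => d.1.1 • Fr.a + d.1.2 • Fr.b + d.2 • v).card ≤
      (elts U).card := Finset.card_le_card fun x hx => by
    obtain ⟨d, -, rfl⟩ := Finset.mem_image.1 hx
    exact mem_elts.2 (hmem.2 ⟨_, _, _, rfl⟩)
  rw [Finset.card_image_of_injective _ hinj, Finset.card_univ, Fintype.card_prod,
    Fintype.card_prod] at h1
  have hq2 := two_le_q (F := F)
  have h2 := h1.trans h
  rw [sq] at h2
  have h3 := Nat.mul_le_mul_left (qF * qF) hq2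
  have : 0 < qF * qF := by positivity
  omega

include hQ in
/-- Dimension nine on: enough pairs. -/
theorem regWitness_of_nine (hn : 9 ≤ nι) : Fr.RegWitness := by
  refine Or.inl fun z _ => ?_
  set S := perpSub Q ![Fr.e, Fr.f, Fr.a, Fr.a', Fr.b, Fr.b', z] with hS
  have hmem : ∀ {w}, w ∈ S → w ∈ Fr.W3 ∧ 𝔅 z w = 0 := fun hw =>
    ⟨⟨⟨⟨mem_perpSub.1 hw 0, mem_perpSub.1 hw 1⟩, mem_perpSub.1 hw 2, mem_perpSub.1 hw 3⟩,
      mem_perpSub.1 hw 4, mem_perpSub.1 hw 5⟩, mem_perpSub.1 hw 6⟩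
  obtain ⟨w, hw, w', hw', hne⟩ : ∃ w ∈ S, ∃ w' ∈ S, 𝔅 w w' ≠ 0 := by
    by_contra! hc
    have hdim : nι ≤ finrank F S + 7 := by
      have := le_finrank_perpSub Q ![Fr.e, Fr.f, Fr.a, Fr.a', Fr.b, Fr.b', z]
      rwa [Module.finrank_pi] at this
    have hSW : S ≤ Fr.W := fun w hw => (Fr.mem_W2.1 (Fr.mem_W3.1 (hmem hw).1).1).1
    set U := S ⊔ Submodule.span F ({Fr.a, Fr.b} : Set (ι → F))
    have ha0 : Fr.a ≠ 0 := fun h => by
      have := Fr.aa'
      rw [h, QuadraticMap.polar_zero_left] at this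
      exact zero_ne_one this
    have hb0 : Fr.b ≠ 0 := fun h => by
      have := Fr.bb'
      rw [h, QuadraticMap.polar_zero_left] at this
      exact zero_ne_one this
    have hUW : U ≤ Fr.W := sup_le hSW (Submodule.span_le.2 (by
      rintro x (rfl | rfl)
      exacts [Fr.a_mem, Fr.b_mem]))
    have hUd : finrank F S + 2 ≤ finrank F U := by
      have h1 : Disjoint S (Submodule.span F {Fr.a}) :=
        (Submodule.disjoint_span_singleton' ha0).2 fun h => by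
          have := (Fr.mem_W2.1 (Fr.mem_W3.1 (hmem h).1).1).2.2
          rw [Fr.a'a] at this
          exact one_ne_zero this
      have h2 : Disjoint (S ⊔ Submodule.span F {Fr.a}) (Submodule.span F {Fr.b}) :=
        (Submodule.disjoint_span_singleton' hb0).2 fun h => by
          obtain ⟨s, hs, v, hv, hsv⟩ := Submodule.mem_sup.1 h
          obtain ⟨c, rfl⟩ := Submodule.mem_span_singleton.1 hv
          have := congrArg (𝔅 Fr.b') hsv
          rw [QuadraticMap.polar_add_right, QuadraticMap.polar_smul_right, Fr.b'a, smul_zero,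
            add_zero, (Fr.mem_W3.1 (hmem hs).1).2.2, Fr.b'b] at this
          exact zero_ne_one this
      have e1 := Submodule.finrank_sup_add_finrank_inf_eq S (Submodule.span F {Fr.a})
      have e2 := Submodule.finrank_sup_add_finrank_inf_eq (S ⊔ Submodule.span F {Fr.a})
        (Submodule.span F {Fr.b})
      rw [h1.eq_bot, finrank_bot, finrank_span_singleton ha0] at e1
      rw [h2.eq_bot, finrank_bot, finrank_span_singleton hb0, sup_assoc, ← Submodule.span_union,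
        Set.singleton_union] at e2
      exact le_of_eq (by simp only [U]; omega)
    have hUe := Fr.finrank_sup_e hUW
    have hiso : (U ⊔ Submodule.span F {Fr.e} : Submodule F (ι → F)) ≤
        qperp Q (U ⊔ Submodule.span F {Fr.e}) := by
      have hgen : U ⊔ Submodule.span F {Fr.e} =
          S ⊔ Submodule.span F ({Fr.a, Fr.b, Fr.e} : Set (ι → F)) := by
        simp only [U]
        rw [sup_assoc, ← Submodule.span_union, Set.insert_union, Set.singleton_union]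
      rw [hgen]
      have hperp : ∀ w ∈ S, ∀ y ∈ ({Fr.a, Fr.b, Fr.e} : Set (ι → F)), 𝔅 y w = 0 := by
        intro w hw y hy
        obtain ⟨h3, -⟩ := hmem hw
        obtain ⟨h2, hbw, -⟩ := Fr.mem_W3.1 h3
        obtain ⟨hW, haw, -⟩ := Fr.mem_W2.1 h2
        rcases hy with rfl | rfl | rfl
        exacts [haw, hbw, (Fr.mem_W.1 hW).1]
      have hperp' : ∀ x ∈ ({Fr.a, Fr.b, Fr.e} : Set (ι → F)),
          ∀ y ∈ ({Fr.a, Fr.b, Fr.e} : Set (ι → F)), 𝔅 x y = 0 := by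
        rintro x (rfl | rfl | rfl) y (rfl | rfl | rfl)
        exacts [Fr.aa, Fr.ab, by rw [QuadraticMap.polar_comm]; exact Fr.ea, Fr.ba, Fr.bb,
          by rw [QuadraticMap.polar_comm]; exact Fr.eb, Fr.ea, Fr.eb, Fr.ee]
      intro x hx
      rw [mem_qperp]
      intro y hy
      obtain ⟨x1, hx1, x2, hx2, rfl⟩ := Submodule.mem_sup.1 hx
      obtain ⟨y1, hy1, y2, hy2, rfl⟩ := Submodule.mem_sup.1 hy
      clear hx hy
      have hsp : ∀ w, (∀ v ∈ ({Fr.a, Fr.b, Fr.e} : Set (ι → F)), 𝔅 v w = 0) →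
          ∀ v ∈ Submodule.span F ({Fr.a, Fr.b, Fr.e} : Set (ι → F)), 𝔅 v w = 0 := by
        intro w hw v hv
        induction hv using Submodule.span_induction with
        | mem v hv => exact hw v hv
        | zero => exact QuadraticMap.polar_zero_left _ _
        | add u v _ _ hu hv => rw [QuadraticMap.polar_add_left, hu, hv, add_zero]
        | smul c v _ hv => rw [QuadraticMap.polar_smul_left, hv, smul_zero]
      have h21 : 𝔅 y2 x1 = 0 := hsp x1 (hperp x1 hx1) y2 hy2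
      have h12 : 𝔅 x2 y1 = 0 := hsp y1 (hperp y1 hy1) x2 hx2
      have h22 : 𝔅 y2 x2 = 0 := hsp x2 (fun v hv => by
        rw [QuadraticMap.polar_comm]
        exact hsp v (fun u hu => hperp' u hu v hv) x2 hx2) y2 hy2
      rw [QuadraticMap.polar_add_left, QuadraticMap.polar_add_right, QuadraticMap.polar_add_right,
        hc y1 hy1 x1 hx1, h21, h22, QuadraticMap.polar_comm (⇑Q) y1 x2, h12]
      simp
    have h2 := Submodule.finrank_mono hiso
    rw [finrank_qperp hQ, hUe] at h2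
    omega
  refine ⟨w, (hmem hw).1, (𝔅 w w')⁻¹ • w', Fr.W3.smul_mem _ (hmem hw').1, (hmem hw).2, ?_, ?_⟩
  · rw [QuadraticMap.polar_smul_right, (hmem hw').2, smul_zero]
  · rw [QuadraticMap.polar_smul_right, smul_eq_mul, inv_mul_cancel₀ hne]

/-- Dimension eight in odd characteristic with anisotropic `W3`. -/
theorem regWitness_of_eight (hn : nι = 8) (h2 : (2 : F) ≠ 0)
    (hani : ∀ v ∈ Fr.W3, Q v = 0 → v = 0) : Fr.RegWitness := by
  refine Or.inl fun z hz => ?_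
  obtain ⟨w, hw, hw0⟩ : ∃ w ∈ perpSub Q ![Fr.e, Fr.f, Fr.a, Fr.a', Fr.b, Fr.b', z], w ≠ 0 := by
    by_contra! h
    have h1 := le_finrank_perpSub Q ![Fr.e, Fr.f, Fr.a, Fr.a', Fr.b, Fr.b', z]
    rw [Module.finrank_pi, (Submodule.eq_bot_iff _).2 h, finrank_bot] at h1
    omega
  have hw3 : w ∈ Fr.W3 := ⟨⟨⟨mem_perpSub.1 hw 0, mem_perpSub.1 hw 1⟩, mem_perpSub.1 hw 2,
    mem_perpSub.1 hw 3⟩, mem_perpSub.1 hw 4, mem_perpSub.1 hw 5⟩
  have hzw : 𝔅 z w = 0 := mem_perpSub.1 hw 6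
  have hqw : Q w ≠ 0 := fun h => hw0 (hani w hw3 h)
  refine ⟨w, hw3, (2 * Q w)⁻¹ • w, Fr.W3.smul_mem _ hw3, hzw, ?_, ?_⟩
  · rw [QuadraticMap.polar_smul_right, hzw, smul_zero]
  · rw [QuadraticMap.polar_smul_right, polar_self' Q w, smul_eq_mul,
      inv_mul_cancel₀ (mul_ne_zero h2 hqw)]

include hQ in
/-- An element fixing the six vectors and `W3` is the identity. -/
theorem eq_one_of_fix {g : EG Q} (he : mv g Fr.e = Fr.e) (hf : mv g Fr.f = Fr.f)
    (ha : mv g Fr.a = Fr.a) (ha' : mv g Fr.a' = Fr.a') (hb : mv g Fr.b = Fr.b)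
    (hb' : mv g Fr.b' = Fr.b') (h3 : ∀ w ∈ Fr.W3, mv g w = w) : g = 1 := by
  refine ext_mv fun x => ?_
  rw [mv_one]
  set w := x - 𝔅 Fr.f x • Fr.e - 𝔅 Fr.e x • Fr.f - 𝔅 Fr.a' x • Fr.a - 𝔅 Fr.a x • Fr.a' -
    𝔅 Fr.b' x • Fr.b - 𝔅 Fr.b x • Fr.b'
  have hw : w ∈ Fr.W3 := by
    refine ⟨⟨⟨?_, ?_⟩, mem_perp2.2 ⟨?_, ?_⟩⟩, mem_perp2.2 ⟨?_, ?_⟩⟩ <;>
    simp [w, QuadraticMap.polar_sub_right, QuadraticMap.polar_smul_right, Fr.ee, Fr.ef, Fr.ea,
      Fr.ea', Fr.eb, Fr.eb', Fr.ff, Fr.fe, Fr.fa, Fr.fa', Fr.fb, Fr.fb', Fr.aa, Fr.aa', Fr.ab,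
      Fr.ab', Fr.a'a, Fr.a'a', Fr.a'b, Fr.a'b', Fr.bb, Fr.bb', Fr.ba, Fr.ba', Fr.b'b, Fr.b'b'',
      Fr.b'a, Fr.b'a', QuadraticMap.polar_comm (⇑Q) Fr.a Fr.e, QuadraticMap.polar_comm (⇑Q) Fr.a Fr.f,
      QuadraticMap.polar_comm (⇑Q) Fr.a' Fr.e, QuadraticMap.polar_comm (⇑Q) Fr.a' Fr.f,
      QuadraticMap.polar_comm (⇑Q) Fr.b Fr.e, QuadraticMap.polar_comm (⇑Q) Fr.b Fr.f,
      QuadraticMap.polar_comm (⇑Q) Fr.b' Fr.e, QuadraticMap.polar_comm (⇑Q) Fr.b' Fr.f]
  have hx : x = w + 𝔅 Fr.f x • Fr.e + 𝔅 Fr.e x • Fr.f + 𝔅 Fr.a' x • Fr.a + 𝔅 Fr.a x • Fr.a' +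
      𝔅 Fr.b' x • Fr.b + 𝔅 Fr.b x • Fr.b' := by simp only [w]; module
  conv_lhs => rw [hx]
  simp only [mv_add, mv_smul, h3 w hw, he, hf, ha, ha', hb, hb']
  exact hx.symm

include hQ in
/-- Dimension eight, two elements: an element of order three. -/
theorem regWitness_two (hn : nι = 8) (hq : qF = 2) : Fr.RegWitness := by
  have hel : ∀ x : F, x ≠ 0 → x = 1 := fun x hx => by
    have h := FiniteField.pow_card_sub_one_eq_one x hx
    rwa [hq, pow_one] at h
  have h2 : (2 : F) = 0 := by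
    have h := Nat.cast_card_eq_zero F
    rw [hq] at h
    exact_mod_cast h
  obtain ⟨t, ht, t', ht', htt⟩ := Fr.exists_pair_W3 hQ (by omega)
  obtain ⟨u, hu3, hqu⟩ : ∃ u ∈ Fr.W3, Q u = 1 := by
    by_contra! h
    have h0 : ∀ x ∈ Fr.W3, Q x = 0 := fun x hx => by
      by_contra hne
      exact h x hx (hel _ hne)
    have := h0 _ (add_mem ht ht')
    rw [QuadraticMap.map_add (⇑Q), h0 t ht, h0 t' ht', htt, zero_add, zero_add] at this
    exact one_ne_zero this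
  have hu0 : u ≠ 0 := fun h => by
    rw [h, QuadraticMap.map_zero] at hqu
    exact zero_ne_one hqu
  obtain ⟨w, hw3, huw⟩ : ∃ w ∈ Fr.W3, 𝔅 u w = 1 := by
    obtain ⟨w, hw, hne⟩ : ∃ w ∈ Fr.W3, 𝔅 u w ≠ 0 := by
      by_contra! h
      exact hu0 (Fr.sepW3 hQ u hu3 h)
    exact ⟨w, hw, hel _ hne⟩
  have huu : 𝔅 u u = 0 := by rw [polar_self' Q u, h2, zero_mul]
  have hspan : ∀ z ∈ Fr.W3, ∃ α β : F, z = α • u + β • w := by
    intro z hz
    have hinj : Function.Injective fun d : F × F => d.1 • u + d.2 • w := by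
      rintro ⟨α, β⟩ ⟨α', β'⟩ h
      simp only at h
      have hβ : β = β' := by
        have := congrArg (𝔅 u) h
        simpa [QuadraticMap.polar_add_right, QuadraticMap.polar_smul_right, huu, huw] using this
      subst hβ
      rw [add_left_inj] at h
      exact Prod.ext (smul_left_injective F hu0 h) rfl
    have himg : (Finset.univ.image fun d : F × F => d.1 • u + d.2 • w) = elts Fr.W3 := by
      refine Finset.eq_of_subset_of_card_le (fun v hv => ?_) ?_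
      · obtain ⟨d, -, rfl⟩ := Finset.mem_image.1 hv
        exact mem_elts.2 (add_mem (Fr.W3.smul_mem _ hu3) (Fr.W3.smul_mem _ hw3))
      · rw [Finset.card_image_of_injective _ hinj, Fr.six_le.2.2.2, hn, Finset.card_univ,
          Fintype.card_prod, sq]
    obtain ⟨d, -, hd⟩ := Finset.mem_image.1 (himg ▸ mem_elts.2 hz : z ∈ _)
    exact ⟨d.1, d.2, hd.symm⟩
  obtain ⟨hu2, hbu, hb'u⟩ := Fr.mem_W3.1 hu3
  obtain ⟨huW, hau, ha'u⟩ := Fr.mem_W2.1 hu2
  obtain ⟨hw2, hbw, hb'w⟩ := Fr.mem_W3.1 hw3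
  obtain ⟨hwW, haw, ha'w⟩ := Fr.mem_W2.1 hw2
  have hub : 𝔅 u Fr.b = 0 := by rw [QuadraticMap.polar_comm, hbu]
  have hub' : 𝔅 u Fr.b' = 0 := by rw [QuadraticMap.polar_comm, hb'u]
  set r₁ := rt Q Fr.b u
  set r₂ := rt Q Fr.b' u
  set h := r₁ * r₂ with hh
  have hL : h ∈ Fr.Lev := mul_mem (Fr.rt_mem_Lev Fr.b_mem Fr.qb huW hbu)
    (Fr.rt_mem_Lev Fr.b'_mem Fr.qb' huW hb'u)
  have hfixed : ∀ x, 𝔅 Fr.b x = 0 → 𝔅 Fr.b' x = 0 → 𝔅 u x = 0 → mv h x = x := fun x h1 h2 h3 => by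
    rw [hh, mv_mul, mv_rt_fix Fr.qb' hb'u h2 h3, mv_rt_fix Fr.qb hbu h1 h3]
  have hau' : 𝔅 u Fr.a = 0 := by rw [QuadraticMap.polar_comm, hau]
  have ha'u' : 𝔅 u Fr.a' = 0 := by rw [QuadraticMap.polar_comm, ha'u]
  have hha : mv h Fr.a = Fr.a := hfixed _ Fr.ba Fr.b'a hau'
  have hha' : mv h Fr.a' = Fr.a' := hfixed _ Fr.ba' Fr.b'a' ha'u'
  have hhu : mv h u = u := hfixed _ hbu hb'u huu
  have r1b : mv r₁ Fr.b = Fr.b := mv_rt_fix Fr.qb hbu Fr.bb hub
  have r1u : mv r₁ u = u := mv_rt_fix Fr.qb hbu hbu huu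
  have r1b' : mv r₁ Fr.b' = Fr.b' + u - Fr.b := by
    rw [mv_rt Fr.qb hbu, Fr.bb', hub', hqu]; module
  have r1w : mv r₁ w = w - Fr.b := by
    rw [mv_rt Fr.qb hbu, hbw, huw]; module
  have r2b : mv r₂ Fr.b = Fr.b + u - Fr.b' := by
    rw [mv_rt Fr.qb' hb'u, Fr.b'b, hub, hqu]; module
  have r2b' : mv r₂ Fr.b' = Fr.b' := mv_rt_fix Fr.qb' hb'u Fr.b'b'' hub'
  have r2w : mv r₂ w = w - Fr.b' := by
    rw [mv_rt Fr.qb' hb'u, hb'w, huw]; module
  have htwo : ∀ x : ι → F, x + x = 0 := fun x => by rw [← two_smul F x, h2, zero_smul]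
  have hneg : ∀ x : ι → F, -x = x := fun x => neg_eq_of_add_eq_zero_left (htwo x)
  have hsub : ∀ x y : ι → F, x - y = x + y := fun x y => by rw [sub_eq_add_neg, hneg]
  have hhb : mv h Fr.b = Fr.b' := by
    rw [hh, mv_mul, r2b, mv_sub, mv_add, r1b, r1u, r1b']
    simp only [hsub]
    linear_combination (norm := module) htwo Fr.b + htwo u
  have hhb' : mv h Fr.b' = Fr.b + Fr.b' + u := by
    rw [hh, mv_mul, r2b', r1b', hsub]
    abel
  have hhw : mv h w = w + Fr.b' + u := by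
    rw [hh, mv_mul, r2w, mv_sub, r1w, r1b']
    simp only [hsub]
    linear_combination (norm := module) htwo Fr.b
  have h3 : h ^ 3 = 1 := by
    refine Fr.eq_one_of_fix hQ ?_ ?_ ?_ ?_ ?_ ?_ fun z hz => ?_
    · exact (Subgroup.pow_mem _ hL 3).1
    · exact (Subgroup.pow_mem _ hL 3).2
    · simp only [pow_succ, pow_zero, one_mul, mv_mul, hha]
    · simp only [pow_succ, pow_zero, one_mul, mv_mul, hha']
    · simp only [pow_succ, pow_zero, one_mul, mv_mul, hhb, hhb', mv_add, hhu]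
      linear_combination (norm := module) htwo Fr.b' + htwo u
    · simp only [pow_succ, pow_zero, one_mul, mv_mul, hhb, hhb', mv_add, hhu]
      linear_combination (norm := module) htwo Fr.b + htwo Fr.b' + htwo u + htwo u
    · obtain ⟨α, β, rfl⟩ := hspan z hz
      simp only [pow_succ, pow_zero, one_mul, mv_mul, mv_add, mv_smul, hhu, hhw, hhb, hhb']
      linear_combination (norm := module) β • htwo Fr.b + β • htwo Fr.b' + β • htwo Fr.b' +
        β • htwo u + β • htwo u + β • htwo u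
  refine Or.inr ⟨u, hu2, by rw [hqu]; exact one_ne_zero, h, hL, hha, hhu, 3, h3, ?_, ?_⟩
  · rw [show ((3 : ℕ) : F) = 2 + 1 by norm_num, h2, zero_add]
    exact one_ne_zero
  intro z hzW hhz haz hut
  have huz : 𝔅 u z = 0 := hut h2
  obtain ⟨z2, hz2, hd⟩ := Fr.exists_decomp hzW
  rw [haz, zero_smul, add_zero] at hd
  obtain ⟨-, -, ha'z2⟩ := Fr.mem_W2.1 hz2
  set v := z2 - 𝔅 Fr.b' z2 • Fr.b - 𝔅 Fr.b z2 • Fr.b'
  have hv : v ∈ Fr.W3 := ⟨sub_mem (sub_mem hz2
    (Fr.W2.smul_mem _ Fr.b_mem2)) (Fr.W2.smul_mem _ Fr.b'_mem2), mem_perp2.2 ⟨by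
      simp [v, QuadraticMap.polar_sub_right, QuadraticMap.polar_smul_right, Fr.bb, Fr.bb'], by
      simp [v, QuadraticMap.polar_sub_right, QuadraticMap.polar_smul_right, Fr.b'b'', Fr.b'b]⟩⟩
  obtain ⟨α, β, hvd⟩ := hspan v hv
  set x := 𝔅 Fr.b' z2
  set y := 𝔅 Fr.b z2
  have hzd : z = 𝔅 Fr.a' z • Fr.a + x • Fr.b + y • Fr.b' + α • u + β • w := by
    conv_lhs => rw [hd, show z2 = x • Fr.b + y • Fr.b' + v by simp only [v]; module, hvd]
    module
  have hβ : β = 0 := by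
    rw [hzd] at huz
    simp [QuadraticMap.polar_add_right, QuadraticMap.polar_smul_right, hau', hub, hub', huu, huw]
      at huz
    exact huz
  rw [hβ, zero_smul, add_zero] at hzd
  have hfx : mv h z = z := hhz
  rw [hzd] at hfx
  simp only [mv_add, mv_smul, hha, hhb, hhb', hhu] at hfx
  have h4 := congrArg (𝔅 Fr.b') hfx
  have h5 := congrArg (𝔅 Fr.b) hfx
  simp [QuadraticMap.polar_add_right, QuadraticMap.polar_smul_right, Fr.b'a, Fr.b'b, Fr.b'b'',
    hb'u, Fr.ba, Fr.bb, Fr.bb', hbu] at h4 h5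
  have hy : y = 0 := by linear_combination h5 + h4 - (0 : F) * h2
  have hx : x = 0 := by rw [hy] at h4; exact h4.symm
  exact ⟨𝔅 Fr.a' z, α, by conv_lhs => rw [hzd, hx, hy, zero_smul, zero_smul, add_zero, add_zero]⟩

include hQ in
/-- Dimension seven, three elements: an element of order two. -/
theorem regWitness_three (hn : nι = 7) (hq : qF = 3) : Fr.RegWitness := by
  have hel : ∀ x : F, x ≠ 0 → x * x = 1 := fun x hx => sq_eq_one_of_le_three hq.le hx
  have h3 : (3 : F) = 0 := by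
    have h := Nat.cast_card_eq_zero F
    rw [hq] at h
    exact_mod_cast h
  have h2 : (2 : F) ≠ 0 := fun h => one_ne_zero (show (1 : F) = 0 by linear_combination h3 - h)
  obtain ⟨t, ht, t', ht', htt⟩ := Fr.exists_pair_W3 hQ (by omega)
  obtain ⟨u₀, hu₀3, hc⟩ : ∃ v ∈ Fr.W3, Q v ≠ 0 := by
    by_contra! h
    have := h _ (add_mem ht ht')
    rw [QuadraticMap.map_add (⇑Q), h t ht, h t' ht', htt, zero_add, zero_add] at this
    exact one_ne_zero this
  set c := Q u₀ with hcd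
  have hcc := hel c hc
  have hu₀0 : u₀ ≠ 0 := fun h => hc (by rw [hcd, h, QuadraticMap.map_zero])
  have hspan : ∀ z ∈ Fr.W3, ∃ α : F, z = α • u₀ := by
    intro z hz
    have himg : (Finset.univ.image fun d : F => d • u₀) = elts Fr.W3 := by
      refine Finset.eq_of_subset_of_card_le (fun v hv => ?_) ?_
      · obtain ⟨d, -, rfl⟩ := Finset.mem_image.1 hv
        exact mem_elts.2 (Fr.W3.smul_mem _ hu₀3)
      · rw [Finset.card_image_of_injective _ (smul_left_injective F hu₀0), Fr.six_le.2.2.2, hn,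
          Finset.card_univ, pow_one]
    obtain ⟨d, -, hd⟩ := Finset.mem_image.1 (himg ▸ mem_elts.2 hz : z ∈ _)
    exact ⟨d, hd.symm⟩
  obtain ⟨hu₀2, hbu, hb'u⟩ := Fr.mem_W3.1 hu₀3
  obtain ⟨hu₀W, hau, ha'u⟩ := Fr.mem_W2.1 hu₀2
  have hu₀b : 𝔅 u₀ Fr.b = 0 := by rw [QuadraticMap.polar_comm, hbu]
  have hu₀b' : 𝔅 u₀ Fr.b' = 0 := by rw [QuadraticMap.polar_comm, hb'u]
  have huu : 𝔅 u₀ u₀ = 2 * c := polar_self' Q u₀
  set u := Fr.b + (-c) • Fr.b' with hud
  set u₁ := Fr.b + c • Fr.b' with hu₁d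
  have hu2 : u ∈ Fr.W2 := add_mem Fr.b_mem2 (Fr.W2.smul_mem _ Fr.b'_mem2)
  have hqu : Q u = -c := by
    simp [u, QuadraticMap.map_add (⇑Q), QuadraticMap.map_smul, Fr.qb, Fr.qb',
      QuadraticMap.polar_smul_right, Fr.bb']
  set d := u + u₀ with hd
  set d' := (-c) • (u - u₀) with hd'
  have hd2 : d ∈ Fr.W2 := add_mem hu2 hu₀2
  have hd'2 : d' ∈ Fr.W2 := Fr.W2.smul_mem _ (sub_mem hu2 hu₀2)
  obtain ⟨hdW, had, ha'd⟩ := Fr.mem_W2.1 hd2
  obtain ⟨hd'W, had', ha'd'⟩ := Fr.mem_W2.1 hd'2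
  have huu₀ : 𝔅 u u₀ = 0 := by
    simp [u, QuadraticMap.polar_add_left, QuadraticMap.polar_smul_left, hbu, hb'u]
  have hqd : Q d = 0 := by
    rw [hd, QuadraticMap.map_add (⇑Q), hqu, huu₀, ← hcd]; ring
  have hqd' : Q d' = 0 := by
    rw [hd', QuadraticMap.map_smul, sub_eq_add_neg, QuadraticMap.map_add (⇑Q), QuadraticMap.map_neg,
      hqu, QuadraticMap.polar_neg_right, huu₀, ← hcd]
    simp
  have huself : 𝔅 u u = 2 * -c := by rw [polar_self' Q u, hqu]
  have hdd' : 𝔅 d d' = 1 := by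
    rw [hd, hd', QuadraticMap.polar_smul_right, QuadraticMap.polar_add_left,
      QuadraticMap.polar_sub_right, QuadraticMap.polar_sub_right, huself, huu₀,
      QuadraticMap.polar_comm (⇑Q) u₀ u, huu₀, huu, smul_eq_mul]
    linear_combination 4 * hcc + h3
  let P : TwoPairs Q := ⟨Fr.a, Fr.a', d, d', Fr.qa, Fr.qa', hqd, hqd', Fr.aa', hdd', had, had',
    ha'd, ha'd'⟩
  set g₁ := torus Fr.inner (-1 : F)
  set g₂ := torus P (-1 : F)
  have hm1 : (-1 : F) ≠ 0 := neg_ne_zero.2 one_ne_zero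
  have hinv : (-1 : F)⁻¹ = -1 := by rw [inv_neg, inv_one]
  obtain ⟨p1, p2, p3, p4⟩ := torus_pairs Fr.inner hm1
  obtain ⟨q1, q2, q3, q4⟩ := torus_pairs P hm1
  rw [hinv] at p2 p4 q2 q4
  change mv g₁ Fr.a = (-1 : F) • Fr.a at p1
  change mv g₁ Fr.a' = (-1 : F) • Fr.a' at p2
  change mv g₁ Fr.b = (-1 : F) • Fr.b at p3
  change mv g₁ Fr.b' = (-1 : F) • Fr.b' at p4
  change mv g₂ Fr.a = (-1 : F) • Fr.a at q1
  change mv g₂ Fr.a' = (-1 : F) • Fr.a' at q2
  change mv g₂ d = (-1 : F) • d at q3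
  change mv g₂ d' = (-1 : F) • d' at q4
  have hg₁u₀ : mv g₁ u₀ = u₀ := torus_fix Fr.inner hau ha'u hbu hb'u
  have hu₁ : 𝔅 d u₁ = 0 ∧ 𝔅 d' u₁ = 0 := by
    constructor <;>
    simp [d, d', u, u₁, QuadraticMap.polar_add_left, QuadraticMap.polar_sub_left,
      QuadraticMap.polar_neg_left,
      QuadraticMap.polar_smul_left, QuadraticMap.polar_add_right, QuadraticMap.polar_smul_right,
      Fr.bb, Fr.bb', Fr.b'b, Fr.b'b'', hu₀b, hu₀b'] <;> ring_nf <;> simp
  have hg₂u₁ : mv g₂ u₁ = u₁ := torus_fix P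
    (show 𝔅 Fr.a u₁ = 0 by
      simp [u₁, QuadraticMap.polar_add_right, QuadraticMap.polar_smul_right, Fr.ab, Fr.ab'])
    (show 𝔅 Fr.a' u₁ = 0 by
      simp [u₁, QuadraticMap.polar_add_right, QuadraticMap.polar_smul_right, Fr.a'b, Fr.a'b'])
    hu₁.1 hu₁.2
  have hdiff : u - u₀ = (-c) • d' := by
    rw [hd', smul_smul, show -c * -c = (1 : F) by linear_combination hcc, one_smul]
  have hg₂u : mv g₂ u = -u ∧ mv g₂ u₀ = -u₀ := by
    have e1 : mv g₂ u + mv g₂ u₀ = -(u + u₀) := by rw [← mv_add, ← hd, q3, neg_one_smul]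
    have e2 : mv g₂ u - mv g₂ u₀ = -(u - u₀) := by
      rw [← mv_sub, hdiff, mv_smul, q4]; module
    constructor
    · refine smul_right_injective _ h2 ?_
      show (2 : F) • mv g₂ u = (2 : F) • -u
      linear_combination (norm := module) e1 + e2
    · refine smul_right_injective _ h2 ?_
      show (2 : F) • mv g₂ u₀ = (2 : F) • -u₀
      linear_combination (norm := module) e1 - e2
  set h := g₂ * g₁ with hh
  have hL : h ∈ Fr.Lev := mul_mem (a := g₂) (b := g₁) (by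
    constructor <;> refine torus_fix P ?_ ?_ ?_ ?_ <;>
      rw [QuadraticMap.polar_comm]
    exacts [Fr.ea, Fr.ea', (Fr.mem_W.1 hdW).1, (Fr.mem_W.1 hd'W).1, Fr.fa, Fr.fa',
      (Fr.mem_W.1 hdW).2, (Fr.mem_W.1 hd'W).2]) Fr.torus_inner_mem_Lev
  have hha : mv h Fr.a = Fr.a := by rw [hh, mv_mul, p1, mv_smul, q1]; module
  have hha' : mv h Fr.a' = Fr.a' := by rw [hh, mv_mul, p2, mv_smul, q2]; module
  have hhu : mv h u = u := by
    rw [hh, mv_mul, show mv g₁ u = -u by rw [hud, mv_add, mv_smul, p3, p4]; module, mv_neg,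
      hg₂u.1, neg_neg]
  have hhu₁ : mv h u₁ = -u₁ := by
    rw [hh, mv_mul, show mv g₁ u₁ = -u₁ by rw [hu₁d, mv_add, mv_smul, p3, p4]; module, mv_neg,
      hg₂u₁]
  have hhu₀ : mv h u₀ = -u₀ := by rw [hh, mv_mul, hg₁u₀, hg₂u.2]
  have hb : (2 : F) • Fr.b = u + u₁ := by simp only [u, u₁]; module
  have hb' : (2 * c) • Fr.b' = u₁ - u := by simp only [u, u₁]; module
  have hsq : h ^ 2 = 1 := by
    refine Fr.eq_one_of_fix hQ ?_ ?_ ?_ ?_ ?_ ?_ fun z hz => ?_
    · exact (Subgroup.pow_mem _ hL 2).1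
    · exact (Subgroup.pow_mem _ hL 2).2
    · rw [pow_two, mv_mul, hha, hha]
    · rw [pow_two, mv_mul, hha', hha']
    · refine smul_right_injective _ h2 ?_
      show (2 : F) • mv (h ^ 2) Fr.b = (2 : F) • Fr.b
      rw [← mv_smul, hb, pow_two, mv_mul, mv_add, hhu, hhu₁, mv_add, hhu, mv_neg, hhu₁, neg_neg]
    · refine smul_right_injective _ (mul_ne_zero h2 hc) ?_
      show (2 * c) • mv (h ^ 2) Fr.b' = (2 * c) • Fr.b'
      rw [← mv_smul, hb', pow_two, mv_mul, mv_sub, hhu, hhu₁, mv_sub, hhu, mv_neg, hhu₁, neg_neg]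
    · obtain ⟨α, rfl⟩ := hspan z hz
      rw [pow_two, mv_mul, mv_smul, hhu₀, mv_smul, mv_neg, hhu₀, neg_neg]
  refine Or.inr ⟨u, hu2, by rw [hqu]; exact neg_ne_zero.2 hc, h, hL, hha, hhu, 2, hsq,
    by exact_mod_cast h2, ?_⟩
  intro z hzW hhz haz _
  obtain ⟨z2, hz2, hzd⟩ := Fr.exists_decomp hzW
  rw [haz, zero_smul, add_zero] at hzd
  set v := z2 - 𝔅 Fr.b' z2 • Fr.b - 𝔅 Fr.b z2 • Fr.b'
  have hv : v ∈ Fr.W3 := ⟨sub_mem (sub_mem hz2
    (Fr.W2.smul_mem _ Fr.b_mem2)) (Fr.W2.smul_mem _ Fr.b'_mem2), mem_perp2.2 ⟨by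
      simp [v, QuadraticMap.polar_sub_right, QuadraticMap.polar_smul_right, Fr.bb, Fr.bb'], by
      simp [v, QuadraticMap.polar_sub_right, QuadraticMap.polar_smul_right, Fr.b'b'', Fr.b'b]⟩⟩
  obtain ⟨r, hvr⟩ := hspan v hv
  set x := 𝔅 Fr.b' z2
  set y := 𝔅 Fr.b z2
  set A := 𝔅 Fr.a' z
  have hzu : z = A • Fr.a + (x / 2 + -(y / (2 * c))) • u + (x / 2 + y / (2 * c)) • u₁ + r • u₀ := by
    conv_lhs => rw [hzd, show z2 = x • Fr.b + y • Fr.b' + v by simp only [v]; module, hvr]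
    simp only [u, u₁]
    match_scalars <;> field_simp <;> ring
  refine ⟨A, x / 2 + -(y / (2 * c)), smul_right_injective _ h2 ?_⟩
  show (2 : F) • z = (2 : F) • (A • Fr.a + (x / 2 + -(y / (2 * c))) • u)
  rw [two_smul]
  conv_lhs => enter [1]; rw [← hhz]
  rw [hzu]
  simp only [mv_add, mv_smul, hha, hhu, hhu₁, hhu₀]
  module

end Frame

end CfsgLib.MinDegree.Orth
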