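import Cfsg.Agent.MinDegree.OrthBase

/-!
# The diagonal elements of two pairs, and transitivity of the Levi complement

`torus P μ` multiplies the two first vectors by `μ` and their partners by `μ⁻¹`. An element fixing
the first pair of a frame carries a vector of `W` to `a + Q v • a'`.
-/

set_option autoImplicit false
set_option linter.unusedSectionVars false

namespace CfsgLib.MinDegree.Orth

open Matrix Module CfsgLib.Spinor CfsgLib.Forms CfsgLib.Forms4 CfsgLib.OrthMax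

variable {F : Type*} [Field F] {ι : Type} [Fintype ι] [DecidableEq ι] {Q : QuadraticForm F (ι → F)}

set_option quotPrecheck false in
local notation "𝔅" => QuadraticMap.polar (⇑Q)

variable (P : TwoPairs Q) {μ : F}

theorem polar_e_smul_a (t : F) : 𝔅 P.e (t • P.a) = 0 := by
  rw [QuadraticMap.polar_smul_right, P.ea, smul_zero]

theorem polar_f_smul_b (s : F) : 𝔅 P.f (s • P.b) = 0 := by
  rw [QuadraticMap.polar_smul_right, P.fb, smul_zero]

/-- The diagonal element of two pairs. -/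
noncomputable def torus (μ : F) : EG Q :=
  rt Q P.e (μ • P.a) * (rt Q P.f (μ⁻¹ • P.b) * (rt Q P.e ((μ - 1) • P.a) *
    (rt Q P.f ((-1 : F) • P.b) * rt Q P.e ((-1 : F) • P.a))))

theorem mv_upper (t : F) (x : ι → F) : mv (rt Q P.e (t • P.a)) x =
    x + ((t * 𝔅 P.e x) • P.a - (t * 𝔅 P.a x) • P.e) := by
  rw [mv_rt P.qe (polar_e_smul_a P t), QuadraticMap.map_smul, P.qa, QuadraticMap.polar_smul_left,
    smul_eq_mul, smul_eq_mul]
  module

theorem mv_lower (s : F) (x : ι → F) : mv (rt Q P.f (s • P.b)) x =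
    x + ((s * 𝔅 P.f x) • P.b - (s * 𝔅 P.b x) • P.f) := by
  rw [mv_rt P.qf (polar_f_smul_b P s), QuadraticMap.map_smul, P.qb, QuadraticMap.polar_smul_left,
    smul_eq_mul, smul_eq_mul]
  module

theorem torus_fix {x : ι → F} (he : 𝔅 P.e x = 0) (hf : 𝔅 P.f x = 0) (ha : 𝔅 P.a x = 0)
    (hb : 𝔅 P.b x = 0) : mv (torus P μ) x = x := by
  have h1 : ∀ t : F, mv (rt Q P.e (t • P.a)) x = x := fun t => by simp [mv_upper, he, ha]
  have h2 : ∀ s : F, mv (rt Q P.f (s • P.b)) x = x := fun s => by simp [mv_lower, hf, hb]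
  simp only [torus, mv_mul, h1, h2]

theorem torus_pairs (hμ : μ ≠ 0) : mv (torus P μ) P.e = μ • P.e ∧
    mv (torus P μ) P.f = μ⁻¹ • P.f ∧ mv (torus P μ) P.a = μ • P.a ∧
      mv (torus P μ) P.b = μ⁻¹ • P.b := by
  have u1 : ∀ t : F, mv (rt Q P.e (t • P.a)) P.e = P.e := fun t => by
    simp [mv_upper, P.ee, QuadraticMap.polar_comm (⇑Q) P.a P.e, P.ea]
  have u2 : ∀ t : F, mv (rt Q P.e (t • P.a)) P.f = P.f + t • P.a := fun t => by
    simp [mv_upper, P.ef, QuadraticMap.polar_comm (⇑Q) P.a P.f, P.fa]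
  have u3 : ∀ t : F, mv (rt Q P.e (t • P.a)) P.a = P.a := fun t => by
    simp [mv_upper, P.aa, P.ea]
  have u4 : ∀ t : F, mv (rt Q P.e (t • P.a)) P.b = P.b - t • P.e := fun t => by
    simp [mv_upper, P.ab, P.eb, sub_eq_add_neg]
  have l1 : ∀ s : F, mv (rt Q P.f (s • P.b)) P.e = P.e + s • P.b := fun s => by
    simp [mv_lower, P.fe, QuadraticMap.polar_comm (⇑Q) P.b P.e, P.eb]
  have l2 : ∀ s : F, mv (rt Q P.f (s • P.b)) P.f = P.f := fun s => by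
    simp [mv_lower, P.ff, QuadraticMap.polar_comm (⇑Q) P.b P.f, P.fb]
  have l3 : ∀ s : F, mv (rt Q P.f (s • P.b)) P.a = P.a - s • P.f := fun s => by
    simp [mv_lower, P.fa, QuadraticMap.polar_comm (⇑Q) P.b P.a, P.ab, sub_eq_add_neg]
  have l4 : ∀ s : F, mv (rt Q P.f (s • P.b)) P.b = P.b := fun s => by
    simp [mv_lower, P.bb, P.fb]
  refine ⟨?_, ?_, ?_, ?_⟩ <;>
    (simp only [torus, mv_mul, mv_add, mv_sub, mv_smul, u1, u2, u3, u4, l1, l2, l3, l4];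
     match_scalars <;> field_simp <;> ring)

/-- The vectors perpendicular to a hyperbolic pair form a nondegenerate space. -/
theorem sep_inter_perp2 {S : Submodule F (ι → F)}
    (hS : ∀ z ∈ S, (∀ w ∈ S, 𝔅 z w = 0) → z = 0) {x y : ι → F} (hx : x ∈ S) (hy : y ∈ S)
    (qx : Q x = 0) (qy : Q y = 0) (hxy : 𝔅 x y = 1) :
    ∀ z ∈ S ⊓ perp2 Q x y, (∀ w ∈ S ⊓ perp2 Q x y, 𝔅 z w = 0) → z = 0 := by
  intro z hz h
  refine hS z hz.1 fun w hw => ?_
  have hyx : 𝔅 y x = 1 := by rw [QuadraticMap.polar_comm, hxy]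
  have hzx : 𝔅 z x = 0 := by rw [QuadraticMap.polar_comm]; exact hz.2.1
  have hzy : 𝔅 z y = 0 := by rw [QuadraticMap.polar_comm]; exact hz.2.2
  have h' := h (w - 𝔅 y w • x - 𝔅 x w • y)
    ⟨S.sub_mem (S.sub_mem hw (S.smul_mem _ hx)) (S.smul_mem _ hy), mem_perp2.2 ⟨by
      simp [QuadraticMap.polar_sub_right, QuadraticMap.polar_smul_right, qx, hxy], by
      simp [QuadraticMap.polar_sub_right, QuadraticMap.polar_smul_right, qy, hyx]⟩⟩
  rw [QuadraticMap.polar_sub_right, QuadraticMap.polar_sub_right, QuadraticMap.polar_smul_right,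
    QuadraticMap.polar_smul_right, hzx, hzy, smul_zero, smul_zero, sub_zero, sub_zero] at h'
  exact h'

namespace Frame

variable (Fr : Frame Q)

theorem W_eq : Fr.W = ⊤ ⊓ perp2 Q Fr.e Fr.f := by rw [top_inf_eq]; rfl

theorem sepW (hQ : (QuadraticMap.polarBilin Q).Nondegenerate) :
    ∀ z ∈ Fr.W, (∀ w ∈ Fr.W, 𝔅 z w = 0) → z = 0 := by
  rw [W_eq]
  exact sep_inter_perp2 (fun z _ h => hQ.1 z fun w => h w Submodule.mem_top) Submodule.mem_top
    Submodule.mem_top Fr.qe Fr.qf Fr.ef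

theorem sepW2 (hQ : (QuadraticMap.polarBilin Q).Nondegenerate) :
    ∀ z ∈ Fr.W2, (∀ w ∈ Fr.W2, 𝔅 z w = 0) → z = 0 :=
  sep_inter_perp2 (Fr.sepW hQ) Fr.a_mem Fr.a'_mem Fr.qa Fr.qa' Fr.aa'

theorem sepW3 (hQ : (QuadraticMap.polarBilin Q).Nondegenerate) :
    ∀ z ∈ Fr.W3, (∀ w ∈ Fr.W3, 𝔅 z w = 0) → z = 0 :=
  sep_inter_perp2 (Fr.sepW2 hQ) Fr.b_mem2 Fr.b'_mem2 Fr.qb Fr.qb' Fr.bb'

theorem torus_inner_mem_Lev : torus Fr.inner μ ∈ Fr.Lev := by
  constructor <;> refine torus_fix Fr.inner ?_ ?_ ?_ ?_ <;> rw [QuadraticMap.polar_comm]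
  exacts [Fr.ea, Fr.ea', Fr.eb, Fr.eb', Fr.fa, Fr.fa', Fr.fb, Fr.fb']

/-- The decomposition of a vector of `W` along the second pair. -/
theorem exists_decomp {v : ι → F} (hv : v ∈ Fr.W) :
    ∃ z ∈ Fr.W2, v = 𝔅 Fr.a' v • Fr.a + 𝔅 Fr.a v • Fr.a' + z := by
  refine ⟨v - 𝔅 Fr.a' v • Fr.a - 𝔅 Fr.a v • Fr.a', ⟨Fr.W.sub_mem (Fr.W.sub_mem hv
    (Fr.W.smul_mem _ Fr.a_mem)) (Fr.W.smul_mem _ Fr.a'_mem), mem_perp2.2 ⟨?_, ?_⟩⟩, by module⟩ <;>
  simp [QuadraticMap.polar_sub_right, QuadraticMap.polar_smul_right, Fr.aa, Fr.a'a', Fr.aa', Fr.a'a]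

theorem quad_pair (c d : F) : Q (c • Fr.a + d • Fr.a') = c * d := by
  rw [QuadraticMap.map_add (⇑Q), QuadraticMap.map_smul, QuadraticMap.map_smul, Fr.qa, Fr.qa',
    QuadraticMap.polar_smul_left, QuadraticMap.polar_smul_right, Fr.aa']
  simp

/-- The standard vector of value `c`. -/
def std (c : F) : ι → F := Fr.a + c • Fr.a'

theorem quad_std (c : F) : Q (Fr.std c) = c := by
  rw [std, ← one_smul F Fr.a, Fr.quad_pair, one_mul]

theorem std_mem (c : F) : Fr.std c ∈ Fr.W := Fr.W.add_mem Fr.a_mem (Fr.W.smul_mem _ Fr.a'_mem)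

theorem polar_a'_std (c : F) : 𝔅 Fr.a' (Fr.std c) = 1 := by
  simp [std, QuadraticMap.polar_add_right, QuadraticMap.polar_smul_right, Fr.a'a, Fr.a'a']

theorem std_ne_zero (c : F) : Fr.std c ≠ 0 := fun h => by
  have := Fr.polar_a'_std c
  rw [h, QuadraticMap.polar_zero_right] at this
  exact zero_ne_one this

/-- Transitivity of the Levi complement on the vectors of a given value. -/
theorem exists_lev_to_std (hQ : (QuadraticMap.polarBilin Q).Nondegenerate) {v : ι → F}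
    (hv : v ∈ Fr.W) (hv0 : v ≠ 0) : ∃ g ∈ Fr.Lev, mv g v = Fr.std (Q v) := by
  have hW : ∀ {z}, z ∈ Fr.W2 → Fr.inner.InW z := fun hz => hz.2
  have step : ∀ (α β : F) (z : ι → F), α ≠ 0 → z ∈ Fr.W2 →
      ∃ g ∈ Fr.Lev, mv g (α • Fr.a + β • Fr.a' + z) = Fr.std (Q (α • Fr.a + β • Fr.a' + z)) := by
    intro α β z hα hz
    have hw : (-α⁻¹) • z ∈ Fr.W2 := Fr.W2.smul_mem _ hz
    set β' := β - 𝔅 ((-α⁻¹) • z) z - Q ((-α⁻¹) • z) * α
    have h1 : mv (rt Q Fr.a' ((-α⁻¹) • z)) (α • Fr.a + β • Fr.a' + z) =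
        α • Fr.a + β' • Fr.a' := by
      rw [mv, mat_rt Fr.qa' hw.2.2]
      refine (Fr.inner.eich_f_apply α β (hW hz) (hW hw)).trans ?_
      rw [smul_smul, mul_neg, mul_inv_cancel₀ hα, neg_one_smul, add_neg_cancel, add_zero]
      rfl
    refine ⟨torus Fr.inner α⁻¹ * rt Q Fr.a' ((-α⁻¹) • z),
      mul_mem Fr.torus_inner_mem_Lev (Fr.rt_mem_Lev Fr.a'_mem Fr.qa' hw.1 hw.2.2), ?_⟩
    obtain ⟨t1, t2, -, -⟩ := torus_pairs Fr.inner (inv_ne_zero hα)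
    have hQv : Q (α • Fr.a + β • Fr.a' + z) = α * β' := by
      rw [← quad_mv (rt Q Fr.a' ((-α⁻¹) • z)), h1, Fr.quad_pair]
    rw [mv_mul, h1, mv_add, mv_smul, mv_smul, hQv, std]
    refine Eq.trans (congrArg₂ (fun x y => α • x + β' • y) t1 t2) ?_
    rw [smul_smul, mul_inv_cancel₀ hα, one_smul, smul_smul, inv_inv, mul_comm β' α]
    rfl
  obtain ⟨z, hz, hd⟩ := Fr.exists_decomp hv
  set α := 𝔅 Fr.a' v
  set β := 𝔅 Fr.a v
  rw [hd] at hv0 ⊢
  by_cases hα : α = 0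
  swap
  · exact step α β z hα hz
  obtain ⟨w, hw, hwz⟩ : ∃ w ∈ Fr.W2, α - 𝔅 w z - Q w * β ≠ 0 := by
    by_contra! h
    have hadd : ∀ w ∈ Fr.W2, ∀ w' ∈ Fr.W2, 𝔅 w w' * β = 0 := fun w hw w' hw' => by
      have h3 := h (w + w') (Fr.W2.add_mem hw hw')
      rw [QuadraticMap.polar_add_left, QuadraticMap.map_add (⇑Q)] at h3
      linear_combination h w hw + h w' hw' - h3 - hα
    have hβ : β = 0 := by simpa [Fr.bb'] using hadd _ Fr.b_mem2 _ Fr.b'_mem2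
    have hz0 : z = 0 := Fr.sepW2 hQ z hz fun w hw => by
      have := h w hw
      rw [hα, hβ] at this
      rw [QuadraticMap.polar_comm]
      linear_combination -this
    exact hv0 (by rw [hα, hβ, hz0]; simp)
  obtain ⟨g, hg, hgv⟩ := step (α - 𝔅 w z - Q w * β) β (z + β • w) hwz
    (Fr.W2.add_mem hz (Fr.W2.smul_mem _ hw))
  have h1 : mv (rt Q Fr.a w) (α • Fr.a + β • Fr.a' + z) =
      (α - 𝔅 w z - Q w * β) • Fr.a + β • Fr.a' + (z + β • w) := by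
    rw [mv, mat_rt Fr.qa hw.2.1]
    exact Fr.inner.eich_e_apply α β (hW hz) (hW hw)
  refine ⟨g * rt Q Fr.a w, mul_mem hg (Fr.rt_mem_Lev Fr.a_mem Fr.qa hw.1 hw.2.1), ?_⟩
  rw [mv_mul, h1, hgv, ← h1, quad_mv]

theorem exists_lev_map (hQ : (QuadraticMap.polarBilin Q).Nondegenerate) {v w : ι → F}
    (hv : v ∈ Fr.W) (hv0 : v ≠ 0) (hw : w ∈ Fr.W) (hw0 : w ≠ 0) (h : Q v = Q w) :
    ∃ g ∈ Fr.Lev, mv g v = w := by
  obtain ⟨g, hg, hgv⟩ := Fr.exists_lev_to_std hQ hv hv0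
  obtain ⟨k, hk, hkw⟩ := Fr.exists_lev_to_std hQ hw hw0
  refine ⟨k⁻¹ * g, mul_mem (inv_mem hk) hg, ?_⟩
  rw [mv_mul, hgv, h, ← hkw, mv_inv_mv]

end Frame

end CfsgLib.MinDegree.Orth
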