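import Cfsg.Agent.MinDegree.SUModel

/-!
# The Heisenberg group acting on a finite set

Stabilisers of points in the centre (`zSt`) and their projections to the space (`wSt`); the weight
`wA φ` of a functional on the centre, constant on the non-zero functionals and bounded by the degree.
-/

set_option autoImplicit false
set_option linter.unusedSectionVars false

namespace CfsgLib.MinDegree.SUSpace

open Matrix CfsgLib.RepBounds.Unit CfsgLib.SUThreeUnipotent MulAction

variable {F : Type*} [Field F] [Fintype F] (C : ConjField F) {κ : Type*} [Fintype κ] [DecidableEq κ]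
  {Ω : Type*} [MulAction (suG C (Fin 2 ⊕ κ)) Ω]

/-- The stabiliser in the centre. -/
def zSt (x : Ω) : AddSubgroup C.skew where
  carrier := {c | zA C κ c • x = x}
  zero_mem' := by rw [Set.mem_setOf_eq, AddChar.map_zero_eq_one, one_smul]
  add_mem' {a b} ha hb := by
    rw [Set.mem_setOf_eq] at ha hb ⊢
    rw [AddChar.map_add_eq_mul, mul_smul, hb, ha]
  neg_mem' {a} ha := by
    rw [Set.mem_setOf_eq] at ha ⊢
    conv_lhs => rw [← ha, ← mul_smul, ← AddChar.map_add_eq_mul, neg_add_cancel,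
      AddChar.map_zero_eq_one, one_smul]

theorem mem_zSt {x : Ω} {c : C.skew} : c ∈ zSt C (κ := κ) x ↔ zA C κ c • x = x := Iff.rfl

theorem zA_comm {g : suG C (Fin 2 ⊕ κ)} (hg : g ∈ heis C κ) (c : C.skew) :
    zA C κ c * g = g * zA C κ c := by
  obtain ⟨w, c', hc', rfl⟩ := hg
  exact (uniEl_comm_central C w c' c.1 hc' c.2).symm

/-- The projection of the stabiliser in the Heisenberg group. -/
def wSt (x : Ω) : AddSubgroup (κ → F) where
  carrier := {w | ∃ c hc, uniEl C w c hc • x = x}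
  zero_mem' := ⟨0, by simp [herm_zero_left], by rw [uniEl_zero, one_smul]⟩
  add_mem' := by
    rintro a b ⟨c, hc, ha⟩ ⟨c', hc', hb⟩
    exact ⟨_, _, by rw [← uniEl_mul C hc hc', mul_smul, hb, ha]⟩
  neg_mem' := by
    rintro a ⟨c, hc, ha⟩
    obtain ⟨w, c', hc', e⟩ := (mem_heis C).1 ((heis C κ).inv_mem (uniEl_mem C a c hc))
    have h1 : a + w = 0 := by
      have h2 : uniEl C a c hc * uniEl C w c' hc' = 1 := by rw [← e, mul_inv_cancel]
      rw [uniEl_mul, ← uniEl_zero C] at h2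
      exact (uniEl_inj C _ _ h2).1
    rw [← eq_neg_of_add_eq_zero_right h1]
    refine ⟨c', hc', ?_⟩
    rw [← e]
    exact inv_smul_eq_iff.2 ha.symm

theorem mem_wSt {x : Ω} {w : κ → F} : w ∈ wSt C (κ := κ) x ↔ ∃ c hc, uniEl C w c hc • x = x := Iff.rfl

/-- The commutator lies in the stabiliser. -/
theorem imH_mem {x : Ω} {u w : κ → F} (hu : u ∈ wSt C (κ := κ) x) (hw : w ∈ wSt C (κ := κ) x) :
    imH C u w ∈ zSt C (κ := κ) x := by
  obtain ⟨c, hc, hu⟩ := hu
  obtain ⟨c', hc', hw⟩ := hw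
  have h := congrArg (· • x) (uniEl_conj C hc hc')
  simp only [mul_smul, inv_smul_eq_iff.2 hu.symm, hw, hu] at h
  exact h.symm

theorem wSt_isotropic {p : ℕ} {φ : C.skew →+ ZMod p} {x : Ω} (hk : ∀ c ∈ zSt C (κ := κ) x, φ c = 0) :
    ∀ u ∈ wSt C (κ := κ) x, ∀ w ∈ wSt C (κ := κ) x, φ (imH C u w) = 0 :=
  fun _ hu _ hw => hk _ (imH_mem C hu hw)

theorem zSt_smul {g : suG C (Fin 2 ⊕ κ)} (hg : g ∈ heis C κ) (x : Ω) :
    zSt C (κ := κ) (g • x) = zSt C (κ := κ) x := by
  ext c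
  rw [mem_zSt, mem_zSt, ← mul_smul, zA_comm C hg, mul_smul, smul_left_cancel_iff]

theorem wSt_smul_le {g : suG C (Fin 2 ⊕ κ)} (hg : g ∈ heis C κ) (x : Ω) :
    wSt C (κ := κ) x ≤ wSt C (κ := κ) (g • x) := by
  rintro w ⟨c, hc, hw⟩
  obtain ⟨u, c', hc', rfl⟩ := hg
  have hz := skew_valid C (κ := κ) (imH C u w).2
  refine ⟨_, (by have := uniEl_valid_mul C hz hc; rwa [zero_add] at this), ?_⟩
  have h := congrArg (fun k : suG C (Fin 2 ⊕ κ) => k • (uniEl C u c' hc' • x)) (uniEl_conj C hc' hc)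
  simp only [mul_smul, inv_smul_smul, hw] at h
  rw [zA_apply, ← mul_smul, uniEl_mul] at h
  exact (congrArg (fun k : suG C (Fin 2 ⊕ κ) => k • _)
    (uniEl_congr C _ _ (zero_add w).symm rfl)).trans h.symm

theorem wSt_smul {g : suG C (Fin 2 ⊕ κ)} (hg : g ∈ heis C κ) (x : Ω) :
    wSt C (κ := κ) (g • x) = wSt C (κ := κ) x := by
  refine le_antisymm ?_ (wSt_smul_le C hg x)
  have h := wSt_smul_le C ((heis C κ).inv_mem hg) (g • x)
  rwa [inv_smul_smul] at h

theorem zSt_blockHom (l : suG C κ) (x : Ω) : zSt C (κ := κ) (blockHom C κ l • x) = zSt C (κ := κ) x := by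
  ext c
  rw [mem_zSt, mem_zSt, ← mul_smul, ← blockHom_comm_zA C l c, mul_smul, smul_left_cancel_iff]

theorem mem_wSt_blockHom (l : suG C κ) (x : Ω) (w : κ → F) :
    app C l w ∈ wSt C (κ := κ) (blockHom C κ l • x) ↔ w ∈ wSt C (κ := κ) x := by
  constructor
  · rintro ⟨c, hc, h⟩
    have hc0 : c + C.σ c + herm C w w = 0 := by rwa [herm_app] at hc
    refine ⟨c, hc0, smul_left_cancel (blockHom C κ l) ?_⟩
    rw [← mul_smul, blockHom_uniEl C l w c hc0, mul_smul]
    exact h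
  · rintro ⟨c, hc, h⟩
    exact ⟨c, by rw [herm_app]; exact hc, by rw [← mul_smul, ← blockHom_uniEl C l w c hc, mul_smul, h]⟩

theorem mem_zSt_torEl (i : κ) (a : Fˣ) (x : Ω) (c : C.skew) :
    scale C a c ∈ zSt C (κ := κ) (torEl C i a • x) ↔ c ∈ zSt C (κ := κ) x := by
  rw [mem_zSt, mem_zSt, ← torEl_zA C i a c, mul_smul, inv_smul_smul, mul_smul, smul_left_cancel_iff]

theorem mem_wSt_torEl (i : κ) (a : Fˣ) (x : Ω) (w : κ → F) :
    C.σ (a : F) • tW C i a w ∈ wSt C (κ := κ) (torEl C i a • x) ↔ w ∈ wSt C (κ := κ) x := by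
  constructor
  · rintro ⟨c, hc, h⟩
    have ha : (a : F) * C.σ a ≠ 0 := mul_ne_zero a.ne_zero ((map_ne_zero C.σ).2 a.ne_zero)
    have hc0 : c / ((a : F) * C.σ a) + C.σ (c / ((a : F) * C.σ a)) + herm C w w = 0 := by
      rw [herm_smul_left, herm_smul_right, herm_tW, C.invol] at hc
      rw [map_div₀, map_mul, C.invol, mul_comm (C.σ (a : F)) a]
      field_simp
      linear_combination hc
    refine ⟨_, hc0, smul_left_cancel (torEl C i a) ?_⟩
    have h1 : torEl C i a * uniEl C w _ hc0 = uniEl C _ c hc * torEl C i a := by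
      rw [← mul_inv_eq_iff_eq_mul, torEl_conj]
      exact uniEl_congr C _ _ rfl (mul_div_cancel₀ c ha)
    rw [← mul_smul, h1, mul_smul]
    exact h
  · rintro ⟨c, hc, h⟩
    have h1 := torEl_conj C i a w c hc
    rw [mul_inv_eq_iff_eq_mul] at h1
    exact ⟨_, _, by rw [← mul_smul, ← h1, mul_smul, h]⟩

variable [Finite Ω]

/-- The orbit of the Heisenberg group. -/
theorem card_orbit_mul (x : Ω) :
    Nat.card (orbit (heis C κ) x) * (Nat.card (wSt C (κ := κ) x) * Nat.card (zSt C (κ := κ) x)) =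
      C.q ^ (2 * Fintype.card κ + 1) := by
  let K := stabilizer (heis C κ) x
  let π : K →* Multiplicative (κ → F) := (wHom C).comp K.subtype
  have hker : Nat.card π.ker = Nat.card (zSt C (κ := κ) x) := by
    symm
    refine Nat.card_congr (Equiv.ofBijective
      (fun c : zSt C (κ := κ) x => (⟨⟨⟨zA C κ c.1, zA_mem C c.1⟩, c.2⟩, ?_⟩ : π.ker)) ⟨?_, ?_⟩)
    · exact wHom_uniEl C 0 c.1.1 (skew_valid C c.1.2)
    · intro c c' h
      have h' : zA C κ c.1 = zA C κ c'.1 := congrArg (fun k : π.ker => k.1.1.1) h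
      exact Subtype.ext (Subtype.ext
        (uniEl_inj C (skew_valid C c.1.2) (skew_valid C c'.1.2) h').2)
    · rintro ⟨⟨⟨g, w, c, hc, rfl⟩, hfix⟩, hk⟩
      have hw : w = 0 := (wHom_uniEl C w c hc).symm.trans hk
      subst hw
      have hcs : c ∈ C.skew := by rwa [herm_zero_left, add_zero] at hc
      exact ⟨⟨⟨c, hcs⟩, hfix⟩, rfl⟩
  have hrange : Nat.card π.range = Nat.card (wSt C (κ := κ) x) := by
    symm
    have hmem : ∀ w : wSt C (κ := κ) x, Multiplicative.ofAdd w.1 ∈ π.range := by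
      rintro ⟨w, c, hc, h⟩
      exact ⟨⟨⟨_, uniEl_mem C w c hc⟩, h⟩, wHom_uniEl C w c hc⟩
    refine Nat.card_congr (Equiv.ofBijective (fun w => (⟨_, hmem w⟩ : π.range)) ⟨?_, ?_⟩)
    · intro w w' h
      exact Subtype.ext (congrArg (fun z : π.range => Multiplicative.toAdd z.1) h)
    · rintro ⟨_, ⟨⟨g, w, c, hc, rfl⟩, hfix⟩, rfl⟩
      exact ⟨⟨w, c, hc, hfix⟩, Subtype.ext (wHom_uniEl C w c hc).symm⟩
  have h1 := π.ker.card_eq_card_quotient_mul_card_subgroup
  rw [Nat.card_congr (QuotientGroup.quotientKerEquivRange π).toEquiv, hker, hrange] at h1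
  rw [← card_heis C (κ := κ), ← h1,
    Nat.card_congr (orbitEquivQuotientStabilizer (heis C κ) x)]
  exact (stabilizer (heis C κ) x).index_mul_card

variable {p : ℕ}

open Classical in
/-- The weight of a functional. -/
noncomputable def wA [Fintype Ω] (φ : C.skew →+ ZMod p) : ℕ :=
  ∑ y : Ω, if ∀ c ∈ zSt C (κ := κ) y, φ c = 0 then Nat.card (zSt C (κ := κ) y) else 0

theorem wA_scale [Fintype Ω] [Nonempty κ] (φ : C.skew →+ ZMod p) (a : Fˣ) :
    wA C (κ := κ) (Ω := Ω) (φ.comp (scale C a).toAddMonoidHom) = wA C (κ := κ) (Ω := Ω) φ := by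
  classical
  obtain ⟨i⟩ := ‹Nonempty κ›
  refine Fintype.sum_equiv (MulAction.toPerm (torEl C i a)) _ _ fun y => ?_
  have hc : Nat.card (zSt C (κ := κ) (torEl C i a • y)) = Nat.card (zSt C (κ := κ) y) :=
    (Nat.card_congr ((scale C a).toEquiv.subtypeEquiv fun c => (mem_zSt_torEl C i a y c).symm)).symm
  have hiff : (∀ c ∈ zSt C (κ := κ) y, φ.comp (scale C a).toAddMonoidHom c = 0) ↔
      ∀ c ∈ zSt C (κ := κ) (torEl C i a • y), φ c = 0 := by
    constructor
    · intro h c hc'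
      obtain ⟨c₀, rfl⟩ := (scale C a).surjective c
      exact h c₀ ((mem_zSt_torEl C i a y c₀).1 hc')
    · exact fun h c hc' => h _ ((mem_zSt_torEl C i a y c).2 hc')
  simp only [MulAction.toPerm_apply, hiff, hc]

theorem wA_eq [Fintype Ω] [Nonempty κ] [Fact p.Prime] [CharP F p] {φ φ' : C.skew →+ ZMod p}
    (hφ : φ ≠ 0) (hφ' : φ' ≠ 0) : wA C (κ := κ) (Ω := Ω) φ' = wA C (κ := κ) (Ω := Ω) φ := by
  obtain ⟨a, rfl⟩ := exists_scale_phi C hφ hφ'
  exact wA_scale C φ a

theorem sum_wA [Fintype Ω] [Fact p.Prime] [CharP F p] [Fintype (C.skew →+ ZMod p)] :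
    ∑ φ : C.skew →+ ZMod p, wA C (κ := κ) (Ω := Ω) φ = C.q * Nat.card Ω := by
  classical
  simp only [wA]
  rw [Finset.sum_comm, Finset.sum_congr rfl (g := fun _ => C.q) (fun y _ => ?_), Finset.sum_const,
    smul_eq_mul, Finset.card_univ, Nat.card_eq_fintype_card, mul_comm]
  rw [← Finset.sum_filter, Finset.sum_const, smul_eq_mul, ← card_killing_mul C (p := p) (zSt C (κ := κ) y),
    Nat.card_eq_fintype_card (α := {φ : C.skew →+ ZMod p // _}), Fintype.card_subtype]

theorem mul_wA_add [Fintype Ω] [Nonempty κ] [Fact p.Prime] [CharP F p] {φ : C.skew →+ ZMod p}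
    (hφ : φ ≠ 0) :
    (C.q - 1) * wA C (κ := κ) (Ω := Ω) φ + wA C (κ := κ) (Ω := Ω) (0 : C.skew →+ ZMod p) = C.q * Nat.card Ω := by
  classical
  have : Finite (C.skew →+ ZMod p) := Finite.of_injective _ DFunLike.coe_injective
  have : Fintype (C.skew →+ ZMod p) := Fintype.ofFinite _
  rw [← sum_wA C (κ := κ) (Ω := Ω) (p := p), ← Finset.sum_erase_add _ _ (Finset.mem_univ (0 : C.skew →+ ZMod p)),
    Finset.sum_congr rfl (fun φ' h => wA_eq C hφ (Finset.ne_of_mem_erase h)), Finset.sum_const,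
    smul_eq_mul]
  congr 2
  rw [Finset.card_erase_of_mem (Finset.mem_univ _), Finset.card_univ, ← Nat.card_eq_fintype_card,
    card_addHom_zmod fun x : C.skew => Subtype.ext (by
      rw [AddSubgroup.coe_nsmul]; exact nsmul_char_eq_zero (F := F) _), C.card_skew]

/-- The weight is at most the degree. -/
theorem wA_le [Fintype Ω] [Nonempty κ] [Fact p.Prime] [CharP F p] {φ : C.skew →+ ZMod p}
    (hφ : φ ≠ 0) : wA C (κ := κ) (Ω := Ω) φ ≤ Nat.card Ω := by
  have h0 : wA C (κ := κ) (Ω := Ω) φ ≤ wA C (κ := κ) (Ω := Ω) (0 : C.skew →+ ZMod p) := by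
    classical
    refine Finset.sum_le_sum fun y _ => ?_
    split_ifs <;> simp_all
  have h := mul_wA_add C (κ := κ) (Ω := Ω) hφ
  have hq := C.two_le
  refine Nat.le_of_mul_le_mul_left ?_ (show 0 < C.q by omega)
  rw [← h, show C.q = C.q - 1 + 1 by omega, add_mul, one_mul, Nat.add_sub_cancel]
  exact Nat.add_le_add_left h0 _

/-- Distinct orbits killed by `φ`. -/
theorem card_mul_le_wA [Fintype Ω] (φ : C.skew →+ ZMod p) (S : Finset Ω) {k : ℕ}
    (hk : ∀ y ∈ S, Nat.card (wSt C (κ := κ) y) = k) (hkill : ∀ y ∈ S, ∀ c ∈ zSt C (κ := κ) y, φ c = 0)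
    (hdist : ∀ y ∈ S, ∀ y' ∈ S, y' ∈ orbit (heis C κ) y → y' = y) :
    S.card * C.q ^ (2 * Fintype.card κ + 1) ≤ wA C (κ := κ) (Ω := Ω) φ * k := by
  classical
  have hdisj : (S : Set Ω).PairwiseDisjoint fun y => (orbit (heis C κ) y).toFinset := by
    intro y hy y' hy' hne
    rw [Function.onFun, Finset.disjoint_left]
    intro z hz hz'
    rw [Set.mem_toFinset] at hz hz'
    refine hne (hdist y hy y' hy' ?_).symm
    rw [← orbit_eq_iff.2 hz, orbit_eq_iff.2 hz']
    exact mem_orbit_self y'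
  have h1 : ∀ y ∈ S, (∑ z ∈ (orbit (heis C κ) y).toFinset,
      if ∀ c ∈ zSt C (κ := κ) z, φ c = 0 then Nat.card (zSt C (κ := κ) z) else 0) * k =
        C.q ^ (2 * Fintype.card κ + 1) := by
    intro y hy
    rw [Finset.sum_congr rfl (g := fun _ => Nat.card (zSt C (κ := κ) y)) (fun z hz => ?_), Finset.sum_const,
      smul_eq_mul, ← card_orbit_mul C y, ← hk y hy, Nat.card_eq_fintype_card (α := orbit _ y),
      Set.toFinset_card]
    · ring
    · obtain ⟨g, rfl⟩ := Set.mem_toFinset.1 hz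
      have h : zSt C (κ := κ) (g • y) = zSt C (κ := κ) y := zSt_smul C g.2 y
      rw [h, if_pos (hkill y hy)]
  have h2 : ∑ y ∈ S, C.q ^ (2 * Fintype.card κ + 1) ≤ wA C (κ := κ) (Ω := Ω) φ * k := by
    rw [← Finset.sum_congr rfl h1, ← Finset.sum_mul, ← Finset.sum_biUnion hdisj]
    exact Nat.mul_le_mul_right _ (Finset.sum_le_sum_of_subset (Finset.subset_univ _))
  rwa [Finset.sum_const, smul_eq_mul] at h2

end CfsgLib.MinDegree.SUSpace
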