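import Mathlib

/-!
# Arithmetic for the number of isotropic points of a Hermitian space

`pts q n` is the number of isotropic points of the `n`-dimensional Hermitian space over a field
with `q²` elements.
-/

set_option autoImplicit false

namespace CfsgLib.MinDegree.SUSpace

/-- The number of isotropic points. -/
def pts (q : ℕ) : ℕ → ℕ
  | 0 => 0
  | 1 => 0
  | n + 2 => q ^ (2 * n + 1) + q ^ 2 * pts q n + 1

theorem pts_add_two (q n : ℕ) : pts q (n + 2) = q ^ (2 * n + 1) + q ^ 2 * pts q n + 1 := rfl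

theorem pts_two (q : ℕ) : pts q 2 = q + 1 := by simp [pts]

theorem pts_three (q : ℕ) : pts q 3 = q ^ 3 + 1 := by simp [pts]

theorem pts_four (q : ℕ) : pts q 4 = q ^ 5 + q ^ 3 + q ^ 2 + 1 := by simp [pts]; ring

theorem pts_five (q : ℕ) : pts q 5 = q ^ 7 + q ^ 5 + q ^ 2 + 1 := by simp [pts]; ring

theorem pts_closed (q : ℕ) : ∀ n : ℕ, ((q : ℤ) ^ 2 - 1) * (pts q n : ℤ) =
    ((q : ℤ) ^ n - (-1) ^ n) * ((q : ℤ) ^ (n - 1) - (-1) ^ (n - 1))
  | 0 => by simp [pts]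
  | 1 => by simp [pts]
  | 2 => by simp [pts]
  | n + 3 => by
    have h := pts_closed q (n + 1)
    rw [show n + 3 = n + 1 + 2 from rfl, pts_add_two, show n + 1 + 2 - 1 = n + 2 from rfl]
    rw [show n + 1 - 1 = n from rfl] at h
    have e : ((-1 : ℤ) ^ n) * (-1) ^ n = 1 := by rw [← pow_add]; exact Even.neg_one_pow ⟨n, rfl⟩
    push_cast
    linear_combination (q : ℤ) ^ 2 * h + (1 - (q : ℤ) ^ 2) * e

theorem one_le_pts (q : ℕ) : ∀ {n : ℕ}, 2 ≤ n → 1 ≤ pts q n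
  | 0, h => by omega
  | 1, h => by omega
  | n + 2, _ => by rw [pts_add_two]; omega

theorem pts_mod (q : ℕ) : ∀ {n : ℕ}, 2 ≤ n → ∃ j, pts q n = q * j + 1
  | 0, h => by omega
  | 1, h => by omega
  | n + 2, _ => ⟨q ^ (2 * n) + q * pts q n, by rw [pts_add_two]; ring⟩

/-- The main upper bound. -/
theorem two_mul_pts_le {q : ℕ} (hq : 2 ≤ q) :
    ∀ k : ℕ, 2 * pts q (k + 3) ≤ 3 * q ^ (2 * k + 3)
  | 0 => by
    rw [pts_three]
    have := Nat.pow_le_pow_left hq 3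
    simp only [Nat.mul_zero, Nat.zero_add]
    omega
  | 1 => by
    rw [show 1 + 3 = 4 from rfl, pts_four, show 2 * 1 + 3 = 5 from rfl]
    have h4 : 2 * q ^ 4 ≤ q ^ 5 := by rw [pow_succ, mul_comm]; exact Nat.mul_le_mul_left _ hq
    have h3 : 2 * q ^ 3 ≤ q ^ 4 := by rw [pow_succ, mul_comm]; exact Nat.mul_le_mul_left _ hq
    have h2 : 2 * q ^ 2 ≤ q ^ 3 := by rw [pow_succ, mul_comm]; exact Nat.mul_le_mul_left _ hq
    have h1 : 4 ≤ q ^ 2 := Nat.pow_le_pow_left hq 2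
    omega
  | k + 2 => by
    have h := two_mul_pts_le hq k
    rw [show k + 2 + 3 = k + 3 + 2 from rfl, pts_add_two, show 2 * (k + 3) + 1 = 2 * k + 7 by ring,
      show 2 * (k + 2) + 3 = 2 * k + 7 by ring]
    have h1 : 4 ≤ q ^ 2 := Nat.pow_le_pow_left hq 2
    have h2 : 4 * q ^ (2 * k + 5) ≤ q ^ (2 * k + 7) := by
      rw [show 2 * k + 7 = 2 * k + 5 + 2 by ring, pow_add q (2 * k + 5) 2, mul_comm]
      exact Nat.mul_le_mul_left _ h1
    have h3 : 2 * (q ^ 2 * pts q (k + 3)) ≤ 3 * q ^ (2 * k + 5) := by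
      rw [show 2 * k + 5 = 2 * k + 3 + 2 by ring, pow_add q (2 * k + 3) 2]
      calc 2 * (q ^ 2 * pts q (k + 3)) = q ^ 2 * (2 * pts q (k + 3)) := by ring
        _ ≤ q ^ 2 * (3 * q ^ (2 * k + 3)) := Nat.mul_le_mul_left _ h
        _ = _ := by ring
    have h4 : 32 ≤ q ^ (2 * k + 5) := le_trans (by norm_num) (Nat.pow_le_pow_left hq 5) |>.trans
      (Nat.pow_le_pow_right (by omega) (by omega))
    omega

theorem exists_add_three {m : ℕ} (hm : 3 ≤ m) : ∃ k, m = k + 3 := ⟨m - 3, by omega⟩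

theorem sq_mul_pts_lt {q m : ℕ} (hq : 2 ≤ q) (hm : 3 ≤ m) :
    q ^ 2 * pts q m + 1 ≤ q ^ (2 * m) := by
  obtain ⟨k, rfl⟩ := exists_add_three hm
  have h := two_mul_pts_le hq k
  have h1 : 2 * (q ^ 2 * pts q (k + 3)) ≤ 3 * q ^ (2 * k + 5) := by
    calc 2 * (q ^ 2 * pts q (k + 3)) = q ^ 2 * (2 * pts q (k + 3)) := by ring
      _ ≤ q ^ 2 * (3 * q ^ (2 * k + 3)) := Nat.mul_le_mul_left _ h
      _ = _ := by ring
  have h2 : 2 * q ^ (2 * k + 5) ≤ q ^ (2 * (k + 3)) := by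
    rw [show 2 * (k + 3) = 2 * k + 5 + 1 by ring, pow_succ, mul_comm]
    exact Nat.mul_le_mul_left _ hq
  have h4 : 2 ≤ q ^ (2 * k + 5) := le_trans hq (Nat.le_self_pow (by omega) q)
  omega

theorem pts_lt_two_mul {q m : ℕ} (hq : 2 ≤ q) (hm : 3 ≤ m) :
    pts q (m + 2) ≤ q ^ (2 * m + 1) + q ^ (2 * m) := by
  rw [pts_add_two]
  have := sq_mul_pts_lt hq hm
  omega

/-- The isotropic labels give at least twice what is available. -/
theorem two_iso_le {q m : ℕ} (hq : 2 ≤ q) (hm : 3 ≤ m) :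
    q ^ 2 * pts q m + 1 ≤ 2 * ((q ^ 2 - 1) * pts q m) := by
  have h1 : 4 ≤ q ^ 2 := Nat.pow_le_pow_left hq 2
  have h2 := one_le_pts q (n := m) (by omega)
  obtain ⟨j, hj⟩ : ∃ j, q ^ 2 = j + 4 := ⟨q ^ 2 - 4, by omega⟩
  rw [hj, show j + 4 - 1 = j + 3 from rfl]
  nlinarith

end CfsgLib.MinDegree.SUSpace
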