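import Cfsg.Agent.MinDegree.SUPairing
import Cfsg.Agent.Forms.HermitianCount

/-!
# Vectors of given norm in a Hermitian space
-/

set_option autoImplicit false
set_option linter.unusedSectionVars false

namespace CfsgLib.MinDegree.SUSpace

open CfsgLib.RepBounds.Unit

variable {F : Type*} [Field F] [Fintype F] (C : ConjField F) {κ : Type*} [Fintype κ] [DecidableEq κ]

/-- The vectors of norm `a`. -/
noncomputable def normSet (κ : Type*) [Fintype κ] [DecidableEq κ] (a : F) : Finset (κ → F) :=
  haveI := Classical.decEq F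
  Finset.univ.filter fun v => herm C v v = a

theorem mem_normSet {a : F} {v : κ → F} : v ∈ normSet C κ a ↔ herm C v v = a := by
  simp [normSet]

theorem card_normSet_mul [DecidableEq F] {a : F} (ha : C.σ a = a) :
    ((normSet C κ a).card : ℤ) * C.q = (C.q : ℤ) ^ (2 * Fintype.card κ) +
      ((C.q : ℤ) * (if a = 0 then 1 else 0) - 1) * (-(C.q : ℤ)) ^ Fintype.card κ := by
  rw [← CfsgLib.Forms.card_sumNorm C.card (Fintype.card κ) a (by rw [← C.pow, ha])]
  congr 2
  let e := Fintype.equivFin κ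
  rw [← Fintype.card_coe, ← Nat.card_eq_fintype_card]
  refine Nat.card_congr (Equiv.subtypeEquiv (Equiv.arrowCongr e (Equiv.refl F)) fun v => ?_)
  rw [mem_normSet, herm]
  rw [← Equiv.sum_comp e.symm fun i => v i * C.σ (v i)]
  simp [C.pow, pow_succ, mul_comm]

/-- The isotropic vectors. -/
theorem card_iso : (normSet C κ 0).card = (C.q ^ 2 - 1) * pts C.q (Fintype.card κ) + 1 := by
  classical
  have h := card_normSet_mul C (κ := κ) (a := 0) (map_zero _)
  rw [if_pos rfl, mul_one] at h
  have hq : (C.q : ℤ) ≠ 0 := by have := C.two_le; exact_mod_cast (by omega : C.q ≠ 0)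
  have h2 : 1 ≤ C.q ^ 2 := Nat.one_le_pow _ _ (by have := C.two_le; omega)
  zify [h2]
  apply mul_right_cancel₀ hq
  rw [h]
  rcases Nat.eq_zero_or_pos (Fintype.card κ) with h0 | h0
  · rw [h0]; simp [pts]
  · obtain ⟨n, hn⟩ : ∃ n, Fintype.card κ = n + 1 := ⟨Fintype.card κ - 1, by omega⟩
    have h3 := pts_closed C.q (n + 1)
    rw [show n + 1 - 1 = n from rfl] at h3
    rw [hn, h3, neg_pow (C.q : ℤ)]
    have e : ((-1 : ℤ) ^ n) * (-1) ^ n = 1 := by rw [← pow_add]; exact Even.neg_one_pow ⟨n, rfl⟩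
    linear_combination (C.q : ℤ) * e

theorem card_normSet_three (hκ : Fintype.card κ = 3) {a : F} (ha : C.σ a = a) (ha0 : a ≠ 0) :
    (normSet C κ a).card = C.q ^ 2 * (C.q ^ 3 + 1) := by
  classical
  have h := card_normSet_mul C (κ := κ) ha
  rw [if_neg ha0, hκ] at h
  have hq : (C.q : ℤ) ≠ 0 := by have := C.two_le; exact_mod_cast (by omega : C.q ≠ 0)
  zify
  apply mul_right_cancel₀ hq
  rw [h]
  ring

theorem card_iso_add_noniso [DecidableEq F] :
    (normSet C κ 0).card + ((Finset.univ : Finset (κ → F)) \ normSet C κ 0).card =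
      C.q ^ (2 * Fintype.card κ) := by
  rw [add_comm, Finset.card_sdiff_add_card_eq_card (Finset.subset_univ _), Finset.card_univ,
    ← Nat.card_eq_fintype_card, card_vec C]

end CfsgLib.MinDegree.SUSpace
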