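import Cfsg.Agent.MinDegree.SUCount

/-!
# The norm of a field of characteristic two has no totally singular half

A subgroup of order `q` on which `φ ∘ N` vanishes would make the sum of signs `q` instead of `-q`.
-/

set_option autoImplicit false
set_option linter.unusedSectionVars false

namespace CfsgLib.MinDegree.SUSpace

open CfsgLib.RepBounds.Unit CfsgLib.SUThreeUnipotent
open CfsgLib.MinDegree.UFour (annih mem_annih)

variable {F : Type*} [Field F] [Fintype F] (C : ConjField F) {μ : Type*} [Fintype μ] [DecidableEq μ]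

/-- The sign. -/
def sgn (a : ZMod 2) : ℤ := if a = 0 then 1 else -1

theorem sgn_zero : sgn 0 = 1 := if_pos rfl

theorem sgn_add : ∀ a b : ZMod 2, sgn (a + b) = sgn a * sgn b := by decide

theorem sgn_of_ne : ∀ {a : ZMod 2}, a ≠ 0 → sgn a = -1 := fun h => if_neg h

/-- A sum of signs of a non-zero functional vanishes. -/
theorem sum_sgn_eq_zero {A : Type*} [AddCommGroup A] [Fintype A] {f : A →+ ZMod 2} {a : A}
    (ha : f a ≠ 0) : ∑ x, sgn (f x) = 0 := by
  have h : ∑ x, sgn (f x) = ∑ x, -sgn (f x) := by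
    refine Fintype.sum_equiv (Equiv.addRight a) _ _ fun x => ?_
    rw [Equiv.coe_addRight, map_add, sgn_add, sgn_of_ne ha]
    ring
  rw [Finset.sum_neg_distrib] at h
  linarith

theorem skew_eq_fixed (h2 : (2 : F) = 0) {x : F} (hx : C.σ x = x) : x ∈ C.skew := by
  rw [C.mem_skew, hx, ← two_mul, h2, zero_mul]

/-- The norm with values in the skew elements. -/
def nB (h2 : (2 : F) = 0) (x : μ → F) : C.skew :=
  ⟨herm C x x, skew_eq_fixed C h2 (herm_self_fixed C x)⟩

theorem nB_add (h2 : (2 : F) = 0) (x y : μ → F) :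
    nB C h2 (x + y) = nB C h2 x + nB C h2 y + imH C x y := by
  apply Subtype.ext
  simp only [nB, AddSubgroup.coe_add, coe_imH, herm_add_left, herm_add_right]
  linear_combination (herm C y x) * h2

theorem elliptic_false [Fact (Nat.Prime 2)] [CharP F 2] (hμ : Fintype.card μ = 1)
    {φ : C.skew →+ ZMod 2} (hφ : φ ≠ 0) {B : AddSubgroup (μ → F)} (hB : C.q ≤ Nat.card B)
    (h2 : (2 : F) = 0) (h : ∀ b ∈ B, φ (nB C h2 b) = 0) : False := by
  classical
  have : Fintype C.skew := Fintype.ofFinite _
  have hq := C.two_le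
  have hiso : ∀ u ∈ B, ∀ w ∈ B, φ (imH C u w) = 0 := by
    intro u hu w hw
    have h1 := h _ (add_mem hu hw)
    rwa [nB_add, map_add, map_add, h u hu, h w hw, zero_add, zero_add] at h1
  have hBq : Nat.card B = C.q := le_antisymm (by
    have := card_le_of_isotropic C hφ hiso
    rwa [hμ, pow_one] at this) hB
  have hann : annih (pairH C φ) B = B := by
    have hle : B ≤ annih (pairH C φ) B := fun u hu x hx => hiso u hu x hx
    refine (SetLike.coe_injective (Set.eq_of_subset_of_ncard_le hle ?_ (Set.toFinite _))).symm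
    rw [← Nat.card_coe_set_eq, ← Nat.card_coe_set_eq]
    have h1 := card_annih C hφ B
    rw [hBq, hμ, mul_one, sq] at h1
    exact (Nat.eq_of_mul_eq_mul_right (by omega) h1).trans_le hBq.ge
  set S : ℤ := ∑ x : μ → F, sgn (φ (nB C h2 x))
  have hS1 : S = C.q := by
    have e1 : ∑ b : B, ∑ x : μ → F, sgn (φ (nB C h2 (x + b.1))) = ∑ _b : B, S :=
      Finset.sum_congr rfl fun b _ =>
        Fintype.sum_equiv (Equiv.addRight b.1) _ _ fun x => rfl
    rw [Finset.sum_comm, Finset.sum_const, Finset.card_univ, ← Nat.card_eq_fintype_card, hBq,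
      nsmul_eq_mul] at e1
    have e2 : ∀ x : μ → F, ∑ b : B, sgn (φ (nB C h2 (x + b.1))) =
        if x ∈ B then (C.q : ℤ) else 0 := by
      intro x
      split_ifs with hx
      · rw [Finset.sum_congr rfl (g := fun _ => 1) fun b _ => by
          rw [h _ (add_mem hx b.2), sgn_zero], Finset.sum_const, Finset.card_univ,
          ← Nat.card_eq_fintype_card, hBq, nsmul_eq_mul, mul_one]
      · obtain ⟨b0, hb0, hne⟩ : ∃ b ∈ B, φ (imH C x b) ≠ 0 := by
          by_contra hh
          push Not at hh
          exact hx (hann ▸ (fun b hb => hh b hb : x ∈ annih (pairH C φ) B))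
        let f : B →+ ZMod 2 := (pairH C φ x).comp B.subtype
        have hf : f ⟨b0, hb0⟩ ≠ 0 := hne
        rw [Finset.sum_congr rfl (g := fun b => sgn (φ (nB C h2 x)) * sgn (f b)) fun b _ => by
          rw [nB_add, map_add, map_add, h b.1 b.2, add_zero, sgn_add]; rfl,
          ← Finset.mul_sum, sum_sgn_eq_zero hf, mul_zero]
    rw [Finset.sum_congr rfl (fun x _ => e2 x), ← Finset.sum_filter, Finset.sum_const,
      ← Fintype.card_subtype, ← Nat.card_eq_fintype_card, hBq, nsmul_eq_mul] at e1
    exact (mul_left_cancel₀ (by exact_mod_cast (by omega : C.q ≠ 0)) e1).symm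
  have hS2 : S = -C.q := by
    obtain ⟨y0, hy0⟩ : ∃ y, φ y ≠ 0 := by
      by_contra! hh
      exact hφ (AddMonoidHom.ext hh)
    have hfib : ∀ y : C.skew, ((Finset.univ.filter fun x : μ → F => nB C h2 x = y).card : ℤ) =
        (C.q + 1) - (if y = 0 then (C.q : ℤ) else 0) := by
      intro y
      have hy : C.σ y.1 = y.1 := by
        rw [C.skew_eq y.2]
        linear_combination (-y.1) * h2
      have e : (Finset.univ.filter fun x : μ → F => nB C h2 x = y) = normSet C μ y.1 := by
        ext x
        simp [mem_normSet, nB, Subtype.ext_iff]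
      have h1 := card_normSet_mul C (κ := μ) hy
      rw [hμ, ← e, pow_one] at h1
      apply mul_right_cancel₀ (show (C.q : ℤ) ≠ 0 by exact_mod_cast (by omega : C.q ≠ 0))
      rw [h1]
      by_cases h0 : y = 0
      · rw [if_pos h0, if_pos (show (y : F) = 0 by rw [h0]; rfl)]; ring
      · rw [if_neg h0, if_neg (fun e : (y : F) = 0 => h0 (Subtype.ext e))]; ring
    show ∑ x : μ → F, sgn (φ (nB C h2 x)) = _
    rw [← Finset.sum_fiberwise' Finset.univ (fun x : μ → F => nB C h2 x) (fun y => sgn (φ y)),
      Finset.sum_congr rfl (g := fun y => ((C.q : ℤ) + 1 - (if y = 0 then (C.q : ℤ) else 0)) *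
        sgn (φ y)) fun y _ => by rw [Finset.sum_const, nsmul_eq_mul, hfib]]
    simp only [sub_mul, Finset.sum_sub_distrib, ← Finset.mul_sum, sum_sgn_eq_zero hy0, ite_mul,
      zero_mul, Finset.sum_ite_eq', Finset.mem_univ, if_true, map_zero, sgn_zero]
    ring
  omega

end CfsgLib.MinDegree.SUSpace
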