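import Cfsg.Agent.MinDegree.SULabelsTrivial

/-!
# No small action: the fixed points of the transvection groups
-/

set_option autoImplicit false
set_option linter.unusedSectionVars false

namespace CfsgLib.MinDegree.SUSpace

open Matrix CfsgLib.RepBounds.Unit CfsgLib.SUThreeUnipotent MulAction
open scoped Classical

variable {F : Type*} [Field F] [Fintype F] {C : ConjField F} {μ : Type*} [Fintype μ] [DecidableEq μ]
  [Nonempty μ] {Ω : Type*} [MulAction (suG C (Fin 2 ⊕ (Fin 2 ⊕ μ))) Ω] [Fintype Ω] {T : ℕ}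

namespace Bounds

variable (hb : Bounds C μ T) (hd : Nat.card Ω < T)
  [IsPretransitive (suG C (Fin 2 ⊕ (Fin 2 ⊕ μ))) Ω] [Nontrivial Ω]
include hb hd

theorem heis_fix {x : Ω} (hx : zSt C (κ := (Fin 2 ⊕ μ)) x = ⊤)
    {g : suG C (Fin 2 ⊕ (Fin 2 ⊕ μ))} (hg : g ∈ heis C (Fin 2 ⊕ μ)) : g • x = x := by
  obtain ⟨p, hp⟩ := CharP.exists F
  have : Fact p.Prime := ⟨CharP.char_is_prime F p⟩
  obtain ⟨c, hc, hc0⟩ := C.exists_skew_ne
  obtain ⟨φ, hφ, -⟩ := exists_phi_ne C (p := p) (Z := (⊥ : AddSubgroup C.skew)) (fun h => hc0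
    (congrArg Subtype.val (AddSubgroup.mem_bot.1
      (h ▸ AddSubgroup.mem_top (⟨c, hc⟩ : C.skew)) : (⟨c, hc⟩ : C.skew) = 0)))
  have h1 := card_labA_mul C hφ (κ := (Fin 2 ⊕ μ)) x
  rw [hb.labels_trivial hd hφ hx, AddSubgroup.card_bot, one_mul] at h1
  have h2 := card_orbit_fix C (κ := (Fin 2 ⊕ μ)) hx
  rw [h1] at h2
  have h3 : Nat.card (orbit (heis C (Fin 2 ⊕ μ)) x) = 1 :=
    Nat.eq_of_mul_eq_mul_right (pow_pos (by have := C.two_le; omega) _) (h2.trans (one_mul _).symm)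
  exact congrArg Subtype.val ((Nat.card_eq_one_iff_unique.1 h3).1.elim
    (⟨_, ⟨⟨g, hg⟩, rfl⟩⟩ : orbit (heis C (Fin 2 ⊕ μ)) x) ⟨x, mem_orbit_self x⟩)

theorem tF_inU {a : Fin 2 ⊕ (Fin 2 ⊕ μ) → F} {x : Ω} (ha : herm C a a = 0) (hx : TF C a x)
    {g : suG C (Fin 2 ⊕ (Fin 2 ⊕ μ))} (hg : InU C g a) : g • x = x := by
  rcases eq_or_ne a 0 with rfl | ha0
  · obtain ⟨w, c, -, -, hE⟩ := hg
    rw [show g = 1 from suG_ext C fun y => by
      rw [hE y, herm_zero_right, zero_smul, smul_zero, add_zero, add_zero, app_one], one_smul]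
  obtain ⟨k, hk⟩ := exists_app_vE C ha ha0
  have h1 : zSt C (κ := (Fin 2 ⊕ μ)) (k⁻¹ • x) = ⊤ := by
    rw [← tF_vE_iff C, ← tF_app C k, hk, smul_inv_smul]; exact hx
  have h2 := hg.conj C k⁻¹
  rw [inv_inv, app_inv_eq C hk, ← mem_heis_iff_inU] at h2
  have h3 := hb.heis_fix hd h1 h2
  rwa [mul_smul, mul_smul, smul_inv_smul, inv_smul_eq_iff, smul_inv_smul] at h3

theorem tF_smul {a : Fin 2 ⊕ (Fin 2 ⊕ μ) → F} {x : Ω} (ha : herm C a a = 0) (hx : TF C a x) (r : F) :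
    TF C (r • a) x := by
  intro g c hc hg
  rcases eq_or_ne r 0 with rfl | hr
  · rw [show g = 1 from suG_ext C fun y => by
      rw [hg y, zero_smul, herm_zero_right, zero_smul, smul_zero, add_zero, add_zero, app_one],
      one_smul]
  have h := InU.smul C (inU_transv C hc hg) (inv_ne_zero hr)
  rw [inv_smul_smul₀ hr] at h
  exact hb.tF_inU hd ha hx h

/-- The two opposite groups generate. -/
theorem not_tF_pair {y : Ω} (he : TF C (vE C (Fin 2 ⊕ μ)) y) : ¬ TF C (vF C (Fin 2 ⊕ μ)) y := by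
  intro hf
  have hfix : ∀ u ∈ heis C (Fin 2 ⊕ μ), u • y = y := fun u hu =>
    hb.heis_fix hd ((tF_vE_iff C).1 he) hu
  have hoff : ∀ a : Fin 2 ⊕ (Fin 2 ⊕ μ) → F, herm C a a = 0 →
      herm C a (vE C (Fin 2 ⊕ μ)) ≠ 0 → TF C a y := by
    intro a ha hne
    set γ := herm C a (vE C (Fin 2 ⊕ μ)) with hγ
    set b := γ⁻¹ • a with hb'
    have hbe : herm C b (vE C (Fin 2 ⊕ μ)) = 1 := by
      rw [hb', herm_smul_left, ← hγ, inv_mul_cancel₀ hne]
    have hbb : herm C b b = 0 := by rw [hb', herm_smul_left, herm_smul_right, ha, mul_zero, mul_zero]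
    have hd' := decomp C b
    rw [hbe, one_smul] at hd'
    set β := herm C b (vF C (Fin 2 ⊕ μ))
    set w := b ∘ Sum.inr
    have hv : β + C.σ β + herm C w w = 0 := by
      rw [hd'] at hbb
      simp only [herm_add_left, herm_add_right, herm_smul_left, herm_smul_right, herm_vE_vE,
        herm_vE_vF, herm_vF_vE, herm_vF_vF, herm_vE_inW, herm_inW_vE, herm_vF_inW, herm_inW_vF,
        herm_inW, mul_zero, mul_one, add_zero, zero_add] at hbb
      linear_combination hbb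
    have hu : app C (uniEl C w β hv) (vF C (Fin 2 ⊕ μ)) = b := by
      rw [app_uniEl_vF, hd']; abel
    have h1 := tF_app_of C (uniEl C w β hv) hf
    rw [hu, hfix _ (uniEl_mem C w β hv)] at h1
    have h2 := hb.tF_smul hd hbb h1 γ
    rwa [hb', smul_inv_smul₀ hne] at h2
  have hall : ∀ a : Fin 2 ⊕ (Fin 2 ⊕ μ) → F, herm C a a = 0 → TF C a y := by
    intro a ha
    rcases eq_or_ne a 0 with rfl | ha0
    · exact fun g c _ hg => by
        rw [show g = 1 from suG_ext C fun z => by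
          rw [hg z, herm_zero_right, zero_smul, smul_zero, add_zero, add_zero, app_one], one_smul]
    by_cases hae : herm C a (vE C (Fin 2 ⊕ μ)) = 0
    swap
    · exact hoff a ha hae
    have move : ∀ g : suG C (Fin 2 ⊕ (Fin 2 ⊕ μ)), InU C g (vF C (Fin 2 ⊕ μ)) →
        herm C (app C g a) (vE C (Fin 2 ⊕ μ)) ≠ 0 → TF C a y := by
      intro g hg hne
      have h1 := hoff _ (by rw [herm_app, ha]) hne
      rwa [← hb.tF_inU hd (herm_vF_vF C) hf hg, tF_app] at h1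
    by_cases haf : herm C a (vF C (Fin 2 ⊕ μ)) = 0
    · have hd' := decomp C a
      rw [hae, haf, zero_smul, zero_smul, zero_add, zero_add] at hd'
      obtain ⟨r, hr⟩ := exists_herm_eq C (u := a ∘ Sum.inr) (fun e => ha0 (by rw [hd', e, inW_zero]))
        (1 : F)
      obtain ⟨g, hg⟩ := exists_isE C (w := inW r) (c := cA C r) (herm_vF_vF C (κ := (Fin 2 ⊕ μ)))
        (herm_inW_vF C r) (by rw [herm_inW]; exact cA_spec C r)
      refine move g ⟨_, _, herm_inW_vF C r, by rw [herm_inW]; exact cA_spec C r, hg⟩ ?_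
      rw [hg, haf, herm_comp_inr, ← conj_herm C r, hr, map_one]
      simp [herm_add_left, herm_smul_left, CfsgLib.RepBounds.Unit.herm_neg_left, herm_vF_vE, hae]
    · obtain ⟨c, hc, hc0⟩ := C.exists_skew_ne
      obtain ⟨g, hgE, hg⟩ := exists_transv C (herm_vF_vF C (κ := (Fin 2 ⊕ μ))) hc
      refine move g (inU_transv C hc hgE) ?_
      rw [hg, herm_add_left, herm_smul_left, hae, zero_add, herm_vF_vE, mul_one]
      exact mul_ne_zero hc0 haf
  have htop : transvs C (Fin 2 ⊕ (Fin 2 ⊕ μ)) ≤ stabilizer (suG C (Fin 2 ⊕ (Fin 2 ⊕ μ))) y := by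
    rw [transvs, Subgroup.closure_le]
    rintro g ⟨v, c, hv, hc, hg⟩
    exact mem_stabilizer_iff.2 (hall v hv g c hc fun z => by
      rw [hg z, herm_zero_right, smul_zero, add_zero, sub_zero])
  have h5 := hb.three_le
  rw [transvs_eq_top C (by rw [Fintype.card_sum, Fintype.card_fin]; omega)] at htop
  obtain ⟨a, b, hab⟩ := exists_pair_ne Ω
  obtain ⟨g, rfl⟩ := exists_smul_eq (suG C (Fin 2 ⊕ (Fin 2 ⊕ μ))) y a
  obtain ⟨g', rfl⟩ := exists_smul_eq (suG C (Fin 2 ⊕ (Fin 2 ⊕ μ))) y b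
  exact hab ((mem_stabilizer_iff.1 (htop (Subgroup.mem_top g))).trans
    (mem_stabilizer_iff.1 (htop (Subgroup.mem_top g'))).symm)

theorem tF_perp {a b : Fin 2 ⊕ (Fin 2 ⊕ μ) → F} {x : Ω} (ha : herm C a a = 0) (hb' : herm C b b = 0)
    (hax : TF C a x) (hbx : TF C b x) : herm C b a = 0 := by
  by_contra hne
  have ha0 : a ≠ 0 := fun e => hne (by rw [e, herm_zero_right])
  obtain ⟨k, hk⟩ := exists_app_vE C ha ha0
  set y := k⁻¹ • x with hy
  have hey : TF C (vE C (Fin 2 ⊕ μ)) y := by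
    rw [← tF_app C k, hk, hy, smul_inv_smul]; exact hax
  set b' := (herm C b a)⁻¹ • app C k⁻¹ b with hb''
  have hby : TF C b' y := hb.tF_smul hd (by rw [herm_app, hb']) (by
    rw [hy]; exact tF_app_of C k⁻¹ hbx) _
  have hbe : herm C b' (vE C (Fin 2 ⊕ μ)) = 1 := by
    rw [hb'', herm_smul_left, ← app_inv_eq C hk, herm_app, inv_mul_cancel₀ hne]
  have hbb : herm C b' b' = 0 := by
    rw [hb'', herm_smul_left, herm_smul_right, herm_app, hb', mul_zero, mul_zero]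
  have hd' := decomp C b'
  rw [hbe, one_smul] at hd'
  set β := herm C b' (vF C (Fin 2 ⊕ μ))
  set w := b' ∘ Sum.inr
  have hv : β + C.σ β + herm C w w = 0 := by
    rw [hd'] at hbb
    simp only [herm_add_left, herm_add_right, herm_smul_left, herm_smul_right, herm_vE_vE,
      herm_vE_vF, herm_vF_vE, herm_vF_vF, herm_vE_inW, herm_inW_vE, herm_vF_inW, herm_inW_vF,
      herm_inW, mul_zero, mul_one, add_zero, zero_add] at hbb
    linear_combination hbb
  have hu : app C (uniEl C w β hv) (vF C (Fin 2 ⊕ μ)) = b' := by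
    rw [app_uniEl_vF, hd']; abel
  have h1 := tF_app_of C (uniEl C w β hv)⁻¹ hby
  rw [app_inv_eq C hu, hb.heis_fix hd ((tF_vE_iff C).1 hey) (inv_mem (uniEl_mem C w β hv))] at h1
  exact hb.not_tF_pair hd hey h1

theorem tF_add {a b : Fin 2 ⊕ (Fin 2 ⊕ μ) → F} {x : Ω} (ha : herm C a a = 0) (hb' : herm C b b = 0)
    (hax : TF C a x) (hbx : TF C b x) : TF C (a + b) x := by
  rcases eq_or_ne a 0 with rfl | ha0
  · rwa [zero_add]
  have hperp := hb.tF_perp hd ha hb' hax hbx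
  obtain ⟨k, hk⟩ := exists_app_vE C ha ha0
  set y := k⁻¹ • x with hy
  have hey : TF C (vE C (Fin 2 ⊕ μ)) y := by
    rw [← tF_app C k, hk, hy, smul_inv_smul]; exact hax
  set v := app C k⁻¹ b with hv
  have hvy : TF C v y := tF_app_of C k⁻¹ hbx
  have hvv : herm C v v = 0 := by rw [hv, herm_app, hb']
  have hve : herm C v (vE C (Fin 2 ⊕ μ)) = 0 := by rw [hv, ← app_inv_eq C hk, herm_app, hperp]
  suffices hs : TF C (vE C (Fin 2 ⊕ μ) + v) y by
    have h2 := tF_app_of C k hs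
    rwa [app_add, hk, hv, app_app_inv, hy, smul_inv_smul] at h2
  have hd' := decomp C v
  rw [hve, zero_smul, add_zero] at hd'
  rcases eq_or_ne (v ∘ Sum.inr) 0 with ht | ht
  · rw [ht, inW_zero, add_zero] at hd'
    rw [hd']
    nth_rw 1 [← one_smul F (vE C (Fin 2 ⊕ μ))]
    rw [← add_smul]
    exact hb.tF_smul hd (herm_vE_vE C) hey _
  · obtain ⟨w, hw⟩ := exists_herm_eq C ht (-1 : F)
    have h1 := tF_app_of C (hs C w) hvy
    rw [hb.heis_fix hd ((tF_vE_iff C).1 hey) (hs_mem C w)] at h1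
    rwa [show app C (hs C w) v = vE C (Fin 2 ⊕ μ) + v from by
      rw [CfsgLib.MinDegree.SUSpace.hs, app_uniEl, hve, zero_smul, add_zero, herm_comp_inr,
        ← conj_herm C w, hw, map_neg, map_one, neg_one_smul, sub_neg_eq_add, add_comm]] at h1

/-- The totally isotropic space attached to a point. -/
def sGrp (x : Ω) : AddSubgroup (Fin 2 ⊕ (Fin 2 ⊕ μ) → F) where
  carrier := {a | herm C a a = 0 ∧ TF C a x}
  zero_mem' := ⟨herm_zero_left C 0, fun g c _ hg => by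
    rw [show g = 1 from suG_ext C fun z => by
      rw [hg z, herm_zero_right, zero_smul, smul_zero, add_zero, add_zero, app_one], one_smul]⟩
  add_mem' := fun {a b} ⟨ha, hax⟩ ⟨hb', hbx⟩ => ⟨by
    simp only [herm_add_left, herm_add_right, ha, hb', hb.tF_perp hd ha hb' hax hbx,
      hb.tF_perp hd hb' ha hbx hax, add_zero], hb.tF_add hd ha hb' hax hbx⟩
  neg_mem' := fun {a} ⟨ha, hax⟩ => ⟨by rw [CfsgLib.RepBounds.Unit.herm_neg_left, herm_neg_r, neg_neg, ha],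
    by rw [← neg_one_smul F a]; exact hb.tF_smul hd ha hax _⟩

theorem fix_mul_lt (x : Ω) :
    (C.q ^ 2 - 1) * Nat.card {y : Ω // zSt C (κ := (Fin 2 ⊕ μ)) y = ⊤} <
      ((classSet C (Fin 2 ⊕ (Fin 2 ⊕ μ)) 0).filter fun a => TF C a x).card := by
  by_contra! hle
  have hcount := hb.tF_count hd x
  rw [hb.card_class hd (Ω := Ω)] at hcount
  obtain ⟨y, hy⟩ := hb.exists_fix hd (Ω := Ω)
  have : Nonempty {y : Ω // zSt C (κ := (Fin 2 ⊕ μ)) y = ⊤} := ⟨⟨y, hy⟩⟩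
  have h0 : 0 < Nat.card {y : Ω // zSt C (κ := (Fin 2 ⊕ μ)) y = ⊤} := Nat.card_pos
  have h1 := Nat.mul_le_mul_left (Nat.card Ω) hle
  rw [hcount] at h1
  have h2 : Nat.card Ω < pts C.q (Fintype.card (Fin 2 ⊕ μ) + 2) := hd.trans_le hb.le_pts
  have h4 : 4 ≤ C.q ^ 2 := Nat.pow_le_pow_left C.two_le 2
  have h3 := Nat.mul_lt_mul_of_pos_right h2 (Nat.mul_pos (show 0 < C.q ^ 2 - 1 by omega) h0)
  nlinarith

theorem filter_le_sGrp (x : Ω) :
    ((classSet C (Fin 2 ⊕ (Fin 2 ⊕ μ)) 0).filter fun a => TF C a x).card + 1 ≤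
      Nat.card (hb.sGrp hd x) := by
  refine le_trans (le_of_eq ?_) (card_filter_succ_le (hb.sGrp hd x)
    (A := classSet C (Fin 2 ⊕ (Fin 2 ⊕ μ)) 0) (fun h0 => (mem_classSet C).1 h0 |>.1 rfl))
  congr 1
  refine congrArg Finset.card (Finset.filter_congr fun a ha => ?_)
  exact ⟨fun h => ⟨((mem_classSet C).1 ha).2, h⟩, fun h => h.2⟩

/-- A fixed point sees an isotropic vector of the complement. -/
theorem exists_inW_mem {x : Ω} (hx : zSt C (κ := (Fin 2 ⊕ μ)) x = ⊤) :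
    ∃ w : Fin 2 ⊕ μ → F, w ≠ 0 ∧ inW w ∈ hb.sGrp hd x := by
  by_contra! hno
  have hee : vE C (Fin 2 ⊕ μ) ∈ hb.sGrp hd x := ⟨herm_vE_vE C, (tF_vE_iff C).2 hx⟩
  have hle : Nat.card (hb.sGrp hd x) ≤ C.q ^ 2 := by
    refine card_le_of_line C (v := vE C (Fin 2 ⊕ μ)) fun z hz => ?_
    have hd' := decomp C z
    rw [hb.tF_perp hd hee.1 hz.1 hee.2 hz.2, zero_smul, add_zero] at hd'
    refine ⟨herm C z (vF C (Fin 2 ⊕ μ)), ?_⟩
    by_cases ht : z ∘ Sum.inr = 0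
    · rwa [ht, inW_zero, add_zero] at hd'
    · refine absurd ?_ (hno _ ht)
      rw [show inW (z ∘ Sum.inr) = z - herm C z (vF C (Fin 2 ⊕ μ)) • vE C (Fin 2 ⊕ μ) from
        eq_sub_iff_add_eq'.2 hd'.symm]
      exact sub_mem hz ⟨by rw [herm_smul_vE], hb.tF_smul hd hee.1 hee.2 _⟩
  have h1 := hb.filter_le_sGrp hd x
  have h2 := hb.fix_mul_lt hd x
  have : Nonempty {y : Ω // zSt C (κ := (Fin 2 ⊕ μ)) y = ⊤} := ⟨⟨x, hx⟩⟩
  have h0 : 0 < Nat.card {y : Ω // zSt C (κ := (Fin 2 ⊕ μ)) y = ⊤} := Nat.card_pos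
  have h3 := Nat.le_mul_of_pos_right (C.q ^ 2 - 1) h0
  omega

theorem inW_mem_blockHom (l : suG C (Fin 2 ⊕ μ)) {x : Ω} {w : Fin 2 ⊕ μ → F}
    (hw : inW w ∈ hb.sGrp hd x) :
    inW (app C l w) ∈ hb.sGrp hd (blockHom C (Fin 2 ⊕ μ) l • x) := by
  rw [← app_blockHom_inW]
  exact ⟨by rw [herm_app]; exact hw.1, tF_app_of C _ hw.2⟩

/-- The big complement: the orbit on the fixed points is too large. -/
theorem big_false {B : ℕ} (hB : ∀ H : Subgroup (suG C (Fin 2 ⊕ μ)), H ≠ ⊤ → B ≤ H.index)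
    (hB2 : C.q ^ (Fintype.card (Fin 2 ⊕ μ) + 2) ≤ (C.q ^ 2 - 1) * B + 1) : False := by
  obtain ⟨x, hx⟩ := hb.exists_fix hd (Ω := Ω)
  obtain ⟨w, hw0, hw⟩ := hb.exists_inW_mem hd hx
  have hwiso : herm C w w = 0 := by rw [← herm_inW C w w]; exact hw.1
  let St := (stabilizer (suG C (Fin 2 ⊕ (Fin 2 ⊕ μ))) x).comap (blockHom C (Fin 2 ⊕ μ))
  have hne : St ≠ ⊤ := by
    intro htop
    have hall : ∀ u : Fin 2 ⊕ μ → F, u ≠ 0 → herm C u u = 0 → inW u ∈ hb.sGrp hd x := by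
      intro u hu0 huu
      obtain ⟨l, rfl⟩ := exists_map_of_norm C hw0 hu0 (hwiso.trans huu.symm)
      have hl : blockHom C (Fin 2 ⊕ μ) l ∈ stabilizer (suG C (Fin 2 ⊕ (Fin 2 ⊕ μ))) x :=
        (htop ▸ Subgroup.mem_top l : l ∈ St)
      have h1 := hb.inW_mem_blockHom hd l hw
      rwa [mem_stabilizer_iff.1 hl] at h1
    have he := hall _ (vE_ne_zero C (κ := μ)) (herm_vE_vE C)
    have hf := hall _ (vF_ne_zero C (κ := μ)) (herm_vF_vF C)
    have h1 := hb.tF_perp hd he.1 hf.1 he.2 hf.2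
    rw [herm_inW, herm_vF_vE] at h1
    exact one_ne_zero h1
  have hle : St.index ≤ Nat.card {y : Ω // zSt C (κ := (Fin 2 ⊕ μ)) y = ⊤} := by
    rw [Subgroup.index_eq_card]
    refine Nat.card_le_card_of_injective (fun c : suG C (Fin 2 ⊕ μ) ⧸ St =>
      (⟨blockHom C (Fin 2 ⊕ μ) c.out • x, by rw [zSt_blockHom]; exact hx⟩ :
        {y : Ω // zSt C (κ := (Fin 2 ⊕ μ)) y = ⊤})) fun c c' h => ?_
    rw [← QuotientGroup.out_eq' c, ← QuotientGroup.out_eq' c', QuotientGroup.eq]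
    show blockHom C (Fin 2 ⊕ μ) (c.out⁻¹ * c'.out) • x = x
    rw [map_mul, map_inv, mul_smul, ← (show blockHom C (Fin 2 ⊕ μ) c.out • x = blockHom C (Fin 2 ⊕ μ) c'.out • x from congrArg Subtype.val h), inv_smul_smul]
  obtain ⟨p, hp⟩ := CharP.exists F
  have : Fact p.Prime := ⟨CharP.char_is_prime F p⟩
  obtain ⟨c, hc, hc0⟩ := C.exists_skew_ne
  obtain ⟨φ, hφ, -⟩ := exists_phi_ne C (p := p) (Z := (⊥ : AddSubgroup C.skew)) (fun h => hc0
    (congrArg Subtype.val (AddSubgroup.mem_bot.1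
      (h ▸ AddSubgroup.mem_top (⟨c, hc⟩ : C.skew)) : (⟨c, hc⟩ : C.skew) = 0)))
  have hcard := card_le_of_isotropic C hφ (S := hb.sGrp hd x) fun u hu v hv => by
    rw [show imH C u v = 0 from Subtype.ext (by
      rw [coe_imH, hb.tF_perp hd hv.1 hu.1 hv.2 hu.2, hb.tF_perp hd hu.1 hv.1 hu.2 hv.2,
        sub_zero]; rfl), map_zero]
  rw [Fintype.card_sum, Fintype.card_fin, add_comm 2] at hcard
  have h1 := hb.filter_le_sGrp hd x
  have h2 := hb.fix_mul_lt hd x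
  have h3 := Nat.mul_le_mul_left (C.q ^ 2 - 1) ((hB _ hne).trans hle)
  omega

/-- The three-dimensional complement: too few fixed points to cover its isotropic vectors. -/
theorem three_false (hm : Fintype.card (Fin 2 ⊕ μ) = 3) : False := by
  have : Subsingleton μ := (Fintype.card_le_one_iff_subsingleton).1 (by
    rw [Fintype.card_sum, Fintype.card_fin] at hm; omega)
  obtain ⟨x₀, hx₀⟩ := hb.exists_fix hd (Ω := Ω)
  obtain ⟨w₀, hw₀0, hw₀⟩ := hb.exists_inW_mem hd hx₀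
  have hline : ∀ {x : Ω} {u v : Fin 2 ⊕ μ → F}, u ≠ 0 → inW u ∈ hb.sGrp hd x →
      inW v ∈ hb.sGrp hd x → ∃ r : F, v = r • u := by
    intro x u v hu0 hu hv
    have h1 := hb.tF_perp hd hu.1 hv.1 hu.2 hv.2
    rw [herm_inW] at h1
    exact eq_smul_of_perp_three C (by rw [← herm_inW C u u]; exact hu.1) hu0
      (by rw [← herm_inW C v v]; exact hv.1) h1
  have hee : vE C (Fin 2 ⊕ μ) ∈ hb.sGrp hd x₀ := ⟨herm_vE_vE C, (tF_vE_iff C).2 hx₀⟩
  have hS : Nat.card (hb.sGrp hd x₀) ≤ C.q ^ 4 := by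
    have hz : ∀ z : hb.sGrp hd x₀, ∃ r : F, z.1 =
        herm C z.1 (vF C (Fin 2 ⊕ μ)) • vE C (Fin 2 ⊕ μ) + r • inW w₀ := by
      intro z
      have hd' := decomp C z.1
      rw [hb.tF_perp hd hee.1 z.2.1 hee.2 z.2.2, zero_smul, add_zero] at hd'
      have hmem : inW (z.1 ∘ Sum.inr) ∈ hb.sGrp hd x₀ := by
        rw [show inW (z.1 ∘ Sum.inr) = z.1 - herm C z.1 (vF C (Fin 2 ⊕ μ)) • vE C (Fin 2 ⊕ μ) from
          eq_sub_iff_add_eq'.2 hd'.symm]
        exact sub_mem z.2 ⟨by rw [herm_smul_vE], hb.tF_smul hd hee.1 hee.2 _⟩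
      obtain ⟨r, hr⟩ := hline hw₀0 hw₀ hmem
      exact ⟨r, by rw [← inW_smul, ← hr]; exact hd'⟩
    choose r hr using hz
    have h := Nat.card_le_card_of_injective (fun z : hb.sGrp hd x₀ =>
      (herm C z.1 (vF C (Fin 2 ⊕ μ)), r z)) fun z z' e => by
        simp only [Prod.mk.injEq] at e
        exact Subtype.ext (by rw [hr z, hr z', e.1, e.2])
    rwa [Nat.card_prod, Nat.card_eq_fintype_card (α := F), C.card, ← pow_add] at h
  have h1 := hb.filter_le_sGrp hd x₀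
  have h2 := hb.fix_mul_lt hd x₀
  set Fx := (Finset.univ : Finset Ω).filter fun x => zSt C (κ := (Fin 2 ⊕ μ)) x = ⊤ with hFx
  have hd0 : Nat.card {y : Ω // zSt C (κ := (Fin 2 ⊕ μ)) y = ⊤} = Fx.card := by
    rw [Nat.card_eq_fintype_card, Fintype.card_subtype]
  have hcover : classSet C (Fin 2 ⊕ μ) 0 ⊆ Fx.biUnion fun x =>
      (classSet C (Fin 2 ⊕ μ) 0).filter fun u => inW u ∈ hb.sGrp hd x := by
    intro u hu
    obtain ⟨l, rfl⟩ := exists_map_of_norm C hw₀0 ((mem_classSet C).1 hu).1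
      ((show herm C w₀ w₀ = 0 by rw [← herm_inW C w₀ w₀]; exact hw₀.1).trans
        ((mem_classSet C).1 hu).2.symm)
    exact Finset.mem_biUnion.2 ⟨blockHom C (Fin 2 ⊕ μ) l • x₀,
      Finset.mem_filter.2 ⟨Finset.mem_univ _, by rw [zSt_blockHom]; exact hx₀⟩,
      Finset.mem_filter.2 ⟨hu, hb.inW_mem_blockHom hd l hw₀⟩⟩
  have hsmall : ∀ x ∈ Fx,
      ((classSet C (Fin 2 ⊕ μ) 0).filter fun u => inW u ∈ hb.sGrp hd x).card ≤ C.q ^ 2 - 1 := by
    intro x _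
    rcases ((classSet C (Fin 2 ⊕ μ) 0).filter fun u => inW u ∈ hb.sGrp hd x).eq_empty_or_nonempty
      with h | ⟨u, hu⟩
    · rw [h]; exact Nat.zero_le _
    rw [Finset.mem_filter, mem_classSet] at hu
    refine le_trans (Finset.card_le_card (t := ((Finset.univ : Finset F).erase 0).image (· • u))
      fun v hv => ?_) (Finset.card_image_le.trans ?_)
    · rw [Finset.mem_filter, mem_classSet] at hv
      obtain ⟨r, hr⟩ := hline hu.1.1 hu.2 hv.2
      exact Finset.mem_image.2 ⟨r, Finset.mem_erase.2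
        ⟨fun e => hv.1.1 (by rw [hr, e, zero_smul]), Finset.mem_univ _⟩, hr.symm⟩
    · rw [Finset.card_erase_of_mem (Finset.mem_univ _), Finset.card_univ, C.card]
  have h5 := (Finset.card_le_card hcover).trans (Finset.card_biUnion_le_card_mul _ _ _ hsmall)
  rw [card_classSet_zero, hm, pts_three, mul_comm Fx.card, ← hd0] at h5
  have h4 : 4 ≤ C.q ^ 2 := Nat.pow_le_pow_left C.two_le 2
  have h6 := Nat.le_of_mul_le_mul_left h5 (by omega)
  have h7 := Nat.mul_le_mul_left (C.q ^ 2 - 1) h6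
  have h8 : C.q ^ 4 - 1 ≤ (C.q ^ 2 - 1) * (C.q ^ 2 + 1) := by
    rw [show C.q ^ 4 = C.q ^ 2 * C.q ^ 2 by ring, Nat.sub_mul, one_mul, mul_add, mul_one]
    omega
  have h9 : C.q ^ 2 + 1 ≤ C.q ^ 3 + 1 := by
    have := Nat.pow_le_pow_right (show 0 < C.q by have := C.two_le; omega) (show 2 ≤ 3 by norm_num)
    omega
  have h10 := Nat.mul_le_mul_left (C.q ^ 2 - 1) h9
  omega

/-- There is no action of degree less than `T`. -/
theorem no_small_action : False := by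
  rcases hb.cases with h | ⟨B, hB, -, hB2⟩
  · exact hb.three_false hd h
  · exact hb.big_false hd hB hB2

end Bounds

/-- Every proper subgroup has index at least `T`. -/
theorem Bounds.le_index (hb : Bounds C μ T) (H : Subgroup (suG C (Fin 2 ⊕ (Fin 2 ⊕ μ))))
    (hH : H ≠ ⊤) : T ≤ H.index := by
  by_contra! hlt
  have : Fintype (suG C (Fin 2 ⊕ (Fin 2 ⊕ μ)) ⧸ H) := Fintype.ofFinite _
  have : Nontrivial (suG C (Fin 2 ⊕ (Fin 2 ⊕ μ)) ⧸ H) := QuotientGroup.nontrivial_iff.2 hH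
  exact hb.no_small_action (Ω := suG C (Fin 2 ⊕ (Fin 2 ⊕ μ)) ⧸ H)
    (by rwa [← Subgroup.index_eq_card])

end CfsgLib.MinDegree.SUSpace
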