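import Cfsg.Agent.MinDegree.SUMoved

/-!
# Transport to every isotropic vector; some point is fixed by the centre
-/

set_option autoImplicit false
set_option linter.unusedSectionVars false

namespace CfsgLib.MinDegree.SUSpace

open Matrix CfsgLib.RepBounds.Unit CfsgLib.SUThreeUnipotent MulAction
open scoped Classical

variable {F : Type*} [Field F] [Fintype F] (C : ConjField F)

/-- The transvection group at `a` fixes `x`. -/
def TF {ι : Type*} [Fintype ι] [DecidableEq ι] {Ω : Type*} [MulAction (suG C ι) Ω] (a : ι → F)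
    (x : Ω) : Prop :=
  ∀ (g : suG C ι), ∀ c ∈ C.skew, IsE C g a 0 c → g • x = x

section general

variable {ι : Type*} [Fintype ι] [DecidableEq ι] {Ω : Type*} [MulAction (suG C ι) Ω]

theorem tF_app_of {a : ι → F} {x : Ω} (k : suG C ι) (h : TF C a x) : TF C (app C k a) (k • x) := by
  intro g c hc hg
  have h1 := hg.conj k⁻¹
  rw [app_inv_app, app_zero, inv_inv] at h1
  have h2 := h _ c hc h1
  rwa [mul_smul, mul_smul, inv_smul_eq_iff] at h2

theorem tF_app {a : ι → F} {x : Ω} (k : suG C ι) : TF C (app C k a) (k • x) ↔ TF C a x := by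
  refine ⟨fun h => ?_, tF_app_of C k⟩
  have h1 := tF_app_of C k⁻¹ h
  rwa [app_inv_app, inv_smul_smul] at h1

end general

variable {μ : Type*} [Fintype μ] [DecidableEq μ] [Nonempty μ] {Ω : Type*}
  [MulAction (suG C (Fin 2 ⊕ (Fin 2 ⊕ μ))) Ω]

theorem tF_vE_iff {κ : Type*} [Fintype κ] [DecidableEq κ] {Ω : Type*}
    [MulAction (suG C (Fin 2 ⊕ κ)) Ω] {x : Ω} :
    TF C (vE C κ) x ↔ zSt C (κ := κ) x = ⊤ := by
  have hE : ∀ c : C.skew, IsE C (zA C κ c) (vE C κ) 0 c.1 := fun c => by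
    have h := isE_uniEl C (0 : κ → F) c.1 (skew_valid C c.2)
    rwa [inW_zero] at h
  constructor
  · exact fun h => eq_top_iff.2 fun c _ => h _ c.1 c.2 (hE c)
  · intro h g c hc hg
    rw [hg.unique (hE ⟨c, hc⟩)]
    exact (mem_zSt C).1 (h ▸ AddSubgroup.mem_top (⟨c, hc⟩ : C.skew))

theorem exists_app_vE {κ : Type*} [Fintype κ] [DecidableEq κ] [Nonempty κ] {a : Fin 2 ⊕ κ → F}
    (ha : herm C a a = 0) (ha0 : a ≠ 0) : ∃ k : suG C (Fin 2 ⊕ κ), app C k (vE C κ) = a :=
  exists_map_of_norm C (vE_ne_zero C (κ := κ)) ha0 (by rw [herm_vE_vE, ha])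

/-- The transvection in the block. -/
theorem app_blockHom_zA (d : C.skew) (y : Fin 2 ⊕ (Fin 2 ⊕ μ) → F) :
    app C (blockHom C (Fin 2 ⊕ μ) (zA C μ d)) y =
      y + ((d : F) * herm C y (inW (vE C μ))) • inW (vE C μ) := by
  rw [app_blockHom, zA_apply, app_uniEl, inW_zero, herm_zero_right, zero_smul, sub_zero, zero_add,
    smul_smul, herm_comp_inr, mul_comm (d : F)]
  funext j
  rcases j with j | j <;> simp [inW]

/-- The point where the modified transvection is an Eichler element. -/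
theorem isE_translate {g : suG C (Fin 2 ⊕ (Fin 2 ⊕ μ))} {c d α r : F} {hc : c ∈ C.skew}
    {hd : d ∈ C.skew} (hα : c + C.σ c + herm C (α • vE C μ) (α • vE C μ) = 0)
    (hg : g = uniEl C (α • vE C μ) c hα * blockHom C (Fin 2 ⊕ μ) (zA C μ ⟨d, hd⟩))
    (hr : r * C.σ r * c + r * C.σ α - C.σ r * α + d = 0) :
    InU C g (vE C (Fin 2 ⊕ μ) + r • inW (vE C μ)) := by
  refine ⟨(α - c * r) • inW (vE C μ), c, ?_, ?_, fun y => ?_⟩
  · simp [herm_add_right, herm_smul_left, herm_smul_right, herm_inW_vE, herm_inW, herm_vE_vE]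
  · simp [herm_smul_left, herm_smul_right, herm_inW, herm_vE_vE, hc, C.skew_eq hc]
  · rw [hg, app_mul, app_blockHom_zA, app_uniEl]
    simp only [herm_add_left, herm_add_right, herm_smul_left, herm_smul_right, inW_smul,
      herm_inW_vE, herm_inW, herm_vE_vE, map_sub, map_mul, C.skew_eq hc, mul_zero, add_zero]
    match_scalars <;> first
      | linear_combination hr * herm C y (inW (vE C μ))
      | linear_combination -hr * herm C y (inW (vE C μ))
      | ring1

namespace Bounds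

variable {C} [Fintype Ω] {T : ℕ} (hb : Bounds C μ T) (hd : Nat.card Ω < T)
  [IsPretransitive (suG C (Fin 2 ⊕ (Fin 2 ⊕ μ))) Ω] [Nontrivial Ω]
include hb hd

theorem free {a : Fin 2 ⊕ (Fin 2 ⊕ μ) → F} (ha : herm C a a = 0) (ha0 : a ≠ 0) {x : Ω}
    (hx : ¬ TF C a x) {g : suG C (Fin 2 ⊕ (Fin 2 ⊕ μ))} (hg : InU C g a) (hgx : g • x = x) :
    g = 1 := by
  obtain ⟨k, hk⟩ := exists_app_vE C ha ha0
  have h1 := hg.conj C k⁻¹
  rw [inv_inv, app_inv_eq C hk, ← mem_heis_iff_inU] at h1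
  have h2 : zSt C (κ := (Fin 2 ⊕ μ)) (k⁻¹ • x) ≠ ⊤ := by
    rw [Ne, ← tF_vE_iff C, ← tF_app C k, hk, smul_inv_smul]
    exact hx
  have h3 := hb.eq_one_of_fixes hd h2 h1 (by rw [mul_smul, mul_smul, smul_inv_smul, hgx])
  exact mul_left_cancel (a := k⁻¹) (mul_right_cancel (b := k) (by rw [h3]; group))

theorem card_not_tF {a : Fin 2 ⊕ (Fin 2 ⊕ μ) → F} (ha : herm C a a = 0) (ha0 : a ≠ 0) :
    Nat.card {x : Ω // ¬ TF C a x} = C.q ^ (2 * Fintype.card (Fin 2 ⊕ μ) + 1) := by
  obtain ⟨k, hk⟩ := exists_app_vE C ha ha0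
  rw [← hb.card_moved hd (Ω := Ω)]
  refine (Nat.card_congr (Equiv.subtypeEquiv (MulAction.toPerm k) fun x => ?_)).symm
  rw [MulAction.toPerm_apply, ← hk, tF_app, tF_vE_iff]

/-- The centre fixes a point. -/
theorem exists_fix : ∃ x : Ω, zSt C (κ := (Fin 2 ⊕ μ)) x = ⊤ := by
  by_contra! hall
  have hall' : ∀ a : Fin 2 ⊕ (Fin 2 ⊕ μ) → F, herm C a a = 0 → a ≠ 0 → ∀ x : Ω, ¬ TF C a x := by
    intro a ha ha0 x hx
    obtain ⟨k, hk⟩ := exists_app_vE C ha ha0
    rw [← hk, ← smul_inv_smul k x, tF_app, tF_vE_iff] at hx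
    exact hall _ hx
  obtain ⟨x, -⟩ := hb.exists_moved (Ω := Ω)
  have hlift : ∀ l : suG C (Fin 2 ⊕ μ), ∃ w c, ∃ hc : c + C.σ c + herm C w w = 0,
      (uniEl C w c hc * blockHom C (Fin 2 ⊕ μ) l) • x = x := by
    intro l
    obtain ⟨u, hu⟩ := hb.same_orbit hd (hall (blockHom C (Fin 2 ⊕ μ) l • x)) (hall x)
    obtain ⟨w, c, hc, he⟩ := (mem_heis C).1 u.2
    exact ⟨w, c, hc, by rw [← he, mul_smul]; exact hu⟩
  obtain ⟨d, hdm, hd0⟩ := C.exists_skew_ne
  set z : suG C (Fin 2 ⊕ μ) := zA C μ ⟨d, hdm⟩ with hz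
  obtain ⟨w0, c0, hc0, h0⟩ := hlift z
  have hcond : ∀ l : suG C (Fin 2 ⊕ μ), l * z = z * l → ∃ r : F, app C l w0 - w0 = r • vE C μ := by
    intro l hl
    obtain ⟨w, c, hc, h1⟩ := hlift l
    set u := uniEl C w c hc
    set u0 := uniEl C w0 c0 hc0
    set L := blockHom C (Fin 2 ⊕ μ) l
    set Z := blockHom C (Fin 2 ⊕ μ) z
    have hLZ : L * Z = Z * L := by rw [← map_mul, hl, map_mul]
    have hfix : ((u * L) * (u0 * Z) * (u * L)⁻¹ * (u0 * Z)⁻¹) • x = x := by
      rw [mul_smul, mul_smul, mul_smul, inv_smul_eq_iff.2 h0.symm, inv_smul_eq_iff.2 h1.symm, h0, h1]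
    have he : (u * L) * (u0 * Z) * (u * L)⁻¹ * (u0 * Z)⁻¹ =
        (u * (L * u0 * L⁻¹)) * (u0 * (Z * u * Z⁻¹))⁻¹ := by
      calc _ = u * (L * u0 * L⁻¹) * (L * Z * L⁻¹ * Z⁻¹) * (Z * u * Z⁻¹)⁻¹ * u0⁻¹ := by group
        _ = _ := by rw [hLZ]; group
    have hL := blockHom_conj C l w0 c0 hc0
    have hZ := blockHom_conj C z w c hc
    rw [he, hL, hZ, uniEl_mul, uniEl_mul] at hfix
    have h2 := hb.eq_one_of_fixes hd (hall x)
      (mul_mem (uniEl_mem C _ _ _) (inv_mem (uniEl_mem C _ _ _))) hfix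
    rw [mul_inv_eq_one] at h2
    have h3 := (uniEl_inj C _ _ h2).1
    refine ⟨herm C w (vE C μ) * d, ?_⟩
    rw [hz, zA_apply, app_uniEl, inW_zero, herm_zero_right, zero_smul, sub_zero, zero_add,
      smul_smul] at h3
    rw [sub_eq_iff_eq_add]
    calc app C l w0 = w + app C l w0 - w := by abel
      _ = _ := by rw [h3]; abel
  obtain ⟨i⟩ := ‹Nonempty μ›
  have hγ : herm C w0 (vE C μ) = 0 := by
    obtain ⟨r, hr⟩ := hcond (hs C (Pi.single i 1)) (zA_comm C (hs_mem C _) _).symm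
    have h1 := congrFun hr (Sum.inr i)
    rw [hs, app_uniEl] at h1
    simpa [inW, vE] using h1
  obtain ⟨a, ha, ha2⟩ := exists_norm_one C
  have hw0 : w0 = herm C w0 (vF C μ) • vE C μ := by
    have hd' := decomp C w0
    rw [hγ, zero_smul, add_zero] at hd'
    conv_lhs => rw [hd']
    suffices hh : w0 ∘ Sum.inr = 0 by rw [hh, inW_zero, add_zero]
    funext j
    have hcomm : torEl C j a * z = z * torEl C j a := by
      have h := torEl_zA C j a ⟨d, hdm⟩
      rw [show scale C a ⟨d, hdm⟩ = ⟨d, hdm⟩ from Subtype.ext (by rw [scale_apply, ha, one_mul]),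
        mul_inv_eq_iff_eq_mul] at h
      exact h
    obtain ⟨r, hr⟩ := hcond _ hcomm
    rw [hd', app_add, app_smul, app_torEl_vE, app_torEl_inW] at hr
    have h1 := congrFun hr (Sum.inr j)
    simp [inW, vE, tW] at h1
    rcases h1 with h1 | h1
    · exfalso
      have ha0 := a.ne_zero
      apply ha2
      rw [sub_eq_zero, div_eq_one_iff_eq ha0] at h1
      calc (a : F) * a = a * C.σ a := by rw [h1]
        _ = 1 := ha
    · exact h1
  obtain ⟨α, hα'⟩ : ∃ α : F, w0 = α • vE C μ := ⟨_, hw0⟩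
  clear hw0 hγ hcond
  subst hα'
  have hc0s : c0 ∈ C.skew := by
    rwa [herm_smul_vE, add_zero] at hc0
  obtain ⟨g, hg⟩ : ∃ g, g = uniEl C (α • vE C μ) c0 hc0 * blockHom C (Fin 2 ⊕ μ) z := ⟨_, rfl⟩
  rw [← hg] at h0
  have hg1 : g ≠ 1 := by
    intro e
    have h1 := congrArg (fun k => herm C (app C k (inW (vF C μ))) (inW (vF C μ))) (hg.symm.trans e)
    simp only [hz, app_mul, app_one, app_blockHom_zA, app_uniEl] at h1
    simp only [herm_add_left, herm_sub_left, herm_smul_left, herm_smul_right, inW_smul,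
      herm_inW_vE, herm_vE_inW, herm_inW, herm_vF_vF, herm_vF_vE, herm_vE_vF, mul_zero, mul_one,
      add_zero, zero_add, sub_zero] at h1
    exact hd0 (by linear_combination h1)
  rcases eq_or_ne c0 0 with hc0z | hc0z
  · rcases eq_or_ne α 0 with hα | hα
    · have hs : herm C (inW (vE C μ) : Fin 2 ⊕ (Fin 2 ⊕ μ) → F) (inW (vE C μ)) = 0 := by
        rw [herm_inW, herm_vE_vE]
      refine hg1 (hb.free hd hs (fun e => vE_ne_zero C (κ := μ) (inW_inj (e.trans inW_zero.symm)))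
        (hall' _ hs (fun e => vE_ne_zero C (κ := μ) (inW_inj (e.trans inW_zero.symm))) x)
        (inU_transv C hdm fun y => ?_) h0)
      rw [hg, app_mul, hz, app_blockHom_zA, app_uniEl, herm_zero_right, smul_zero, add_zero, sub_zero]
      simp [hc0z, hα, inW_zero, herm_zero_right]
    · obtain ⟨s0, hs0⟩ := C.exists_sub_eq (neg_mem hdm)
      have hσ : C.σ α ≠ 0 := (map_ne_zero C.σ).2 hα
      refine hg1 (hb.free hd ?_ ?_ (hall' _ ?_ ?_ x)
        (isE_translate C (hc := hc0s) (hd := hdm) (r := s0 / C.σ α) hc0 hg ?_) h0)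
      case refine_5 =>
        rw [hc0z, map_div₀, C.invol]
        field_simp
        linear_combination (C.σ α * α) * hs0
      all_goals first
        | (simp [herm_add_left, herm_add_right, herm_smul_left, herm_smul_right, herm_vE_vE,
            herm_vE_inW, herm_inW_vE, herm_inW]; done)
        | exact fun e => by simpa [herm_add_left, herm_smul_left, herm_vE_vF, herm_inW_vF,
            herm_zero_left] using congrArg (fun y => herm C y (vF C (Fin 2 ⊕ μ))) e
  · have hσc : C.σ c0 = -c0 := C.skew_eq hc0s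
    obtain ⟨η, hη⟩ := CfsgLib.Forms.exists_mul_involution_eq C.ne_id C.invol
      (c := -(α * C.σ α / c0 + d) / c0) (by
        rw [map_div₀, map_neg, map_add, map_div₀, map_mul, C.invol, hσc, C.skew_eq hdm]
        field_simp
        ring)
    refine hg1 (hb.free hd ?_ ?_ (hall' _ ?_ ?_ x)
      (isE_translate C (hc := hc0s) (hd := hdm) (r := η + α / c0) hc0 hg ?_) h0)
    case refine_5 =>
      rw [map_add, map_div₀, hσc]
      field_simp at hη ⊢
      linear_combination hη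
    all_goals first
      | (simp [herm_add_left, herm_add_right, herm_smul_left, herm_smul_right, herm_vE_vE,
          herm_vE_inW, herm_inW_vE, herm_inW]; done)
      | exact fun e => by simpa [herm_add_left, herm_smul_left, herm_vE_vF, herm_inW_vF,
          herm_zero_left] using congrArg (fun y => herm C y (vF C (Fin 2 ⊕ μ))) e

end Bounds

end CfsgLib.MinDegree.SUSpace
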