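import Cfsg.Agent.MinDegree.SUModel

/-!
# Isotropic vectors of a Hermitian space
-/

set_option autoImplicit false
set_option linter.unusedSectionVars false

namespace CfsgLib.MinDegree.SUSpace

open Matrix CfsgLib.RepBounds.Unit CfsgLib.SUThreeUnipotent

variable {F : Type*} [Field F] [Fintype F] (C : ConjField F)

/-- A scalar of norm one whose square is not one. -/
theorem exists_norm_one : ∃ a : Fˣ, (a : F) * C.σ a = 1 ∧ (a : F) * a ≠ 1 := by
  obtain ⟨t, ht1, ht2⟩ : ∃ t : F, C.σ t ≠ t ∧ C.σ t ≠ -t := by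
    obtain ⟨t, ht⟩ := C.exists_trace_one
    by_cases h : C.σ t = t
    · obtain ⟨u, hu⟩ : ∃ u, C.σ u ≠ u := by
        by_contra h'
        push Not at h'
        exact C.ne_id (RingHom.ext h')
      by_cases h' : C.σ u = -u
      · refine ⟨u + t, fun e => hu ?_, fun e => ?_⟩
        · rw [map_add, h] at e
          exact add_right_cancel e
        · rw [map_add, h, h'] at e
          rw [h] at ht
          exact one_ne_zero (α := F) (by linear_combination e - ht)
      · exact ⟨u, hu, h'⟩
    · exact ⟨t, h, fun e => by rw [e, add_neg_cancel] at ht; exact zero_ne_one ht⟩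
  have ht0 : t ≠ 0 := fun e => ht1 (by rw [e, map_zero])
  have hs0 : C.σ t ≠ 0 := (map_ne_zero C.σ).2 ht0
  refine ⟨Units.mk0 (C.σ t / t) (div_ne_zero hs0 ht0), ?_, fun e => ?_⟩
  · rw [Units.val_mk0, map_div₀, C.invol]
    field_simp
  · rw [Units.val_mk0] at e
    rcases mul_self_eq_one_iff.1 e with e | e
    · exact ht1 (by rw [div_eq_iff ht0, one_mul] at e; exact e)
    · exact ht2 (by rw [div_eq_iff ht0, neg_one_mul] at e; exact e)

section general

variable {ι : Type*} [Fintype ι] [DecidableEq ι]

/-- The transvection at `s`. -/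
theorem exists_transv {s : ι → F} {c : F} (hs : herm C s s = 0) (hc : c ∈ C.skew) :
    ∃ g : suG C ι, IsE C g s 0 c ∧ ∀ x, app C g x = x + (c * herm C x s) • s := by
  obtain ⟨g, hg⟩ := exists_isE C (w := 0) hs (herm_zero_left C s)
    (by rw [herm_zero_left, add_zero]; exact hc)
  exact ⟨g, hg, fun x => by rw [hg x, herm_zero_right, smul_zero, add_zero, sub_zero]⟩

theorem inU_transv {g : suG C ι} {s : ι → F} {c : F} (hc : c ∈ C.skew) (hg : IsE C g s 0 c) :
    InU C g s := ⟨0, c, herm_zero_left C s, by rw [herm_zero_left, add_zero]; exact hc, hg⟩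

/-- An isotropic vector is not perpendicular to every isotropic vector. -/
theorem exists_nonperp_of_iso {t : ι → F} (ht : t ≠ 0) (hiso : herm C t t = 0) :
    ∃ r : ι → F, herm C r r = 0 ∧ herm C t r ≠ 0 := by
  obtain ⟨a, ha, ha2⟩ := exists_norm_one C
  obtain ⟨i, hi⟩ : ∃ i, t i ≠ 0 := Function.ne_iff.1 ht
  refine ⟨Function.update t i ((a : F) * t i), ?_, ?_⟩
  · rw [← hiso]
    refine Finset.sum_congr rfl fun j _ => ?_
    rcases eq_or_ne j i with rfl | hj
    · simp only [Function.update_self, map_mul]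
      linear_combination (t j * C.σ (t j)) * ha
    · simp only [Function.update_of_ne hj]
  · have e : Function.update t i ((a : F) * t i) = t + (((a : F) - 1) * t i) • Pi.single i 1 := by
      funext j
      rcases eq_or_ne j i with rfl | hj
      · simp only [Function.update_self, Pi.add_apply, Pi.smul_apply, Pi.single_eq_same, smul_eq_mul]
        ring
      · simp [Function.update_of_ne hj, Pi.single_eq_of_ne hj]
    rw [e, herm_add_right, hiso, zero_add, herm_smul_right]
    have h1 : herm C t (Pi.single i 1) = t i := by simp [herm, Pi.single_apply, apply_ite C.σ]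
    rw [h1]
    refine mul_ne_zero ((map_ne_zero C.σ).2 (mul_ne_zero (sub_ne_zero.2 fun e1 => ha2 ?_) hi)) hi
    rw [e1, mul_one]

end general

section split

variable {κ : Type*} [Fintype κ] [DecidableEq κ] [Nonempty κ]

/-- A non-zero vector is not perpendicular to every isotropic vector. -/
theorem exists_iso_nonperp {v : Fin 2 ⊕ κ → F} (hv : v ≠ 0) :
    ∃ s : Fin 2 ⊕ κ → F, herm C s s = 0 ∧ herm C v s ≠ 0 := by
  obtain ⟨g, hg⟩ := exists_offPerp C hv
  exact ⟨app C g⁻¹ (vE C κ), by rw [herm_app, herm_vE_vE],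
    fun h => hg (by rw [← app_app_inv C g (vE C κ), herm_app, h])⟩

theorem vE_ne_zero : vE C κ ≠ 0 := fun h => by
  simpa [h, herm_zero_left] using herm_vE_vF C (κ := κ)

theorem vF_ne_zero : vF C κ ≠ 0 := fun h => by
  simpa [h, herm_zero_left] using herm_vF_vE C (κ := κ)

/-- Perpendicular isotropic vectors of a three-space are proportional. -/
theorem eq_smul_of_perp_three [Subsingleton κ] {v w : Fin 2 ⊕ κ → F} (hv : herm C v v = 0)
    (hv0 : v ≠ 0) (hw : herm C w w = 0) (hvw : herm C w v = 0) : ∃ r : F, w = r • v := by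
  obtain ⟨g, hg⟩ := exists_map_of_norm C hv0 (vE_ne_zero C (κ := κ)) (by rw [hv, herm_vE_vE])
  have h1 : herm C (app C g w) (vE C κ) = 0 := by rw [← hg, herm_app, hvw]
  have hd := decomp C (app C g w)
  rw [h1, zero_smul, add_zero] at hd
  set β := herm C (app C g w) (vF C κ)
  set t := app C g w ∘ Sum.inr
  have ht : t = 0 := by
    have h2 : herm C (app C g w) (app C g w) = 0 := by rw [herm_app, hw]
    rw [hd] at h2
    simp only [herm_add_left, herm_add_right, herm_smul_left, herm_smul_right, herm_vE_vE,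
      herm_vE_inW, herm_inW_vE, herm_inW, mul_zero, zero_add, add_zero] at h2
    obtain ⟨i⟩ := ‹Nonempty κ›
    funext j
    obtain rfl : j = i := Subsingleton.elim _ _
    rw [herm, Fintype.sum_subsingleton _ j] at h2
    simpa using h2
  refine ⟨β, ?_⟩
  rw [← app_inv_app C g w, hd, ht, inW_zero, add_zero, app_smul, ← hg, app_inv_app]

end split

end CfsgLib.MinDegree.SUSpace
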