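import Cfsg.Agent.MinDegree.SUAction
import Cfsg.Agent.MinDegree.SUVectors

/-!
# The images of the projected stabiliser under the Levi factor

`imgSt C K` is the stabiliser of `K` in the smaller unitary group; `covers C K v` is the set of images
containing `v`.
-/

set_option autoImplicit false
set_option linter.unusedSectionVars false

namespace CfsgLib.MinDegree.SUSpace

open Matrix CfsgLib.RepBounds.Unit CfsgLib.SUThreeUnipotent MulAction

variable {F : Type*} [Field F] [Fintype F] (C : ConjField F) {κ : Type*} [Fintype κ] [DecidableEq κ]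

/-- The stabiliser of a subgroup of the space. -/
def imgSt (K : AddSubgroup (κ → F)) : Subgroup (suG C κ) where
  carrier := {l | ∀ w, app C l w ∈ K ↔ w ∈ K}
  one_mem' w := by rw [app_one]
  mul_mem' {a b} ha hb w := by rw [app_mul, ha, hb]
  inv_mem' {a} ha w := by rw [← ha (app C a⁻¹ w), app_app_inv]

theorem mem_imgSt {K : AddSubgroup (κ → F)} {l : suG C κ} :
    l ∈ imgSt C K ↔ ∀ w, app C l w ∈ K ↔ w ∈ K := Iff.rfl

/-- The images containing a vector. -/
def covers (K : AddSubgroup (κ → F)) (v : κ → F) : Set (suG C κ ⧸ imgSt C K) :=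
  {c | app C c.out⁻¹ v ∈ K}

theorem mk_mem_covers {K : AddSubgroup (κ → F)} {l : suG C κ} {v : κ → F} :
    (QuotientGroup.mk l : suG C κ ⧸ imgSt C K) ∈ covers C K v ↔ app C l⁻¹ v ∈ K := by
  obtain ⟨⟨h, hh⟩, e⟩ := QuotientGroup.mk_out_eq_mul (imgSt C K) l
  show app C _⁻¹ v ∈ K ↔ _
  rw [e, _root_.mul_inv_rev, app_mul]
  exact (inv_mem hh) _

theorem card_covers_app (K : AddSubgroup (κ → F)) (k : suG C κ) (v : κ → F) :
    Nat.card (covers C K (app C k v)) = Nat.card (covers C K v) := by
  refine (Nat.card_congr (Equiv.subtypeEquiv (MulAction.toPerm k) fun c => ?_)).symm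
  induction c using QuotientGroup.induction_on with
  | H l =>
    rw [MulAction.toPerm_apply, MulAction.Quotient.smul_mk, smul_eq_mul]
    rw [mk_mem_covers, mk_mem_covers, _root_.mul_inv_rev, app_mul, app_inv_app]

/-- Double counting on a transitive invariant set of vectors. -/
theorem double_count (K : AddSubgroup (κ → F)) (A : Finset (κ → F)) [DecidablePred (· ∈ K)]
    (hinv : ∀ (l : suG C κ) v, v ∈ A → app C l v ∈ A) {v₀ : κ → F}
    (htr : ∀ v ∈ A, ∃ l : suG C κ, app C l v₀ = v) :
    (imgSt C K).index * (A.filter (· ∈ K)).card = A.card * Nat.card (covers C K v₀) := by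
  classical
  have : Fintype (suG C κ ⧸ imgSt C K) := Fintype.ofFinite _
  have h1 : ∀ v ∈ A, Nat.card (covers C K v₀) =
      ∑ c : suG C κ ⧸ imgSt C K, if app C c.out⁻¹ v ∈ K then 1 else 0 := by
    intro v hv
    obtain ⟨l, rfl⟩ := htr v hv
    rw [← card_covers_app C K l, Finset.sum_boole, Nat.cast_id, Nat.card_eq_fintype_card,
      ← Fintype.card_subtype]
    exact Fintype.card_congr (Equiv.refl _)
  have h2 : ∀ c : suG C κ ⧸ imgSt C K,
      (∑ v ∈ A, if app C c.out⁻¹ v ∈ K then 1 else 0) = (A.filter (· ∈ K)).card := by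
    intro c
    rw [Finset.sum_boole, Nat.cast_id]
    refine Finset.card_bij' (fun v _ => app C c.out⁻¹ v) (fun v _ => app C c.out v) ?_ ?_
      (fun v _ => app_app_inv C _ _) (fun v _ => app_inv_app C _ _)
    · intro v hv
      simp only [Finset.mem_filter] at hv ⊢
      exact ⟨hinv _ _ hv.1, hv.2⟩
    · intro v hv
      simp only [Finset.mem_filter] at hv ⊢
      exact ⟨hinv _ _ hv.1, by rw [app_inv_app]; exact hv.2⟩
  have h3 : A.card * Nat.card (covers C K v₀) = ∑ v ∈ A, ∑ c : suG C κ ⧸ imgSt C K,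
      if app C c.out⁻¹ v ∈ K then 1 else 0 := by
    rw [← Finset.sum_congr rfl h1, Finset.sum_const, smul_eq_mul]
  rw [h3, Finset.sum_comm, Finset.sum_congr rfl (fun c _ => h2 c), Finset.sum_const, smul_eq_mul,
    Finset.card_univ, ← Nat.card_eq_fintype_card, Subgroup.index_eq_card]

section action

variable {Ω : Type*} [MulAction (suG C (Fin 2 ⊕ κ)) Ω]

theorem mem_wSt_move (l : suG C κ) (x : Ω) (w : κ → F) :
    w ∈ wSt C (κ := κ) (blockHom C κ l • x) ↔ app C l⁻¹ w ∈ wSt C (κ := κ) x := by
  conv_lhs => rw [← app_app_inv C l w]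
  exact mem_wSt_blockHom C l x _

theorem card_wSt_move (l : suG C κ) (x : Ω) :
    Nat.card (wSt C (κ := κ) (blockHom C κ l • x)) = Nat.card (wSt C (κ := κ) x) :=
  Nat.card_congr
    { toFun := fun w => ⟨app C l⁻¹ w.1, (mem_wSt_move C l x _).1 w.2⟩
      invFun := fun w => ⟨app C l w.1, (mem_wSt_blockHom C l x _).2 w.2⟩
      left_inv := fun w => Subtype.ext (app_app_inv C l _)
      right_inv := fun w => Subtype.ext (app_inv_app C l _) }

variable [Fintype Ω] {p : ℕ} [Fact p.Prime] [CharP F p]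

/-- The number of images is bounded through the degree. -/
theorem index_imgSt_mul_le [Nonempty κ] {φ : C.skew →+ ZMod p} (hφ : φ ≠ 0) {x : Ω}
    (hk : ∀ c ∈ zSt C (κ := κ) x, φ c = 0) :
    (imgSt C (wSt C (κ := κ) x)).index * C.q ^ (2 * Fintype.card κ + 1) ≤
      Nat.card Ω * Nat.card (wSt C (κ := κ) x) := by
  classical
  have : Fintype (suG C κ ⧸ imgSt C (wSt C (κ := κ) x)) := Fintype.ofFinite _
  let f : suG C κ ⧸ imgSt C (wSt C (κ := κ) x) → Ω := fun c => blockHom C κ c.out • x
  have key : ∀ c c', wSt C (κ := κ) (f c) = wSt C (κ := κ) (f c') → c = c' := by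
    intro c c' h
    rw [← QuotientGroup.out_eq' c, ← QuotientGroup.out_eq' c', QuotientGroup.eq, mem_imgSt]
    intro w
    rw [← mem_wSt_blockHom C c.out x, h, app_mul, app_app_inv, mem_wSt_blockHom]
  have hinj : Function.Injective f := fun c c' h => key c c' (by rw [h])
  have h := card_mul_le_wA C φ (Finset.univ.image f) (k := Nat.card (wSt C (κ := κ) x))
    (fun y hy => by
      obtain ⟨c, -, rfl⟩ := Finset.mem_image.1 hy
      exact card_wSt_move C _ x)
    (fun y hy => by
      obtain ⟨c, -, rfl⟩ := Finset.mem_image.1 hy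
      rw [zSt_blockHom]; exact hk)
    (fun y hy y' hy' hyy => by
      obtain ⟨c, -, rfl⟩ := Finset.mem_image.1 hy
      obtain ⟨c', -, rfl⟩ := Finset.mem_image.1 hy'
      obtain ⟨g, hg⟩ := hyy
      rw [key c c' ?_]
      rw [← hg]
      exact (wSt_smul C g.2 (f c)).symm)
  rw [Finset.card_image_of_injective _ hinj, Finset.card_univ, ← Nat.card_eq_fintype_card,
    ← Subgroup.index_eq_card] at h
  exact h.trans (Nat.mul_le_mul_right _ (wA_le C hφ))

end action

end CfsgLib.MinDegree.SUSpace
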