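import Cfsg.Agent.MinDegree.SUImages

/-!
# An isotropic subgroup is not invariant
-/

set_option autoImplicit false
set_option linter.unusedSectionVars false

namespace CfsgLib.MinDegree.SUSpace

open Matrix CfsgLib.RepBounds.Unit CfsgLib.SUThreeUnipotent

variable {F : Type*} [Field F] [Fintype F] (C : ConjField F) {μ : Type*} [Fintype μ] [DecidableEq μ]
  [Nonempty μ] {p : ℕ}

local notation "κ'" => Fin 2 ⊕ μ

/-- An element of the stabiliser moves a member by a member. -/
theorem sub_mem_of_mem_imgSt {κ : Type*} [Fintype κ] [DecidableEq κ] {K : AddSubgroup (κ → F)}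
    {l : suG C κ} (hl : l ∈ imgSt C K) {z : κ → F} (hz : z ∈ K) : app C l z - z ∈ K :=
  sub_mem (((mem_imgSt C).1 hl z).2 hz) hz

theorem imgSt_ne_top {φ : C.skew →+ ZMod p} (hφ : φ ≠ 0) {K : AddSubgroup (κ' → F)} (hK : K ≠ ⊥)
    (hiso : ∀ u ∈ K, ∀ w ∈ K, φ (imH C u w) = 0) : imgSt C K ≠ ⊤ := by
  intro htop
  have hmem : ∀ l, l ∈ imgSt C K := fun l => htop ▸ Subgroup.mem_top l
  obtain ⟨v, hv, hv0⟩ := K.bot_or_exists_ne_zero.resolve_left hK
  obtain ⟨s, hs, hvs⟩ := exists_iso_nonperp C hv0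
  obtain ⟨c, hc, hc0⟩ := C.exists_skew_ne
  obtain ⟨g, -, hg⟩ := exists_transv C hs hc
  have hu : (c * herm C v s) • s ∈ K := by
    have h := sub_mem_of_mem_imgSt C (hmem g) hv
    rwa [hg, add_sub_cancel_left] at h
  have hs0 : s ≠ 0 := fun h => hvs (by rw [h, herm_zero_right])
  have hu0 : (c * herm C v s) • s ≠ 0 := smul_ne_zero (mul_ne_zero hc0 hvs) hs0
  have huu : herm C ((c * herm C v s) • s) ((c * herm C v s) • s) = 0 := by
    rw [herm_smul_left, herm_smul_right, hs, mul_zero, mul_zero]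
  have hall : ∀ w : κ' → F, herm C w w = 0 → w ∈ K := by
    intro w hw
    rcases eq_or_ne w 0 with rfl | hw0
    · exact K.zero_mem
    obtain ⟨l, hl⟩ := exists_map_of_norm C hu0 hw0 (by rw [huu, hw])
    exact hl ▸ (hmem l _).2 hu
  refine hφ (AddMonoidHom.ext fun d => ?_)
  obtain ⟨r, hr⟩ := C.exists_sub_eq d.2
  have h := hiso _ (hall _ (herm_vE_vE C (κ := μ))) (C.σ r • vF C μ)
    (hall _ (by rw [herm_smul_left, herm_smul_right, herm_vF_vF, mul_zero, mul_zero]))
  rwa [show imH C (vE C μ) (C.σ r • vF C μ) = d from Subtype.ext (by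
    rw [coe_imH, herm_smul_right, herm_smul_left, herm_vE_vF, herm_vF_vE, C.invol, mul_one, mul_one,
      hr])] at h

end CfsgLib.MinDegree.SUSpace
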