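import Cfsg.Agent.MinDegree.SUFree

/-!
# Labels on the points fixed by the centre
-/

set_option autoImplicit false
set_option linter.unusedSectionVars false

namespace CfsgLib.MinDegree.SUSpace

open Matrix CfsgLib.RepBounds.Unit CfsgLib.SUThreeUnipotent MulAction
open CfsgLib.MinDegree.UFour (annih mem_annih)
open scoped Classical

variable {F : Type*} [Field F] [Fintype F] (C : ConjField F) {κ : Type*} [Fintype κ] [DecidableEq κ]
  {Ω : Type*} [MulAction (suG C (Fin 2 ⊕ κ)) Ω] {p : ℕ} (φ : C.skew →+ ZMod p)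

/-- The labels of a point. -/
def labA (x : Ω) : AddSubgroup (κ → F) := annih (pairH C φ) (wSt C (κ := κ) x)

theorem mem_labA {x : Ω} {v : κ → F} :
    v ∈ labA C (κ := κ) φ x ↔ ∀ w ∈ wSt C (κ := κ) x, φ (imH C v w) = 0 := Iff.rfl

theorem labA_smul {g : suG C (Fin 2 ⊕ κ)} (hg : g ∈ heis C κ) (x : Ω) :
    labA C (κ := κ) φ (g • x) = labA C (κ := κ) φ x := by
  rw [labA, labA, wSt_smul C hg]

theorem mem_labA_blockHom (l : suG C κ) (x : Ω) (v : κ → F) :
    app C l v ∈ labA C (κ := κ) φ (blockHom C κ l • x) ↔ v ∈ labA C (κ := κ) φ x := by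
  have e : ∀ w, imH C (app C l v) (app C l w) = imH C v w := fun w => Subtype.ext (by
    rw [coe_imH, coe_imH, herm_app, herm_app])
  rw [mem_labA, mem_labA]
  constructor
  · intro h w hw
    rw [← e]
    exact h _ ((mem_wSt_blockHom C l x w).2 hw)
  · intro h w hw
    rw [← app_app_inv C l w, e]
    exact h _ ((mem_wSt_move C l x w).1 hw)

theorem mem_labA_torEl (i : κ) (a : Fˣ) (x : Ω) (v : κ → F) :
    (↑a⁻¹ : F) • tW C i a v ∈ labA C (κ := κ) φ (torEl C i a • x) ↔ v ∈ labA C (κ := κ) φ x := by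
  have e : ∀ w, imH C ((↑a⁻¹ : F) • tW C i a v) (C.σ (a : F) • tW C i a w) = imH C v w :=
    fun w => Subtype.ext (by
      rw [coe_imH, coe_imH, herm_smul_left, herm_smul_left, herm_smul_right, herm_smul_right,
        herm_tW, herm_tW, C.invol, ← mul_assoc, Units.inv_mul, one_mul, ← mul_assoc, ← map_mul,
        mul_comm (a : F), Units.inv_mul, map_one, one_mul])
  have hs : C.σ (a : F) ≠ 0 := (map_ne_zero C.σ).2 a.ne_zero
  have hsurj : ∀ w, ∃ w₀, C.σ (a : F) • tW C i a w₀ = w := fun w => by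
    obtain ⟨w₁, h₁⟩ := Finite.surjective_of_injective (tW_injective C i a) ((C.σ (a : F))⁻¹ • w)
    exact ⟨w₁, by rw [h₁, smul_inv_smul₀ hs]⟩
  rw [mem_labA, mem_labA]
  constructor
  · intro h w hw
    rw [← e]
    exact h _ ((mem_wSt_torEl C i a x w).2 hw)
  · intro h w hw
    obtain ⟨w₀, rfl⟩ := hsurj w
    rw [e]
    exact h _ ((mem_wSt_torEl C i a x w₀).1 hw)

theorem zSt_torEl_top (i : κ) (a : Fˣ) (x : Ω) :
    zSt C (κ := κ) (torEl C i a • x) = ⊤ ↔ zSt C (κ := κ) x = ⊤ := by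
  simp only [eq_top_iff, SetLike.le_def, AddSubgroup.mem_top, true_implies]
  constructor
  · exact fun h c => (mem_zSt_torEl C i a x c).1 (@h _)
  · intro h c
    obtain ⟨c₀, rfl⟩ := (scale C a).surjective c
    exact (mem_zSt_torEl C i a x c₀).2 (@h _)

theorem card_wSt_torEl (i : κ) (a : Fˣ) (x : Ω) :
    Nat.card (wSt C (κ := κ) (torEl C i a • x)) = Nat.card (wSt C (κ := κ) x) := by
  have hs : C.σ (a : F) ≠ 0 := (map_ne_zero C.σ).2 a.ne_zero
  refine (Nat.card_congr (Equiv.ofBijective (fun w : wSt C (κ := κ) x =>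
    (⟨_, (mem_wSt_torEl C i a x w.1).2 w.2⟩ : wSt C (κ := κ) (torEl C i a • x))) ⟨?_, ?_⟩)).symm
  · exact fun w w' h => Subtype.ext (tW_injective C i a (smul_right_injective (κ → F) hs
      (congrArg Subtype.val h)))
  · rintro ⟨w, hw⟩
    obtain ⟨w₁, h₁⟩ := Finite.surjective_of_injective (tW_injective C i a) ((C.σ (a : F))⁻¹ • w)
    have e : C.σ (a : F) • tW C i a w₁ = w := by rw [h₁, smul_inv_smul₀ hs]
    exact ⟨⟨w₁, (mem_wSt_torEl C i a x w₁).1 (e.symm ▸ hw)⟩, Subtype.ext e⟩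

variable [Fintype Ω] [Fact p.Prime] [CharP F p]

theorem card_orbit_fix {x : Ω} (hx : zSt C (κ := κ) x = ⊤) :
    Nat.card (orbit (heis C κ) x) * Nat.card (wSt C (κ := κ) x) =
      C.q ^ (2 * Fintype.card κ) := by
  have h := card_orbit_mul C (κ := κ) x
  rw [hx, AddSubgroup.card_top, C.card_skew, ← mul_assoc, pow_succ] at h
  exact Nat.eq_of_mul_eq_mul_right (by have := C.two_le; omega) h

theorem card_labA_mul {φ : C.skew →+ ZMod p} (hφ : φ ≠ 0) (x : Ω) :
    Nat.card (labA C (κ := κ) φ x) * Nat.card (wSt C (κ := κ) x) = C.q ^ (2 * Fintype.card κ) :=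
  card_annih C hφ _

/-- The weight of a vector as a label. -/
noncomputable def wF (v : κ → F) : ℕ :=
  ∑ x : Ω, if zSt C (κ := κ) x = ⊤ ∧ v ∈ labA C (κ := κ) φ x then Nat.card (wSt C (κ := κ) x) else 0

theorem wF_app (l : suG C κ) (v : κ → F) :
    wF C (κ := κ) (Ω := Ω) φ (app C l v) = wF C (κ := κ) (Ω := Ω) φ v := by
  refine (Fintype.sum_equiv (MulAction.toPerm (blockHom C κ l)) _ _ fun x => ?_).symm
  simp only [MulAction.toPerm_apply, zSt_blockHom, mem_labA_blockHom, card_wSt_move]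

theorem wF_torEl (i : κ) (a : Fˣ) (v : κ → F) :
    wF C (κ := κ) (Ω := Ω) φ ((↑a⁻¹ : F) • tW C i a v) = wF C (κ := κ) (Ω := Ω) φ v := by
  refine (Fintype.sum_equiv (MulAction.toPerm (torEl C i a)) _ _ fun x => ?_).symm
  simp only [MulAction.toPerm_apply, zSt_torEl_top, mem_labA_torEl, card_wSt_torEl]

theorem sum_wF {φ : C.skew →+ ZMod p} (hφ : φ ≠ 0) :
    ∑ v : κ → F, wF C (κ := κ) (Ω := Ω) φ v =
      C.q ^ (2 * Fintype.card κ) * Nat.card {x : Ω // zSt C (κ := κ) x = ⊤} := by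
  simp only [wF]
  rw [Finset.sum_comm, Finset.sum_congr rfl
    (g := fun x => if zSt C (κ := κ) x = ⊤ then C.q ^ (2 * Fintype.card κ) else 0) fun x _ => ?_,
    ← Finset.sum_filter, Finset.sum_const, ← Fintype.card_subtype, ← Nat.card_eq_fintype_card,
    smul_eq_mul, mul_comm]
  by_cases hx : zSt C (κ := κ) x = ⊤
  · simp only [hx, true_and, if_true]
    rw [← Finset.sum_filter, Finset.sum_const, smul_eq_mul, ← card_labA_mul C hφ x,
      Nat.card_eq_fintype_card (α := labA C (κ := κ) φ x), Fintype.card_subtype]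
  · simp [hx]

/-- Every orbit carrying a label contributes `q^(2m)`. -/
theorem card_mul_le_wF (v : κ → F) (S : Finset Ω)
    (hS : ∀ y ∈ S, zSt C (κ := κ) y = ⊤ ∧ v ∈ labA C (κ := κ) φ y)
    (hdist : ∀ y ∈ S, ∀ y' ∈ S, y' ∈ orbit (heis C κ) y → y' = y) :
    S.card * C.q ^ (2 * Fintype.card κ) ≤ wF C (κ := κ) (Ω := Ω) φ v := by
  have hdisj : (S : Set Ω).PairwiseDisjoint fun y => (orbit (heis C κ) y).toFinset := by
    intro y hy y' hy' hne
    rw [Function.onFun, Finset.disjoint_left]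
    intro z hz hz'
    rw [Set.mem_toFinset] at hz hz'
    refine hne (hdist y hy y' hy' ?_).symm
    rw [← orbit_eq_iff.2 hz, orbit_eq_iff.2 hz']
    exact mem_orbit_self y'
  have h1 : ∀ y ∈ S, (∑ z ∈ (orbit (heis C κ) y).toFinset,
      if zSt C (κ := κ) z = ⊤ ∧ v ∈ labA C (κ := κ) φ z then Nat.card (wSt C (κ := κ) z) else 0) =
        C.q ^ (2 * Fintype.card κ) := by
    intro y hy
    rw [Finset.sum_congr rfl (g := fun _ => Nat.card (wSt C (κ := κ) y)) (fun z hz => ?_),
      Finset.sum_const, smul_eq_mul, ← card_orbit_fix C (hS y hy).1,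
      Nat.card_eq_fintype_card (α := orbit _ y), Set.toFinset_card]
    obtain ⟨g, rfl⟩ := Set.mem_toFinset.1 hz
    have h2 : zSt C (κ := κ) (g • y) = zSt C (κ := κ) y := zSt_smul C g.2 y
    have h3 : wSt C (κ := κ) (g • y) = wSt C (κ := κ) y := wSt_smul C g.2 y
    have h4 : labA C (κ := κ) φ (g • y) = labA C (κ := κ) φ y := labA_smul C φ g.2 y
    rw [h2, h3, h4, if_pos (hS y hy)]
  rw [← smul_eq_mul, ← Finset.sum_const, ← Finset.sum_congr rfl h1, ← Finset.sum_biUnion hdisj]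
  exact Finset.sum_le_sum_of_subset (Finset.subset_univ _)

theorem le_wF {x : Ω} (hx : zSt C (κ := κ) x = ⊤) {v : κ → F} (hv : v ∈ labA C (κ := κ) φ x) :
    C.q ^ (2 * Fintype.card κ) ≤ wF C (κ := κ) (Ω := Ω) φ v := by
  have h := card_mul_le_wF C φ v ({x} : Finset Ω)
    (fun y hy => by rw [Finset.mem_singleton.1 hy]; exact ⟨hx, hv⟩)
    (fun y hy y' hy' _ => by rw [Finset.mem_singleton.1 hy, Finset.mem_singleton.1 hy'])
  rwa [Finset.card_singleton, one_mul] at h

/-- A label of one orbit only is respected by its stabiliser. -/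
theorem stab_labA {v : κ → F}
    (hone : wF C (κ := κ) (Ω := Ω) φ v < 2 * C.q ^ (2 * Fintype.card κ)) {x : Ω}
    (hx : zSt C (κ := κ) x = ⊤) (hv : v ∈ labA C (κ := κ) φ x) {l : suG C κ} (hl : app C l v = v)
    {z : κ → F} (hz : z ∈ labA C (κ := κ) φ x) : app C l z - z ∈ labA C (κ := κ) φ x := by
  refine sub_mem ?_ hz
  have hor : blockHom C κ l • x ∈ orbit (heis C κ) x := by
    by_contra hne
    have hxy : x ≠ blockHom C κ l • x := fun e => hne (e ▸ mem_orbit_self x)
    have h := card_mul_le_wF C φ v {x, blockHom C κ l • x}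
      (fun y hy => by
        rcases Finset.mem_insert.1 hy with rfl | hy
        · exact ⟨hx, hv⟩
        · rw [Finset.mem_singleton.1 hy, zSt_blockHom]
          exact ⟨hx, hl ▸ (mem_labA_blockHom C φ l x v).2 hv⟩)
      (fun y hy y' hy' h' => by
        simp only [Finset.mem_insert, Finset.mem_singleton] at hy hy'
        rcases hy with rfl | rfl <;> rcases hy' with rfl | rfl
        · rfl
        · exact absurd h' hne
        · exact absurd (mem_orbit_symm.1 h') hne
        · rfl)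
    rw [Finset.card_pair hxy] at h
    omega
  obtain ⟨g, hg⟩ := hor
  have h1 := (mem_labA_blockHom C φ l x z).2 hz
  rw [← hg] at h1
  change app C l z ∈ labA C (κ := κ) φ (g.1 • x) at h1
  rwa [labA_smul C φ g.2] at h1

end CfsgLib.MinDegree.SUSpace
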