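import Cfsg.Agent.MinDegree.SUPointCount

/-!
# All labels are trivial
-/

set_option autoImplicit false
set_option linter.unusedSectionVars false

namespace CfsgLib.MinDegree.SUSpace

open Matrix CfsgLib.RepBounds.Unit CfsgLib.SUThreeUnipotent MulAction
open scoped Classical

variable {F : Type*} [Field F] [Fintype F] {C : ConjField F} {μ : Type*} [Fintype μ] [DecidableEq μ]
  [Nonempty μ] {Ω : Type*} [MulAction (suG C (Fin 2 ⊕ (Fin 2 ⊕ μ))) Ω] [Fintype Ω] {T : ℕ}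

theorem herm_single_one {ι : Type*} [Fintype ι] [DecidableEq ι] (i : ι) :
    herm C (Pi.single i (1 : F)) (Pi.single i 1) = 1 := by
  simp [herm, Pi.single_apply, apply_ite C.σ]

theorem app_transv_fix {ι : Type*} [Fintype ι] [DecidableEq ι] {g : suG C ι} {s v : ι → F} {c : F}
    (hg : ∀ z, app C g z = z + (c * herm C z s) • s) (h : herm C v s = 0) : app C g v = v := by
  rw [hg, h, mul_zero, zero_smul, add_zero]

namespace Bounds

variable (hb : Bounds C μ T) (hd : Nat.card Ω < T)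
  [IsPretransitive (suG C (Fin 2 ⊕ (Fin 2 ⊕ μ))) Ω] [Nontrivial Ω] {p : ℕ} [Fact p.Prime] [CharP F p]
  {φ : C.skew →+ ZMod p}
include hb hd

omit hb hd in
/-- The moved point. -/
theorem exists_moved_label {x : Ω} (hx : zSt C (κ := (Fin 2 ⊕ μ)) x = ⊤) {v w : Fin 2 ⊕ μ → F}
    (hv0 : v ≠ 0) (hw0 : w ≠ 0) (hvw : herm C v v = herm C w w)
    (hv : v ∈ labA C (κ := (Fin 2 ⊕ μ)) φ x) :
    ∃ (g : suG C (Fin 2 ⊕ μ)) (y : Ω), app C g v = w ∧ y = blockHom C (Fin 2 ⊕ μ) g • x ∧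
      zSt C (κ := (Fin 2 ⊕ μ)) y = ⊤ ∧ w ∈ labA C (κ := (Fin 2 ⊕ μ)) φ y := by
  obtain ⟨g, hg⟩ := exists_map_of_norm C hv0 hw0 hvw
  exact ⟨g, _, hg, rfl, by rw [zSt_blockHom]; exact hx, hg ▸ (mem_labA_blockHom C φ g x v).2 hv⟩

omit hb hd in
theorem wF_iso {v w : Fin 2 ⊕ μ → F} (hv0 : v ≠ 0) (hw0 : w ≠ 0) (hvw : herm C v v = herm C w w) :
    wF C (κ := (Fin 2 ⊕ μ)) (Ω := Ω) φ v = wF C (κ := (Fin 2 ⊕ μ)) (Ω := Ω) φ w := by
  obtain ⟨g, hg⟩ := exists_map_of_norm C hv0 hw0 hvw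
  rw [← hg, wF_app]

omit hb hd in
theorem wF_noniso {v w : Fin 2 ⊕ μ → F} (hv : herm C v v ≠ 0) (hw : herm C w w ≠ 0) :
    wF C (κ := (Fin 2 ⊕ μ)) (Ω := Ω) φ v = wF C (κ := (Fin 2 ⊕ μ)) (Ω := Ω) φ w := by
  obtain ⟨i⟩ := ‹Nonempty μ›
  obtain ⟨a, ha⟩ := CfsgLib.Forms.exists_mul_involution_eq C.ne_id C.invol
    (c := herm C v v / herm C w w) (by rw [map_div₀, herm_self_fixed, herm_self_fixed])
  have ha0 : a ≠ 0 := fun e => div_ne_zero hv hw (by rw [← ha, e, zero_mul])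
  set u := ((↑(Units.mk0 a ha0)⁻¹ : F) • tW C (Sum.inr i) (Units.mk0 a ha0) v)
  have hu : herm C u u = herm C w w := by
    show herm C ((↑(Units.mk0 a ha0)⁻¹ : F) • _) _ = _
    rw [herm_smul_left, herm_smul_right, herm_tW, Units.val_inv_eq_inv_val, Units.val_mk0, map_inv₀,
      ← mul_assoc, ← mul_inv, ha, inv_div, div_mul_cancel₀ _ hv]
  rw [← wF_torEl C φ (Sum.inr i) (Units.mk0 a ha0) v]
  refine wF_iso (fun e => hw ?_) (fun e => hw (by rw [e, herm_zero_left])) hu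
  rw [← hu]
  show herm C u u = 0
  rw [show u = 0 from e, herm_zero_left]

theorem total_le (hφ : φ ≠ 0) {k : ℕ} (A : Finset (Fin 2 ⊕ μ → F)) (hA : (0 : Fin 2 ⊕ μ → F) ∉ A)
    (h : ∀ v ∈ A, k * C.q ^ (2 * Fintype.card (Fin 2 ⊕ μ)) ≤ wF C (κ := (Fin 2 ⊕ μ)) (Ω := Ω) φ v) :
    A.card * (k * C.q ^ (2 * Fintype.card (Fin 2 ⊕ μ))) +
      wF C (κ := (Fin 2 ⊕ μ)) (Ω := Ω) φ 0 ≤
    C.q ^ (2 * Fintype.card (Fin 2 ⊕ μ)) * Nat.card {x : Ω // zSt C (κ := (Fin 2 ⊕ μ)) x = ⊤} := by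
  rw [← sum_wF C hφ, ← Finset.add_sum_erase _ _ (Finset.mem_univ (0 : Fin 2 ⊕ μ → F)),
    add_comm _ (wF C (κ := (Fin 2 ⊕ μ)) φ 0)]
  refine Nat.add_le_add_left (le_trans ?_ (Finset.sum_le_sum_of_subset
    (show A ⊆ Finset.univ.erase 0 from fun v hv =>
      Finset.mem_erase.2 ⟨fun e => hA (e ▸ hv), Finset.mem_univ _⟩))) _
  rw [← smul_eq_mul]
  exact Finset.card_nsmul_le_sum A _ _ h

theorem wF_zero_ge : C.q ^ (2 * Fintype.card (Fin 2 ⊕ μ)) ≤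
    wF C (κ := (Fin 2 ⊕ μ)) (Ω := Ω) φ 0 := by
  obtain ⟨x, hx⟩ := hb.exists_fix hd (Ω := Ω)
  exact le_wF C φ hx (zero_mem _)

omit hb hd in
/-- Small label groups make the zero vector heavy. -/
theorem fix_le_wF_zero (hφ : φ ≠ 0)
    (hsmall : ∀ x : Ω, zSt C (κ := (Fin 2 ⊕ μ)) x = ⊤ →
      Nat.card (labA C (κ := (Fin 2 ⊕ μ)) φ x) ≤ C.q ^ 2) :
    C.q ^ (2 * Fintype.card (Fin 2 ⊕ μ)) * Nat.card {x : Ω // zSt C (κ := (Fin 2 ⊕ μ)) x = ⊤} ≤
      C.q ^ 2 * wF C (κ := (Fin 2 ⊕ μ)) (Ω := Ω) φ 0 := by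
  rw [wF, Finset.mul_sum, Nat.card_eq_fintype_card, Fintype.card_subtype, mul_comm, ← smul_eq_mul,
    ← Finset.sum_const, Finset.sum_filter]
  refine Finset.sum_le_sum fun x _ => ?_
  by_cases hx : zSt C (κ := (Fin 2 ⊕ μ)) x = ⊤
  · rw [if_pos hx, if_pos ⟨hx, zero_mem _⟩, ← card_labA_mul C hφ x]
    exact Nat.mul_le_mul_right _ (hsmall x hx)
  · rw [if_neg hx]
    exact Nat.zero_le _

theorem covered_le (hφ : φ ≠ 0) (A : Finset (Fin 2 ⊕ μ → F)) (hA : (0 : Fin 2 ⊕ μ → F) ∉ A)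
    (h : ∀ v ∈ A, C.q ^ (2 * Fintype.card (Fin 2 ⊕ μ)) ≤ wF C (κ := (Fin 2 ⊕ μ)) (Ω := Ω) φ v)
    (hsmall : ∀ x : Ω, zSt C (κ := (Fin 2 ⊕ μ)) x = ⊤ →
      Nat.card (labA C (κ := (Fin 2 ⊕ μ)) φ x) ≤ C.q ^ 2) :
    C.q ^ 2 * A.card ≤
      (C.q ^ 2 - 1) * Nat.card {x : Ω // zSt C (κ := (Fin 2 ⊕ μ)) x = ⊤} := by
  have h1 := hb.total_le hd hφ A hA (k := 1) (fun v hv => by rw [one_mul]; exact h v hv)
  have h2 := fix_le_wF_zero (Ω := Ω) hφ hsmall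
  have hpos : 0 < C.q ^ (2 * Fintype.card (Fin 2 ⊕ μ)) := pow_pos (by have := C.two_le; omega) _
  refine Nat.le_of_mul_le_mul_right ?_ hpos
  have h3 := Nat.mul_le_mul_left (C.q ^ 2) h1
  rw [one_mul, mul_add, ← mul_assoc] at h3
  obtain ⟨e, he⟩ : ∃ e, C.q ^ 2 = e + 1 :=
    ⟨C.q ^ 2 - 1, (Nat.sub_add_cancel (Nat.one_le_pow _ _ (by have := C.two_le; omega))).symm⟩
  rw [he] at h2 h3 ⊢
  rw [Nat.add_sub_cancel]
  nlinarith

theorem mult_lt_iso (hφ : φ ≠ 0) {v : Fin 2 ⊕ μ → F} (hv0 : v ≠ 0) (hvv : herm C v v = 0) :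
    wF C (κ := (Fin 2 ⊕ μ)) (Ω := Ω) φ v < 2 * C.q ^ (2 * Fintype.card (Fin 2 ⊕ μ)) := by
  by_contra! hge
  have h1 := hb.total_le hd hφ (classSet C (Fin 2 ⊕ μ) 0)
    (fun h0 => (mem_classSet C).1 h0 |>.1 rfl) (k := 2) (fun w hw => by
      rw [mem_classSet] at hw
      rwa [← wF_iso hv0 hw.1 (hvv.trans hw.2.symm)])
  have hz := hb.wF_zero_ge hd (Ω := Ω) (φ := φ)
  have hpos : 0 < C.q ^ (2 * Fintype.card (Fin 2 ⊕ μ)) := pow_pos (by have := C.two_le; omega) _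
  have h2 : 2 * (classSet C (Fin 2 ⊕ μ) 0).card ≤
      Nat.card {x : Ω // zSt C (κ := (Fin 2 ⊕ μ)) x = ⊤} := by
    refine Nat.le_of_mul_le_mul_left ?_ hpos
    calc C.q ^ (2 * Fintype.card (Fin 2 ⊕ μ)) * (2 * (classSet C (Fin 2 ⊕ μ) 0).card)
        = (classSet C (Fin 2 ⊕ μ) 0).card * (2 * C.q ^ (2 * Fintype.card (Fin 2 ⊕ μ))) := by ring
      _ ≤ _ := le_trans (Nat.le_add_right _ _) h1
  rw [card_classSet_zero] at h2
  have h3 := two_iso_le C.two_le hb.three_le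
  have h4 := hb.fix_le hd (Ω := Ω)
  omega

omit hb hd in
theorem card_noniso : ((Finset.univ : Finset (Fin 2 ⊕ μ → F)) \ normSet C (Fin 2 ⊕ μ) 0).card =
    C.q ^ (2 * Fintype.card (Fin 2 ⊕ μ)) -
      ((C.q ^ 2 - 1) * pts C.q (Fintype.card (Fin 2 ⊕ μ)) + 1) := by
  rw [← card_iso_add_noniso C (κ := (Fin 2 ⊕ μ)), card_iso, Nat.add_sub_cancel_left]

theorem mult_lt_noniso (hφ : φ ≠ 0) {v : Fin 2 ⊕ μ → F} (hvv : herm C v v ≠ 0) :
    wF C (κ := (Fin 2 ⊕ μ)) (Ω := Ω) φ v < 2 * C.q ^ (2 * Fintype.card (Fin 2 ⊕ μ)) := by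
  by_contra! hge
  have h1 := hb.total_le hd hφ ((Finset.univ : Finset (Fin 2 ⊕ μ → F)) \ normSet C (Fin 2 ⊕ μ) 0)
    (fun h0 => (Finset.mem_sdiff.1 h0).2 ((mem_normSet C).2 (herm_zero_left C 0))) (k := 2)
    (fun w hw => by
      rw [Finset.mem_sdiff, mem_normSet] at hw
      rwa [← wF_noniso hvv hw.2])
  have hpos : 0 < C.q ^ (2 * Fintype.card (Fin 2 ⊕ μ)) := pow_pos (by have := C.two_le; omega) _
  have h2 : 2 * ((Finset.univ : Finset (Fin 2 ⊕ μ → F)) \ normSet C (Fin 2 ⊕ μ) 0).card ≤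
      Nat.card {x : Ω // zSt C (κ := (Fin 2 ⊕ μ)) x = ⊤} := by
    refine Nat.le_of_mul_le_mul_left ?_ hpos
    calc C.q ^ (2 * Fintype.card (Fin 2 ⊕ μ)) * (2 * _)
        = ((Finset.univ : Finset (Fin 2 ⊕ μ → F)) \ normSet C (Fin 2 ⊕ μ) 0).card *
          (2 * C.q ^ (2 * Fintype.card (Fin 2 ⊕ μ))) := by ring
      _ ≤ _ := le_trans (Nat.le_add_right _ _) h1
  rw [card_noniso] at h2
  have h3 := hb.fix_lt hd (Ω := Ω)
  have h4 : 4 ≤ C.q ^ 2 := Nat.pow_le_pow_left C.two_le 2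
  have h5 : (C.q ^ 2 - 1) * (Nat.card {x : Ω // zSt C (κ := (Fin 2 ⊕ μ)) x = ⊤} + 1) ≤
      (C.q ^ 2 - 1) * (T - C.q ^ (2 * Fintype.card (Fin 2 ⊕ μ) + 1)) :=
    Nat.mul_le_mul_left _ (by omega)
  have h6 := hb.noniso
  have h7 := Nat.mul_le_mul_left (C.q ^ 2 - 1) h2
  obtain ⟨e, he⟩ : ∃ e, C.q ^ 2 = e + 4 := ⟨C.q ^ 2 - 4, by omega⟩
  rw [he, show e + 4 - 1 = e + 3 from rfl] at h5 h6 h7
  nlinarith

theorem iso_perp (hφ : φ ≠ 0) {x : Ω} (hx : zSt C (κ := (Fin 2 ⊕ μ)) x = ⊤)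
    (hA : ∀ y : Ω, zSt C (κ := (Fin 2 ⊕ μ)) y = ⊤ →
      ∀ u ∈ labA C (κ := (Fin 2 ⊕ μ)) φ y, herm C u u = 0)
    {v : Fin 2 ⊕ μ → F} (hv : v ∈ labA C (κ := (Fin 2 ⊕ μ)) φ x) (hv0 : v ≠ 0) :
    ∀ z ∈ labA C (κ := (Fin 2 ⊕ μ)) φ x, herm C z v = 0 := by
  intro z hz
  obtain ⟨g, y, hg, hy, hyfix, hvy⟩ := exists_moved_label hx hv0 (vE_ne_zero C (κ := μ))
    ((hA x hx v hv).trans (herm_vE_vE C).symm) hv
  have hzy := (mem_labA_blockHom C φ g x z).2 hz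
  rw [← hy] at hzy
  rw [← herm_app C g, hg]
  by_contra hγ
  obtain ⟨i⟩ := ‹Nonempty μ›
  have h1 := stab_labA C φ (hb.mult_lt_iso hd hφ (vE_ne_zero C (κ := μ)) (herm_vE_vE C)) hyfix hvy
    (l := hs C (Pi.single i 1)) (app_uniEl_vE C _ _ _) hzy
  have h2 := hA y hyfix _ h1
  rw [hs, app_uniEl, add_sub_assoc, add_sub_cancel_left] at h2
  simp only [herm_add_left, herm_add_right, herm_sub_left, herm_sub_right, herm_smul_left,
    herm_smul_right, herm_vE_vE, herm_vE_inW, herm_inW_vE, herm_inW, herm_single_one,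
    mul_zero, add_zero, sub_zero, mul_one] at h2
  rcases mul_eq_zero.1 h2 with h3 | h3 <;>
    first
      | exact hγ h3
      | exact hγ ((map_eq_zero C.σ).1 h3)

theorem iso_small (hφ : φ ≠ 0)
    (hA : ∀ y : Ω, zSt C (κ := (Fin 2 ⊕ μ)) y = ⊤ →
      ∀ u ∈ labA C (κ := (Fin 2 ⊕ μ)) φ y, herm C u u = 0)
    (x : Ω) (hx : zSt C (κ := (Fin 2 ⊕ μ)) x = ⊤) :
    Nat.card (labA C (κ := (Fin 2 ⊕ μ)) φ x) ≤ C.q ^ 2 := by
  rcases (labA C (κ := (Fin 2 ⊕ μ)) φ x).bot_or_exists_ne_zero with h | ⟨v, hv, hv0⟩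
  · rw [h, AddSubgroup.card_bot]
    exact Nat.one_le_pow _ _ (by have := C.two_le; omega)
  refine card_le_of_line C (v := v) fun z hz => ?_
  obtain ⟨g, y, hg, hy, hyfix, hvy⟩ := exists_moved_label hx hv0 (vE_ne_zero C (κ := μ))
    ((hA x hx v hv).trans (herm_vE_vE C).symm) hv
  have hzy := (mem_labA_blockHom C φ g x z).2 hz
  rw [← hy] at hzy
  have hze : herm C (app C g z) (vE C μ) = 0 := by rw [← hg, herm_app]; exact hb.iso_perp hd hφ hx hA hv hv0 z hz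
  have hd' := decomp C (app C g z)
  rw [hze, zero_smul, add_zero] at hd'
  set t := app C g z ∘ Sum.inr
  have ht : t = 0 := by
    by_contra ht
    have htt : herm C t t = 0 := by
      have h2 := hA y hyfix _ hzy
      rw [hd'] at h2
      simpa [herm_add_left, herm_add_right, herm_smul_left, herm_smul_right, herm_vE_vE,
        herm_vE_inW, herm_inW_vE, herm_inW] using h2
    obtain ⟨r, hr, htr⟩ := exists_nonperp_of_iso C ht htt
    have hs : herm C (inW r : Fin 2 ⊕ μ → F) (inW r) = 0 := by rw [herm_inW, hr]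
    obtain ⟨c, hc, hc0⟩ := C.exists_skew_ne
    obtain ⟨l, -, hl⟩ := exists_transv C hs hc
    have hu := stab_labA C φ (hb.mult_lt_iso hd hφ (vE_ne_zero C (κ := μ)) (herm_vE_vE C)) hyfix hvy
      (app_transv_fix hl (herm_vE_inW C r)) hzy
    rw [hl, add_sub_cancel_left] at hu
    have hzs : herm C (app C g z) (inW r) ≠ 0 := by rwa [herm_comp_inr]
    have hr0 : (inW r : Fin 2 ⊕ μ → F) ≠ 0 := fun e => hzs (by rw [e, herm_zero_right])
    have h3 := hb.iso_perp hd hφ hyfix hA hu (smul_ne_zero (mul_ne_zero hc0 hzs) hr0) _ hzy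
    rw [herm_smul_right] at h3
    exact mul_ne_zero ((map_ne_zero C.σ).2 (mul_ne_zero hc0 hzs)) hzs h3
  refine ⟨herm C (app C g z) (vF C μ), ?_⟩
  rw [← app_inv_app C g v, hg, ← app_smul]
  conv_lhs => rw [← app_inv_app C g z, hd', ht, inW_zero, add_zero]

theorem noniso_small (hφ : φ ≠ 0)
    (hA : ∀ y : Ω, zSt C (κ := (Fin 2 ⊕ μ)) y = ⊤ →
      ∀ u ∈ labA C (κ := (Fin 2 ⊕ μ)) φ y, u ≠ 0 → herm C u u ≠ 0)
    (x : Ω) (hx : zSt C (κ := (Fin 2 ⊕ μ)) x = ⊤) :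
    Nat.card (labA C (κ := (Fin 2 ⊕ μ)) φ x) ≤ C.q ^ 2 := by
  rcases (labA C (κ := (Fin 2 ⊕ μ)) φ x).bot_or_exists_ne_zero with h | ⟨v, hv, hv0⟩
  · rw [h, AddSubgroup.card_bot]
    exact Nat.one_le_pow _ _ (by have := C.two_le; omega)
  refine card_le_of_line C (v := v) fun z hz => ?_
  obtain ⟨i⟩ := ‹Nonempty μ›
  obtain ⟨r, hr⟩ := CfsgLib.Forms.exists_mul_involution_eq C.ne_id C.invol (c := herm C v v)
    (herm_self_fixed C v)
  have hw : herm C (Pi.single i r : μ → F) (Pi.single i r) = herm C v v := by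
    rw [← hr]; simp [herm, Pi.single_apply, apply_ite C.σ]
  have hr0 : r ≠ 0 := fun e => hA x hx v hv hv0 (by rw [← hr, e, zero_mul])
  obtain ⟨g, y, hg, hy, hyfix, hvy⟩ := exists_moved_label hx hv0
    (w := inW (Pi.single i r)) (fun e => hr0 (by simpa [inW] using congrFun e (Sum.inr i)))
    (by rw [herm_inW, hw]) hv
  have hzy := (mem_labA_blockHom C φ g x z).2 hz
  rw [← hy] at hzy
  have h1 : ∀ s, herm C s s = 0 → herm C (inW (Pi.single i r)) s = 0 →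
      herm C (app C g z) s = 0 := by
    intro s hs hvs
    by_contra hzs
    obtain ⟨c, hc, hc0⟩ := C.exists_skew_ne
    obtain ⟨l, -, hl⟩ := exists_transv C hs hc
    have hne : herm C (inW (Pi.single i r) : Fin 2 ⊕ μ → F) (inW (Pi.single i r)) ≠ 0 := by
      rw [herm_inW, hw]; exact hA x hx v hv hv0
    have hu := stab_labA C φ (hb.mult_lt_noniso hd hφ hne) hyfix hvy (app_transv_fix hl hvs) hzy
    rw [hl, add_sub_cancel_left] at hu
    have hs0 : s ≠ 0 := fun e => hzs (by rw [e, herm_zero_right])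
    exact hA y hyfix _ hu (smul_ne_zero (mul_ne_zero hc0 hzs) hs0)
      (by rw [herm_smul_left, herm_smul_right, hs, mul_zero, mul_zero])
  have he := h1 _ (herm_vE_vE C) (herm_inW_vE C _)
  have hf := h1 _ (herm_vF_vF C) (herm_inW_vF C _)
  have hd' := decomp C (app C g z)
  rw [he, hf, zero_smul, zero_smul, zero_add, zero_add] at hd'
  refine ⟨(app C g z ∘ Sum.inr) i / r, ?_⟩
  rw [← app_inv_app C g v, hg, ← app_smul, ← inW_smul]
  conv_lhs => rw [← app_inv_app C g z, hd']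
  congr 2
  funext j
  rcases eq_or_ne j i with rfl | hj
  · simp [hr0, inW]
  · have hs : herm C (-tA C • vE C μ + vF C μ + inW (Pi.single j 1))
        (-tA C • vE C μ + vF C μ + inW (Pi.single j 1)) = 0 := by
      simp only [herm_add_left, herm_add_right, herm_smul_left, herm_smul_right, herm_vE_vE,
        herm_vE_vF, herm_vF_vE, herm_vF_vF, herm_vE_inW, herm_inW_vE, herm_vF_inW, herm_inW_vF,
        herm_inW, herm_single_one, map_neg]
      linear_combination -tA_spec C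
    have h2 := h1 _ hs (by
      rw [herm_add_right, herm_add_right, herm_smul_right, herm_inW_vE, herm_inW_vF, herm_inW,
        mul_zero, zero_add, zero_add]
      simp [herm, Pi.single_apply, apply_ite C.σ, hj])
    rw [herm_add_right, herm_add_right, herm_smul_right, he, hf, mul_zero, zero_add, zero_add,
      herm_comp_inr] at h2
    have h3 : (app C g z ∘ Sum.inr) j = 0 := by
      simpa [herm, Pi.single_apply, apply_ite C.σ] using h2
    simp [hj, inW] at h3 ⊢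
    exact h3

theorem labels_trivial (hφ : φ ≠ 0) {x : Ω} (hx : zSt C (κ := (Fin 2 ⊕ μ)) x = ⊤) :
    labA C (κ := (Fin 2 ⊕ μ)) φ x = ⊥ := by
  rw [AddSubgroup.eq_bot_iff_forall]
  intro v hv
  by_contra hv0
  have hq := C.two_le
  have hpos : 0 < C.q ^ (2 * Fintype.card (Fin 2 ⊕ μ)) := pow_pos (by omega) _
  have h4 : 4 ≤ C.q ^ 2 := Nat.pow_le_pow_left hq 2
  by_cases hI : ∃ y : Ω, zSt C (κ := (Fin 2 ⊕ μ)) y = ⊤ ∧
      ∃ u ∈ labA C (κ := (Fin 2 ⊕ μ)) φ y, u ≠ 0 ∧ herm C u u = 0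
  · obtain ⟨y, hy, u, hu, hu0, huu⟩ := hI
    by_cases hN : ∃ y : Ω, zSt C (κ := (Fin 2 ⊕ μ)) y = ⊤ ∧
        ∃ u ∈ labA C (κ := (Fin 2 ⊕ μ)) φ y, herm C u u ≠ 0
    · obtain ⟨y', hy', u', hu', huu'⟩ := hN
      have h1 := hb.total_le hd hφ ((Finset.univ : Finset (Fin 2 ⊕ μ → F)).erase 0)
        (by simp) (k := 1) (fun w hw => by
          rw [one_mul]
          rcases eq_or_ne (herm C w w) 0 with hw' | hw'
          · rw [wF_iso (Finset.ne_of_mem_erase hw) hu0 (hw'.trans huu.symm)]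
            exact le_wF C φ hy hu
          · rw [wF_noniso hw' huu']
            exact le_wF C φ hy' hu')
      rw [one_mul, Finset.card_erase_of_mem (Finset.mem_univ _), Finset.card_univ,
        ← Nat.card_eq_fintype_card, card_vec C] at h1
      have h2 := hb.wF_zero_ge hd (Ω := Ω) (φ := φ)
      have h3 := Nat.mul_lt_mul_of_pos_left (hb.fix_lt_pow hd (Ω := Ω)) hpos
      rw [Nat.sub_mul, one_mul] at h1
      omega
    · push Not at hN
      have h1 := hb.covered_le hd hφ (classSet C (Fin 2 ⊕ μ) 0)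
        (fun h0 => (mem_classSet C).1 h0 |>.1 rfl) (fun w hw => by
          rw [mem_classSet] at hw
          rw [wF_iso hw.1 hu0 (hw.2.trans huu.symm)]
          exact le_wF C φ hy hu) (hb.iso_small hd hφ hN)
      rw [card_classSet_zero, mul_left_comm] at h1
      have h2 : C.q ^ 2 * pts C.q (Fintype.card (Fin 2 ⊕ μ)) =
          Nat.card {x : Ω // zSt C (κ := (Fin 2 ⊕ μ)) x = ⊤} :=
        le_antisymm (Nat.le_of_mul_le_mul_left h1 (by omega)) (hb.fix_le hd)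
      have hcard := hb.card_fix hd (Ω := Ω)
      have hdvd := hb.deg_dvd hd (Ω := Ω)
      obtain ⟨j, hj⟩ := pts_mod C.q (n := Fintype.card (Fin 2 ⊕ μ)) (le_trans (by norm_num) hb.three_le)
      obtain ⟨m', hm'⟩ : ∃ m', Fintype.card (Fin 2 ⊕ μ) = m' + 3 := exists_add_three hb.three_le
      rw [← h2] at hcard
      rw [pts_add_two] at hdvd
      rw [hm'] at hcard hdvd hj
      set D := C.q ^ (2 * m' + 5) + pts C.q (m' + 3) with hD
      have hdD : Nat.card Ω = C.q ^ 2 * D := by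
        rw [← hcard, hD, show 2 * (m' + 3) + 1 = 2 * m' + 5 + 2 by ring]; ring
      have hcq : Nat.Coprime D C.q := by
        rw [hD, hj, show C.q ^ (2 * m' + 5) + (C.q * j + 1) = 1 + C.q * (C.q ^ (2 * m' + 4) + j) by
          ring, Nat.coprime_add_mul_left_left]
        exact Nat.coprime_one_left _
      have hcp : Nat.Coprime D (C.q ^ (2 * (m' + 3) + 1) + C.q ^ 2 * pts C.q (m' + 3) + 1) := by
        rw [hcard, hdD, mul_comm (C.q ^ 2) D, add_comm, Nat.coprime_add_mul_left_right]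
        exact Nat.coprime_one_right _
      have hD1 : D ∣ C.q ^ 2 - 1 := hcp.dvd_of_dvd_mul_right
        ((hcq.pow_right (2 * (m' + 3) + 1)).dvd_of_dvd_mul_right
          ((Dvd.intro_left _ hdD.symm).trans hdvd))
      have h5 := Nat.le_of_dvd (by omega) hD1
      have h6 : C.q ^ 2 ≤ C.q ^ (2 * m' + 5) := Nat.pow_le_pow_right (by omega) (by omega)
      omega
  · push Not at hI
    have hvv : herm C v v ≠ 0 := hI x hx v hv hv0
    have h1 := hb.covered_le hd hφ ((Finset.univ : Finset (Fin 2 ⊕ μ → F)) \ normSet C (Fin 2 ⊕ μ) 0)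
      (fun h0 => (Finset.mem_sdiff.1 h0).2 ((mem_normSet C).2 (herm_zero_left C 0))) (fun w hw => by
        rw [Finset.mem_sdiff, mem_normSet] at hw
        rw [wF_noniso hw.2 hvv]
        exact le_wF C φ hx hv) (hb.noniso_small hd hφ hI)
    rw [card_noniso] at h1
    have h2 : (C.q ^ 2 - 1) * (Nat.card {x : Ω // zSt C (κ := (Fin 2 ⊕ μ)) x = ⊤} + 1) ≤
        (C.q ^ 2 - 1) * (T - C.q ^ (2 * Fintype.card (Fin 2 ⊕ μ) + 1)) :=
      Nat.mul_le_mul_left _ (by have := hb.fix_lt hd (Ω := Ω); omega)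
    have h3 := hb.noniso
    rw [Nat.mul_succ] at h2
    omega

end Bounds

end CfsgLib.MinDegree.SUSpace
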