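import Cfsg.Agent.MinDegree.SUInvariant
import Cfsg.Agent.MinDegree.SUCount

/-!
# Three-dimensional complement: the counting
-/

set_option autoImplicit false
set_option linter.unusedSectionVars false

namespace CfsgLib.MinDegree.SUSpace

open Matrix CfsgLib.RepBounds.Unit CfsgLib.SUThreeUnipotent MulAction
open scoped Classical

variable {F : Type*} [Field F] [Fintype F] (C : ConjField F) {μ : Type*} [Fintype μ] [DecidableEq μ]
  [Nonempty μ]


/-- The non-zero vectors of given norm. -/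
noncomputable def classSet (κ : Type*) [Fintype κ] [DecidableEq κ] (a : F) : Finset (κ → F) :=
  (normSet C κ a).erase 0

theorem mem_classSet {κ : Type*} [Fintype κ] [DecidableEq κ] {a : F} {v : κ → F} :
    v ∈ classSet C κ a ↔ v ≠ 0 ∧ herm C v v = a := by
  rw [classSet, Finset.mem_erase, mem_normSet]

theorem card_classSet_zero {κ : Type*} [Fintype κ] [DecidableEq κ] :
    (classSet C κ 0).card = (C.q ^ 2 - 1) * pts C.q (Fintype.card κ) := by
  rw [classSet, Finset.card_erase_of_mem ((mem_normSet C).2 (herm_zero_left C 0)), card_iso,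
    Nat.add_sub_cancel]

theorem card_classSet_of_ne {κ : Type*} [Fintype κ] [DecidableEq κ] (hκ : Fintype.card κ = 3) {a : F}
    (ha : C.σ a = a) (ha0 : a ≠ 0) : (classSet C κ a).card = C.q ^ 2 * (C.q ^ 3 + 1) := by
  rw [classSet, Finset.erase_eq_of_notMem (fun h => ha0 (by
    rw [mem_normSet, herm_zero_left] at h
    exact h.symm)), card_normSet_three C hκ ha ha0]

/-- Counting on one class. -/
theorem class_count (K : AddSubgroup ((Fin 2 ⊕ μ) → F)) {v : (Fin 2 ⊕ μ) → F} (hv : v ≠ 0) :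
    (imgSt C K).index * ((classSet C (Fin 2 ⊕ μ) (herm C v v)).filter (· ∈ K)).card =
      (classSet C (Fin 2 ⊕ μ) (herm C v v)).card * Nat.card (covers C K v) := by
  refine double_count C K _ (fun l w hw => ?_) (fun w hw => ?_)
  · rw [mem_classSet] at hw ⊢
    exact ⟨fun h => hw.1 (by rw [← app_inv_app C l w, h, app_zero]), by rw [herm_app, hw.2]⟩
  · rw [mem_classSet] at hw
    exact exists_map_of_norm C hv hw.1 hw.2.symm

theorem covers_pos {κ : Type*} [Fintype κ] [DecidableEq κ] {K : AddSubgroup (κ → F)} {v : κ → F}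
    (hv : v ∈ K) : 0 < Nat.card (covers C K v) := by
  have : Nonempty (covers C K v) :=
    ⟨⟨QuotientGroup.mk 1, (mk_mem_covers C).2 (by rwa [inv_one, app_one])⟩⟩
  exact Nat.card_pos

theorem card_filter_succ_le {κ : Type*} [Fintype κ] [DecidableEq κ] (K : AddSubgroup (κ → F))
    {A : Finset (κ → F)} (hA : (0 : κ → F) ∉ A) :
    (A.filter (· ∈ K)).card + 1 ≤ Nat.card K := by
  rw [← Finset.card_insert_of_notMem (s := A.filter (· ∈ K)) (a := (0 : κ → F))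
    (fun h => hA (Finset.mem_filter.1 h).1), Nat.card_eq_fintype_card, Fintype.card_subtype]
  refine Finset.card_le_card fun w hw => Finset.mem_filter.2 ⟨Finset.mem_univ w, ?_⟩
  rcases Finset.mem_insert.1 hw with rfl | hw
  · exact K.zero_mem
  · exact (Finset.mem_filter.1 hw).2

/-- A subgroup inside a line is small. -/
theorem card_le_of_line {κ : Type*} [Fintype κ] [DecidableEq κ] {K : AddSubgroup (κ → F)} {v : κ → F}
    (h : ∀ z ∈ K, ∃ r : F, z = r • v) : Nat.card K ≤ C.q ^ 2 := by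
  choose r hr using h
  rw [← C.card, ← Nat.card_eq_fintype_card]
  exact Nat.card_le_card_of_injective (fun z : K => r z.1 z.2) fun z z' e =>
    Subtype.ext (by rw [hr z.1 z.2, hr z'.1 z'.2]; exact congrArg (· • v) e)

theorem two_mul_le_of_dvd {p N a b : ℕ} (hp : p.Prime) (ha : a ∣ p ^ N) (hb : b ∣ p ^ N)
    (hlt : a < b) : 2 * a ≤ b := by
  obtain ⟨i, -, rfl⟩ := (Nat.dvd_prime_pow hp).1 ha
  obtain ⟨j, -, rfl⟩ := (Nat.dvd_prime_pow hp).1 hb
  have hij : i < j := (Nat.pow_lt_pow_iff_right hp.one_lt).1 hlt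
  calc 2 * p ^ i ≤ p * p ^ i := Nat.mul_le_mul_right _ hp.two_le
    _ = p ^ (i + 1) := (pow_succ' p i).symm
    _ ≤ p ^ j := Nat.pow_le_pow_right hp.pos hij

theorem two_mul_card_le (hμ : Fintype.card μ = 1) {K : AddSubgroup ((Fin 2 ⊕ μ) → F)}
    (h : Nat.card K < C.q ^ 3) : 2 * Nat.card K ≤ C.q ^ 3 := by
  obtain ⟨p, hp⟩ := CharP.exists F
  obtain ⟨k, hpp, hk⟩ := FiniteField.card F p
  refine two_mul_le_of_dvd hpp (N := (k : ℕ) * 3) ?_ ?_ h <;>
    rw [pow_mul p, ← hk, C.card, ← pow_mul]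
  · have h1 := K.card_addSubgroup_dvd_card
    rw [card_vec C] at h1
    simpa [Fintype.card_sum, hμ] using h1
  · exact pow_dvd_pow _ (by norm_num)

variable {Ω : Type*} [MulAction (suG C (Fin 2 ⊕ (Fin 2 ⊕ μ))) Ω] [Fintype Ω] {p : ℕ}

/-- The hypotheses of the exceptional small case. -/
structure Three (φ : C.skew →+ ZMod p) (x : Ω) : Prop where
  card_mu : Fintype.card μ = 1
  phi_ne : φ ≠ 0
  kills : ∀ c ∈ zSt C (κ := (Fin 2 ⊕ μ)) x, φ c = 0
  deg : Nat.card Ω ≤ C.q ^ 7 + C.q ^ 5 + C.q ^ 2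
  ne_bot : wSt C (κ := (Fin 2 ⊕ μ)) x ≠ ⊥

namespace Three

variable {C} {φ : C.skew →+ ZMod p} {x : Ω} (h : Three C (μ := μ) φ x)
include h

theorem card_kappa : Fintype.card (Fin 2 ⊕ μ) = 3 := by simp [h.card_mu]

theorem move (l : suG C (Fin 2 ⊕ μ)) : Three C (μ := μ) φ (blockHom C (Fin 2 ⊕ μ) l • x) := by
  refine ⟨h.card_mu, h.phi_ne, fun c hc => h.kills c (by rwa [zSt_blockHom] at hc), h.deg, ?_⟩
  intro hb
  refine h.ne_bot ((AddSubgroup.eq_bot_iff_forall _).2 fun w hw => ?_)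
  have h1 := (mem_wSt_blockHom C l x w).2 hw
  rw [hb, AddSubgroup.mem_bot] at h1
  rw [← app_inv_app C l w, h1, app_zero]

variable [Fact p.Prime] [CharP F p]

theorem iso : ∀ u ∈ wSt C (κ := (Fin 2 ⊕ μ)) x, ∀ w ∈ wSt C (κ := (Fin 2 ⊕ μ)) x, φ (imH C u w) = 0 :=
  wSt_isotropic C h.kills

theorem card_le : Nat.card (wSt C (κ := (Fin 2 ⊕ μ)) x) ≤ C.q ^ 3 := by
  have := card_le_of_isotropic C h.phi_ne h.iso
  rwa [h.card_kappa] at this

theorem index_mul_le : (imgSt C (wSt C (κ := (Fin 2 ⊕ μ)) x)).index * C.q ^ 7 ≤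
    (C.q ^ 7 + C.q ^ 5 + C.q ^ 2) * Nat.card (wSt C (κ := (Fin 2 ⊕ μ)) x) := by
  have h1 := index_imgSt_mul_le C h.phi_ne h.kills
  rw [h.card_kappa] at h1
  exact h1.trans (Nat.mul_le_mul_right _ h.deg)

theorem index_le : (imgSt C (wSt C (κ := (Fin 2 ⊕ μ)) x)).index ≤ C.q ^ 3 + C.q := by
  by_contra! hlt
  have h1 : (C.q ^ 3 + C.q + 1) * C.q ^ 7 ≤ (C.q ^ 7 + C.q ^ 5 + C.q ^ 2) * C.q ^ 3 :=
    (Nat.mul_le_mul_right _ hlt).trans (h.index_mul_le.trans (Nat.mul_le_mul_left _ h.card_le))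
  have h5 : C.q ^ 5 < C.q ^ 7 := Nat.pow_lt_pow_right C.two_le (by norm_num)
  nlinarith

theorem two_index_le (hlt : Nat.card (wSt C (κ := (Fin 2 ⊕ μ)) x) < C.q ^ 3) :
    2 * (imgSt C (wSt C (κ := (Fin 2 ⊕ μ)) x)).index ≤ C.q ^ 3 + C.q := by
  by_contra! hh
  have h1 : (C.q ^ 3 + C.q + 1) * C.q ^ 7 ≤
      (C.q ^ 7 + C.q ^ 5 + C.q ^ 2) * (2 * Nat.card (wSt C (κ := (Fin 2 ⊕ μ)) x)) :=
    (Nat.mul_le_mul_right _ hh).trans (by
      rw [mul_assoc, mul_left_comm _ 2]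
      exact Nat.mul_le_mul_left _ h.index_mul_le)
  have h2 := h1.trans (Nat.mul_le_mul_left _ (two_mul_card_le C h.card_mu hlt))
  have h5 : C.q ^ 5 < C.q ^ 7 := Nat.pow_lt_pow_right C.two_le (by norm_num)
  nlinarith

/-- A small projection is impossible. -/
theorem small_false (hs : Nat.card (wSt C (κ := (Fin 2 ⊕ μ)) x) ≤ C.q ^ 2) : False := by
  have hq := C.two_le
  obtain ⟨v, hv, hv0⟩ := (wSt C (κ := (Fin 2 ⊕ μ)) x).bot_or_exists_ne_zero.resolve_left h.ne_bot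
  have hc := class_count C (wSt C (κ := (Fin 2 ⊕ μ)) x) hv0
  have hn := card_filter_succ_le (wSt C (κ := (Fin 2 ⊕ μ)) x) (A := classSet C (Fin 2 ⊕ μ) (herm C v v))
    (fun h0 => (mem_classSet C).1 h0 |>.1 rfl)
  have hA : (C.q ^ 2 - 1) * (C.q ^ 3 + 1) ≤ (classSet C (Fin 2 ⊕ μ) (herm C v v)).card := by
    rcases eq_or_ne (herm C v v) 0 with h0 | h0
    · rw [h0, card_classSet_zero, h.card_kappa, pts_three]
    · rw [card_classSet_of_ne C h.card_kappa (herm_self_fixed C v) h0]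
      exact Nat.mul_le_mul_right _ (Nat.sub_le _ _)
  have hM : (imgSt C (wSt C (κ := (Fin 2 ⊕ μ)) x)).index ≤ C.q ^ 2 + 1 := by
    by_contra! hlt
    have h1 : (C.q ^ 2 + 1 + 1) * C.q ^ 7 ≤ (C.q ^ 7 + C.q ^ 5 + C.q ^ 2) * C.q ^ 2 :=
      (Nat.mul_le_mul_right _ hlt).trans (h.index_mul_le.trans (Nat.mul_le_mul_left _ hs))
    have h4 : C.q ^ 4 < C.q ^ 7 := Nat.pow_lt_pow_right C.two_le (by norm_num)
    nlinarith
  have h2 : (C.q ^ 2 - 1) * (C.q ^ 3 + 1) ≤ (C.q ^ 2 + 1) * (C.q ^ 2 - 1) :=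
    calc _ ≤ (classSet C (Fin 2 ⊕ μ) (herm C v v)).card * 1 := by rw [mul_one]; exact hA
      _ ≤ (classSet C (Fin 2 ⊕ μ) (herm C v v)).card * Nat.card (covers C (wSt C (κ := (Fin 2 ⊕ μ)) x) v) :=
        Nat.mul_le_mul_left _ (covers_pos C hv)
      _ = _ := hc.symm
      _ ≤ _ := Nat.mul_le_mul hM (le_trans (by omega) (Nat.sub_le_sub_right hs 1))
  have h4 : 4 ≤ C.q ^ 2 := Nat.pow_le_pow_left hq 2
  rw [mul_comm (C.q ^ 2 + 1)] at h2
  have h6 := Nat.le_of_mul_le_mul_left h2 (by omega)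
  have h3 : C.q ^ 2 < C.q ^ 3 := Nat.pow_lt_pow_right C.two_le (by norm_num)
  omega

end Three

end CfsgLib.MinDegree.SUSpace
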