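import Cfsg.Agent.MinDegree.UFourMain
import Cfsg.Agent.Forms4.UnitaryCenter
import Cfsg.Agent.S0782

/-!
# The minimal index of a proper subgroup of `PSU(4,q)`
-/

set_option autoImplicit false

namespace CfsgLib.MinDegree.UFour

open Matrix CfsgLib.RepBounds.Unit

variable {F : Type*} [Field F] [Fintype F] {q : ℕ}

theorem card_SU_four (hF : Fintype.card F = q ^ 2) :
    (q + 1) * Nat.card (Cfsg.SU 4 F q) =
      q ^ 6 * ((q + 1) * (q ^ 2 - 1) * (q ^ 3 + 1) * (q ^ 4 - 1)) := by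
  rw [CfsgLib.Forms4.card_SU_mul_GU hF (by norm_num), CfsgLib.Forms.card_GU hF 4]
  simp [Finset.sum_range_succ, Finset.prod_range_succ, CfsgLib.Forms.u,
    show ¬ Even (3 : ℕ) by decide, show Even (4 : ℕ) by decide]

/-- `q^3+q^2+1` does not divide the order. -/
theorem not_dvd_SU_four (hF : Fintype.card F = q ^ 2) :
    ¬ q ^ 4 + q ^ 3 + q ∣ Nat.card (Cfsg.SU 4 F q) := by
  intro h
  have hq := CfsgLib.Forms.two_le_q hF
  obtain ⟨i, rfl⟩ : ∃ i, q = i + 1 := ⟨q - 1, by omega⟩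
  set a := (i + 1) ^ 3 + (i + 1) ^ 2 + 1 with ha
  have hdvd : a ∣ (i + 1) ^ 6 *
      ((i + 1 + 1) * ((i + 1) ^ 2 - 1) * ((i + 1) ^ 3 + 1) * ((i + 1) ^ 4 - 1)) := by
    rw [← card_SU_four hF]
    exact (Dvd.intro_left (i + 1) (by rw [ha]; ring)).trans (h.trans (Dvd.intro_left _ rfl))
  have c1 : a.Coprime (i + 1) := by
    rw [ha, show (i + 1) ^ 3 + (i + 1) ^ 2 + 1 = 1 + ((i + 1) ^ 2 + (i + 1)) * (i + 1) by ring,
      Nat.coprime_add_mul_right_left]
    exact Nat.coprime_one_left _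
  have c2 : a.Coprime (i + 1 + 1) := by
    rw [ha, show (i + 1) ^ 3 + (i + 1) ^ 2 + 1 = 1 + (i + 1) ^ 2 * (i + 1 + 1) by ring,
      Nat.coprime_add_mul_right_left]
    exact Nat.coprime_one_left _
  have c3 : a.Coprime ((i + 1) ^ 3 + 1) := by
    have e : a = ((i + 1) ^ 3 + 1) + (i + 1) ^ 2 := by rw [ha]; ring
    rw [e, Nat.coprime_self_add_left]
    refine Nat.Coprime.pow_left 2 ?_
    rw [pow_succ, Nat.coprime_mul_right_add_right]
    exact Nat.coprime_one_right _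
  have c4 : a.Coprime ((i + 1) ^ 2 + 1) := by
    refine Nat.coprime_of_dvd fun k hk hka hkb => ?_
    have h1 : k ∣ ((i + 1) ^ 2 + 1) * (i + 1 + 1) := hkb.mul_right _
    have h2 : k ∣ a + (i + 1) := by
      have e : a + (i + 1) = ((i + 1) ^ 2 + 1) * (i + 1 + 1) := by rw [ha]; ring
      rwa [e]
    have h3 : k ∣ i + 1 := (Nat.dvd_add_right hka).1 h2
    exact hk.ne_one (Nat.eq_one_of_dvd_coprimes c1 hka h3)
  have e4 : (i + 1) ^ 4 - 1 = ((i + 1) ^ 2 + 1) * i * (i + 1 + 1) := by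
    rw [Nat.sub_eq_iff_eq_add (Nat.one_le_pow _ _ (by omega))]; ring
  have e2 : (i + 1) ^ 2 - 1 = i * (i + 1 + 1) := by
    rw [Nat.sub_eq_iff_eq_add (Nat.one_le_pow _ _ (by omega))]; ring
  rw [e4, e2, show (i + 1) ^ 6 * ((i + 1 + 1) * (i * (i + 1 + 1)) * ((i + 1) ^ 3 + 1) *
      (((i + 1) ^ 2 + 1) * i * (i + 1 + 1))) = (i + 1) ^ 6 * (i + 1 + 1) ^ 3 *
      ((i + 1) ^ 3 + 1) * ((i + 1) ^ 2 + 1) * i ^ 2 by ring] at hdvd
  have := Nat.le_of_dvd (pow_pos (by omega) 2) (Nat.Coprime.dvd_of_dvd_mul_left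
    ((((c1.pow_right 6).mul_right (c2.pow_right 3)).mul_right c3).mul_right c4) hdvd)
  rw [ha] at this
  nlinarith

/-- The stabiliser of a totally isotropic line. -/
theorem exists_index_attained (hF : Fintype.card F = q ^ 2) :
    ∃ H : Subgroup (Cfsg.PSU 4 F q), H.index = (q + 1) * (q ^ 3 + 1) := by
  obtain ⟨C, rfl⟩ := exists_conjField q hF
  obtain ⟨a, ha⟩ := C.exists_norm_neg_one
  let φ : F × F →ₗ[F] Fin 4 → F :=
    { toFun := fun x => ![x.1, x.1 * a, x.2, x.2 * a]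
      map_add' := fun x y => by ext i; fin_cases i <;> simp [add_mul]
      map_smul' := fun c x => by ext i; fin_cases i <;> simp [mul_assoc] }
  have hinj : Function.Injective φ := fun x y e =>
    Prod.ext (congrFun e 0) (congrFun e 2)
  let W := LinearMap.range φ
  have hk : Module.finrank F W = 2 := by
    rw [LinearMap.finrank_range_of_inj hinj, Module.finrank_prod, Module.finrank_self]
  have hiso : ∀ u ∈ W, ∀ v ∈ W, Cfsg.hermForm 4 F C.q u v = 0 := by
    rintro _ ⟨x, rfl⟩ _ ⟨y, rfl⟩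
    simp only [Cfsg.hermForm, Fin.sum_univ_four, ← C.pow, φ, LinearMap.coe_mk, AddHom.coe_mk,
      Matrix.cons_val_zero, Matrix.cons_val_one, Matrix.cons_val, map_mul]
    linear_combination (x.1 * C.σ y.1 + x.2 * C.σ y.2) * ha
  let St := (Cfsg.stabilizing (Cfsg.slToMat 4 F) (W : Set (Fin 4 → F))).subgroupOf
    (Cfsg.SU 4 F C.q)
  have hcard := Cfsg.Agent.S0782.result C.card 4 2 (by norm_num) (by norm_num) W hk hiso
  simp [Fin.prod_univ_two] at hcard
  let π := QuotientGroup.mk' (Subgroup.center (Cfsg.SU 4 F C.q))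
  refine ⟨St.map π, ?_⟩
  have hker : π.ker ≤ St := by
    intro g hg
    rw [QuotientGroup.ker_mk'] at hg
    obtain ⟨c, hc⟩ := UnitOrders.scalar_of_mem_center C.pow C.card (by norm_num) hg
    rw [Subgroup.mem_subgroupOf]
    intro v
    have hv : Cfsg.slToMat 4 F g.1 *ᵥ v = c • v := by
      rw [show Cfsg.slToMat 4 F g.1 = UnitOrders.suMat g from rfl, hc, Matrix.smul_mulVec,
        Matrix.one_mulVec]
    rw [hv, SetLike.mem_coe, SetLike.mem_coe]
    have hc0 : c ≠ 0 := by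
      rintro rfl
      have hd : (UnitOrders.suMat g).det = 1 := g.1.2
      rw [hc, zero_smul, Matrix.det_zero] at hd
      exact zero_ne_one hd
    exact (Submodule.smul_mem_iff W hc0).symm
  rw [Subgroup.index_map_eq _ (QuotientGroup.mk'_surjective _) hker]
  have h1 : St.index * Nat.card St = Nat.card (Cfsg.SU 4 F C.q) := Subgroup.index_mul_card _
  have h2 := card_SU_four C.card
  rw [← h1, mul_left_comm] at h2
  have h3 : (C.q + 1) * Nat.card St =
      C.q ^ 6 * ((C.q ^ 2 - 1) * (C.q ^ 4 - 1)) := by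
    rw [hcard]
    have e1 : (C.q ^ 2) ^ 2 - C.q ^ 2 = C.q ^ 2 * (C.q ^ 2 - 1) := by
      rw [Nat.mul_sub, mul_one, sq (C.q ^ 2)]
    rw [e1, show (C.q ^ 2) ^ 2 = C.q ^ 4 by ring]
    ring
  rw [h3] at h2
  have hq := C.two_le
  have hpos : 0 < C.q ^ 6 * ((C.q ^ 2 - 1) * (C.q ^ 4 - 1)) := by
    have : 1 < C.q ^ 2 := Nat.one_lt_pow two_ne_zero (by omega)
    have : 1 < C.q ^ 4 := Nat.one_lt_pow (by norm_num) (by omega)
    exact Nat.mul_pos (by positivity) (Nat.mul_pos (by omega) (by omega))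
  exact Nat.eq_of_mul_eq_mul_right hpos (h2.trans (by ring))

/-- The lower bound. -/
theorem le_index (hF : Fintype.card F = q ^ 2) (H : Subgroup (Cfsg.PSU 4 F q)) (hH : H ≠ ⊤) :
    (q + 1) * (q ^ 3 + 1) ≤ H.index := by
  classical
  obtain ⟨C, rfl⟩ := exists_conjField q hF
  obtain ⟨p, hpc⟩ := CharP.exists F
  have : Fact p.Prime := ⟨CharP.char_is_prime F p⟩
  obtain ⟨pr, hpr, -⟩ := exists_addHom_ne_zero
    (nsmul_char_eq_zero (F := F) (V := F) (p := p))
    (show (1 : F) ∉ (⊥ : AddSubgroup F) from fun h => one_ne_zero (AddSubgroup.mem_bot.1 h))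
  let π := QuotientGroup.mk' (Subgroup.center (Cfsg.SU 4 F C.q))
  have hπ : Function.Surjective π := QuotientGroup.mk'_surjective _
  let M : Subgroup (Cfsg.SU 4 F C.q) := H.comap π
  have hsimple : IsSimpleGroup (Cfsg.PSU 4 F C.q) :=
    CfsgLib.Forms4.isSimpleGroup_PSU C.card 4 (by norm_num) (by omega)
  rw [← Subgroup.index_comap_of_surjective (f := π) H hπ]
  have hker : ∀ g : Cfsg.SU 4 F C.q, (∀ x : Cfsg.SU 4 F C.q ⧸ M, g • x = x) →
      g ∈ Subgroup.center (Cfsg.SU 4 F C.q) := by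
    intro g hg
    have hg' : g ∈ M.normalCore := by
      rw [Subgroup.normalCore_eq_ker, MonoidHom.mem_ker]
      exact Equiv.ext hg
    have hle : M.normalCore.map π ≤ H :=
      (Subgroup.map_mono (Subgroup.normalCore_le M)).trans (Subgroup.map_comap_le _ _)
    rcases Subgroup.Normal.eq_bot_or_eq_top
      ((inferInstance : M.normalCore.Normal).map π hπ) with h | h
    · have : π g ∈ M.normalCore.map π := Subgroup.mem_map_of_mem π hg'
      rw [h, Subgroup.mem_bot] at this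
      exact (QuotientGroup.eq_one_iff g).1 this
    · exact absurd (eq_top_iff.2 (h ▸ hle)) hH
  have hcases := le_card (Ω := Cfsg.SU 4 F C.q ⧸ M) C pr hpr hker
  rw [← Subgroup.index_eq_card] at hcases
  rcases hcases with h | h
  · exact h
  · exact absurd (h ▸ Subgroup.index_dvd_card M) (not_dvd_SU_four C.card)

end CfsgLib.MinDegree.UFour
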