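import Cfsg.Agent.MinDegree.SUCount
import Cfsg.Agent.MinDegree.SUThreeBasic
import Cfsg.Agent.MinDegree.UFourBound

/-!
# The stabiliser of a point: the index is attained
-/

set_option autoImplicit false
set_option linter.unusedSectionVars false

namespace CfsgLib.MinDegree.SUSpace

open Matrix CfsgLib.RepBounds.Unit CfsgLib.SUThreeUnipotent
open scoped Classical

variable {F : Type*} [Field F] [Fintype F] (C : ConjField F) {ι : Type*} [Fintype ι] [DecidableEq ι]

/-- The stabiliser of a point. -/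
def lineStab (a : ι → F) : Subgroup (suG C ι) where
  carrier := {g | ∃ c : F, c ≠ 0 ∧ app C g a = c • a}
  one_mem' := ⟨1, one_ne_zero, by rw [app_one, one_smul]⟩
  mul_mem' {g h} := by
    rintro ⟨c, hc, hg⟩ ⟨d, hd, hh⟩
    exact ⟨c * d, mul_ne_zero hc hd, by rw [app_mul, hh, app_smul, hg, smul_smul, mul_comm d]⟩
  inv_mem' {g} := by
    rintro ⟨c, hc, hg⟩
    exact ⟨c⁻¹, inv_ne_zero hc, app_inv_eq C (by rw [app_smul, hg, inv_smul_smul₀ hc])⟩

theorem lineStab_index (hι : 3 ≤ Fintype.card ι) {a : ι → F} (ha0 : a ≠ 0)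
    (hnorm : ∀ c : F, c ≠ 0 → c * C.σ c * herm C a a = herm C a a) :
    (C.q ^ 2 - 1) * (lineStab C a).index = (classSet C ι (herm C a a)).card := by
  have : Fintype (suG C ι ⧸ lineStab C a) := Fintype.ofFinite _
  have hu : Fintype.card Fˣ = C.q ^ 2 - 1 := by rw [Fintype.card_units, C.card]
  rw [← hu, Subgroup.index_eq_card, Nat.card_eq_fintype_card, ← Fintype.card_prod,
    ← Finset.card_univ]
  refine Finset.card_bij (fun x _ => (x.1 : F) • app C x.2.out a) ?_ ?_ ?_
  · intro x _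
    refine (mem_classSet C).2 ⟨smul_ne_zero x.1.ne_zero fun h => ha0 ?_, ?_⟩
    · rw [← app_inv_app C x.2.out a, h, app_zero]
    · rw [herm_smul_left, herm_smul_right, herm_app, ← mul_assoc]
      exact hnorm _ x.1.ne_zero
  · rintro ⟨u, c⟩ _ ⟨u', c'⟩ _ h
    simp only at h
    have hne : ∀ g : suG C ι, app C g a ≠ 0 := fun g e => ha0 (by rw [← app_inv_app C g a, e, app_zero])
    have hcc : c = c' := by
      rw [← QuotientGroup.out_eq' c, ← QuotientGroup.out_eq' c']
      refine QuotientGroup.eq.2 ⟨(u' : F)⁻¹ * u, mul_ne_zero (inv_ne_zero u'.ne_zero) u.ne_zero, ?_⟩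
      rw [app_mul]
      refine app_inv_eq C ?_
      rw [app_smul, mul_smul, h, inv_smul_smul₀ u'.ne_zero]
    subst hcc
    exact Prod.ext (Units.ext (smul_left_injective F (hne _) h)) rfl
  · intro v hv
    rw [mem_classSet] at hv
    obtain ⟨g, rfl⟩ := exists_move_norm C hι ha0 hv.1 hv.2.symm
    obtain ⟨k, hk⟩ := QuotientGroup.mk_out_eq_mul (lineStab C a) g
    obtain ⟨γ, hγ, hγe⟩ := k.2
    refine ⟨(Units.mk0 γ⁻¹ (inv_ne_zero hγ), (g : suG C ι ⧸ lineStab C a)), Finset.mem_univ _, ?_⟩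
    simp only [Units.val_mk0]
    rw [hk, app_mul, hγe, app_smul, inv_smul_smul₀ hγ]

variable (n : ℕ)

/-- The identification with the special unitary group. -/
noncomputable def toSU : suG C (Fin n) ≃* Cfsg.SU n F C.q :=
  MulEquiv.subgroupCongr (suG_fin_eq C n)

/-- The projection to the projective group. -/
noncomputable def toPSU : suG C (Fin n) →* Cfsg.PSU n F C.q :=
  (QuotientGroup.mk' (Subgroup.center (Cfsg.SU n F C.q))).comp (toSU C n).toMonoidHom

theorem toPSU_surjective : Function.Surjective (toPSU C n) :=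
  (QuotientGroup.mk'_surjective _).comp (toSU C n).surjective

theorem exists_index_lineStab (hn : 3 ≤ n) {a : Fin n → F} :
    ∃ H : Subgroup (Cfsg.PSU n F C.q), H.index = (lineStab C a).index := by
  refine ⟨(lineStab C a).map (toPSU C n),
    Subgroup.index_map_eq _ (toPSU_surjective C n) fun g hg => ?_⟩
  have hg' : toSU C n g ∈ Subgroup.center (Cfsg.SU n F C.q) := (QuotientGroup.eq_one_iff _).1 hg
  obtain ⟨c, hc⟩ := UnitOrders.scalar_of_mem_center C.pow C.card hn hg'
  have hmat : g.1.1 = c • (1 : Matrix (Fin n) (Fin n) F) := hc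
  refine ⟨c, ?_, ?_⟩
  · rintro rfl
    have hd : g.1.1.det = 1 := g.1.2
    have : Nonempty (Fin n) := ⟨⟨0, by omega⟩⟩
    rw [hmat, zero_smul, Matrix.det_zero] at hd
    exact zero_ne_one hd
  · show g.1.1 *ᵥ a = c • a
    rw [hmat, Matrix.smul_mulVec, Matrix.one_mulVec]

end CfsgLib.MinDegree.SUSpace
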