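import Cfsg.Agent.MinDegree.SUArith

/-!
# The value of the minimal index
-/

set_option autoImplicit false

namespace CfsgLib.MinDegree.SUSpace

/-- The minimal index of a proper subgroup of the `n`-dimensional unitary group, `n ≥ 5`. -/
def minIdx (q n : ℕ) : ℕ := if q = 2 ∧ Even n then 2 ^ (n - 1) * (2 ^ n - 1) / 3 else pts q n

theorem minIdx_two {n : ℕ} (hn : Even n) : minIdx 2 n = 2 ^ (n - 1) * (2 ^ n - 1) / 3 :=
  if_pos ⟨rfl, hn⟩

theorem minIdx_of_not {q n : ℕ} (h : ¬(q = 2 ∧ Even n)) : minIdx q n = pts q n := if_neg h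

theorem three_mul_minIdx {n : ℕ} (hn : Even n) :
    3 * minIdx 2 n = 2 ^ (n - 1) * (2 ^ n - 1) := by
  rw [minIdx_two hn]
  refine Nat.mul_div_cancel' (Dvd.dvd.mul_left ?_ _)
  obtain ⟨k, rfl⟩ := hn
  rw [← two_mul, pow_mul]
  have h := Nat.sub_dvd_pow_sub_pow (2 ^ 2) 1 k
  rw [one_pow] at h
  exact h

theorem three_mul_pts {n : ℕ} (hn : Even n) (h1 : 1 ≤ n) :
    3 * pts 2 n = (2 ^ n - 1) * (2 ^ (n - 1) + 1) := by
  have h := pts_closed 2 n
  rw [hn.neg_one_pow, (Nat.Even.sub_odd h1 hn odd_one).neg_one_pow] at h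
  have h2 : 1 ≤ 2 ^ n := Nat.one_le_two_pow
  zify [h2]
  push_cast at h
  linear_combination h

theorem minIdx_le_pts (q : ℕ) {n : ℕ} (h1 : 1 ≤ n) : minIdx q n ≤ pts q n := by
  by_cases h : q = 2 ∧ Even n
  · obtain ⟨rfl, hn⟩ := h
    refine Nat.le_of_mul_le_mul_left ?_ (show 0 < 3 by norm_num)
    rw [three_mul_minIdx hn, three_mul_pts hn h1, mul_comm]
    exact Nat.mul_le_mul_left _ (Nat.le_succ _)
  · rw [minIdx_of_not h]

theorem pow_le_minIdx (q : ℕ) (k : ℕ) : q ^ (2 * k + 1) ≤ minIdx q (k + 2) := by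
  by_cases h : q = 2 ∧ Even (k + 2)
  · obtain ⟨rfl, hn⟩ := h
    refine Nat.le_of_mul_le_mul_left ?_ (show 0 < 3 by norm_num)
    rw [three_mul_minIdx hn, show k + 2 - 1 = k + 1 from rfl, show 2 * k + 1 = k + 1 + k by ring,
      pow_add, mul_left_comm]
    refine Nat.mul_le_mul_left _ ?_
    have : 1 ≤ 2 ^ k := Nat.one_le_two_pow
    rw [pow_add]
    omega
  · rw [minIdx_of_not h, pts_add_two]
    omega

theorem le_pow_mul {q m B : ℕ} (hq : 2 ≤ q) (hm : 3 ≤ m) (hB : q ^ (2 * m) + q ^ (2 * m + 1) ≤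
    q ^ (m + 1) * B) : minIdx q (m + 2) ≤ q ^ (m + 1) * B :=
  (minIdx_le_pts q (by omega)).trans ((pts_lt_two_mul hq hm).trans (by omega))

theorem four_bounds {q : ℕ} (hq : 2 ≤ q) :
    minIdx q 6 ≤ q ^ 5 * ((q + 1) * (q ^ 3 + 1)) ∧
      q ^ 6 ≤ (q ^ 2 - 1) * ((q + 1) * (q ^ 3 + 1)) + 1 := by
  refine ⟨le_pow_mul (m := 4) hq (by norm_num) ?_, ?_⟩
  · ring_nf
    omega
  · obtain ⟨e, rfl⟩ : ∃ e, q = e + 2 := ⟨q - 2, by omega⟩
    have : (e + 2) ^ 2 - 1 = e ^ 2 + 4 * e + 3 := by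
      rw [Nat.sub_eq_iff_eq_add (Nat.one_le_pow _ _ (by omega))]; ring
    rw [this]
    ring_nf
    omega

theorem step_bounds {q k : ℕ} (hq : 2 ≤ q) (hk : 3 ≤ k) :
    minIdx q (k + 4) ≤ q ^ (k + 3) * minIdx q (k + 2) ∧
      q ^ (k + 4) ≤ (q ^ 2 - 1) * minIdx q (k + 2) + 1 := by
  have h := pow_le_minIdx q k
  refine ⟨le_pow_mul (m := k + 2) hq (by omega) (le_trans ?_ (Nat.mul_le_mul_left _ h)), ?_⟩
  · rw [← pow_add, show 2 * (k + 2) + 1 = 2 * (k + 2) + 1 from rfl]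
    calc q ^ (2 * (k + 2)) + q ^ (2 * (k + 2) + 1) ≤ 2 * q ^ (2 * (k + 2) + 1) := by
          have := Nat.pow_le_pow_right (show 0 < q by omega) (show 2 * (k + 2) ≤ 2 * (k + 2) + 1 from Nat.le_succ _)
          omega
      _ ≤ q * q ^ (2 * (k + 2) + 1) := Nat.mul_le_mul_right _ hq
      _ = q ^ (2 * (k + 2) + 2) := (pow_succ' _ _).symm
      _ ≤ _ := Nat.pow_le_pow_right (by omega) (by omega)
  · have h1 : 1 ≤ q ^ 2 - 1 := by
      have := Nat.pow_le_pow_left hq 2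
      omega
    calc q ^ (k + 4) ≤ q ^ (2 * k + 1) := Nat.pow_le_pow_right (by omega) (by omega)
      _ ≤ 1 * minIdx q (k + 2) := by rwa [one_mul]
      _ ≤ _ := le_trans (Nat.mul_le_mul_right _ h1) (Nat.le_succ _)

/-- The condition on the non-isotropic vectors. -/
theorem noniso_bound {q m : ℕ} (hq : 2 ≤ q) (hm : 3 ≤ m) :
    (q ^ 2 - 1) * (minIdx q (m + 2) - q ^ (2 * m + 1)) ≤
      q ^ 2 * (q ^ (2 * m) - ((q ^ 2 - 1) * pts q m + 1)) := by
  have h1 : 1 ≤ q ^ 2 := Nat.one_le_pow _ _ (by omega)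
  have hc := pts_closed q m
  obtain ⟨j, rfl⟩ := exists_add_three hm
  rw [show j + 3 - 1 = j + 2 from rfl] at hc
  by_cases h : q = 2 ∧ Even (j + 3 + 2)
  · obtain ⟨rfl, hn⟩ := h
    have hm2 : Even (j + 3) := by
      obtain ⟨r, hr⟩ := hn
      exact ⟨r - 1, by omega⟩
    have hm1 : Odd (j + 2) := by
      obtain ⟨r, hr⟩ := hm2
      exact ⟨r - 1, by omega⟩
    rw [hm2.neg_one_pow, hm1.neg_one_pow] at hc
    have hX := three_mul_minIdx hn
    rw [show j + 3 + 2 - 1 = j + 2 + 2 from rfl] at hX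
    have h32 : 1 ≤ 2 ^ (j + 3 + 2) := Nat.one_le_two_pow
    have hX' : (3 : ℤ) * minIdx 2 (j + 3 + 2) =
        (2 : ℤ) ^ (j + 2 + 2) * ((2 : ℤ) ^ (j + 3 + 2) - 1) := by
      zify [h32] at hX
      exact_mod_cast hX
    push_cast at hc
    have hle : (3 * pts 2 (j + 3) + 1 : ℕ) ≤ 2 ^ (2 * (j + 3)) := by
      zify
      push_cast
      have : (0 : ℤ) ≤ (2 : ℤ) ^ (j + 2) * ((2 : ℤ) ^ (j + 3) - 1) :=
        mul_nonneg (by positivity) (by
          have : (1 : ℤ) ≤ (2 : ℤ) ^ (j + 3) := one_le_pow₀ (by norm_num)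
          linarith)
      rw [show (2 : ℤ) ^ (2 * (j + 3)) = (2 : ℤ) ^ (j + 3) * (2 * 2 ^ (j + 2)) by ring]
      ring_nf at hc this ⊢
      linarith
    norm_num
    rcases Nat.lt_or_ge (minIdx 2 (j + 3 + 2)) (2 ^ (2 * (j + 3) + 1)) with hlt | hge
    · rw [Nat.sub_eq_zero_of_le hlt.le]
      exact Nat.zero_le _
    zify [hge, hle]
    push_cast
    ring_nf at hc hX' ⊢
    linarith
  · rw [minIdx_of_not h, pts_add_two, show q ^ (2 * (j + 3) + 1) + q ^ 2 * pts q (j + 3) + 1 -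
      q ^ (2 * (j + 3) + 1) = q ^ 2 * pts q (j + 3) + 1 by omega]
    have hkey : 2 * ((q ^ 2 - 1) * pts q (j + 3)) + 2 ≤ q ^ (2 * (j + 3)) := by
      zify [h1]
      rw [hc]
      set A := (q : ℤ) ^ (j + 2) with hA
      have hA1 : (4 : ℤ) ≤ A := by
        have : 2 ^ 2 ≤ q ^ (j + 2) := (Nat.pow_le_pow_left hq 2).trans
          (Nat.pow_le_pow_right (by omega) (by omega))
        rw [hA]; exact_mod_cast this
      rw [pow_succ (q : ℤ) (j + 2), show (q : ℤ) ^ (2 * (j + 3)) = A * A * q * q by rw [hA]; ring,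
        ← hA]
      have hq' : (2 : ℤ) ≤ q := by exact_mod_cast hq
      rcases Nat.even_or_odd (j + 3) with he | ho
      · have hq3 : (3 : ℤ) ≤ q := by
          have : q ≠ 2 := fun e => h ⟨e, by rw [Nat.even_add]; simp [he]⟩
          have : 3 ≤ q := by omega
          exact_mod_cast this
        have ho : Odd (j + 2) := by
          obtain ⟨r, hr⟩ := he
          exact ⟨r - 1, by omega⟩
        rw [he.neg_one_pow, ho.neg_one_pow]
        nlinarith [mul_le_mul_of_nonneg_left hA1 (by positivity : (0 : ℤ) ≤ A * q),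
          mul_le_mul_of_nonneg_left hq3 (by positivity : (0 : ℤ) ≤ A * A * q)]
      · have he : Even (j + 2) := by
          obtain ⟨r, hr⟩ := ho
          exact ⟨r, by omega⟩
        rw [ho.neg_one_pow, he.neg_one_pow]
        nlinarith [mul_le_mul_of_nonneg_left hq' (by positivity : (0 : ℤ) ≤ A * A * q)]
    obtain ⟨e, he⟩ : ∃ e, q ^ 2 = e + 1 := ⟨q ^ 2 - 1, by omega⟩
    rw [he, show e + 1 - 1 = e from rfl] at hkey ⊢
    obtain ⟨r, hr⟩ : ∃ r, q ^ (2 * (j + 3)) = r + (2 * (e * pts q (j + 3)) + 2) :=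
      ⟨_, (Nat.sub_add_cancel hkey).symm⟩
    rw [hr, show r + (2 * (e * pts q (j + 3)) + 2) - (e * pts q (j + 3) + 1) =
      r + e * pts q (j + 3) + 1 by omega]
    nlinarith

end CfsgLib.MinDegree.SUSpace
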