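import Cfsg.Agent.MinDegree.SUFixed
import Cfsg.Agent.MinDegree.SUMinIdx
import Cfsg.Agent.MinDegree.SULineStab

/-!
# The minimal index of a proper subgroup of `PSU_n(q)`, `n ≥ 5`
-/

set_option autoImplicit false
set_option linter.unusedSectionVars false

namespace CfsgLib.MinDegree.SUSpace

open Matrix CfsgLib.RepBounds.Unit CfsgLib.SUThreeUnipotent
open scoped Classical

variable {F : Type*} [Field F] [Fintype F] (C : ConjField F)

/-- A lower bound on the index of proper subgroups goes along isomorphisms. -/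
theorem le_index_of_surjective {G G' : Type*} [Group G] [Group G'] {f : G →* G'}
    (hf : Function.Surjective f) {T : ℕ} (h : ∀ H : Subgroup G, H ≠ ⊤ → T ≤ H.index)
    (H : Subgroup G') (hH : H ≠ ⊤) : T ≤ H.index := by
  rw [← Subgroup.index_comap_of_surjective H hf]
  refine h _ fun e => hH ?_
  rw [← Subgroup.map_comap_eq_self_of_surjective hf H, e, Subgroup.map_top_of_surjective _ hf]

theorem reindexHom_surjective {ι κ : Type*} [Fintype ι] [DecidableEq ι] [Fintype κ] [DecidableEq κ]
    (e : ι ≃ κ) : Function.Surjective (reindexHom C e) := fun g =>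
  ⟨reindexHom C e.symm g, suG_ext C fun x => by
    rw [app_reindexHom, app_reindexHom]; simp [Function.comp_def]⟩

/-- The four-dimensional bound upstairs. -/
theorem le_index_four (H : Subgroup (suG C (Fin 2 ⊕ Fin 2))) (hH : H ≠ ⊤) :
    (C.q + 1) * (C.q ^ 3 + 1) ≤ H.index := by
  refine le_index_of_surjective (f := (reindexHom C (finSumFinEquiv : Fin 2 ⊕ Fin 2 ≃ Fin 4).symm).comp
    (toSU C 4).symm.toMonoidHom) ((reindexHom_surjective C _).comp (toSU C 4).symm.surjective) ?_ H hH
  intro K hK
  have hperf : commutator (Cfsg.SU 4 F C.q) = ⊤ := by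
    have h := CfsgLib.Forms4.commutator_suG_eq_top C (κ := Fin 2) (by simp)
    let f : suG C (Fin 2 ⊕ Fin 2) →* Cfsg.SU 4 F C.q :=
      (toSU C 4).toMonoidHom.comp (reindexHom C (finSumFinEquiv : Fin 2 ⊕ Fin 2 ≃ Fin 4))
    have hf : Function.Surjective f := (toSU C 4).surjective.comp (reindexHom_surjective C _)
    have h1 := congrArg (Subgroup.map f) h
    rw [commutator_def, Subgroup.map_commutator, Subgroup.map_top_of_surjective _ hf] at h1
    exact h1
  have hsup : K ⊔ Subgroup.center (Cfsg.SU 4 F C.q) ≠ ⊤ := by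
    intro e
    refine hK (eq_top_iff.2 ?_)
    rw [← hperf, commutator_eq_closure, Subgroup.closure_le]
    rintro _ ⟨a, b, rfl⟩
    have hmem : ∀ g : Cfsg.SU 4 F C.q, ∃ h ∈ K, ∃ z ∈ Subgroup.center (Cfsg.SU 4 F C.q), h * z = g :=
      fun g => by
        have hg : g ∈ ((K ⊔ Subgroup.center (Cfsg.SU 4 F C.q) : Subgroup _) : Set (Cfsg.SU 4 F C.q)) := by
          rw [e]; exact Subgroup.mem_top g
        rw [Subgroup.mul_normal] at hg
        obtain ⟨h, hh, z, hz, hg⟩ := hg
        exact ⟨h, hh, z, hz, hg⟩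
    obtain ⟨h, hh, z, hz, rfl⟩ := hmem a
    obtain ⟨h', hh', z', hz', rfl⟩ := hmem b
    rw [SetLike.mem_coe, commutatorElement_def]
    rw [Subgroup.mem_center_iff] at hz hz'
    have : h * z * (h' * z') * (h * z)⁻¹ * (h' * z')⁻¹ = h * h' * h⁻¹ * h'⁻¹ := by
      have e1 : (h * z) * (h' * z') = h * h' * (z * z') := by
        rw [mul_assoc h, ← mul_assoc z, ← hz h', mul_assoc h', ← mul_assoc]
      have e2 : (h' * z') * (h * z) = h' * h * (z * z') := by
        rw [mul_assoc h', ← mul_assoc z', ← hz' h, mul_assoc h, ← mul_assoc, ← hz z']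
      calc h * z * (h' * z') * (h * z)⁻¹ * (h' * z')⁻¹
          = (h * z * (h' * z')) * ((h' * z') * (h * z))⁻¹ := by group
        _ = _ := by rw [e1, e2]; group
    rw [this]
    exact mul_mem (mul_mem (mul_mem hh hh') (inv_mem hh)) (inv_mem hh')
  have h1 := CfsgLib.MinDegree.UFour.le_index C.card
    ((K ⊔ Subgroup.center (Cfsg.SU 4 F C.q)).map (QuotientGroup.mk' (Subgroup.center _))) (fun e => hsup (by
      rw [← Subgroup.comap_map_eq_self (f := QuotientGroup.mk' (Subgroup.center (Cfsg.SU 4 F C.q)))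
        (H := K ⊔ Subgroup.center (Cfsg.SU 4 F C.q))
        (by rw [QuotientGroup.ker_mk']; exact le_sup_right), e, Subgroup.comap_top]))
  rw [Subgroup.index_map_eq _ (QuotientGroup.mk'_surjective _)
    (by rw [QuotientGroup.ker_mk']; exact le_sup_right)] at h1
  exact h1.trans (Nat.le_of_dvd (Nat.pos_of_ne_zero Subgroup.index_ne_zero_of_finite)
    (Subgroup.index_dvd_of_le le_sup_left))

/-- The induction on the dimension. -/
theorem le_index_suG : ∀ (j : ℕ) (H : Subgroup (suG C (Fin 2 ⊕ (Fin 2 ⊕ Fin (j + 1))))),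
    H ≠ ⊤ → minIdx C.q (j + 5) ≤ H.index := by
  intro j
  induction j using Nat.strong_induction_on with
  | h j IH =>
    intro H hH
    have hq := C.two_le
    have hcard : Fintype.card (Fin 2 ⊕ Fin (j + 1)) = j + 3 := by simp; omega
    refine Bounds.le_index ⟨?_, ?_, ?_, ?_⟩ H hH
    · rw [hcard]; omega
    · rw [hcard]; exact minIdx_le_pts _ (by omega)
    · rw [hcard]; exact noniso_bound hq (by omega)
    · rw [hcard]
      match j, hcard, IH with
      | 0, _, _ => exact Or.inl rfl
      | 1, _, _ => exact Or.inr ⟨_, le_index_four C, four_bounds hq⟩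
      | k + 2, _, ih =>
        refine Or.inr ⟨minIdx C.q (k + 3 + 2), le_index_of_surjective
          (reindexHom_surjective C ((Equiv.sumAssoc (Fin 2) (Fin 2) (Fin (k + 1))).symm.trans
            ((Equiv.sumCongr finSumFinEquiv (Equiv.refl _)).trans
              (finSumFinEquiv.trans ((finCongr (by omega)).trans finSumFinEquiv.symm)))))
          (ih k (by omega)), ?_⟩
        exact step_bounds hq (by omega)

theorem le_index_fin {n : ℕ} (hn : 5 ≤ n) (H : Subgroup (suG C (Fin n))) (hH : H ≠ ⊤) :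
    minIdx C.q n ≤ H.index := by
  obtain ⟨j, rfl⟩ : ∃ j, n = j + 5 := ⟨n - 5, by omega⟩
  exact le_index_of_surjective (reindexHom_surjective C
    ((Equiv.sumAssoc (Fin 2) (Fin 2) (Fin (j + 1))).symm.trans
      ((Equiv.sumCongr finSumFinEquiv (Equiv.refl _)).trans
        (finSumFinEquiv.trans (finCongr (by omega))))))
    (le_index_suG C j) H hH

/-- The bound in the projective group. -/
theorem le_index_PSU {n : ℕ} (hn : 5 ≤ n) (H : Subgroup (Cfsg.PSU n F C.q)) (hH : H ≠ ⊤) :
    minIdx C.q n ≤ H.index :=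
  le_index_of_surjective (toPSU_surjective C n) (le_index_fin C hn) H hH

/-- The isotropic points. -/
theorem exists_index_pts {n : ℕ} (hn : 3 ≤ n) :
    ∃ H : Subgroup (Cfsg.PSU n F C.q), H.index = pts C.q n := by
  have hne : (classSet C (Fin n) 0).Nonempty := by
    rw [← Finset.card_pos, card_classSet_zero, Fintype.card_fin]
    have := Nat.pow_le_pow_left C.two_le 2
    exact Nat.mul_pos (by omega) (one_le_pts _ (by omega))
  obtain ⟨a, ha⟩ := hne
  rw [mem_classSet] at ha
  obtain ⟨H, hH⟩ := exists_index_lineStab C n hn (a := a)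
  refine ⟨H, hH.trans ?_⟩
  have h := lineStab_index C (by rw [Fintype.card_fin]; exact hn) ha.1
    (fun c _ => by rw [ha.2, mul_zero])
  rw [ha.2, card_classSet_zero, Fintype.card_fin] at h
  have := Nat.pow_le_pow_left C.two_le 2
  exact Nat.eq_of_mul_eq_mul_left (by omega) h

/-- The non-isotropic points over the field with four elements. -/
theorem exists_index_noniso {n : ℕ} (hn : 3 ≤ n) (he : Even n) (hq : C.q = 2) :
    ∃ H : Subgroup (Cfsg.PSU n F C.q), H.index = minIdx C.q n := by
  set a : Fin n → F := Pi.single ⟨0, by omega⟩ 1 with ha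
  have haa : herm C a a = 1 := by simp [ha, herm, Pi.single_apply, apply_ite C.σ]
  have hnorm : ∀ c : F, c ≠ 0 → c * C.σ c = 1 := fun c hc => by
    rw [C.pow, hq, ← pow_succ']
    have := FiniteField.pow_card_sub_one_eq_one c hc
    rwa [C.card, hq] at this
  obtain ⟨H, hH⟩ := exists_index_lineStab C n hn (a := a)
  refine ⟨H, hH.trans ?_⟩
  have h := lineStab_index C (by rw [Fintype.card_fin]; exact hn) (a := a)
    (fun e => by rw [e, herm_zero_left] at haa; exact zero_ne_one haa)
    (fun c hc => by rw [hnorm c hc, one_mul])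
  have hset : classSet C (Fin n) (1 : F) = (Finset.univ : Finset (Fin n → F)) \ normSet C (Fin n) 0 := by
    ext v
    rw [mem_classSet, Finset.mem_sdiff, mem_normSet]
    constructor
    · exact fun h => ⟨Finset.mem_univ v, by rw [h.2]; exact one_ne_zero⟩
    · intro h
      refine ⟨fun e => h.2 (by rw [e, herm_zero_left]), ?_⟩
      have h1 := hnorm _ h.2
      rw [herm_self_fixed] at h1
      have h4 : (herm C v v) ^ (C.q ^ 2 - 1) = 1 := by
        rw [← C.card]; exact FiniteField.pow_card_sub_one_eq_one _ h.2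
      rw [hq, show 2 ^ 2 - 1 = 2 + 1 from rfl, pow_succ, sq, h1, one_mul] at h4
      exact h4
  have hiso := card_iso_add_noniso C (κ := Fin n)
  rw [haa, hset] at h
  rw [← h, card_iso, Fintype.card_fin, hq] at hiso
  rw [hq]
  have h2 : 1 ≤ 2 ^ n := Nat.one_le_two_pow
  have hX : (3 : ℤ) * minIdx 2 n = (2 : ℤ) ^ (n - 1) * ((2 : ℤ) ^ n - 1) := by
    have := three_mul_minIdx he
    zify [h2] at this
    exact_mod_cast this
  have hP : (3 : ℤ) * pts 2 n = ((2 : ℤ) ^ n - 1) * ((2 : ℤ) ^ (n - 1) + 1) := by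
    have := three_mul_pts he (by omega)
    zify [h2] at this
    exact_mod_cast this
  norm_num at hiso
  have hI : (3 : ℤ) * pts 2 n + 1 + 3 * (lineStab C a).index = (2 : ℤ) ^ (2 * n) := by
    exact_mod_cast hiso
  obtain ⟨m, rfl⟩ : ∃ m, n = m + 1 := ⟨n - 1, by omega⟩
  rw [Nat.add_sub_cancel] at hX hP
  have : (minIdx 2 (m + 1) : ℤ) = (lineStab C a).index := by
    ring_nf at hX hP hI ⊢
    linarith
  exact_mod_cast this.symm

end CfsgLib.MinDegree.SUSpace
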