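import Cfsg.Agent.MinDegree.SUPairing

/-!
# The Heisenberg group at a point of a Hermitian space

`heis C κ` is the unipotent radical of the stabiliser of the point of `vE`; `InU C g a` says that `g`
lies in the corresponding group at the isotropic vector `a`. Transitivity of `SU` on the non-zero
vectors of given norm, and the torus action on the Heisenberg group.
-/

set_option autoImplicit false
set_option linter.unusedSectionVars false

namespace CfsgLib.MinDegree.SUSpace

open Matrix CfsgLib.RepBounds.Unit CfsgLib.SUThreeUnipotent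

variable {F : Type*} [Field F] [Fintype F] (C : ConjField F)

section general

variable {ι : Type*} [Fintype ι] [DecidableEq ι]

/-- `g` lies in the Heisenberg group at `a`. -/
def InU (g : suG C ι) (a : ι → F) : Prop :=
  ∃ w c, herm C w a = 0 ∧ c + C.σ c + herm C w w = 0 ∧ IsE C g a w c

theorem InU.conj {g : suG C ι} {a : ι → F} (h : InU C g a) (k : suG C ι) :
    InU C (k * g * k⁻¹) (app C k a) := by
  obtain ⟨w, c, hw, hc, hg⟩ := h
  exact ⟨app C k w, c, by rw [herm_app, hw], by rw [herm_app]; exact hc, hg.conj k⟩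

theorem InU.smul {g : suG C ι} {a : ι → F} (h : InU C g a) {r : F} (hr : r ≠ 0) :
    InU C g (r • a) := by
  obtain ⟨w, c, hw, hc, hg⟩ := h
  have hσ : C.σ r ≠ 0 := (map_ne_zero C.σ).2 hr
  refine ⟨(C.σ r)⁻¹ • w, c / (r * C.σ r), ?_, ?_, isE_smul.2 ?_⟩
  · rw [herm_smul_left, herm_smul_right, hw, mul_zero, mul_zero]
  · rw [herm_smul_left, herm_smul_right, map_inv₀, C.invol, map_div₀, map_mul, C.invol]
    field_simp
    linear_combination hc
  · rw [smul_inv_smul₀ hσ, div_mul_cancel₀ _ (mul_ne_zero hr hσ)]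
    exact hg

theorem isE_shift {g : suG C ι} {a w : ι → F} {c r : F} :
    IsE C g a (w + r • a) c ↔ IsE C g a w (c + r - C.σ r) := by
  refine forall_congr' fun x => ?_
  rw [herm_add_right, herm_smul_right]
  constructor <;> intro h <;> rw [h] <;> module

end general

section split

variable {κ : Type*} [Fintype κ] [DecidableEq κ]

local notation "G" => suG C (Fin 2 ⊕ κ)
local notation "ee" => vE C κ
local notation "ff" => vF C κ

theorem herm_comp_inr (x : Fin 2 ⊕ κ → F) (w : κ → F) :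
    herm C x (inW w) = herm C (x ∘ Sum.inr) w := by
  simp [herm, inW, Fintype.sum_sum_type]

theorem inW_inj {w w' : κ → F} (h : (inW w : Fin 2 ⊕ κ → F) = inW w') : w = w' :=
  funext fun i => congrFun h (Sum.inr i)

theorem isE_uniEl (w : κ → F) (c : F) (hc : c + C.σ c + herm C w w = 0) :
    IsE C (uniEl C w c hc) ee (inW w) c := fun x => by
  rw [app_uniEl]; module

theorem wOf_uniEl (w : κ → F) (c : F) (hc : c + C.σ c + herm C w w = 0) :
    app C (uniEl C w c hc) ff ∘ Sum.inr = w := by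
  rw [app_uniEl_vF]
  funext i
  simp [vF, vE, inW]

theorem uniEl_inj {w w' : κ → F} {c c' : F} (hc : c + C.σ c + herm C w w = 0)
    (hc' : c' + C.σ c' + herm C w' w' = 0) (h : uniEl C w c hc = uniEl C w' c' hc') :
    w = w' ∧ c = c' := by
  refine ⟨by rw [← wOf_uniEl C w c hc, h, wOf_uniEl], ?_⟩
  have h1 := congrArg (fun g => herm C (app C g ff) ff) h
  simpa [app_uniEl_vF, herm_add_left, herm_smul_left, herm_vF_vF, herm_inW_vF, herm_vE_vF] using h1

/-- A valid second coordinate. -/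
noncomputable def cA (w : κ → F) : F := -(herm C w w * tA C)

theorem cA_spec (w : κ → F) : cA C w + C.σ (cA C w) + herm C w w = 0 := by
  rw [cA, map_neg, map_mul, herm_self_fixed]
  linear_combination (-herm C w w) * tA_spec C

/-- The standard lift of a vector. -/
noncomputable def hs (w : κ → F) : G := uniEl C w (cA C w) (cA_spec C w)

variable (κ) in
/-- The Heisenberg group. -/
noncomputable def heis : Subgroup (suG C (Fin 2 ⊕ κ)) where
  carrier := {g | ∃ w c hc, g = uniEl C w c hc}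
  one_mem' := ⟨0, 0, by simp [herm_zero_left], (uniEl_zero C).symm⟩
  mul_mem' := by
    rintro a b ⟨w, c, hc, rfl⟩ ⟨w', c', hc', rfl⟩
    exact ⟨_, _, _, uniEl_mul C hc hc'⟩
  inv_mem' := by
    rintro a ⟨w, c, hc, rfl⟩
    have hcn : C.σ c + C.σ (C.σ c) + herm C (-w) (-w) = 0 := by
      rw [C.invol, CfsgLib.RepBounds.Unit.herm_neg_left, herm_neg_r, neg_neg]
      linear_combination hc
    refine ⟨-w, C.σ c, hcn, inv_eq_of_mul_eq_one_right ?_⟩
    rw [uniEl_mul, ← uniEl_zero C]
    exact uniEl_congr C _ _ (add_neg_cancel w) (by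
      rw [CfsgLib.RepBounds.Unit.herm_neg_left]; linear_combination hc)

theorem mem_heis {g : G} : g ∈ heis C κ ↔ ∃ w c hc, g = uniEl C w c hc := Iff.rfl

theorem uniEl_mem (w : κ → F) (c : F) (hc : c + C.σ c + herm C w w = 0) :
    uniEl C w c hc ∈ heis C κ := ⟨w, c, hc, rfl⟩

theorem hs_mem (w : κ → F) : hs C w ∈ heis C κ := uniEl_mem C _ _ _

theorem zA_mem (c : C.skew) : zA C κ c ∈ heis C κ := ⟨0, c.1, skew_valid C c.2, rfl⟩

theorem mem_heis_iff_inU {g : G} : g ∈ heis C κ ↔ InU C g ee := by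
  constructor
  · rintro ⟨w, c, hc, rfl⟩
    exact ⟨inW w, c, herm_inW_vE C w, by rw [herm_inW]; exact hc, isE_uniEl C w c hc⟩
  · rintro ⟨w, c, hw, hc, hg⟩
    have hd := decomp C w
    rw [hw, zero_smul, add_zero, add_comm] at hd
    set β := herm C w ff
    set v := w ∘ Sum.inr
    rw [hd] at hg hc
    simp only [herm_add_left, herm_add_right, herm_smul_left, herm_smul_right, herm_vE_vE,
      herm_vE_inW, herm_inW_vE, herm_inW, mul_zero, add_zero] at hc
    have hc' : c + β - C.σ β + C.σ (c + β - C.σ β) + herm C v v = 0 := by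
      rw [map_sub, map_add, C.invol]; linear_combination hc
    exact ⟨v, _, hc', ((isE_shift C).1 hg).unique (isE_uniEl C v _ hc')⟩

theorem card_heis : Nat.card (heis C κ) = C.q ^ (2 * Fintype.card κ + 1) := by
  let f : (κ → F) × C.skew → heis C κ := fun z =>
    ⟨uniEl C z.1 (cA C z.1 + z.2.1) (by
      have h1 := cA_spec C z.1
      have h2 := C.skew_eq z.2.2
      rw [map_add]; linear_combination h1 + h2), uniEl_mem C _ _ _⟩
  have hf : Function.Bijective f := by
    constructor
    · intro z z' h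
      simp only [f, Subtype.mk.injEq] at h
      obtain ⟨h1, h2⟩ := uniEl_inj C _ _ h
      rw [← h1] at h2
      exact Prod.ext h1 (Subtype.ext (add_left_cancel h2))
    · rintro ⟨_, w, c, hc, rfl⟩
      have hm : c - cA C w ∈ C.skew := by
        rw [C.mem_skew, map_sub]
        linear_combination hc - cA_spec C w
      refine ⟨(w, ⟨c - cA C w, hm⟩), Subtype.ext ?_⟩
      simp only [f]
      exact uniEl_congr C _ _ rfl (add_sub_cancel _ _)
  rw [← Nat.card_congr (Equiv.ofBijective f hf), Nat.card_prod, card_vec C, C.card_skew, pow_succ]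

/-- The projection of the Heisenberg group to the space. -/
noncomputable def wHom : heis C κ →* Multiplicative (κ → F) where
  toFun g := Multiplicative.ofAdd (app C g.1 ff ∘ Sum.inr)
  map_one' := by
    rw [OneMemClass.coe_one, app_one]
    exact congrArg Multiplicative.ofAdd (funext fun i => by simp [vF])
  map_mul' := by
    rintro ⟨_, w, c, hc, rfl⟩ ⟨_, w', c', hc', rfl⟩
    simp only [Subgroup.coe_mul, uniEl_mul, wOf_uniEl]
    rfl

theorem wHom_uniEl (w : κ → F) (c : F) (hc : c + C.σ c + herm C w w = 0) :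
    wHom C ⟨uniEl C w c hc, uniEl_mem C w c hc⟩ = Multiplicative.ofAdd w :=
  congrArg Multiplicative.ofAdd (wOf_uniEl C w c hc)

theorem blockHom_conj (l : suG C κ) (w : κ → F) (c : F) (hc : c + C.σ c + herm C w w = 0) :
    blockHom C κ l * uniEl C w c hc * (blockHom C κ l)⁻¹ =
      uniEl C (app C l w) c (by rw [herm_app]; exact hc) :=
  mul_inv_eq_iff_eq_mul.2 (blockHom_uniEl C l w c hc)

theorem blockHom_conj_zA (l : suG C κ) (c : C.skew) :
    blockHom C κ l * zA C κ c * (blockHom C κ l)⁻¹ = zA C κ c := by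
  rw [zA_apply, blockHom_conj]
  exact uniEl_congr C _ _ (app_zero C l) rfl

theorem app_blockHom_vE (l : suG C κ) : app C (blockHom C κ l) ee = ee := by
  rw [app_blockHom]
  ext (i | i) <;> simp [vE, Function.comp_def, app, ← Pi.zero_def]

theorem app_blockHom_vF (l : suG C κ) : app C (blockHom C κ l) ff = ff := by
  rw [app_blockHom]
  ext (i | i) <;> simp [vF, Function.comp_def, app, ← Pi.zero_def]

theorem app_blockHom_inW (l : suG C κ) (w : κ → F) :
    app C (blockHom C κ l) (inW w) = inW (app C l w) := by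
  rw [app_blockHom]
  ext (i | i) <;> simp [inW, Function.comp_def]

/-- The action of the torus element on the complement. -/
def tW (i : κ) (a : Fˣ) (w : κ → F) : κ → F := w + ((C.σ a / a - 1) * w i) • Pi.single i 1

theorem app_torEl_vF (i : κ) (a : Fˣ) : app C (torEl C i a) ff = (C.σ (a : F))⁻¹ • ff := by
  show torMat C i a *ᵥ ff = _
  rw [torMat_mulVec, herm_vF_vE, herm_vF_vF, herm_vF_inW]
  module

theorem app_torEl_inW (i : κ) (a : Fˣ) (w : κ → F) :
    app C (torEl C i a) (inW w) = inW (tW C i a w) := by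
  show torMat C i a *ᵥ inW w = _
  rw [torMat_mulVec, herm_inW_vE, herm_inW_vF, herm_inW, mul_zero, zero_smul, mul_zero, zero_smul,
    add_zero, add_zero, tW, inW_add, inW_smul]
  congr 3
  simp [herm, Pi.single_apply]

theorem herm_tW (i : κ) (a : Fˣ) (u w : κ → F) :
    herm C (tW C i a u) (tW C i a w) = herm C u w := by
  rw [← herm_inW C (tW C i a u), ← app_torEl_inW, ← app_torEl_inW, herm_app, herm_inW]

theorem tW_injective (i : κ) (a : Fˣ) : Function.Injective (tW C i a) := fun u w h => by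
  refine inW_inj (?_ : (inW u : Fin 2 ⊕ κ → F) = inW w)
  rw [← app_inv_app C (torEl C i a) (inW u), app_torEl_inW, h, ← app_torEl_inW, app_inv_app]

theorem tW_add (i : κ) (a : Fˣ) (u w : κ → F) : tW C i a (u + w) = tW C i a u + tW C i a w := by
  simp only [tW, Pi.add_apply, mul_add, add_smul]; abel

theorem torEl_conj (i : κ) (a : Fˣ) (w : κ → F) (c : F) (hc : c + C.σ c + herm C w w = 0) :
    torEl C i a * uniEl C w c hc * (torEl C i a)⁻¹ =
      uniEl C (C.σ (a : F) • tW C i a w) ((a : F) * C.σ a * c) (by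
        rw [herm_smul_left, herm_smul_right, herm_tW, C.invol, map_mul, map_mul, C.invol]
        linear_combination (a : F) * C.σ a * hc) := by
  have h := (isE_uniEl C w c hc).conj (torEl C i a)
  rw [app_torEl_vE, app_torEl_inW, isE_smul] at h
  refine h.unique ?_
  have e : c * ((a : F) * C.σ a) = (a : F) * C.σ a * c := mul_comm _ _
  rw [← inW_smul, e]
  exact isE_uniEl C _ _ _

/-- Every non-zero vector can be moved off the perpendicular of `vE`. -/
theorem exists_offPerp [Nonempty κ] {v : Fin 2 ⊕ κ → F} (hv : v ≠ 0) :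
    ∃ g : G, herm C (app C g v) ee ≠ 0 := by
  by_cases he : herm C v ee = 0
  swap
  · exact ⟨1, by rwa [app_one]⟩
  obtain ⟨z, hz, hzv⟩ : ∃ z : Fin 2 ⊕ κ → F, herm C z z = 0 ∧ herm C v z ≠ 0 := by
    by_cases hf : herm C v ff = 0
    · have hd := decomp C v
      rw [he, hf, zero_smul, zero_smul, zero_add, zero_add] at hd
      have hw : v ∘ Sum.inr ≠ 0 := fun h => hv (by rw [hd, h, inW_zero])
      obtain ⟨w', hw'⟩ := exists_herm_eq C hw 1
      refine ⟨app C (hs C w') ff, by rw [herm_app, herm_vF_vF], ?_⟩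
      rw [hs, app_uniEl_vF, herm_add_right, herm_add_right, herm_smul_right, hf, he,
        herm_comp_inr, ← conj_herm C w', hw', map_one]
      simp
    · exact ⟨ff, herm_vF_vF C, hf⟩
  obtain ⟨t, -, ht⟩ := exists_to_vE C hz (fun h => hzv (by rw [h, herm_zero_right]))
  exact ⟨t, by rw [← ht, herm_app]; exact hzv⟩

/-- Vectors of a given norm have one standard form. -/
theorem exists_std [Nonempty κ] {v : Fin 2 ⊕ κ → F} (hv : v ≠ 0) :
    ∃ g : G, app C g v = ff + (herm C v v * tA C) • ee := by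
  obtain ⟨g₀, hg₀⟩ := exists_offPerp C hv
  obtain ⟨v₁, hv₁⟩ : ∃ v₁, app C g₀ v = v₁ := ⟨_, rfl⟩
  rw [hv₁] at hg₀
  obtain ⟨γ, hγ⟩ : ∃ γ, herm C v₁ ee = γ := ⟨_, rfl⟩
  rw [hγ] at hg₀
  set u := hs C (-(γ⁻¹) • (v₁ ∘ Sum.inr)) with hu
  obtain ⟨β, hβ⟩ : ∃ β, app C u v₁ = β • ee + γ • ff := by
    refine ⟨herm C v₁ ff + γ * cA C (-(γ⁻¹) • (v₁ ∘ Sum.inr)) -
      herm C v₁ (inW (-(γ⁻¹) • (v₁ ∘ Sum.inr))), ?_⟩
    conv_lhs => rw [hu, hs, app_uniEl, hγ]
    conv_lhs => arg 1; arg 1; rw [decomp C v₁, hγ]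
    rw [inW_smul]
    match_scalars <;> field_simp <;> ring
  obtain ⟨i⟩ := ‹Nonempty κ›
  have hσγ : C.σ γ ≠ 0 := (map_ne_zero C.σ).2 hg₀
  set t := torEl C i (Units.mk0 (C.σ γ) hσγ) with ht
  have h2 : app C t (app C u v₁) = ff + (β * C.σ γ) • ee := by
    rw [hβ, app_add, app_smul, app_smul, app_torEl_vE, app_torEl_vF, Units.val_mk0, C.invol,
      smul_inv_smul₀ hg₀, smul_smul, add_comm]
  have hn : herm C v v = β * C.σ γ + C.σ (β * C.σ γ) := by
    rw [← herm_app C g₀ v, hv₁, ← herm_app C u v₁, ← herm_app C t (app C u v₁), h2]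
    simp [herm_add_left, herm_add_right, herm_smul_left, herm_smul_right, herm_vE_vE, herm_vE_vF,
      herm_vF_vE, herm_vF_vF, add_comm]
  obtain ⟨d, hd, hde⟩ : ∃ d ∈ C.skew, β * C.σ γ + d = herm C v v * tA C := by
    refine ⟨herm C v v * tA C - β * C.σ γ, ?_, by ring⟩
    rw [C.mem_skew, map_sub, map_mul, herm_self_fixed]
    linear_combination (herm C v v) * tA_spec C + hn
  refine ⟨zA C κ ⟨d, hd⟩ * t * u * g₀, ?_⟩
  rw [app_mul, app_mul, app_mul, hv₁, h2, zA_apply, app_add, app_smul, app_uniEl_vF, app_uniEl_vE,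
    inW_zero, add_zero, ← hde]
  module

theorem exists_map_of_norm [Nonempty κ] {u v : Fin 2 ⊕ κ → F} (hu : u ≠ 0) (hv : v ≠ 0)
    (h : herm C u u = herm C v v) : ∃ g : G, app C g u = v := by
  obtain ⟨g, hg⟩ := exists_std C hu
  obtain ⟨k, hk⟩ := exists_std C hv
  refine ⟨k⁻¹ * g, ?_⟩
  rw [app_mul, hg, h, ← hk, app_inv_app]

end split

/-- Transitivity on the non-zero vectors of given norm, any index set. -/
theorem exists_move_norm {ι : Type*} [Fintype ι] [DecidableEq ι] (hι : 3 ≤ Fintype.card ι)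
    {u v : ι → F} (hu : u ≠ 0) (hv : v ≠ 0) (h : herm C u u = herm C v v) :
    ∃ g : suG C ι, app C g u = v := by
  obtain ⟨k, hk⟩ : ∃ k, Fintype.card ι = 2 + (k + 1) := ⟨Fintype.card ι - 3, by omega⟩
  let e : Fin 2 ⊕ Fin (k + 1) ≃ ι := finSumFinEquiv.trans ((Fintype.equivFinOfCardEq hk).symm)
  have hh : ∀ a b : ι → F, herm C (a ∘ e) (b ∘ e) = herm C a b := fun a b =>
    Equiv.sum_comp e fun i => a i * C.σ (b i)
  have hne : ∀ a : ι → F, a ≠ 0 → a ∘ e ≠ 0 := fun a ha h0 => ha (funext fun i => by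
    simpa using congrFun h0 (e.symm i))
  obtain ⟨g, hg⟩ := exists_map_of_norm C (hne u hu) (hne v hv) (by rw [hh, hh, h])
  refine ⟨reindexHom C e g, ?_⟩
  rw [app_reindexHom, hg]
  funext i
  simp

end CfsgLib.MinDegree.SUSpace
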