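import Cfsg.Agent.MinDegree.SUThreeIso
import Cfsg.Agent.Forms4.UnitarySimple

/-!
# The points moved by the centre form one regular orbit
-/

set_option autoImplicit false
set_option linter.unusedSectionVars false

namespace CfsgLib.MinDegree.SUSpace

open Matrix CfsgLib.RepBounds.Unit CfsgLib.SUThreeUnipotent MulAction
open scoped Classical

variable {F : Type*} [Field F] [Fintype F] (C : ConjField F)

/-- The hypotheses on the bound `T`, for the space `Fin 2 ⊕ (Fin 2 ⊕ μ)`. -/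
structure Bounds (μ : Type*) [Fintype μ] [DecidableEq μ] (T : ℕ) : Prop where
  three_le : 3 ≤ Fintype.card (Fin 2 ⊕ μ)
  le_pts : T ≤ pts C.q (Fintype.card (Fin 2 ⊕ μ) + 2)
  noniso : (C.q ^ 2 - 1) * (T - C.q ^ (2 * Fintype.card (Fin 2 ⊕ μ) + 1)) ≤
    C.q ^ 2 * (C.q ^ (2 * Fintype.card (Fin 2 ⊕ μ)) -
      ((C.q ^ 2 - 1) * pts C.q (Fintype.card (Fin 2 ⊕ μ)) + 1))
  cases : Fintype.card (Fin 2 ⊕ μ) = 3 ∨ ∃ B, (∀ H : Subgroup (suG C (Fin 2 ⊕ μ)), H ≠ ⊤ → B ≤ H.index) ∧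
    T ≤ C.q ^ (Fintype.card (Fin 2 ⊕ μ) + 1) * B ∧
    C.q ^ (Fintype.card (Fin 2 ⊕ μ) + 2) ≤ (C.q ^ 2 - 1) * B + 1

variable {μ : Type*} [Fintype μ] [DecidableEq μ] [Nonempty μ]

theorem zA_notMem_center {κ : Type*} [Fintype κ] [DecidableEq κ] [Nonempty κ] {c : C.skew}
    (hc : c ≠ 0) : zA C κ c ∉ Subgroup.center (suG C (Fin 2 ⊕ κ)) := by
  intro hz
  obtain ⟨k, hk⟩ := exists_map_of_norm C (vE_ne_zero C (κ := κ)) (vF_ne_zero C (κ := κ))
    (by rw [herm_vE_vE, herm_vF_vF])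
  rw [Subgroup.mem_center_iff] at hz
  have h1 := congrArg (fun g => app C g (vF C κ)) (hz k)
  simp only [app_mul, zA_apply, app_uniEl_vF, inW_zero, add_zero, app_add, app_smul, hk] at h1
  have h2 := congrArg (fun v => herm C v (vE C κ)) h1
  have h3 := congrArg (fun v => herm C v (vF C κ)) h1
  simp only [app_uniEl, inW_zero, herm_zero_right, zero_smul, sub_zero, zero_add, add_zero,
    herm_add_left, herm_smul_left, herm_vE_vE, herm_vE_vF, herm_vF_vE, herm_vF_vF, mul_zero,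
    mul_one] at h2 h3
  refine hc (Subtype.ext ?_)
  simpa using h2

namespace Bounds

variable {C} {T : ℕ} {Ω : Type*} [MulAction (suG C (Fin 2 ⊕ (Fin 2 ⊕ μ))) Ω] [Fintype Ω]
  (hb : Bounds C μ T) (hd : Nat.card Ω < T)
include hb hd

theorem deg_lt : Nat.card Ω < C.q ^ (2 * Fintype.card (Fin 2 ⊕ μ) + 1) +
    C.q ^ (2 * Fintype.card (Fin 2 ⊕ μ)) :=
  lt_of_lt_of_le hd (hb.le_pts.trans (pts_lt_two_mul C.two_le hb.three_le))

theorem wSt_eq_bot {x : Ω} (hz : zSt C (κ := (Fin 2 ⊕ μ)) x ≠ ⊤) :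
    wSt C (κ := (Fin 2 ⊕ μ)) x = ⊥ := by
  by_contra hK
  obtain ⟨p, hp⟩ := CharP.exists F
  have : Fact p.Prime := ⟨CharP.char_is_prime F p⟩
  obtain ⟨φ, hφ, hk⟩ := exists_phi_ne C (p := p) hz
  rcases hb.cases with h3 | ⟨B, hB, hTB, -⟩
  · refine Three.false (C := C) (φ := φ) (x := x) ⟨?_, hφ, hk, ?_, hK⟩
    · rw [Fintype.card_sum, Fintype.card_fin] at h3; omega
    · have h1 := hb.le_pts
      rw [h3, show 3 + 2 = 5 from rfl, pts_five] at h1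
      omega
  · set K := wSt C (κ := (Fin 2 ⊕ μ)) x
    have hiso : ∀ u ∈ K, ∀ w ∈ K, φ (imH C u w) = 0 := wSt_isotropic C hk
    have hM := hB _ (imgSt_ne_top C hφ hK hiso)
    have h1 : B * C.q ^ (2 * Fintype.card (Fin 2 ⊕ μ) + 1) ≤
        Nat.card Ω * C.q ^ Fintype.card (Fin 2 ⊕ μ) :=
      (Nat.mul_le_mul_right _ hM).trans ((index_imgSt_mul_le C hφ hk).trans
        (Nat.mul_le_mul_left _ (card_le_of_isotropic C hφ hiso)))
    rw [show 2 * Fintype.card (Fin 2 ⊕ μ) + 1 = (Fintype.card (Fin 2 ⊕ μ) + 1) +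
      Fintype.card (Fin 2 ⊕ μ) by omega, pow_add, ← mul_assoc, mul_comm B] at h1
    have := Nat.le_of_mul_le_mul_right h1 (pow_pos (by have := C.two_le; omega) _)
    omega

variable [IsPretransitive (suG C (Fin 2 ⊕ (Fin 2 ⊕ μ))) Ω] [Nontrivial Ω]

omit hd in
theorem exists_moved : ∃ x : Ω, zSt C (κ := (Fin 2 ⊕ μ)) x ≠ ⊤ := by
  by_contra! hall
  let f := MulAction.toPermHom (suG C (Fin 2 ⊕ (Fin 2 ⊕ μ))) Ω
  obtain ⟨d, hd, hd0⟩ := C.exists_skew_ne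
  have hmem : zA C (Fin 2 ⊕ μ) (⟨d, hd⟩ : C.skew) ∈ f.ker := Equiv.ext fun x => by
    exact (mem_zSt C).1 (hall x ▸ AddSubgroup.mem_top (⟨d, hd⟩ : C.skew))
  have h := hb.three_le
  rcases CfsgLib.Forms4.suG_normal_eq_top_or_le_center C (κ := (Fin 2 ⊕ μ))
    (by rw [Fintype.card_sum, Fintype.card_fin]; omega) f.ker with h1 | h1
  · obtain ⟨x, y, hxy⟩ := exists_pair_ne Ω
    obtain ⟨g, rfl⟩ := exists_smul_eq (suG C (Fin 2 ⊕ (Fin 2 ⊕ μ))) x y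
    have hg : g ∈ f.ker := h1 ▸ Subgroup.mem_top g
    exact hxy (DFunLike.congr_fun hg x).symm
  · exact zA_notMem_center C (fun e => hd0 (congrArg Subtype.val e)) (h1 hmem)

theorem same_orbit {x y : Ω} (hx : zSt C (κ := (Fin 2 ⊕ μ)) x ≠ ⊤)
    (hy : zSt C (κ := (Fin 2 ⊕ μ)) y ≠ ⊤) : y ∈ orbit (heis C (Fin 2 ⊕ μ)) x := by
  by_contra hyx
  obtain ⟨p, hp⟩ := CharP.exists F
  have : Fact p.Prime := ⟨CharP.char_is_prime F p⟩
  obtain ⟨φ, hφ, hk⟩ := exists_phi_ne C (p := p) hx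
  have h1 : ∀ z : Ω, zSt C (κ := (Fin 2 ⊕ μ)) z ≠ ⊤ →
      Nat.card (wSt C (κ := (Fin 2 ⊕ μ)) z) = 1 := fun z hz => by
    rw [hb.wSt_eq_bot hd hz, AddSubgroup.card_bot]
  have hxy : x ≠ y := fun e => hyx (e ▸ mem_orbit_self x)
  have h2 := card_mul_le_wA C φ {x} (k := 1) (fun z hz => by
      rw [Finset.mem_singleton.1 hz]; exact h1 x hx)
    (fun z hz => by rw [Finset.mem_singleton.1 hz]; exact hk)
    (fun z hz z' hz' _ => by rw [Finset.mem_singleton.1 hz, Finset.mem_singleton.1 hz'])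
  have h3 := card_mul_le_wA C (0 : C.skew →+ ZMod p) {x, y} (k := 1) (fun z hz => by
      rcases Finset.mem_insert.1 hz with rfl | hz
      · exact h1 _ hx
      · rw [Finset.mem_singleton.1 hz]; exact h1 y hy)
    (fun _ _ _ _ => rfl)
    (fun z hz z' hz' hor => by
      simp only [Finset.mem_insert, Finset.mem_singleton] at hz hz'
      rcases hz with rfl | rfl <;> rcases hz' with rfl | rfl
      · rfl
      · exact absurd hor hyx
      · exact absurd (mem_orbit_symm.1 hor) hyx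
      · rfl)
  rw [Finset.card_singleton, one_mul, mul_one] at h2
  rw [Finset.card_pair hxy, mul_one] at h3
  have h4 := mul_wA_add C (κ := (Fin 2 ⊕ μ)) (Ω := Ω) hφ
  have h5 := Nat.mul_le_mul_left (C.q - 1) h2
  have h6 := Nat.mul_lt_mul_of_pos_left (hb.deg_lt hd) (show 0 < C.q by have := C.two_le; omega)
  rw [Nat.mul_add, ← pow_succ' C.q (2 * _), ← h4] at h6
  have h7 : C.q * C.q ^ (2 * Fintype.card (Fin 2 ⊕ μ) + 1) =
      (C.q - 1) * C.q ^ (2 * Fintype.card (Fin 2 ⊕ μ) + 1) +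
        C.q ^ (2 * Fintype.card (Fin 2 ⊕ μ) + 1) := by
    rw [← Nat.succ_mul, Nat.succ_eq_add_one, Nat.sub_add_cancel (by have := C.two_le; omega)]
  omega

theorem zSt_eq_bot {x : Ω} (hx : zSt C (κ := (Fin 2 ⊕ μ)) x ≠ ⊤) :
    zSt C (κ := (Fin 2 ⊕ μ)) x = ⊥ := by
  obtain ⟨p, hp⟩ := CharP.exists F
  have : Fact p.Prime := ⟨CharP.char_is_prime F p⟩
  obtain ⟨φ, hφ, hk⟩ := exists_phi_ne C (p := p) hx
  rw [AddSubgroup.eq_bot_iff_forall]
  intro c hc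
  by_contra hc0
  obtain ⟨ψ, hψ, -⟩ := exists_addHom_ne_zero (p := p)
    (fun u : C.skew => Subtype.ext (by
      rw [AddSubgroup.coe_nsmul]; exact nsmul_char_eq_zero (F := F) _))
    (show c ∉ (⊥ : AddSubgroup C.skew) from fun h => hc0 (AddSubgroup.mem_bot.1 h))
  have h2 := card_mul_le_wA C φ {x} (k := 1) (fun z hz => by
      rw [Finset.mem_singleton.1 hz, hb.wSt_eq_bot hd hx, AddSubgroup.card_bot])
    (fun z hz => by rw [Finset.mem_singleton.1 hz]; exact hk)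
    (fun z hz z' hz' _ => by rw [Finset.mem_singleton.1 hz, Finset.mem_singleton.1 hz'])
  rw [Finset.card_singleton, one_mul, mul_one,
    ← wA_eq C hφ (fun h => hψ (DFunLike.congr_fun h c))] at h2
  have h0 : wA C (κ := (Fin 2 ⊕ μ)) (Ω := Ω) ψ = 0 := by
    refine Finset.sum_eq_zero fun z _ => if_neg fun hk' => hψ (hk' c ?_)
    by_cases hz : zSt C (κ := (Fin 2 ⊕ μ)) z = ⊤
    · rw [hz]; trivial
    · obtain ⟨g, rfl⟩ := hb.same_orbit hd hx hz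
      show c ∈ zSt C (κ := (Fin 2 ⊕ μ)) (g.1 • x)
      rw [zSt_smul C g.2]
      exact hc
  rw [h0] at h2
  have := pow_pos (show 0 < C.q by have := C.two_le; omega) (2 * Fintype.card (Fin 2 ⊕ μ) + 1)
  omega

theorem eq_one_of_fixes {x : Ω} (hx : zSt C (κ := (Fin 2 ⊕ μ)) x ≠ ⊤)
    {g : suG C (Fin 2 ⊕ (Fin 2 ⊕ μ))} (hg : g ∈ heis C (Fin 2 ⊕ μ)) (hgx : g • x = x) : g = 1 := by
  obtain ⟨w, c, hc, rfl⟩ := hg
  have hw : w ∈ wSt C (κ := (Fin 2 ⊕ μ)) x := ⟨c, hc, hgx⟩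
  rw [hb.wSt_eq_bot hd hx, AddSubgroup.mem_bot] at hw
  subst hw
  have hcs : c ∈ C.skew := by rwa [herm_zero_left, add_zero] at hc
  have hz : (⟨c, hcs⟩ : C.skew) ∈ zSt C (κ := (Fin 2 ⊕ μ)) x := hgx
  rw [hb.zSt_eq_bot hd hx, AddSubgroup.mem_bot] at hz
  rw [← uniEl_zero C]
  exact uniEl_congr C _ _ rfl (congrArg Subtype.val hz)

theorem card_moved : Nat.card {x : Ω // zSt C (κ := (Fin 2 ⊕ μ)) x ≠ ⊤} =
    C.q ^ (2 * Fintype.card (Fin 2 ⊕ μ) + 1) := by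
  obtain ⟨x, hx⟩ := hb.exists_moved (Ω := Ω)
  have h := card_orbit_mul C (κ := (Fin 2 ⊕ μ)) x
  rw [hb.wSt_eq_bot hd hx, hb.zSt_eq_bot hd hx, AddSubgroup.card_bot, AddSubgroup.card_bot,
    one_mul, mul_one] at h
  rw [← h]
  refine Nat.card_congr (Equiv.subtypeEquivRight fun y => ⟨fun hy => hb.same_orbit hd hx hy, ?_⟩)
  rintro ⟨g, rfl⟩
  show zSt C (κ := (Fin 2 ⊕ μ)) (g.1 • x) ≠ ⊤
  rwa [zSt_smul C g.2]

end Bounds

end CfsgLib.MinDegree.SUSpace
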