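import Cfsg.Agent.MinDegree.UFourModel

/-!
# Labels of a central character of a Heisenberg group in an `SU(4,q)`-set

For a non-zero character of the transvection group at `e₁`, the points whose stabiliser it kills
carry together at least `q^3 (q+1)` stabilised transvections.
-/

set_option autoImplicit false

namespace CfsgLib.MinDegree.UFour

open Matrix CfsgLib.RepBounds.Unit MulAction

section Generic

variable {p : ℕ} {A B : Type*} [AddCommGroup A] [AddCommGroup B]

/-- The annihilator for a pairing. -/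
def annih (Φ : A →+ (B →+ ZMod p)) (S : AddSubgroup B) : AddSubgroup A where
  carrier := {a | ∀ x ∈ S, Φ a x = 0}
  zero_mem' x _ := by simp
  add_mem' ha hb x hx := by simp [ha x hx, hb x hx]
  neg_mem' ha x hx := by simp [ha x hx]

theorem mem_annih {Φ : A →+ (B →+ ZMod p)} {S : AddSubgroup B} {a : A} :
    a ∈ annih Φ S ↔ ∀ x ∈ S, Φ a x = 0 := Iff.rfl

theorem card_annih_mul [Fact p.Prime] [Finite A] [Finite B] (hB : ∀ x : B, p • x = 0)
    (Φ : A →+ (B →+ ZMod p)) (hinj : Function.Injective Φ) (hc : Nat.card A = Nat.card B)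
    (S : AddSubgroup B) : Nat.card (annih Φ S) * Nat.card S = Nat.card A := by
  have hS : ∀ x : S, p • x = 0 := fun x => Subtype.ext (by rw [AddSubgroup.coe_nsmul]; exact hB _)
  have : Finite (B →+ ZMod p) := Finite.of_injective _ DFunLike.coe_injective
  have hbij : Function.Bijective Φ := (Nat.bijective_iff_injective_and_card Φ).2
    ⟨hinj, by rw [hc, card_addHom_zmod hB]⟩
  let φ : A →+ (S →+ ZMod p) :=
    { toFun := fun a => (Φ a).comp S.subtype
      map_zero' := by ext; simp
      map_add' := fun a b => by ext; simp }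
  have hsurj : Function.Surjective φ := fun g => by
    obtain ⟨g', hg'⟩ := exists_extend_addHom hB S g
    obtain ⟨a, ha⟩ := hbij.2 g'
    exact ⟨a, AddMonoidHom.ext fun x => by
      rw [← hg']
      exact DFunLike.congr_fun ha x.1⟩
  have hker : φ.ker = annih Φ S := AddSubgroup.ext fun a =>
    ⟨fun h x hx => DFunLike.congr_fun h ⟨x, hx⟩, fun h => AddMonoidHom.ext fun x => h x.1 x.2⟩
  have h := φ.ker.index_mul_card
  rw [AddSubgroup.index_ker, AddMonoidHom.range_eq_top.2 hsurj, AddSubgroup.card_top, hker,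
    card_addHom_zmod hS] at h
  rwa [mul_comm]

theorem card_sup_mul_card_inf [Finite B] (L K : AddSubgroup B) :
    Nat.card (L ⊔ K : AddSubgroup B) * Nat.card (L ⊓ K : AddSubgroup B) =
      Nat.card L * Nat.card K := by
  have h1 : K.relIndex (L ⊔ K) = K.relIndex L := AddSubgroup.relIndex_sup_right L K
  have h2 : K.relIndex L * Nat.card (L ⊓ K : AddSubgroup B) = Nat.card L := by
    rw [← AddSubgroup.inf_relIndex_left, AddSubgroup.relIndex,
      Nat.card_congr (AddSubgroup.addSubgroupOfEquivOfLe inf_le_left).toEquiv.symm]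
    exact AddSubgroup.index_mul_card _
  have h3 : K.relIndex (L ⊔ K) * Nat.card K = Nat.card (L ⊔ K : AddSubgroup B) := by
    rw [AddSubgroup.relIndex,
      Nat.card_congr (AddSubgroup.addSubgroupOfEquivOfLe (le_sup_right : K ≤ L ⊔ K)).toEquiv.symm]
    exact AddSubgroup.index_mul_card _
  rw [← h3, h1, ← h2]
  ring

/-- A function that does not decrease along `z ↦ g • z` is invariant, on a finite set. -/
theorem eq_of_le_smul {G Ω : Type*} [Group G] [Finite G] [MulAction G Ω] (g : G) (f : Ω → ℕ)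
    (h : ∀ z, f z ≤ f (g • z)) (z : Ω) : f (g • z) = f z := by
  refine le_antisymm ?_ (h z)
  have key : ∀ k, f (g • z) ≤ f (g ^ (k + 1) • z) := by
    intro k
    induction k with
    | zero => simp
    | succ k ih => exact ih.trans (by rw [pow_succ' g (k + 1), mul_smul]; exact h _)
  have := key (orderOf g - 1)
  rwa [Nat.sub_add_cancel (orderOf_pos g), pow_orderOf_eq_one, one_smul] at this

end Generic

variable {F : Type*} [Field F] [Fintype F] (C : ConjField F)

theorem nsmul_aherm {p : ℕ} [CharP F p] (X : aherm C) : p • X = 0 :=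
  Subtype.ext (by ext i j; simp [nsmul_eq_mul])

theorem nsmul_skew {p : ℕ} [CharP F p] (c : C.skew) : p • c = 0 :=
  Subtype.ext (by simp [nsmul_eq_mul])

/-- The pairing of real products on the skew elements. -/
def zPair {p : ℕ} (pr : F →+ ZMod p) : C.skew →+ (C.skew →+ ZMod p) where
  toFun e := (pr.comp (AddMonoidHom.mulLeft (e : F))).comp C.skew.subtype
  map_zero' := by ext; simp
  map_add' a b := by ext; simp [add_mul]

/-- The trace pairing. -/
def tPair {p : ℕ} (pr : F →+ ZMod p) : aherm C →+ (aherm C →+ ZMod p) where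
  toFun M := AddMonoidHom.mk' (fun X => pr (M.1 * X.1).trace) fun X Y => by
    simp [Matrix.mul_add, Matrix.trace_add]
  map_zero' := by ext; simp
  map_add' a b := by ext; simp [Matrix.add_mul, Matrix.trace_add]

theorem tPair_apply {p : ℕ} (pr : F →+ ZMod p) (M X : aherm C) :
    tPair C pr M X = pr (M.1 * X.1).trace := rfl

theorem tPair_cg {p : ℕ} (pr : F →+ ZMod p) (g : Matrix (Fin 2) (Fin 2) F) (M X : aherm C) :
    tPair C pr (cg C (CfsgLib.UnitOrders.uAdj C.σ g) M) X = tPair C pr M (cg C g X) := by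
  rw [tPair_apply, tPair_apply, coe_cg, coe_cg, UnitOrders.uAdj_uAdj C.σ C.invol,
    Matrix.mul_assoc, Matrix.mul_assoc, Matrix.trace_mul_comm]
  simp only [Matrix.mul_assoc]

theorem zPair_inj {p : ℕ} {pr : F →+ ZMod p} (hpr : pr 1 ≠ 0) :
    Function.Injective (zPair C pr) := by
  rw [injective_iff_map_eq_zero]
  intro e he
  by_contra h
  have he0 : (e : F) ≠ 0 := fun h' => h (Subtype.ext h')
  have hs : (e : F)⁻¹ ∈ C.skew := by
    rw [C.mem_skew, map_inv₀, C.skew_eq e.2, inv_neg, add_neg_cancel]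
  have h1 := DFunLike.congr_fun he ⟨_, hs⟩
  change pr ((e : F) * (e : F)⁻¹) = 0 at h1
  rw [mul_inv_cancel₀ he0] at h1
  exact hpr h1

theorem tPair_inj {p : ℕ} {pr : F →+ ZMod p} (hpr : pr 1 ≠ 0) :
    Function.Injective (tPair C pr) := by
  rw [injective_iff_map_eq_zero]
  rintro ⟨M, hM⟩ hz
  obtain ⟨e, hu, hw⟩ := aherm_eq_mk2 C hM
  generalize M 0 0 = u at e hu
  generalize M 0 1 = v at e
  generalize M 1 1 = w at e hw
  subst e
  have h : ∀ X : aherm C, (mk2 C u v w * X.1).trace ≠ 0 →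
      C.σ (mk2 C u v w * X.1).trace = (mk2 C u v w * X.1).trace → False := by
    intro X hX hσ
    obtain ⟨e, hu', hw'⟩ := aherm_eq_mk2 C X.2
    have hm : ((mk2 C u v w * X.1).trace)⁻¹ • X.1 ∈ aherm C := by
      rw [mem_aherm, UnitOrders.uAdj_smul, map_inv₀, hσ, (mem_aherm C).1 X.2, smul_neg]
    have h1 := DFunLike.congr_fun hz ⟨_, hm⟩
    rw [tPair_apply] at h1
    simp only [Matrix.mul_smul, Matrix.trace_smul, smul_eq_mul, inv_mul_cancel₀ hX,
      AddMonoidHom.zero_apply] at h1
    exact hpr h1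
  have hu0 : u = 0 := by
    by_contra h0
    refine h ⟨mk2 C u 0 0, mk2_mem C hu _ C.skew.zero_mem⟩ ?_ ?_ <;>
      simp [mk2, Matrix.trace_fin_two, Matrix.mul_apply, Fin.sum_univ_two, h0, C.skew_eq hu]
  have hw0 : w = 0 := by
    by_contra h0
    refine h ⟨mk2 C 0 0 w, mk2_mem C C.skew.zero_mem _ hw⟩ ?_ ?_ <;>
      simp [mk2, Matrix.trace_fin_two, Matrix.mul_apply, Fin.sum_univ_two, h0, C.skew_eq hw]
  have hv0 : v = 0 := by
    by_contra h0
    obtain ⟨y, hy⟩ := C.exists_trace_one
    have hσv : C.σ v ≠ 0 := (map_ne_zero C.σ).2 h0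
    have e1 : (mk2 C u v w * mk2 C 0 (v * y) 0).trace = -(v * C.σ v) := by
      simp only [mk2, Matrix.trace_fin_two, Matrix.mul_apply, Fin.sum_univ_two, map_mul,
        Matrix.of_apply, Matrix.cons_val', Matrix.cons_val_zero, Matrix.cons_val_one,
        Matrix.cons_val_fin_one]
      linear_combination -(v * C.σ v) * hy
    refine h ⟨mk2 C 0 (v * y) 0, mk2_mem C C.skew.zero_mem _ C.skew.zero_mem⟩ ?_ ?_ <;>
      simp only [e1]
    · exact neg_ne_zero.2 (mul_ne_zero h0 hσv)
    · rw [map_neg, map_mul, C.invol, mul_comm]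
  subst hu0 hv0 hw0
  apply Subtype.ext
  ext i j
  fin_cases i <;> fin_cases j <;> simp [mk2]

/-- The transvection group at `e₁` inside the radical. -/
def zHom : C.skew →+ aherm C :=
  AddMonoidHom.mk' (fun d => hX C 0 d) fun a b => by rw [hX_add, add_zero]

theorem zHom_inj : Function.Injective (zHom C) := fun a b h => by
  have := congrFun (congrFun (congrArg Subtype.val h) 0) 0
  exact Subtype.ext (by simpa [zHom, hX, mk2] using this)

theorem uEl_zHom (d : C.skew) : uEl C (zHom C d) = heis C 0 d := by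
  have h2 : up (0 : F) = 1 := by ext i j; fin_cases i <;> fin_cases j <;> simp [up]
  simp only [heis, Prod.fst_zero, Prod.snd_zero]
  rw [lEl_congr C h2 (hh := IsL.one C), lEl_one, mul_one]
  rfl

/-- The entry giving the restriction to the transvection group at `e₁`. -/
def entry00 : aherm C →+ C.skew :=
  AddMonoidHom.mk' (fun M => ⟨M.1 0 0, (aherm_eq_mk2 C M.2).2.1⟩) fun _ _ => rfl

theorem tPair_zHom {p : ℕ} (pr : F →+ ZMod p) (M : aherm C) (d : C.skew) :
    tPair C pr M (zHom C d) = zPair C pr (entry00 C M) d := by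
  show pr _ = pr _
  congr 1
  simp [zHom, hX, mk2, Matrix.trace_fin_two, Matrix.mul_apply, Fin.sum_univ_two]
  exact Or.inl rfl

variable {Ω : Type*} [MulAction (Cfsg.SU 4 F C.q) Ω]

/-- The stabiliser in the radical. -/
def wFix (z : Ω) : AddSubgroup (aherm C) where
  carrier := {X | uEl C X • z = z}
  zero_mem' := by simp [uEl_zero]
  add_mem' {a b} ha hb := by
    simp only [Set.mem_setOf_eq] at ha hb ⊢
    rw [uEl_add, mul_smul, hb, ha]
  neg_mem' {a} ha := by
    simp only [Set.mem_setOf_eq] at ha ⊢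
    conv_lhs => rw [← ha, ← mul_smul, ← uEl_add, neg_add_cancel, uEl_zero, one_smul]

theorem mem_wFix {z : Ω} {X : aherm C} : X ∈ wFix C z ↔ uEl C X • z = z := Iff.rfl

/-- The stabiliser in the transvection group at `e₁`. -/
def zFix (z : Ω) : AddSubgroup C.skew := (wFix C z).comap (zHom C)

theorem mem_zFix {z : Ω} {d : C.skew} : d ∈ zFix C z ↔ heis C 0 d • z = z := by
  rw [← uEl_zHom]; rfl

theorem coc_zero_right (x : F × F) : coc C x 0 = 0 := Subtype.ext (by simp [coc])

theorem coc_zero_left (x : F × F) : coc C 0 x = 0 := Subtype.ext (by simp [coc])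

theorem heis_inv (x : F × F) (c : C.skew) :
    (heis C x c)⁻¹ = heis C (-x) (-c - coc C x (-x)) := by
  rw [inv_eq_of_mul_eq_one_right]
  rw [heis_mul, add_neg_cancel, ← heis_zero C]
  congr 1
  abel

/-- The projection of the stabiliser in the Heisenberg group. -/
def kProj (z : Ω) : AddSubgroup (F × F) where
  carrier := {x | ∃ c, heis C x c • z = z}
  zero_mem' := ⟨0, by rw [heis_zero, one_smul]⟩
  add_mem' {a b} := fun ⟨c, hc⟩ ⟨d, hd⟩ => ⟨c + d + coc C a b, by rw [← heis_mul, mul_smul, hd, hc]⟩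
  neg_mem' {a} := fun ⟨c, hc⟩ => ⟨-c - coc C a (-a), by
    rw [← heis_inv, inv_smul_eq_iff]; exact hc.symm⟩

theorem heis_comm (x y : F × F) (c d : C.skew) :
    heis C x c * heis C y d = heis C y (d + (coc C x y - coc C y x)) * heis C x c := by
  rw [heis_mul, heis_mul, add_comm x y]
  congr 1
  abel

theorem zFix_smul (z : Ω) (x : F × F) (c : C.skew) : zFix C (heis C x c • z) = zFix C z := by
  ext d
  rw [mem_zFix, mem_zFix, ← mul_smul, heis_comm, coc_zero_left, coc_zero_right, sub_zero,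
    add_zero, mul_smul, smul_left_cancel_iff]

theorem kProj_le_smul (z : Ω) (x₀ : F × F) (c₀ : C.skew) :
    kProj C z ≤ kProj C (heis C x₀ c₀ • z) := by
  rintro x ⟨c, hc⟩
  refine ⟨c + (coc C x₀ x - coc C x x₀), ?_⟩
  rw [← mul_smul, ← heis_comm, mul_smul, hc]

theorem kProj_smul (z : Ω) (x₀ : F × F) (c₀ : C.skew) :
    kProj C (heis C x₀ c₀ • z) = kProj C z := by
  refine le_antisymm ?_ (kProj_le_smul C z x₀ c₀)
  have h := kProj_le_smul C (heis C x₀ c₀ • z) (-x₀) (-c₀ - coc C x₀ (-x₀))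
  rwa [← heis_inv, inv_smul_smul] at h

/-- The number of images of a point under the Heisenberg group. -/
theorem card_heis_orbit [DecidableEq Ω] [DecidableEq F] [Fintype C.skew] (z : Ω) :
    ((Finset.univ : Finset ((F × F) × C.skew)).image fun y => heis C y.1 y.2 • z).card *
      (Nat.card (kProj C z) * Nat.card (zFix C z)) = C.q ^ 5 := by
  classical
  set S := (Finset.univ : Finset ((F × F) × C.skew)).filter fun y => heis C y.1 y.2 • z = z
    with hS
  have hfib : ∀ w ∈ (Finset.univ : Finset ((F × F) × C.skew)).image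
      fun y => heis C y.1 y.2 • z,
      ((Finset.univ : Finset ((F × F) × C.skew)).filter fun y => heis C y.1 y.2 • z = w).card =
        S.card := by
    intro w hw
    obtain ⟨⟨x₀, c₀⟩, -, rfl⟩ := Finset.mem_image.1 hw
    refine Finset.card_bij' (fun y _ => (-x₀ + y.1,
        (-c₀ - coc C x₀ (-x₀)) + y.2 + coc C (-x₀) y.1))
      (fun y _ => (x₀ + y.1, c₀ + y.2 + coc C x₀ y.1)) ?_ ?_ ?_ ?_
    · intro y hy
      simp only [hS, Finset.mem_filter, Finset.mem_univ, true_and] at hy ⊢
      rw [← heis_mul, ← heis_inv, mul_smul, hy, inv_smul_smul]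
    · intro y hy
      simp only [hS, Finset.mem_filter, Finset.mem_univ, true_and] at hy ⊢
      rw [← heis_mul, mul_smul, hy]
    · intro y _
      refine Prod.ext (by simp) ?_
      apply Subtype.ext
      simp [coc]
      ring
    · intro y _
      refine Prod.ext (by simp) ?_
      apply Subtype.ext
      simp [coc]
      ring
  have hS' : S.card = Nat.card (kProj C z) * Nat.card (zFix C z) := by
    have hc : ∀ x : kProj C z, ∃ c, heis C x.1 c • z = z := fun x => x.2
    choose cx hcx using hc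
    rw [← Nat.card_prod, ← Fintype.card_coe S, ← Nat.card_eq_fintype_card]
    refine Nat.card_congr
      { toFun := fun y =>
          (⟨y.1.1, y.1.2, (Finset.mem_filter.1 y.2).2⟩, ⟨y.1.2 - cx ⟨y.1.1, y.1.2,
            (Finset.mem_filter.1 y.2).2⟩, ?_⟩)
        invFun := fun y => ⟨(y.1.1, cx y.1 + y.2.1), ?_⟩
        left_inv := fun y => by
          apply Subtype.ext
          exact Prod.ext rfl (add_sub_cancel _ _)
        right_inv := fun y => by
          refine Prod.ext rfl (Subtype.ext ?_)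
          exact add_sub_cancel_left _ _ }
    · rw [mem_zFix]
      have h := hcx ⟨y.1.1, y.1.2, (Finset.mem_filter.1 y.2).2⟩
      refine smul_left_cancel (heis C y.1.1 (cx ⟨y.1.1, y.1.2, (Finset.mem_filter.1 y.2).2⟩)) ?_
      rw [h, ← mul_smul, heis_mul, add_zero, coc_zero_right, add_zero, add_sub_cancel]
      exact (Finset.mem_filter.1 y.2).2
    · refine Finset.mem_filter.2 ⟨Finset.mem_univ _, ?_⟩
      have := heis_mul C y.1.1 0 (cx y.1) y.2.1
      rw [add_zero, coc_zero_right, add_zero] at this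
      rw [← this, mul_smul, (mem_zFix C).1 y.2.2, hcx]
  have h := Finset.card_eq_sum_card_image (fun y : (F × F) × C.skew => heis C y.1 y.2 • z)
    Finset.univ
  rw [Finset.sum_congr rfl hfib, Finset.sum_const, smul_eq_mul, Finset.card_univ, Fintype.card_prod,
    Fintype.card_prod, C.card, ← Nat.card_eq_fintype_card (α := C.skew), C.card_skew, hS'] at h
  rw [← h]
  ring

section Labels

variable {p : ℕ} [Fact p.Prime] [CharP F p] (pr : F →+ ZMod p) (hpr : pr 1 ≠ 0)

/-- The labels of a point. -/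
def lab (z : Ω) : AddSubgroup (aherm C) := annih (tPair C pr) (wFix C z)

/-- The labels of a point for the transvection group at `e₁`. -/
def zLab (z : Ω) : AddSubgroup C.skew := annih (zPair C pr) (zFix C z)

include hpr in
theorem card_lab_mul (z : Ω) : Nat.card (lab C pr z) * Nat.card (wFix C z) = C.q ^ 4 := by
  rw [lab, card_annih_mul (nsmul_aherm C) _ (tPair_inj C hpr) rfl, card_aherm]

/-- Each admissible restriction is taken by `q^3 |Z_z| / |W_z|` labels. -/
theorem card_fibre {z : Ω} (hpr : pr 1 ≠ 0) {e : C.skew} (he : e ∈ zLab C pr z) :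
    Nat.card {M : lab C pr z // entry00 C M.1 = e} * Nat.card (wFix C z) =
      C.q ^ 3 * Nat.card (zFix C z) := by
  classical
  let π : lab C pr z →+ C.skew := (entry00 C).comp (lab C pr z).subtype
  have hle : π.range ≤ zLab C pr z := by
    rintro _ ⟨M, rfl⟩ d hd
    rw [show π M = entry00 C M.1 from rfl, ← tPair_zHom]
    exact M.2 _ hd
  set S := wFix C z ⊔ (zHom C).range with hSdef
  have hker : Nat.card π.ker = Nat.card (annih (tPair C pr) S) := by
    refine Nat.card_congr
      { toFun := fun M => ⟨M.1.1, ?_⟩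
        invFun := fun M => ⟨⟨M.1, fun x hx => M.2 x (le_sup_left (a := wFix C z) hx)⟩, ?_⟩
        left_inv := fun M => rfl
        right_inv := fun M => rfl }
    · intro x hx
      obtain ⟨a, ha, b, ⟨d, rfl⟩, rfl⟩ := AddSubgroup.mem_sup.1 hx
      rw [map_add, M.1.2 a ha, tPair_zHom, show entry00 C M.1.1 = 0 from M.2, map_zero]
      simp
    · refine zPair_inj C hpr ?_
      rw [map_zero]
      ext d
      show zPair C pr (entry00 C M.1) d = 0
      rw [← tPair_zHom]
      exact M.2 _ (le_sup_right (a := wFix C z) ⟨d, rfl⟩)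
  have h1 := card_annih_mul (nsmul_aherm C) _ (tPair_inj C hpr) rfl S
  have h2 := card_sup_mul_card_inf (wFix C z) (zHom C).range
  have h3 : Nat.card (wFix C z ⊓ (zHom C).range : AddSubgroup (aherm C)) = Nat.card (zFix C z) := by
    rw [inf_comm, ← AddSubgroup.map_comap_eq]
    exact (Nat.card_congr ((zFix C z).equivMapOfInjective _ (zHom_inj C)).toEquiv).symm
  have h4 : Nat.card (zHom C).range = C.q := by
    rw [← C.card_skew]
    exact (Nat.card_congr (AddMonoidHom.ofInjective (zHom_inj C)).toEquiv).symm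
  rw [card_aherm] at h1
  rw [h3, h4] at h2
  have h5 : Nat.card π.ker * Nat.card (wFix C z) = C.q ^ 3 * Nat.card (zFix C z) := by
    refine Nat.eq_of_mul_eq_mul_right (show 0 < C.q by have := C.two_le; omega) ?_
    rw [hker]
    calc Nat.card (annih (tPair C pr) S) * Nat.card (wFix C z) * C.q
        = Nat.card (annih (tPair C pr) S) * (Nat.card S * Nat.card (zFix C z)) := by
          rw [h2, mul_assoc]
      _ = _ := by rw [← mul_assoc, h1]; ring
  have hrange : π.range = zLab C pr z := by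
    refine AddSubgroup.eq_of_le_of_card_ge hle (le_of_eq ?_)
    have h6 := card_annih_mul (nsmul_skew C) _ (zPair_inj C hpr) rfl (zFix C z)
    have h7 := π.ker.index_mul_card
    rw [AddSubgroup.index_ker] at h7
    have h8 := card_lab_mul C pr hpr z
    rw [C.card_skew] at h6
    refine Nat.eq_of_mul_eq_mul_right (show 0 < Nat.card (zFix C z) from Nat.card_pos) ?_
    rw [zLab, h6]
    refine Nat.eq_of_mul_eq_mul_left (show 0 < C.q ^ 3 from pow_pos (by have := C.two_le; omega) _) ?_
    calc C.q ^ 3 * C.q = C.q ^ 4 := by ring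
      _ = _ := by
        rw [← h8, ← h7, mul_assoc, h5]
        ring
  obtain ⟨M₀, hM₀⟩ : e ∈ π.range := hrange ▸ he
  rw [← h5]
  congr 1
  refine Nat.card_congr
    { toFun := fun M => ⟨M.1 - M₀, ?_⟩
      invFun := fun M => ⟨M.1 + M₀, ?_⟩
      left_inv := fun M => Subtype.ext (sub_add_cancel _ _)
      right_inv := fun M => Subtype.ext (add_sub_cancel_right _ _) }
  · rw [AddMonoidHom.mem_ker, map_sub, hM₀]
    exact sub_eq_zero.2 M.2
  · show π (M.1 + M₀) = e
    rw [map_add, M.2, hM₀, zero_add]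

theorem zLab_smul_eq (z : Ω) (x : F × F) (c : C.skew) :
    zLab C pr (heis C x c • z) = zLab C pr z := by rw [zLab, zFix_smul, zLab]

include hpr in
/-- Every non-zero character of the transvection group is a label. -/
theorem exists_zLab {d₀ : C.skew} {z₀ : Ω} (hmove : d₀ ∉ zFix C z₀) {e : C.skew} (he : e ≠ 0) :
    ∃ z : Ω, e ∈ zLab C pr z := by
  obtain ⟨e₀, he₀, hne⟩ : ∃ e₀ ∈ zLab C pr z₀, e₀ ≠ 0 := by
    by_contra! h
    have h1 := card_annih_mul (nsmul_skew C) _ (zPair_inj C hpr) rfl (zFix C z₀)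
    have h2 : annih (zPair C pr) (zFix C z₀) = ⊥ :=
      (AddSubgroup.eq_bot_iff_forall _).2 h
    rw [h2, AddSubgroup.card_bot, one_mul] at h1
    exact hmove (((AddSubgroup.card_eq_iff_eq_top _).1 h1).symm ▸ AddSubgroup.mem_top _)
  have he' : (e : F) ≠ 0 := fun h => he (Subtype.ext h)
  have he0' : (e₀ : F) ≠ 0 := fun h => hne (Subtype.ext h)
  have hreal : C.σ ((e₀ : F) / e) = (e₀ : F) / e := by
    rw [map_div₀, C.skew_eq e.2, C.skew_eq e₀.2, neg_div_neg_eq]
  obtain ⟨μ, hμ⟩ := CfsgLib.Forms.exists_mul_involution_eq C.ne_id C.invol hreal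
  have hμ0 : μ ≠ 0 := fun h => div_ne_zero he0' he' (by rw [← hμ, h, zero_mul])
  have hg : IsL C !![μ, 0; 0, C.σ μ] := by
    constructor <;> simp [det_fin_two, hμ0, C.invol, mul_comm]
  refine ⟨lEl C _ hg • z₀, fun d hd => ?_⟩
  have hd' : (e : F) / (e₀ : F) * d ∈ C.skew := by
    rw [C.mem_skew, map_mul, map_div₀, C.skew_eq e.2, C.skew_eq e₀.2, C.skew_eq d.2,
      neg_div_neg_eq]
    ring
  have h : (⟨_, hd'⟩ : C.skew) ∈ zFix C z₀ := by
    rw [zFix, AddSubgroup.mem_comap, mem_wFix]
    refine smul_left_cancel (lEl C _ hg) ?_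
    rw [← mul_smul, lEl_conj, mul_smul]
    have e1 : cg C !![μ, 0; 0, C.σ μ] (zHom C ⟨_, hd'⟩) = zHom C d := by
      apply Subtype.ext
      ext i j
      fin_cases i <;> fin_cases j <;>
        simp [zHom, coe_cg, hX, mk2, UnitOrders.uAdj, Matrix.vecMul, dotProduct, Fin.sum_univ_two,
          Matrix.mul_apply]
      rw [show μ * ((e : F) / e₀ * d) * C.σ μ = μ * C.σ μ * ((e : F) / e₀) * d by ring, hμ]
      field_simp
    rw [e1]
    exact hd
  have h2 := he₀ _ h
  show pr ((e : F) * d) = 0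
  change pr ((e₀ : F) * ((e : F) / e₀ * d)) = 0 at h2
  rwa [← mul_assoc, mul_div_cancel₀ _ he0'] at h2

include hpr in
/-- The main count at `e₁`. -/
theorem sum_zFix [Fintype Ω] [DecidableEq F] {d₀ : C.skew} {z₀ : Ω} (hmove : d₀ ∉ zFix C z₀)
    {e : C.skew} (he : e ≠ 0) [DecidablePred fun z : Ω => e ∈ zLab C pr z] :
    C.q ^ 3 * (C.q + 1) ≤
      ∑ z ∈ (Finset.univ : Finset Ω).filter (fun z => e ∈ zLab C pr z), Nat.card (zFix C z) := by
  classical
  have : Fintype C.skew := Fintype.ofFinite _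
  obtain ⟨z₁, hz₁⟩ := exists_zLab C pr hpr hmove he
  set κ := Nat.card (kProj C z₁) with hκ
  set ζ := Nat.card (zFix C z₁) with hζ
  set P := (Finset.univ : Finset Ω).filter fun z =>
    e ∈ zLab C pr z ∧ Nat.card (zFix C z) = ζ ∧ Nat.card (kProj C z) = κ with hP
  have memP : ∀ z, z ∈ P ↔ e ∈ zLab C pr z ∧ Nat.card (zFix C z) = ζ ∧ Nat.card (kProj C z) = κ :=
    fun z => by simp [hP]
  obtain ⟨θ, hθ, hθ0⟩ := C.exists_skew_ne
  -- transport along an element normalising the Heisenberg group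
  have move : ∀ (g : Cfsg.SU 4 F C.q) (T : F × F → F × F), Function.Injective T →
      (∀ x c, ∃ c', g * heis C x c = heis C (T x) c' * g) →
      (∀ d, g * heis C 0 d = heis C 0 d * g) →
      ∀ z ∈ P, g • z ∈ P ∧ ∀ x ∈ kProj C z, T x ∈ kProj C (g • z) := by
    intro g T hT hnorm hcen z hz
    have hTm : ∀ w : Ω, ∀ x ∈ kProj C w, T x ∈ kProj C (g • w) := by
      rintro w x ⟨c, hc⟩
      obtain ⟨c', hc'⟩ := hnorm x c
      exact ⟨c', by rw [← mul_smul, ← hc', mul_smul, hc]⟩
    have hk : Nat.card (kProj C (g • z)) = Nat.card (kProj C z) :=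
      eq_of_le_smul g (fun w => Nat.card (kProj C w))
        (fun w => Nat.card_le_card_of_injective (fun x => ⟨T x.1, hTm w x.1 x.2⟩)
          fun a b h => Subtype.ext (hT (congrArg Subtype.val h :))) z
    have hzf : zFix C (g • z) = zFix C z := by
      ext d
      rw [mem_zFix, mem_zFix, ← mul_smul, ← hcen, mul_smul, smul_left_cancel_iff]
    rw [memP] at hz ⊢
    exact ⟨⟨by rw [zLab, hzf]; exact hz.1, by rw [hzf]; exact hz.2.1, hk.trans hz.2.2⟩, hTm z⟩
  have hclosed : Closed C θ⁻¹ {x | ∃ K ∈ P.image (kProj C), x ∈ K} := by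
    have out : ∀ (g : Cfsg.SU 4 F C.q) (T : F × F → F × F), Function.Injective T →
        (∀ x c, ∃ c', g * heis C x c = heis C (T x) c' * g) →
        (∀ d, g * heis C 0 d = heis C 0 d * g) →
        ∀ x, x ∈ {x | ∃ K ∈ P.image (kProj C), x ∈ K} →
          T x ∈ {x | ∃ K ∈ P.image (kProj C), x ∈ K} := by
      rintro g T hT hn hc x ⟨_, hK, hx⟩
      obtain ⟨z, hz, rfl⟩ := Finset.mem_image.1 hK
      obtain ⟨h1, h2⟩ := move g T hT hn hc z hz
      exact ⟨_, Finset.mem_image.2 ⟨_, h1, rfl⟩, h2 x hx⟩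
    refine ⟨fun x hx s hs => ?_, fun x hx => ?_, fun x hx l hl => ?_⟩
    · refine out (uEl C ⟨mk2 C 0 0 (-s), mk2_mem C C.skew.zero_mem _ (C.skew.neg_mem hs)⟩)
        (fun x => (x.1, x.2 + x.1 * s)) ?_ (fun y c => ?_) (fun d => ?_) x hx
      · intro a b h
        obtain ⟨h1, h2⟩ := Prod.ext_iff.1 h
        simp only at h1 h2
        rw [h1] at h2
        exact Prod.ext h1 (add_right_cancel h2)
      · obtain ⟨c', hc'⟩ := heis_shift C (C.skew.neg_mem hs) y c
        exact ⟨c', by rw [hc', mul_neg, sub_neg_eq_add]⟩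
      · rw [← uEl_zHom, ← uEl_add, ← uEl_add, add_comm]
    · refine out (kEl C θ hθ hθ0) (fun x => (θ⁻¹ * x.2, x.1 / C.σ θ⁻¹)) ?_ (fun y c => ?_)
        (fun d => ?_) x hx
      · intro a b h
        simp only [Prod.mk.injEq, map_inv₀, div_inv_eq_mul] at h
        exact Prod.ext (mul_right_cancel₀ ((map_ne_zero C.σ).2 hθ0) h.2)
          (mul_left_cancel₀ (inv_ne_zero hθ0) h.1)
      · obtain ⟨c', -, hc'⟩ := heis_swap C hθ hθ0 y c
        exact ⟨c', by rw [hc', map_inv₀, div_inv_eq_mul]⟩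
      · obtain ⟨c', hc1, hc'⟩ := heis_swap C hθ hθ0 (0 : F × F) d
        rw [hc', hc1 rfl]
        simp
        rfl
    · have hl0 : l ≠ 0 := fun h => by rw [h, zero_mul] at hl; exact zero_ne_one hl
      have hd : IsL C !![l, 0; 0, l⁻¹] := IsL.of_det_one C (by simp [det_fin_two, hl0])
      refine out (lEl C _ hd) (fun x => l ^ 2 • x) (fun a b h => smul_right_injective _
        (pow_ne_zero 2 hl0) h) (fun y c => ⟨c, heis_scale C hl hd y c⟩) (fun d => ?_) x hx
      rw [heis_scale C hl hd, smul_zero]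
  have hiso : ∀ K ∈ P.image (kProj C), ∀ x ∈ K, ∀ y ∈ K, pr ((e : F) * comm C x y) = 0 := by
    rintro _ hK x hx y hy
    obtain ⟨z, hz, rfl⟩ := Finset.mem_image.1 hK
    obtain ⟨c, hc⟩ := hx
    obtain ⟨d, hd⟩ := hy
    have hdiff : coc C x y - coc C y x ∈ zFix C z := by
      rw [mem_zFix]
      have h := congrArg (fun g => g • z) (heis_comm C x y c d)
      simp only [mul_smul, hd, hc] at h
      have h2 : heis C y (d + (coc C x y - coc C y x)) =
          heis C y d * heis C 0 (coc C x y - coc C y x) := by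
        rw [heis_mul, add_zero, coc_zero_right, add_zero]
      rw [h2, mul_smul] at h
      exact smul_left_cancel (heis C y d) (by rw [← h, hd])
    have h := ((memP z).1 hz).1 _ hdiff
    change pr ((e : F) * (y.2 * C.σ x.1 - x.1 * C.σ y.2 - (x.2 * C.σ y.1 - y.1 * C.σ x.2))) = 0 at h
    rw [show (e : F) * comm C x y =
      -((e : F) * (y.2 * C.σ x.1 - x.1 * C.σ y.2 - (x.2 * C.σ y.1 - y.1 * C.σ x.2))) by
        simp only [comm, hh]; ring, map_neg, h, neg_zero]
  have ht : ∃ s ∈ C.skew, pr ((e : F) * s) ≠ 0 := by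
    by_contra! h
    exact he (zPair_inj C hpr (by rw [map_zero]; ext d; exact h _ d.2))
  have hcov := plane_cover ht (inv_ne_zero hθ0) (κ := κ) (P.image (kProj C))
    ((Finset.Nonempty.image ⟨z₁, (memP z₁).2 ⟨hz₁, rfl, rfl⟩⟩ _)) (fun K hK => by
      obtain ⟨z, hz, rfl⟩ := Finset.mem_image.1 hK
      exact ((memP z).1 hz).2.2) hiso hclosed
  have horb : ∀ K ∈ P.image (kProj C),
      C.q ^ 5 ≤ (P.filter fun z => kProj C z = K).card * (κ * ζ) := by
    intro K hK
    obtain ⟨z, hz, rfl⟩ := Finset.mem_image.1 hK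
    rw [← card_heis_orbit C z, ((memP z).1 hz).2.2, ((memP z).1 hz).2.1]
    refine Nat.mul_le_mul_right _ (Finset.card_le_card fun w hw => ?_)
    obtain ⟨y, -, rfl⟩ := Finset.mem_image.1 hw
    refine Finset.mem_filter.2 ⟨(memP _).2 ?_, kProj_smul C z _ _⟩
    rw [zLab_smul_eq, zFix_smul, kProj_smul]
    exact (memP z).1 hz
  have hκpos : 0 < κ := Nat.card_pos
  refine Nat.le_of_mul_le_mul_left ?_ hκpos
  calc κ * (C.q ^ 3 * (C.q + 1)) = C.q ^ 3 * (κ * (C.q + 1)) := by ring
    _ ≤ C.q ^ 3 * ((P.image (kProj C)).card * C.q ^ 2) := Nat.mul_le_mul_left _ hcov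
    _ = ∑ _K ∈ P.image (kProj C), C.q ^ 5 := by rw [Finset.sum_const, smul_eq_mul]; ring
    _ ≤ ∑ K ∈ P.image (kProj C), (P.filter fun z => kProj C z = K).card * (κ * ζ) :=
        Finset.sum_le_sum horb
    _ = P.card * (κ * ζ) := by
        rw [← Finset.sum_mul, ← Finset.card_eq_sum_card_image]
    _ = κ * ∑ z ∈ P, Nat.card (zFix C z) := by
        rw [Finset.sum_congr rfl fun z hz => ((memP z).1 hz).2.1, Finset.sum_const, smul_eq_mul]
        ring
    _ ≤ _ := Nat.mul_le_mul_left _ (Finset.sum_le_sum_of_subset fun z hz =>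
        Finset.mem_filter.2 ⟨Finset.mem_univ _, ((memP z).1 hz).1⟩)

end Labels

end CfsgLib.MinDegree.UFour
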