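import Cfsg.Agent.MinDegree.SUArith
import Cfsg.Agent.MinDegree.UFourCount
import Cfsg.Agent.RepBounds.Unitary.Bound
import Cfsg.Agent.SUThreeUnipotent.Eichler
import Cfsg.Agent.Forms.UnitaryOrder

/-!
# The alternating pairings of a Hermitian space

For a functional `φ` on the skew elements, `pairH φ u w = φ (h(u,w) - h(w,u))`.
-/

set_option autoImplicit false
set_option linter.unusedSectionVars false

namespace CfsgLib.MinDegree.SUSpace

open CfsgLib.RepBounds.Unit CfsgLib.SUThreeUnipotent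
open CfsgLib.MinDegree.UFour (annih mem_annih card_annih_mul)

variable {F : Type*} [Field F] [Fintype F] (C : ConjField F) {κ : Type*} [Fintype κ] [DecidableEq κ]
  {p : ℕ}

/-- The skew part of the form. -/
def imH (u w : κ → F) : C.skew :=
  ⟨herm C u w - herm C w u, by rw [← conj_herm C u w]; exact C.sub_mem _⟩

theorem coe_imH (u w : κ → F) : (imH C u w : F) = herm C u w - herm C w u := rfl

theorem imH_add_left (u u' w : κ → F) : imH C (u + u') w = imH C u w + imH C u' w := by
  apply Subtype.ext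
  simp only [AddSubgroup.coe_add, coe_imH, herm_add_left, herm_add_right]
  ring

theorem imH_add_right (u w w' : κ → F) : imH C u (w + w') = imH C u w + imH C u w' := by
  apply Subtype.ext
  simp only [AddSubgroup.coe_add, coe_imH, herm_add_left, herm_add_right]
  ring

theorem imH_swap (u w : κ → F) : imH C w u = -imH C u w := by
  apply Subtype.ext
  simp only [AddSubgroup.coe_neg, coe_imH, neg_sub]

theorem imH_self (u : κ → F) : imH C u u = 0 := Subtype.ext (sub_self _)

/-- The pairing. -/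
def pairH (φ : C.skew →+ ZMod p) : (κ → F) →+ ((κ → F) →+ ZMod p) where
  toFun u :=
    { toFun := fun w => φ (imH C u w)
      map_zero' := by
        rw [show imH C u (0 : κ → F) = 0 from Subtype.ext (by
          simp [coe_imH, herm_zero_left, herm_zero_right]), map_zero]
      map_add' := fun w w' => by rw [imH_add_right, map_add] }
  map_zero' := by
    refine AddMonoidHom.ext fun w => ?_
    show φ (imH C 0 w) = 0
    rw [show imH C (0 : κ → F) w = 0 from Subtype.ext (by
      simp [coe_imH, herm_zero_left, herm_zero_right]), map_zero]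
  map_add' u u' := by
    refine AddMonoidHom.ext fun w => ?_
    show φ (imH C (u + u') w) = φ (imH C u w) + φ (imH C u' w)
    rw [imH_add_left, map_add]

theorem pairH_apply (φ : C.skew →+ ZMod p) (u w : κ → F) : pairH C φ u w = φ (imH C u w) := rfl

theorem exists_imH_eq {u : κ → F} (hu : u ≠ 0) (c : C.skew) : ∃ w, imH C u w = c := by
  obtain ⟨s, hs⟩ := C.exists_sub_eq c.2
  obtain ⟨w, hw⟩ := exists_herm_eq C hu (C.σ s)
  refine ⟨w, Subtype.ext ?_⟩
  rw [coe_imH, hw, ← conj_herm C w u, hw, C.invol, hs]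

theorem pairH_injective {φ : C.skew →+ ZMod p} (hφ : φ ≠ 0) :
    Function.Injective (pairH C (κ := κ) φ) := by
  rw [injective_iff_map_eq_zero]
  intro u hu
  by_contra h
  obtain ⟨c, hc⟩ : ∃ c, φ c ≠ 0 := by
    by_contra! h'
    exact hφ (AddMonoidHom.ext h')
  obtain ⟨w, hw⟩ := exists_imH_eq C h c
  exact hc (by rw [← hw, ← pairH_apply, hu]; rfl)

theorem card_vec : Nat.card (κ → F) = C.q ^ (2 * Fintype.card κ) := by
  rw [Nat.card_eq_fintype_card, Fintype.card_fun, C.card, ← pow_mul]

theorem card_annih [Fact p.Prime] [CharP F p] {φ : C.skew →+ ZMod p} (hφ : φ ≠ 0)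
    (S : AddSubgroup (κ → F)) :
    Nat.card (annih (pairH C φ) S) * Nat.card S = C.q ^ (2 * Fintype.card κ) :=
  (card_annih_mul (nsmul_char_eq_zero (F := F)) _ (pairH_injective C hφ) rfl S).trans (card_vec C)

/-- A subgroup on which the pairing vanishes is small. -/
theorem card_le_of_isotropic [Fact p.Prime] [CharP F p] {φ : C.skew →+ ZMod p} (hφ : φ ≠ 0)
    {S : AddSubgroup (κ → F)} (hS : ∀ u ∈ S, ∀ w ∈ S, φ (imH C u w) = 0) :
    Nat.card S ≤ C.q ^ Fintype.card κ := by
  have h := card_annih C hφ S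
  have hle : Nat.card S ≤ Nat.card (annih (pairH C φ) S) :=
    AddSubgroup.card_le_of_le (show S ≤ annih (pairH C φ) S from fun u hu x hx => hS u hu x hx)
  rw [mul_comm 2, pow_mul] at h
  refine Nat.pow_le_pow_iff_left two_ne_zero |>.1 ?_
  rw [← h, sq]
  exact Nat.mul_le_mul_right _ hle

theorem exists_phi_ne [Fact p.Prime] [CharP F p] {Z : AddSubgroup C.skew} (hZ : Z ≠ ⊤) :
    ∃ φ : C.skew →+ ZMod p, φ ≠ 0 ∧ ∀ c ∈ Z, φ c = 0 := by
  obtain ⟨c, hc⟩ : ∃ c, c ∉ Z := by
    by_contra! h
    exact hZ (eq_top_iff.2 fun c _ => h c)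
  obtain ⟨g, hg, hgZ⟩ := exists_addHom_ne_zero (p := p)
    (fun x : C.skew => Subtype.ext (by
      rw [AddSubgroup.coe_nsmul]; exact nsmul_char_eq_zero (F := F) _)) hc
  exact ⟨g, fun h => hg (by rw [h]; rfl), hgZ⟩

/-- The number of functionals killing a subgroup. -/
theorem card_killing_mul [Fact p.Prime] [CharP F p] (Z : AddSubgroup C.skew) :
    Nat.card {φ : C.skew →+ ZMod p // ∀ c ∈ Z, φ c = 0} * Nat.card Z = C.q := by
  have hp : ∀ x : C.skew, p • x = 0 := fun x => Subtype.ext (by
    rw [AddSubgroup.coe_nsmul]; exact nsmul_char_eq_zero (F := F) _)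
  let res : (C.skew →+ ZMod p) →+ (Z →+ ZMod p) :=
    { toFun := fun φ => φ.comp Z.subtype
      map_zero' := rfl
      map_add' := fun _ _ => rfl }
  have hsurj : Function.Surjective res := fun g => by
    obtain ⟨g', hg'⟩ := exists_extend_addHom hp Z g
    exact ⟨g', AddMonoidHom.ext hg'⟩
  have : Finite (C.skew →+ ZMod p) := Finite.of_injective _ DFunLike.coe_injective
  have e : {φ : C.skew →+ ZMod p // ∀ c ∈ Z, φ c = 0} ≃ res.ker :=
    Equiv.subtypeEquivRight fun φ =>
      ⟨fun h => AddMonoidHom.ext fun c => h c.1 c.2, fun h c hc => DFunLike.congr_fun h ⟨c, hc⟩⟩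
  have h := res.ker.index_mul_card
  rw [AddSubgroup.index_ker, AddMonoidHom.range_eq_top.2 hsurj, AddSubgroup.card_top,
    card_addHom_zmod (fun x : Z => Subtype.ext (by rw [AddSubgroup.coe_nsmul]; exact hp _)),
    card_addHom_zmod hp, C.card_skew] at h
  rw [Nat.card_congr e, mul_comm]
  exact h

theorem scale_phi_ne {φ : C.skew →+ ZMod p} (hφ : φ ≠ 0) (a : Fˣ) :
    φ.comp (scale C a).toAddMonoidHom ≠ 0 := by
  intro h
  exact hφ (AddMonoidHom.ext fun c => by
    have := DFunLike.congr_fun h ((scale C a).symm c)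
    simpa using this)

/-- Norms are transitive on the non-zero functionals. -/
theorem exists_scale_phi [Fact p.Prime] [CharP F p] {φ φ' : C.skew →+ ZMod p} (hφ : φ ≠ 0)
    (hφ' : φ' ≠ 0) : ∃ a : Fˣ, φ.comp (scale C a).toAddMonoidHom = φ' := by
  classical
  have hp : ∀ x : C.skew, p • x = 0 := fun x => Subtype.ext (by
    rw [AddSubgroup.coe_nsmul]; exact nsmul_char_eq_zero (F := F) _)
  obtain ⟨δ, hδ, hδ0⟩ := C.exists_skew_ne
  have hnorm : ∀ d : {d : C.skew // d ≠ 0}, ∃ a : Fˣ, (a : F) * C.σ a = d.1.1 / δ := by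
    intro d
    obtain ⟨a, ha⟩ := CfsgLib.Forms.exists_mul_involution_eq C.ne_id C.invol (c := d.1.1 / δ)
      (by rw [map_div₀, C.skew_eq d.1.2, C.skew_eq hδ, neg_div_neg_eq])
    have hd : d.1.1 ≠ 0 := fun h => d.2 (Subtype.ext h)
    exact ⟨Units.mk0 a (fun h => div_ne_zero hd hδ0 (by rw [← ha, h, zero_mul])), ha⟩
  choose A hA using hnorm
  have : Finite (C.skew →+ ZMod p) := Finite.of_injective _ DFunLike.coe_injective
  have : Fintype C.skew := Fintype.ofFinite _
  have : Fintype (C.skew →+ ZMod p) := Fintype.ofFinite _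
  let Φ : {d : C.skew // d ≠ 0} → {ψ : C.skew →+ ZMod p // ψ ≠ 0} :=
    fun d => ⟨_, scale_phi_ne C hφ (A d)⟩
  have hinj : Function.Injective Φ := by
    intro d d' h
    have h1 : ∀ c, φ (scale C (A d) c) = φ (scale C (A d') c) :=
      fun c => DFunLike.congr_fun (congrArg Subtype.val h) c
    apply Subtype.ext
    by_contra hdd
    apply hφ
    ext e
    have hk : d.1.1 - d'.1.1 ≠ 0 := sub_ne_zero.mpr fun h => hdd (Subtype.ext h)
    have hmem : e.1 * δ / (d.1.1 - d'.1.1) ∈ C.skew := by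
      rw [C.mem_skew, map_div₀, map_mul, map_sub, C.skew_eq d.1.2, C.skew_eq d'.1.2, C.skew_eq hδ,
        C.skew_eq e.2, show -d.1.1 - -d'.1.1 = -(d.1.1 - d'.1.1) by ring, neg_mul_neg, div_neg,
        add_neg_cancel]
    have h3 : scale C (A d) ⟨_, hmem⟩ = scale C (A d') ⟨_, hmem⟩ + e := Subtype.ext (by
      rw [AddSubgroup.coe_add, scale_apply, scale_apply, hA, hA]
      field_simp
      ring)
    have h2 := h1 ⟨_, hmem⟩
    rw [h3, map_add, add_eq_left] at h2
    simpa using h2
  have hcard : Fintype.card {d : C.skew // d ≠ 0} =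
      Fintype.card {ψ : C.skew →+ ZMod p // ψ ≠ 0} := by
    have e : Fintype.card (C.skew →+ ZMod p) = Fintype.card C.skew := by
      rw [← Nat.card_eq_fintype_card, ← Nat.card_eq_fintype_card]
      exact card_addHom_zmod hp
    rw [Fintype.card_subtype_compl, Fintype.card_subtype_compl, e]
    simp
  obtain ⟨d, hd⟩ := ((Fintype.bijective_iff_injective_and_card Φ).mpr ⟨hinj, hcard⟩).2 ⟨φ', hφ'⟩
  exact ⟨A d, congrArg Subtype.val hd⟩

end CfsgLib.MinDegree.SUSpace
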