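import Cfsg.Agent.MinDegree.SULabels

/-!
# Isotropic vectors against fixed points
-/

set_option autoImplicit false
set_option linter.unusedSectionVars false

namespace CfsgLib.MinDegree.SUSpace

open Matrix CfsgLib.RepBounds.Unit CfsgLib.SUThreeUnipotent MulAction
open scoped Classical

variable {F : Type*} [Field F] [Fintype F] {C : ConjField F} {μ : Type*} [Fintype μ] [DecidableEq μ]
  [Nonempty μ] {Ω : Type*} [MulAction (suG C (Fin 2 ⊕ (Fin 2 ⊕ μ))) Ω] [Fintype Ω] {T : ℕ}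

namespace Bounds

variable (hb : Bounds C μ T) (hd : Nat.card Ω < T)
  [IsPretransitive (suG C (Fin 2 ⊕ (Fin 2 ⊕ μ))) Ω] [Nontrivial Ω]
include hb hd

theorem card_fix : C.q ^ (2 * Fintype.card (Fin 2 ⊕ μ) + 1) +
    Nat.card {x : Ω // zSt C (κ := (Fin 2 ⊕ μ)) x = ⊤} = Nat.card Ω := by
  rw [← hb.card_moved hd (Ω := Ω), add_comm]
  exact (Nat.card_sum).symm.trans (Nat.card_congr (Equiv.sumCompl _))

theorem fix_lt : C.q ^ (2 * Fintype.card (Fin 2 ⊕ μ) + 1) +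
    Nat.card {x : Ω // zSt C (κ := (Fin 2 ⊕ μ)) x = ⊤} < T := (hb.card_fix hd).trans_lt hd

theorem fix_le : Nat.card {x : Ω // zSt C (κ := (Fin 2 ⊕ μ)) x = ⊤} ≤
    C.q ^ 2 * pts C.q (Fintype.card (Fin 2 ⊕ μ)) := by
  have h := (hb.fix_lt hd (Ω := Ω)).trans_le hb.le_pts
  rw [pts_add_two] at h
  omega

theorem fix_lt_pow : Nat.card {x : Ω // zSt C (κ := (Fin 2 ⊕ μ)) x = ⊤} <
    C.q ^ (2 * Fintype.card (Fin 2 ⊕ μ)) := by
  have h := sq_mul_pts_lt C.two_le hb.three_le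
  have h1 := hb.fix_le hd (Ω := Ω)
  omega

theorem card_tF {a : Fin 2 ⊕ (Fin 2 ⊕ μ) → F} (ha : herm C a a = 0) (ha0 : a ≠ 0) :
    Nat.card {x : Ω // TF C a x} = Nat.card {x : Ω // zSt C (κ := (Fin 2 ⊕ μ)) x = ⊤} := by
  obtain ⟨k, hk⟩ := exists_app_vE C ha ha0
  refine (Nat.card_congr (Equiv.subtypeEquiv (MulAction.toPerm k) fun x => ?_)).symm
  rw [MulAction.toPerm_apply, ← hk, tF_app, tF_vE_iff]

/-- Double counting of the incidences. -/
theorem tF_count (x : Ω) :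
    Nat.card Ω * ((classSet C (Fin 2 ⊕ (Fin 2 ⊕ μ)) 0).filter fun a => TF C a x).card =
      (classSet C (Fin 2 ⊕ (Fin 2 ⊕ μ)) 0).card *
        Nat.card {y : Ω // zSt C (κ := (Fin 2 ⊕ μ)) y = ⊤} := by
  have hconst : ∀ y : Ω, ((classSet C (Fin 2 ⊕ (Fin 2 ⊕ μ)) 0).filter fun a => TF C a y).card =
      ((classSet C (Fin 2 ⊕ (Fin 2 ⊕ μ)) 0).filter fun a => TF C a x).card := by
    intro y
    obtain ⟨k, rfl⟩ := exists_smul_eq (suG C (Fin 2 ⊕ (Fin 2 ⊕ μ))) x y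
    refine Finset.card_bij' (fun a _ => app C k⁻¹ a) (fun a _ => app C k a) ?_ ?_
      (fun a _ => app_app_inv C k a) (fun a _ => app_inv_app C k a)
    · intro a ha
      simp only [Finset.mem_filter, mem_classSet] at ha ⊢
      refine ⟨⟨fun e => ha.1.1 (by rw [← app_app_inv C k a, e, app_zero]), by rw [herm_app, ha.1.2]⟩, ?_⟩
      rw [← tF_app C k, app_app_inv]
      exact ha.2
    · intro a ha
      simp only [Finset.mem_filter, mem_classSet] at ha ⊢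
      exact ⟨⟨fun e => ha.1.1 (by rw [← app_inv_app C k a, e, app_zero]), by rw [herm_app, ha.1.2]⟩,
        tF_app_of C k ha.2⟩
  calc Nat.card Ω * ((classSet C (Fin 2 ⊕ (Fin 2 ⊕ μ)) 0).filter fun a => TF C a x).card
      = ∑ y : Ω, ((classSet C (Fin 2 ⊕ (Fin 2 ⊕ μ)) 0).filter fun a => TF C a y).card := by
        rw [Finset.sum_congr rfl (fun y _ => hconst y), Finset.sum_const, smul_eq_mul,
          Finset.card_univ, Nat.card_eq_fintype_card]
    _ = ∑ y : Ω, ∑ a ∈ classSet C (Fin 2 ⊕ (Fin 2 ⊕ μ)) 0, if TF C a y then 1 else 0 := by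
        refine Finset.sum_congr rfl fun y _ => ?_
        rw [Finset.sum_boole, Nat.cast_id]
    _ = ∑ a ∈ classSet C (Fin 2 ⊕ (Fin 2 ⊕ μ)) 0, Nat.card {y : Ω // TF C a y} := by
        rw [Finset.sum_comm]
        refine Finset.sum_congr rfl fun a _ => ?_
        rw [Finset.sum_boole, Nat.cast_id, Nat.card_eq_fintype_card, Fintype.card_subtype]
    _ = _ := by
        rw [Finset.sum_congr rfl fun a ha => ?_, Finset.sum_const, smul_eq_mul]
        rw [mem_classSet] at ha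
        exact hb.card_tF hd ha.2 ha.1

theorem card_class : (classSet C (Fin 2 ⊕ (Fin 2 ⊕ μ)) 0).card =
    (C.q ^ 2 - 1) * pts C.q (Fintype.card (Fin 2 ⊕ μ) + 2) := by
  rw [card_classSet_zero, Fintype.card_sum, Fintype.card_fin, add_comm 2]

theorem deg_dvd : Nat.card Ω ∣ (C.q ^ 2 - 1) * pts C.q (Fintype.card (Fin 2 ⊕ μ) + 2) *
    C.q ^ (2 * Fintype.card (Fin 2 ⊕ μ) + 1) := by
  obtain ⟨x, -⟩ := hb.exists_moved (Ω := Ω)
  have h := hb.tF_count hd x
  rw [hb.card_class hd (Ω := Ω)] at h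
  refine (Nat.dvd_add_left (Dvd.intro _ h)).1 ?_
  rw [← Nat.mul_add, hb.card_fix hd]
  exact Dvd.intro_left _ rfl

end Bounds

end CfsgLib.MinDegree.SUSpace
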