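import Cfsg.Agent.MinDegree.SUThreeBasic

/-!
# Three-dimensional complement: no isotropic vector in the projection
-/

set_option autoImplicit false
set_option linter.unusedSectionVars false

namespace CfsgLib.MinDegree.SUSpace

open Matrix CfsgLib.RepBounds.Unit CfsgLib.SUThreeUnipotent MulAction
open scoped Classical

variable {F : Type*} [Field F] [Fintype F] {C : ConjField F} {μ : Type*} [Fintype μ] [DecidableEq μ]
  [Nonempty μ] {Ω : Type*} [MulAction (suG C (Fin 2 ⊕ (Fin 2 ⊕ μ))) Ω] [Fintype Ω] {p : ℕ}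
  {φ : C.skew →+ ZMod p} {x : Ω} [Fact p.Prime] [CharP F p]

namespace Three

variable (h : Three C (μ := μ) φ x)
include h

theorem aniso_full_false (hno : ∀ v ∈ wSt C (κ := (Fin 2 ⊕ μ)) x, herm C v v = 0 → v = 0)
    (hK : Nat.card (wSt C (κ := (Fin 2 ⊕ μ)) x) = C.q ^ 3) : False := by
  set K := wSt C (κ := (Fin 2 ⊕ μ)) x with hKdef
  set M := (imgSt C K).index with hMdef
  have hq := C.two_le
  set T := (Finset.univ : Finset ((Fin 2 ⊕ μ) → F)).filter fun v => v ∈ K ∧ v ≠ 0 with hT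
  have hTc : T.card + 1 = C.q ^ 3 := by
    rw [← hK, Nat.card_eq_fintype_card, Fintype.card_subtype,
      show T = ((Finset.univ : Finset ((Fin 2 ⊕ μ) → F)).filter fun v => v ∈ K).erase 0 from by
        ext v; simp [hT, and_comm],
      Finset.card_erase_add_one (Finset.mem_filter.2 ⟨Finset.mem_univ _, K.zero_mem⟩)]
  have hdvd : C.q ^ 2 * (C.q ^ 3 + 1) ∣ M * T.card := by
    rw [Finset.card_eq_sum_card_fiberwise (f := fun v => herm C v v) (t := Finset.univ)
      (fun v _ => Finset.mem_coe.2 (Finset.mem_univ _)), Finset.mul_sum]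
    refine Finset.dvd_sum fun a _ => ?_
    have e : (T.filter fun v => herm C v v = a) = (classSet C (Fin 2 ⊕ μ) a).filter (· ∈ K) := by
      ext v
      simp only [hT, Finset.mem_filter, Finset.mem_univ, true_and, mem_classSet]
      tauto
    rw [e]
    rcases ((classSet C (Fin 2 ⊕ μ) a).filter (· ∈ K)).eq_empty_or_nonempty with h0 | ⟨v, hv⟩
    · rw [h0, Finset.card_empty, mul_zero]
      exact dvd_zero _
    · rw [Finset.mem_filter, mem_classSet] at hv
      obtain ⟨⟨hv0, rfl⟩, hvK⟩ := hv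
      rw [class_count C K hv0, card_classSet_of_ne C h.card_kappa (herm_self_fixed C v)
        (fun e => hv0 (hno v hvK e))]
      exact Dvd.intro _ rfl
  obtain ⟨k, hk⟩ := hdvd
  have hM1 : 1 ≤ M := Nat.one_le_iff_ne_zero.2 Subgroup.index_ne_zero_of_finite
  have hM2 : M ≤ C.q ^ 3 + C.q := h.index_le
  have h8 : C.q ^ 3 = C.q ^ 2 * C.q := pow_succ C.q 2
  obtain ⟨j, hj⟩ : ∃ j : ℕ, (j : ℤ) = M - k * C.q ^ 2 := by
    refine ⟨M - k * C.q ^ 2, ?_⟩
    rw [Nat.cast_sub ?_, Nat.cast_mul, Nat.cast_pow]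
    refine Nat.le_of_mul_le_mul_right ?_ (Nat.succ_pos (C.q ^ 3))
    calc k * C.q ^ 2 * (C.q ^ 3 + 1) = C.q ^ 2 * (C.q ^ 3 + 1) * k := by ring
      _ = M * T.card := hk.symm
      _ ≤ _ := Nat.mul_le_mul_left _ (by omega)
  have hTz : (T.card : ℤ) = (C.q : ℤ) ^ 3 - 1 := by
    rw [eq_sub_iff_add_eq]
    exact_mod_cast hTc
  have hkz : (M : ℤ) * ((C.q : ℤ) ^ 3 - 1) = (C.q : ℤ) ^ 2 * ((C.q : ℤ) ^ 3 + 1) * k := by
    rw [← hTz]
    exact_mod_cast hk
  have hj2 : (2 * M : ℤ) = ((C.q : ℤ) ^ 3 + 1) * j := by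
    rw [hj]
    linear_combination -hkz
  have hj3 : (j : ℤ) * ((C.q : ℤ) ^ 3 - 1) = 2 * k * (C.q : ℤ) ^ 2 := by
    apply mul_left_cancel₀ (show (C.q : ℤ) ^ 3 + 1 ≠ 0 by positivity)
    linear_combination ((C.q : ℤ) ^ 3 - 1) * (-hj2) + 2 * hkz
  have hjd : (C.q : ℤ) ^ 2 ∣ (j : ℤ) := ⟨j * C.q - 2 * k, by linear_combination -hj3⟩
  have hjd' : C.q ^ 2 ∣ j := by exact_mod_cast hjd
  have hj2' : 2 * M = (C.q ^ 3 + 1) * j := by exact_mod_cast hj2
  rcases Nat.eq_zero_or_pos j with h0 | h0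
  · rw [h0, mul_zero] at hj2'
    omega
  · have h4 : 4 ≤ C.q ^ 2 := Nat.pow_le_pow_left hq 2
    have h5 : (C.q ^ 3 + 1) * 4 ≤ (C.q ^ 3 + 1) * j :=
      Nat.mul_le_mul_left _ (le_trans h4 (Nat.le_of_dvd h0 hjd'))
    have h6 : C.q ≤ C.q ^ 3 := Nat.le_self_pow (by norm_num) _
    omega

omit h in
/-- Two transvections differ by a transvection. -/
theorem transv_div {κ : Type*} [Fintype κ] [DecidableEq κ] {g g' : suG C κ} {s : κ → F} {c c' : F}
    (hs : herm C s s = 0) (hg : ∀ z, app C g z = z + (c * herm C z s) • s)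
    (hg' : ∀ z, app C g' z = z + (c' * herm C z s) • s) (z : κ → F) :
    app C (g⁻¹ * g') z = z + ((c' - c) * herm C z s) • s := by
  rw [app_mul]
  refine app_inv_eq C ?_
  rw [hg, hg', herm_add_left, herm_smul_left, hs, mul_zero, add_zero]
  module

theorem aniso_small_false (hno : ∀ v ∈ wSt C (κ := (Fin 2 ⊕ μ)) x, herm C v v = 0 → v = 0)
    (hK : Nat.card (wSt C (κ := (Fin 2 ⊕ μ)) x) < C.q ^ 3) : False := by
  set K := wSt C (κ := (Fin 2 ⊕ μ)) x with hKdef
  set M := (imgSt C K).index with hMdef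
  have hq := C.two_le
  obtain ⟨v, hv, hv0⟩ := K.bot_or_exists_ne_zero.resolve_left h.ne_bot
  set a := herm C v v with ha
  have ha0 : a ≠ 0 := fun e => hv0 (hno v hv e)
  have hc := class_count C K hv0
  rw [card_classSet_of_ne C h.card_kappa (herm_self_fixed C v) ha0, ← hMdef] at hc
  have hn := card_filter_succ_le K (A := classSet C (Fin 2 ⊕ μ) (herm C v v))
    (fun h0 => (mem_classSet C).1 h0 |>.1 rfl)
  have hc_lt : Nat.card (covers C K v) < C.q := by
    by_contra! hge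
    have h1 : C.q ^ 2 * (C.q ^ 3 + 1) * C.q * 4 ≤ (C.q ^ 3 + C.q) * C.q ^ 3 :=
      calc _ ≤ C.q ^ 2 * (C.q ^ 3 + 1) * Nat.card (covers C K v) * 4 :=
            Nat.mul_le_mul_right _ (Nat.mul_le_mul_left _ hge)
        _ = 2 * M * (2 * ((classSet C (Fin 2 ⊕ μ) a).filter (· ∈ K)).card) := by rw [← hc]; ring
        _ ≤ _ := Nat.mul_le_mul (h.two_index_le hK)
            (le_trans (Nat.mul_le_mul_left 2 (le_trans (Nat.le_succ _) hn))
              (two_mul_card_le C h.card_mu hK))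
    have h6 : C.q ≤ C.q ^ 3 := Nat.le_self_pow (by norm_num) _
    have h3 : 1 ≤ C.q ^ 3 := Nat.one_le_pow _ _ (by omega)
    nlinarith
  have hperp : ∀ s : (Fin 2 ⊕ μ) → F, herm C s s = 0 → herm C v s = 0 →
      ∀ z ∈ K, herm C z s = 0 := by
    intro s hs hvs z hz
    choose t _ ht using fun c : C.skew => exists_transv C hs c.2
    let f : C.skew → covers C K v := fun c => ⟨QuotientGroup.mk (t c), (mk_mem_covers C).2 (by
      rwa [app_inv_eq C (g := t c) (x := v) (y := v)
        (by rw [ht, hvs, mul_zero, zero_smul, add_zero])])⟩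
    obtain ⟨c, c', hne, heq⟩ : ∃ c c', c ≠ c' ∧ f c = f c' := by
      by_contra! hinj
      have := Nat.card_le_card_of_injective f fun c c' e => by
        by_contra hne
        exact hinj c c' hne e
      rw [C.card_skew] at this
      omega
    have hmem := QuotientGroup.eq.1 (congrArg Subtype.val heq)
    have hu := sub_mem_of_mem_imgSt C hmem hz
    rw [transv_div hs (ht c) (ht c'), add_sub_cancel_left] at hu
    have h0 := hno _ hu (by rw [herm_smul_left, herm_smul_right, hs, mul_zero, mul_zero])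
    by_contra hzs
    have hs0 : s ≠ 0 := fun e => hzs (by rw [e, herm_zero_right])
    exact smul_ne_zero (mul_ne_zero (sub_ne_zero.2 fun e => hne (Subtype.ext e.symm)) hzs) hs0 h0
  refine h.small_false (card_le_of_line C (v := v) fun z hz => ?_)
  obtain ⟨i⟩ := ‹Nonempty μ›
  have : Subsingleton μ := (Fintype.card_le_one_iff_subsingleton).1 h.card_mu.le
  obtain ⟨r, hr⟩ := CfsgLib.Forms.exists_mul_involution_eq C.ne_id C.invol (c := a)
    (herm_self_fixed C v)
  have hw : herm C (Pi.single i r : μ → F) (Pi.single i r) = a := by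
    rw [← hr, herm, Fintype.sum_subsingleton _ i]
    simp
  have hr0 : r ≠ 0 := fun e => ha0 (by rw [← hr, e, zero_mul])
  obtain ⟨g, hg⟩ := exists_map_of_norm C hv0
    (v := inW (Pi.single i r)) (fun e => hr0 (by simpa [inW] using congrFun e (Sum.inr i)))
    (by rw [herm_inW, hw])
  have h1 : ∀ s, herm C s s = 0 → herm C (inW (Pi.single i r)) s = 0 →
      herm C (app C g z) s = 0 := fun s hs hvs => by
    rw [← app_app_inv C g s, herm_app]
    refine hperp _ (by rw [herm_app, hs]) ?_ z hz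
    rw [← herm_app C g, app_app_inv, hg, hvs]
  have hd := decomp C (app C g z)
  rw [h1 _ (herm_vE_vE C) (herm_inW_vE C _), h1 _ (herm_vF_vF C) (herm_inW_vF C _), zero_smul,
    zero_smul, zero_add, zero_add] at hd
  refine ⟨(app C g z ∘ Sum.inr) i / r, ?_⟩
  conv_lhs => rw [← app_inv_app C g z, hd]
  conv_rhs => arg 2; rw [← app_inv_app C g v, hg]
  rw [← app_smul, ← inW_smul]
  congr 2
  funext j
  obtain rfl : j = i := Subsingleton.elim _ _
  simp [hr0, inW]

end Three

end CfsgLib.MinDegree.SUSpace
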