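import Cfsg.Agent.MinDegree.SUThreeAniso
import Cfsg.Agent.MinDegree.SUElliptic

/-!
# Three-dimensional complement: an isotropic vector in the projection
-/

set_option autoImplicit false
set_option linter.unusedSectionVars false

namespace CfsgLib.MinDegree.SUSpace

open Matrix CfsgLib.RepBounds.Unit CfsgLib.SUThreeUnipotent MulAction
open scoped Classical

variable {F : Type*} [Field F] [Fintype F] {C : ConjField F} {μ : Type*} [Fintype μ] [DecidableEq μ]
  [Nonempty μ] {Ω : Type*} [MulAction (suG C (Fin 2 ⊕ (Fin 2 ⊕ μ))) Ω] [Fintype Ω] {p : ℕ}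
  {φ : C.skew →+ ZMod p} {x : Ω} [Fact p.Prime] [CharP F p]

namespace Three

variable (h : Three C (μ := μ) φ x)
include h

theorem iso_count {v : Fin 2 ⊕ μ → F} (hv0 : v ≠ 0) (hvv : herm C v v = 0) :
    (imgSt C (wSt C (κ := (Fin 2 ⊕ μ)) x)).index *
        ((classSet C (Fin 2 ⊕ μ) 0).filter (· ∈ wSt C (κ := (Fin 2 ⊕ μ)) x)).card =
      (C.q ^ 2 - 1) * (C.q ^ 3 + 1) * Nat.card (covers C (wSt C (κ := (Fin 2 ⊕ μ)) x) v) := by
  have hc := class_count C (wSt C (κ := (Fin 2 ⊕ μ)) x) hv0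
  rwa [hvv, card_classSet_zero, h.card_kappa, pts_three] at hc

theorem covers_le {v : Fin 2 ⊕ μ → F} (hv0 : v ≠ 0) (hvv : herm C v v = 0) :
    Nat.card (covers C (wSt C (κ := (Fin 2 ⊕ μ)) x) v) ≤ C.q := by
  have hq := C.two_le
  have hn := card_filter_succ_le (wSt C (κ := (Fin 2 ⊕ μ)) x) (A := classSet C (Fin 2 ⊕ μ) 0)
    (fun h0 => (mem_classSet C).1 h0 |>.1 rfl)
  have h1 := h.card_le
  by_contra! hlt
  have h2 : (C.q ^ 2 - 1) * (C.q ^ 3 + 1) * (C.q + 1) ≤ (C.q ^ 3 + C.q) * (C.q ^ 3 - 1) :=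
    (Nat.mul_le_mul_left _ hlt).trans ((h.iso_count hv0 hvv).symm.le.trans
      (Nat.mul_le_mul h.index_le (by omega)))
  zify [Nat.one_le_pow 2 C.q (by omega), Nat.one_le_pow 3 C.q (by omega)] at h2
  have h3 : (2 : ℤ) ≤ C.q := by exact_mod_cast hq
  nlinarith [mul_nonneg (pow_nonneg (by linarith : (0 : ℤ) ≤ C.q) 3) (sq_nonneg ((C.q : ℤ) - 1))]

theorem perp_vE (hee : vE C μ ∈ wSt C (κ := (Fin 2 ⊕ μ)) x) :
    ∀ z ∈ wSt C (κ := (Fin 2 ⊕ μ)) x, herm C z (vE C μ) = 0 := by
  set K := wSt C (κ := (Fin 2 ⊕ μ)) x with hKdef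
  have hcov := h.covers_le (vE_ne_zero C (κ := μ)) (herm_vE_vE C)
  have hiso : ∀ u ∈ K, ∀ w ∈ K, φ (imH C u w) = 0 := h.iso
  have hq := C.two_le
  set x1 : suG C (Fin 2 ⊕ μ) ⧸ imgSt C K := QuotientGroup.mk 1
  have hst : ∀ g : suG C (Fin 2 ⊕ μ), g • x1 = x1 → g ∈ imgSt C K := by
    intro g hg
    rw [MulAction.Quotient.smul_mk, smul_eq_mul, mul_one] at hg
    simpa using QuotientGroup.eq.1 hg
  have horb : Nat.card (orbit (heis C μ) x1) ≤ C.q := by
    have hsub : orbit (heis C μ) x1 ⊆ covers C K (vE C μ) := by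
      rintro _ ⟨⟨g, w, c, hc, rfl⟩, rfl⟩
      show (uniEl C w c hc) • x1 ∈ _
      rw [MulAction.Quotient.smul_mk, smul_eq_mul, mul_one, mk_mem_covers,
        app_inv_eq C (g := uniEl C w c hc) (app_uniEl_vE C w c hc)]
      exact hee
    exact (Nat.card_le_card_of_injective (Set.inclusion hsub) (Set.inclusion_injective hsub)).trans
      hcov
  have hprod : C.q ^ 2 ≤ Nat.card (wSt C (κ := μ) x1) * Nat.card (zSt C (κ := μ) x1) := by
    refine Nat.le_of_mul_le_mul_left ?_ (show 0 < C.q by omega)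
    have h1 := card_orbit_mul C (κ := μ) x1
    rw [h.card_mu] at h1
    rw [show C.q * C.q ^ 2 = C.q ^ (2 * 1 + 1) by ring, ← h1]
    exact Nat.mul_le_mul_right _ horb
  have hZ : zSt C (κ := μ) x1 = ⊤ := by
    by_contra hne
    obtain ⟨ψ, hψ, hkill⟩ := exists_phi_ne C (p := p) hne
    have hB := card_le_of_isotropic C hψ (wSt_isotropic C (x := x1) hkill)
    rw [h.card_mu, pow_one] at hB
    have hlt : Nat.card (zSt C (κ := μ) x1) < C.q := by
      rw [← C.card_skew]
      refine lt_of_le_of_ne (AddSubgroup.card_le_card_addGroup _) fun e => hne ?_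
      exact AddSubgroup.eq_top_of_card_eq _ e
    have h2 := Nat.mul_le_mul_right (Nat.card (zSt C (κ := μ) x1)) hB
    nlinarith
  have hBq : C.q ≤ Nat.card (wSt C (κ := μ) x1) := by
    rw [hZ, AddSubgroup.card_top, C.card_skew, sq] at hprod
    exact Nat.le_of_mul_le_mul_right hprod (by omega)
  intro z hz
  by_contra hγ
  set γ := herm C z (vE C μ) with hγdef
  have hzA : ∀ c : C.skew, ((c : F) * γ) • vE C μ ∈ K := by
    intro c
    have hc : c ∈ zSt C (κ := μ) x1 := hZ ▸ AddSubgroup.mem_top c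
    have h1 := sub_mem_of_mem_imgSt C (hst _ hc) hz
    rw [zA_apply, app_uniEl, inW_zero, herm_zero_right, zero_smul, sub_zero, zero_add, smul_smul,
      add_sub_cancel_left, mul_comm] at h1
    exact h1
  by_cases h2 : (2 : F) = 0
  · have hp2 : p = 2 := by
      have h3 : (p : ℕ) ∣ 2 := (CharP.cast_eq_zero_iff F p 2).1 (by exact_mod_cast h2)
      exact (Nat.prime_dvd_prime_iff_eq Fact.out Nat.prime_two).1 h3
    subst hp2
    refine elliptic_false C h.card_mu (scale_phi_ne C h.phi_ne (Units.mk0 γ hγ)) hBq h2 fun b hb => ?_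
    obtain ⟨c, hc, hfix⟩ := hb
    have h1 := sub_mem_of_mem_imgSt C (hst _ hfix) hz
    rw [app_uniEl, add_sub_assoc, add_sub_cancel_left] at h1
    have h4 := hiso _ hz _ h1
    rw [AddMonoidHom.comp_apply]
    refine Eq.trans (congrArg φ (Subtype.ext ?_)) h4
    show ((scale C (Units.mk0 γ hγ) (nB C h2 b) : C.skew) : F) = _
    rw [scale_apply, coe_imH, Units.val_mk0]
    show γ * C.σ γ * herm C b b = _
    simp only [herm_add_left, herm_add_right, herm_sub_left, herm_sub_right, herm_smul_left, herm_smul_right, ← hγdef,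
      ← conj_herm C z (inW b), ← conj_herm C z (vE C μ), map_sub, map_mul]
    linear_combination (γ * C.σ γ) * hc + (γ * C.σ (herm C z (inW b)) - C.σ γ * herm C z (inW b) -
      γ * C.σ γ * C.σ c) * h2
  · refine h.phi_ne (AddMonoidHom.ext fun d => ?_)
    have hden : (2 : F) * (γ * C.σ γ) ≠ 0 := mul_ne_zero h2 (mul_ne_zero hγ ((map_ne_zero C.σ).2 hγ))
    have hc : -d.1 / (2 * (γ * C.σ γ)) ∈ C.skew := by
      rw [C.mem_skew, map_div₀, map_neg, map_mul, map_mul, C.invol, map_ofNat, C.skew_eq d.2,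
        mul_comm (C.σ γ) γ]
      ring
    have h4 := hiso _ hz _ (hzA ⟨_, hc⟩)
    rwa [show imH C z ((-d.1 / (2 * (γ * C.σ γ)) * γ) • vE C μ) = d from Subtype.ext (by
      rw [coe_imH, herm_smul_left, herm_smul_right, ← conj_herm C z (vE C μ), ← hγdef, map_mul,
        C.skew_eq hc]
      have hγσ : C.σ γ ≠ 0 := (map_ne_zero C.σ).2 hγ
      field_simp
      ring)] at h4

theorem perp {v : Fin 2 ⊕ μ → F} (hv : v ∈ wSt C (κ := (Fin 2 ⊕ μ)) x) (hv0 : v ≠ 0)
    (hvv : herm C v v = 0) : ∀ z ∈ wSt C (κ := (Fin 2 ⊕ μ)) x, herm C z v = 0 := by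
  intro z hz
  obtain ⟨g, hg⟩ := exists_map_of_norm C hv0 (vE_ne_zero C (κ := μ)) (by rw [hvv, herm_vE_vE])
  have h1 := (h.move g).perp_vE (hg ▸ (mem_wSt_blockHom C g x v).2 hv) _
    ((mem_wSt_blockHom C g x z).2 hz)
  rwa [← hg, herm_app] at h1

theorem line {v : Fin 2 ⊕ μ → F} (hv : v ∈ wSt C (κ := (Fin 2 ⊕ μ)) x) (hv0 : v ≠ 0)
    (hvv : herm C v v = 0) : ∀ w ∈ wSt C (κ := (Fin 2 ⊕ μ)) x, herm C w w = 0 → ∃ r : F, w = r • v := by
  have : Subsingleton μ := (Fintype.card_le_one_iff_subsingleton).1 h.card_mu.le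
  exact fun w hw hww => eq_smul_of_perp_three C hvv hv0 hww (h.perp hv hv0 hvv w hw)

theorem iso_small_false {v : Fin 2 ⊕ μ → F} (hv : v ∈ wSt C (κ := (Fin 2 ⊕ μ)) x) (hv0 : v ≠ 0)
    (hvv : herm C v v = 0) (hK : Nat.card (wSt C (κ := (Fin 2 ⊕ μ)) x) < C.q ^ 3) : False := by
  have hq := C.two_le
  set K := wSt C (κ := (Fin 2 ⊕ μ)) x
  have hn : ((classSet C (Fin 2 ⊕ μ) 0).filter (· ∈ K)).card ≤ C.q ^ 2 - 1 := by
    refine le_trans (Finset.card_le_card (t := ((Finset.univ : Finset F).erase 0).image (· • v))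
      fun w hw => ?_) (Finset.card_image_le.trans ?_)
    · rw [Finset.mem_filter, mem_classSet] at hw
      obtain ⟨r, hr⟩ := h.line hv hv0 hvv w hw.2 hw.1.2
      exact Finset.mem_image.2 ⟨r, Finset.mem_erase.2
        ⟨fun e => hw.1.1 (by rw [hr, e, zero_smul]), Finset.mem_univ _⟩, hr.symm⟩
    · rw [Finset.card_erase_of_mem (Finset.mem_univ _), Finset.card_univ, C.card]
  have hcp := covers_pos C hv
  have h1 : (C.q ^ 2 - 1) * (C.q ^ 3 + 1) ≤ (imgSt C K).index * (C.q ^ 2 - 1) :=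
    (Nat.le_mul_of_pos_right _ hcp).trans ((h.iso_count hv0 hvv).symm.le.trans
      (Nat.mul_le_mul_left _ hn))
  rw [mul_comm (imgSt C K).index] at h1
  have h4 : 4 ≤ C.q ^ 2 := Nat.pow_le_pow_left hq 2
  have h2 := Nat.le_of_mul_le_mul_left h1 (by omega)
  have h6 : C.q ≤ C.q ^ 3 := Nat.le_self_pow (by norm_num) _
  have h7 := h.two_index_le hK
  change 2 * (imgSt C K).index ≤ _ at h7
  omega

theorem smul_mem_full {v : Fin 2 ⊕ μ → F} (hv : v ∈ wSt C (κ := (Fin 2 ⊕ μ)) x) (hv0 : v ≠ 0)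
    (hvv : herm C v v = 0) (hK : Nat.card (wSt C (κ := (Fin 2 ⊕ μ)) x) = C.q ^ 3) (r : F) :
    r • v ∈ wSt C (κ := (Fin 2 ⊕ μ)) x := by
  set K := wSt C (κ := (Fin 2 ⊕ μ)) x
  let L : AddSubgroup (Fin 2 ⊕ μ → F) := ((LinearMap.toSpanSingleton F _ v).toAddMonoidHom).range
  have hperp := h.perp hv hv0 hvv
  have hiso : ∀ u ∈ K ⊔ L, ∀ w ∈ K ⊔ L, φ (imH C u w) = 0 := by
    intro u hu w hw
    obtain ⟨a, ha, _, ⟨s, rfl⟩, rfl⟩ := AddSubgroup.mem_sup.1 hu
    obtain ⟨b, hb, _, ⟨t, rfl⟩, rfl⟩ := AddSubgroup.mem_sup.1 hw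
    have e : imH C (a + s • v) (b + t • v) = imH C a b := Subtype.ext (by
      simp only [coe_imH, herm_add_left, herm_add_right, herm_smul_left, herm_smul_right, hvv,
        hperp a ha, hperp b hb, herm_comm_zero C (hperp a ha), herm_comm_zero C (hperp b hb),
        mul_zero, add_zero])
    show φ (imH C (a + s • v) (b + t • v)) = 0
    rw [e]
    exact h.iso a ha b hb
  have hle := card_le_of_isotropic C h.phi_ne hiso
  rw [h.card_kappa, ← hK] at hle
  have heq : K = K ⊔ L := SetLike.coe_injective (Set.eq_of_subset_of_ncard_le (show (K : Set (Fin 2 ⊕ μ → F)) ⊆ (K ⊔ L : AddSubgroup _) from SetLike.coe_subset_coe.2 le_sup_left)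
    (by rwa [← Nat.card_coe_set_eq, ← Nat.card_coe_set_eq]) (Set.toFinite _))
  rw [heq]
  exact AddSubgroup.mem_sup_right ⟨r, rfl⟩

theorem iso_full_false {v : Fin 2 ⊕ μ → F} (hv : v ∈ wSt C (κ := (Fin 2 ⊕ μ)) x) (hv0 : v ≠ 0)
    (hvv : herm C v v = 0) (hK : Nat.card (wSt C (κ := (Fin 2 ⊕ μ)) x) = C.q ^ 3) : False := by
  have hq := C.two_le
  obtain ⟨g, hg⟩ := exists_map_of_norm C hv0 (vE_ne_zero C (κ := μ)) (by rw [hvv, herm_vE_vE])
  set y := blockHom C (Fin 2 ⊕ μ) g • x with hy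
  have h' := h.move g
  set K := wSt C (κ := (Fin 2 ⊕ μ)) y
  have hee : vE C μ ∈ K := hg ▸ (mem_wSt_blockHom C g x v).2 hv
  have hK' : Nat.card K = C.q ^ 3 := (card_wSt_move C g x).trans hK
  have he0 := vE_ne_zero C (κ := μ)
  have hsm := h'.smul_mem_full hee he0 (herm_vE_vE C) hK'
  have hn : ((classSet C (Fin 2 ⊕ μ) 0).filter (· ∈ K)).card = C.q ^ 2 - 1 := by
    have e : (classSet C (Fin 2 ⊕ μ) 0).filter (· ∈ K) =
        ((Finset.univ : Finset F).erase 0).image (· • vE C μ) := by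
      ext w
      simp only [Finset.mem_filter, mem_classSet, Finset.mem_image, Finset.mem_erase,
        Finset.mem_univ, and_true]
      constructor
      · rintro ⟨⟨hw0, hww⟩, hw⟩
        obtain ⟨r, hr⟩ := h'.line hee he0 (herm_vE_vE C) w hw hww
        exact ⟨r, fun e => hw0 (by rw [hr, e, zero_smul]), hr.symm⟩
      · rintro ⟨r, hr, rfl⟩
        exact ⟨⟨smul_ne_zero hr he0, herm_smul_vE C r⟩, hsm r⟩
    rw [e, Finset.card_image_of_injective _ (fun a b e => smul_left_injective F he0 e),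
      Finset.card_erase_of_mem (Finset.mem_univ _), Finset.card_univ, C.card]
  have h1 := h'.iso_count he0 (herm_vE_vE C)
  rw [hn, mul_comm _ (C.q ^ 2 - 1), mul_assoc] at h1
  have h4 : 4 ≤ C.q ^ 2 := Nat.pow_le_pow_left hq 2
  have h2 := Nat.eq_of_mul_eq_mul_left (show 0 < C.q ^ 2 - 1 by omega) h1
  have h7 := h'.index_le
  have hone : Nat.card (covers C K (vE C μ)) = 1 := by
    refine le_antisymm ?_ (covers_pos C hee)
    by_contra! hlt
    have h8 : (C.q ^ 3 + 1) * 2 ≤ (imgSt C K).index := by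
      rw [h2]; exact Nat.mul_le_mul_left _ hlt
    have h6 : C.q ≤ C.q ^ 3 := Nat.le_self_pow (by norm_num) _
    change (imgSt C K).index ≤ _ at h7
    omega
  obtain ⟨i⟩ := ‹Nonempty μ›
  have : Subsingleton μ := (Fintype.card_le_one_iff_subsingleton).1 h.card_mu.le
  have htor : ∀ a : Fˣ, torEl C i a ∈ imgSt C K := by
    intro a
    have hmem : (QuotientGroup.mk (torEl C i a) : _ ⧸ imgSt C K) ∈ covers C K (vE C μ) := by
      rw [mk_mem_covers, app_inv_eq C (g := torEl C i a) (x := (↑a⁻¹ : F) • vE C μ)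
        (by rw [app_smul, app_torEl_vE, smul_smul, Units.inv_mul, one_smul])]
      exact hsm _
    have hsub : Subsingleton (covers C K (vE C μ)) := (Nat.card_eq_one_iff_unique.1 hone).1
    have h1mem : (QuotientGroup.mk 1 : _ ⧸ imgSt C K) ∈ covers C K (vE C μ) := by
      rw [mk_mem_covers, inv_one, app_one]; exact hee
    have e := congrArg Subtype.val (Subsingleton.elim (⟨_, h1mem⟩ : covers C K (vE C μ)) ⟨_, hmem⟩)
    simpa using QuotientGroup.eq.1 e
  let A : AddSubgroup (μ → F) :=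
    { carrier := {t | inW t ∈ K}
      zero_mem' := by rw [Set.mem_setOf_eq, inW_zero]; exact K.zero_mem
      add_mem' := fun {a b} ha hb => by rw [Set.mem_setOf_eq, inW_add]; exact add_mem ha hb
      neg_mem' := fun {a} ha => by
        rw [Set.mem_setOf_eq, show (inW (-a) : Fin 2 ⊕ μ → F) = -inW a from by
          funext j; rcases j with j | j <;> simp [inW]]
        exact neg_mem ha }
  have hA : Nat.card A = C.q := by
    have hz : ∀ z : K, inW (z.1 ∘ Sum.inr) ∈ K ∧ z.1 = herm C z.1 (vF C μ) • vE C μ + inW (z.1 ∘ Sum.inr) := by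
      intro z
      have hd := decomp C z.1
      rw [h'.perp_vE hee z.1 z.2, zero_smul, add_zero] at hd
      refine ⟨?_, hd⟩
      have := sub_mem z.2 (hsm (herm C z.1 (vF C μ)))
      rwa [show z.1 - herm C z.1 (vF C μ) • vE C μ = inW (z.1 ∘ Sum.inr) from by
        rw [sub_eq_iff_eq_add']; exact hd] at this
    let f : K → F × A := fun z => (herm C z.1 (vF C μ), ⟨z.1 ∘ Sum.inr, (hz z).1⟩)
    have hf : Function.Bijective f := by
      constructor
      · intro z z' e
        simp only [f, Prod.mk.injEq, Subtype.mk.injEq] at e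
        exact Subtype.ext (by rw [(hz z).2, (hz z').2, e.1, e.2])
      · rintro ⟨β, t, ht⟩
        refine ⟨⟨β • vE C μ + inW t, add_mem (hsm β) ht⟩, ?_⟩
        simp only [f, Prod.mk.injEq, Subtype.mk.injEq]
        refine ⟨?_, ?_⟩
        · rw [herm_add_left, herm_smul_left, herm_vE_vF, herm_inW_vF, mul_one, add_zero]
        · funext j; simp [inW, vE]
    have hc := Nat.card_congr (Equiv.ofBijective f hf)
    rw [hK', Nat.card_prod, Nat.card_eq_fintype_card (α := F), C.card] at hc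
    exact (Nat.eq_of_mul_eq_mul_left (show 0 < C.q ^ 2 by omega) ((pow_succ C.q 2).symm.trans hc)).symm
  obtain ⟨t0, ht0, ht00⟩ : ∃ t ∈ A, t ≠ 0 := by
    refine A.bot_or_exists_ne_zero.resolve_left fun e => ?_
    rw [e, AddSubgroup.card_bot] at hA
    omega
  have hmaps : ∀ a : Fˣ, (C.σ (a : F) / a) • t0 ∈ A := by
    intro a
    have h3 := ((mem_imgSt C).1 (htor a) _).2 ht0
    rw [app_torEl_inW] at h3
    rwa [show tW C i a t0 = (C.σ (a : F) / a) • t0 from by
      funext j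
      obtain rfl : j = i := Subsingleton.elim _ _
      simp [tW]; ring] at h3
  have hfib : ∀ w ∈ (Finset.univ : Finset Fˣ).image (fun a : Fˣ => (C.σ (a : F) / a) • t0),
      ((Finset.univ : Finset Fˣ).filter fun a : Fˣ => (C.σ (a : F) / a) • t0 = w).card ≤ C.q - 1 := by
    intro w hw
    obtain ⟨a0, -, rfl⟩ := Finset.mem_image.1 hw
    obtain ⟨δ, hδ, hδ0⟩ := C.exists_skew_ne
    let f : Fˣ → F := fun b => ((b : F) / a0) * δ
    have hsk : ∀ b ∈ (Finset.univ : Finset Fˣ).filter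
        (fun b : Fˣ => (C.σ (b : F) / b) • t0 = (C.σ (a0 : F) / a0) • t0), f b ∈ C.skew := by
      intro b hb
      have e := smul_left_injective F ht00 (Finset.mem_filter.1 hb).2
      rw [div_eq_div_iff b.ne_zero a0.ne_zero] at e
      rw [C.mem_skew]
      simp only [f, map_mul, map_div₀, C.skew_eq hδ]
      have : C.σ (a0 : F) ≠ 0 := (map_ne_zero C.σ).2 a0.ne_zero
      field_simp
      linear_combination (-δ) * e
    have hS : ((Finset.univ : Finset F).filter fun y => y ∈ C.skew ∧ y ≠ 0).card = C.q - 1 := by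
      rw [show ((Finset.univ : Finset F).filter fun y => y ∈ C.skew ∧ y ≠ 0) =
        ((Finset.univ : Finset F).filter fun y => y ∈ C.skew).erase 0 from by ext y; simp [and_comm],
        Finset.card_erase_of_mem (Finset.mem_filter.2 ⟨Finset.mem_univ _, C.skew.zero_mem⟩),
        ← C.card_skew, Nat.card_eq_fintype_card, Fintype.card_subtype]
    rw [← hS]
    refine Finset.card_le_card_of_injOn f (fun b hb => Finset.mem_filter.2
      ⟨Finset.mem_univ _, hsk b hb, mul_ne_zero (div_ne_zero b.ne_zero a0.ne_zero) hδ0⟩) ?_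
    intro b _ b' _ e
    simp only [f, mul_eq_mul_right_iff, hδ0, or_false, div_left_inj' a0.ne_zero] at e
    exact Units.ext e
  have hcount := Finset.card_le_mul_card_image (Finset.univ : Finset Fˣ) _ hfib
  rw [Finset.card_univ, Fintype.card_units, C.card] at hcount
  have him : ((Finset.univ : Finset Fˣ).image fun a : Fˣ => (C.σ (a : F) / a) • t0).card + 1 ≤
      C.q := by
    rw [← hA]
    refine le_trans (le_of_eq ?_) (card_filter_succ_le A
      (A := (Finset.univ : Finset Fˣ).image fun a : Fˣ => (C.σ (a : F) / a) • t0) ?_)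
    · rw [Finset.filter_true_of_mem]
      intro w hw
      obtain ⟨a, -, rfl⟩ := Finset.mem_image.1 hw
      exact hmaps a
    · intro h0
      obtain ⟨a, -, e⟩ := Finset.mem_image.1 h0
      exact smul_ne_zero (div_ne_zero ((map_ne_zero C.σ).2 a.ne_zero) a.ne_zero) ht00 e
  have h9 : C.q ^ 2 - 1 ≤ (C.q - 1) * (C.q - 1) :=
    hcount.trans (Nat.mul_le_mul_left _ (by omega))
  obtain ⟨e, he⟩ : ∃ e, C.q = e + 2 := ⟨C.q - 2, by omega⟩
  rw [he, show e + 2 - 1 = e + 1 from rfl] at h9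
  have h10 : (e + 2) ^ 2 = e * e + 4 * e + 4 := by ring
  have h11 : (e + 1) * (e + 1) = e * e + 2 * e + 1 := by ring
  omega

/-- The projection of the stabiliser is trivial in dimension three. -/
theorem false : False := by
  by_cases hno : ∀ v ∈ wSt C (κ := (Fin 2 ⊕ μ)) x, herm C v v = 0 → v = 0
  · rcases h.card_le.lt_or_eq with hK | hK
    · exact h.aniso_small_false hno hK
    · exact h.aniso_full_false hno hK
  · push Not at hno
    obtain ⟨v, hv, hvv, hv0⟩ := hno
    rcases h.card_le.lt_or_eq with hK | hK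
    · exact h.iso_small_false hv hv0 hvv hK
    · exact h.iso_full_false hv hv0 hvv hK

end Three

end CfsgLib.MinDegree.SUSpace
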