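import Cfsg.Agent.MinDegree.Transvection

/-!
# A proper subgroup of `SL` containing a whole group `tv e *` has index at least the number of points
-/

set_option autoImplicit false

namespace CfsgLib.MinDegree

open Matrix Module
open scoped MatrixGroups LinearAlgebra.Projectivization

/-- The number of points of the projective space of dimension `n - 1` over a field of order `q`. -/
def numPoints (q n : ℕ) : ℕ := ∑ i ∈ Finset.range n, q ^ i

theorem numPoints_succ (q n : ℕ) : numPoints q (n + 1) = numPoints q n + q ^ n :=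
  Finset.sum_range_succ _ _

theorem numPoints_lt {q : ℕ} (hq : 2 ≤ q) (n : ℕ) : numPoints q n < q ^ n := by
  induction n with
  | zero => simp [numPoints]
  | succ n ih =>
    rw [numPoints_succ, pow_succ]
    have : q ^ n * 2 ≤ q ^ n * q := Nat.mul_le_mul le_rfl hq
    omega

theorem numPoints_eq_div {q : ℕ} (hq : 2 ≤ q) (n : ℕ) :
    (q ^ n - 1) / (q - 1) = numPoints q n :=
  (Nat.geomSum_eq hq n).symm

variable {ι : Type*} [Fintype ι] [DecidableEq ι] {F : Type*} [Field F]

/-- A unipotent element `1 + A` with `A² = 0`. -/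
noncomputable def onePlus [Finite F] (A : Matrix ι ι F) (hA : A * A = 0) :
    Matrix.SpecialLinearGroup ι F :=
  ⟨1 + A, by
    obtain ⟨p, hp⟩ := CharP.exists F
    have hpp : p.Prime := CharP.char_is_prime F p
    have := Fact.mk hpp
    have hpow : ∀ k : ℕ, (1 + A) ^ k = 1 + (k : F) • A := by
      intro k
      induction k with
      | zero => simp
      | succ k ih =>
        rw [pow_succ, ih, add_mul, one_mul, smul_mul, mul_add, mul_one, hA, add_zero,
          Nat.cast_succ, add_smul, one_smul]
        abel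
    have h1 := congrArg Matrix.det (hpow p)
    rw [CharP.cast_eq_zero, zero_smul, add_zero, det_one, det_pow] at h1
    have h2 : ((1 + A).det - 1) ^ p = 0 := by rw [sub_pow_char, h1, one_pow, sub_self]
    exact sub_eq_zero.1 (eq_zero_of_pow_eq_zero h2)⟩

variable [Fintype F]

theorem two_le_card : 2 ≤ Fintype.card F := Fintype.one_lt_card

theorem card_projectivization (n : ℕ) (hn : Fintype.card ι = n) :
    Nat.card (ℙ F (ι → F)) = numPoints (Fintype.card F) n := by
  rw [numPoints, Projectivization.card_of_finrank F (ι → F) (by rw [finrank_pi, hn]),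
    Nat.card_eq_fintype_card]

/-- A proper subgroup containing all transvections with centre `e` has index at least the number
of points of the projective space. -/
theorem numPoints_le_index (hn : 2 ≤ Fintype.card ι)
    {M : Subgroup (Matrix.SpecialLinearGroup ι F)} (hM : M ≠ ⊤) {e : ι → F} (he : e ≠ 0)
    (h : ∀ φ : ι → F, φ ⬝ᵥ e = 0 → tv e φ ∈ M) :
    numPoints (Fintype.card F) (Fintype.card ι) ≤ M.index := by
  classical
  let U : Submodule F (ι → F) :=
    { carrier := {x | ∀ φ : ι → F, φ ⬝ᵥ x = 0 → tv x φ ∈ M}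
      zero_mem' := fun φ _ => by rw [tv_zero_left]; exact M.one_mem
      smul_mem' := by
        intro c x hx φ hφ
        rcases eq_or_ne c 0 with rfl | hc
        · rw [zero_smul, tv_zero_left]; exact M.one_mem
        · have h0 : φ ⬝ᵥ x = 0 := by
            rw [dotProduct_smul, smul_eq_mul] at hφ
            exact (mul_eq_zero.1 hφ).resolve_left hc
          rw [tv_smul h0]
          exact hx _ (by rw [smul_dotProduct, h0, smul_zero])
      add_mem' := by
        intro x y hx hy φ hφ
        by_cases hxy : ∀ c : F, y ≠ c • x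
        · obtain ⟨ρ, hρx, hρy⟩ := exists_perp₁ hxy
          have hφ' : φ ⬝ᵥ x + φ ⬝ᵥ y = 0 := by rw [← dotProduct_add]; exact hφ
          have hψ : (φ + (φ ⬝ᵥ x) • ρ) ⬝ᵥ y = 0 := by
            rw [add_dotProduct, smul_dotProduct, hρy, smul_eq_mul, mul_one, add_comm]
            exact hφ'
          have hcj := tv_conj_tv (e := y) hψ hρx
          have hsimp : φ + (φ ⬝ᵥ x) • ρ - ((φ + (φ ⬝ᵥ x) • ρ) ⬝ᵥ x) • ρ = φ := by
            rw [add_dotProduct, smul_dotProduct, hρx, smul_zero, add_zero, add_sub_cancel_right]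
          rw [hsimp, hρy, one_smul, add_comm y x] at hcj
          rw [← hcj]
          exact M.mul_mem (M.mul_mem (hx ρ hρx) (hy _ hψ)) (M.inv_mem (hx ρ hρx))
        · push Not at hxy
          obtain ⟨c, rfl⟩ := hxy
          have hxc : x + c • x = (1 + c) • x := by rw [add_smul, one_smul]
          rw [hxc] at hφ ⊢
          rcases eq_or_ne (1 + c) 0 with hc | hc
          · rw [hc, zero_smul, tv_zero_left]; exact M.one_mem
          · have h0 : φ ⬝ᵥ x = 0 := by
              rw [dotProduct_smul, smul_eq_mul] at hφ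
              exact (mul_eq_zero.1 hφ).resolve_left hc
            rw [tv_smul h0]
            exact hx _ (by rw [smul_dotProduct, h0, smul_zero]) }
  have heU : e ∈ U := h
  have hUtop : U ≠ ⊤ := fun hU => hM (eq_top_of_tv_mem fun x φ hφ =>
    (show x ∈ U from hU ▸ Submodule.mem_top) φ hφ)
  have hstab : ∀ m ∈ M, ∀ x ∈ U, (m.1 *ᵥ x) ∈ U := by
    intro m hm x hx φ hφ
    have h0 : (φ ᵥ* m.1) ⬝ᵥ x = 0 := by rw [← dotProduct_mulVec, hφ]
    rw [← tv_conj h0 rfl rfl]
    exact M.mul_mem (M.mul_mem hm (hx _ h0)) (M.inv_mem hm)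
  have hcoset : ∀ g₁ g₂ : Matrix.SpecialLinearGroup ι F,
      (QuotientGroup.mk g₁ : _ ⧸ M) = QuotientGroup.mk g₂ →
      ∀ x ∈ U, ∃ y ∈ U, g₂.1 *ᵥ y = g₁.1 *ᵥ x := by
    intro g₁ g₂ hg x hx
    refine ⟨(g₂⁻¹ * g₁).1 *ᵥ x, hstab _ (QuotientGroup.eq.1 hg.symm) x hx, ?_⟩
    rw [← mul_mulVec, mul_inv_cancel_left]
  have hcancel : ∀ (g : Matrix.SpecialLinearGroup ι F) (x y : ι → F),
      g.1 *ᵥ x = g.1 *ᵥ y → x = y := by
    intro g x y hxy
    have := congrArg (g⁻¹.1 *ᵥ ·) hxy
    simpa only [← mul_mulVec, inv_mul_cancel, sl_one_mulVec] using this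
  set n := Fintype.card ι with hn'
  have hk1 : 1 ≤ finrank F U :=
    Submodule.one_le_finrank_iff.2 fun hU => he (by simpa [hU] using heU)
  have hkn : finrank F U < n := by
    have := Submodule.finrank_lt hUtop
    rwa [finrank_pi] at this
  rw [Subgroup.index]
  by_cases hline : finrank F U = 1
  · have hU : U = F ∙ e := by
      symm
      refine Submodule.eq_of_le_of_finrank_eq ((Submodule.span_singleton_le_iff_mem _ _).2 heU) ?_
      rw [finrank_span_singleton he, hline]
    choose g hg using fun p : ℙ F (ι → F) => exists_mulVec_eq hn he p.rep_nonzero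
    rw [← card_projectivization n rfl]
    refine Nat.card_le_card_of_injective
      (fun p => (QuotientGroup.mk (g p) : _ ⧸ M)) fun p₁ p₂ hp => ?_
    obtain ⟨y, hy, hy'⟩ := hcoset _ _ hp e heU
    rw [hU, Submodule.mem_span_singleton] at hy
    obtain ⟨c, rfl⟩ := hy
    rw [mulVec_smul, hg, hg] at hy'
    rw [← p₁.mk_rep, ← p₂.mk_rep, Projectivization.mk_eq_mk_iff']
    exact ⟨c, hy'⟩
  by_cases hhyp : finrank F U + 1 = n
  · obtain ⟨x, hx⟩ : ∃ x, x ∉ U := by
      by_contra! hall
      exact hUtop (eq_top_iff.2 fun x _ => hall x)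
    obtain ⟨ρ, hρU, hρx⟩ := exists_perp U hx
    have hρ : ρ ≠ 0 := fun h0 => by simp [h0] at hρx
    have hker : ∀ y, ρ ⬝ᵥ y = 0 → y ∈ U := by
      intro y hy
      by_contra hyU
      have hle : U ⊔ (F ∙ y) ≤ LinearMap.ker (dotProductEquiv F ι ρ) := by
        refine sup_le (fun z hz => hρU z hz) ?_
        rw [Submodule.span_singleton_le_iff_mem]
        exact hy
      have hlt : U < U ⊔ (F ∙ y) := by
        refine lt_of_le_of_ne le_sup_left fun hEq => hyU ?_
        rw [hEq]
        exact Submodule.mem_sup_right (Submodule.mem_span_singleton_self y)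
      have hker' : LinearMap.ker (dotProductEquiv F ι ρ) ≠ ⊤ := fun ht => by
        have hx0 : x ∈ LinearMap.ker (dotProductEquiv F ι ρ) := ht ▸ Submodule.mem_top
        exact one_ne_zero (hρx.symm.trans hx0)
      have h1 := Submodule.finrank_lt_finrank_of_lt hlt
      have h2 := Submodule.finrank_mono hle
      have h3 := Submodule.finrank_lt hker'
      rw [finrank_pi] at h3
      omega
    choose g hg using fun p : ℙ F (ι → F) => exists_vecMul_eq hn p.rep_nonzero hρ
    rw [← card_projectivization n rfl]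
    refine Nat.card_le_card_of_injective
      (fun p => (QuotientGroup.mk (g p) : _ ⧸ M)) fun p₁ p₂ hp => ?_
    have hz : ∀ z, p₁.rep ⬝ᵥ z = 0 → p₂.rep ⬝ᵥ z = 0 := by
      intro z hz
      have hz' : (g p₁)⁻¹.1 *ᵥ z ∈ U := by
        refine hker _ ?_
        rw [← hg p₁, ← dotProduct_mulVec, ← mul_mulVec, mul_inv_cancel,
          sl_one_mulVec, hz]
      obtain ⟨y, hy, hy'⟩ := hcoset _ _ hp _ hz'
      rw [← mul_mulVec (g p₁), mul_inv_cancel, sl_one_mulVec] at hy'
      rw [← hy', dotProduct_mulVec, hg, hρU y hy]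
    obtain ⟨i, hi⟩ := Function.ne_iff.1 p₁.rep_nonzero
    rw [← p₁.mk_rep, ← p₂.mk_rep, eq_comm, Projectivization.mk_eq_mk_iff']
    refine ⟨p₂.rep i / p₁.rep i, funext fun j => ?_⟩
    have := hz (Pi.single i (p₁.rep j) - Pi.single j (p₁.rep i))
      (by simp [dotProduct_sub, mul_comm])
    simp only [dotProduct_sub, dotProduct_single, sub_eq_zero] at this
    simp only [Pi.smul_apply, smul_eq_mul]
    field_simp [show p₁.rep i ≠ 0 from hi]
    linear_combination this
  · obtain ⟨W, hW⟩ := U.exists_isCompl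
    let P : (ι → F) →ₗ[F] U := U.projectionOnto W hW
    let mat : (U →ₗ[F] W) → Matrix ι ι F := fun A =>
      LinearMap.toMatrix' (W.subtype.comp (A.comp P))
    have hmat : ∀ A x, mat A *ᵥ x = (A (P x) : ι → F) := fun A x => by
      simp [mat, LinearMap.toMatrix'_mulVec]
    have hPW : ∀ w ∈ W, P w = 0 := fun w hw => by
      simp [P, Submodule.projectionOnto_apply_eq_zero_iff, hw]
    have hPU : ∀ u : U, P u = u := fun u => by simp [P]
    have hsq : ∀ A, mat A * mat A = 0 := fun A => Matrix.ext_iff_mulVec.2 fun x => by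
      rw [← mulVec_mulVec, hmat, hmat, hPW _ (A (P x)).2, map_zero, zero_mulVec]
      rfl
    have hinj : Function.Injective
        (fun A => (QuotientGroup.mk (onePlus (mat A) (hsq A)) : _ ⧸ M)) := by
      intro A B hAB
      refine LinearMap.ext fun u => ?_
      obtain ⟨y, hy, hy'⟩ := hcoset _ _ hAB u u.2
      simp only [onePlus, add_mulVec, one_mulVec, hmat] at hy'
      have hPy : P y = ⟨y, hy⟩ := hPU ⟨y, hy⟩
      have hP := congrArg P hy'
      rw [map_add, map_add, hPW _ (B _).2, hPW _ (A _).2, add_zero, add_zero, hPy, hPU] at hP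
      subst hP
      rw [hPy] at hy'
      exact Subtype.ext (add_left_cancel hy').symm
    have hcard : Nat.card (U →ₗ[F] W) = Fintype.card F ^ (finrank F U * finrank F W) := by
      rw [Module.natCard_eq_pow_finrank (K := F), Module.finrank_linearMap,
        Nat.card_eq_fintype_card]
    refine le_trans ?_ (Nat.card_le_card_of_injective _ hinj)
    rw [hcard]
    refine (numPoints_lt two_le_card n).le.trans (Nat.pow_le_pow_right Fintype.card_pos ?_)
    have hsum : finrank F U + finrank F W = n := by
      rw [Submodule.finrank_add_eq_of_isCompl hW, finrank_pi]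
    rcases le_total (finrank F U) (finrank F W) with hle | hle
    · calc n ≤ 2 * finrank F W := by omega
        _ ≤ _ := Nat.mul_le_mul (by omega) le_rfl
    · calc n ≤ finrank F U * 2 := by omega
        _ ≤ _ := Nat.mul_le_mul le_rfl (by omega)

end CfsgLib.MinDegree
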