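import Cfsg.Agent.MinDegree.SympRegular

/-!
# Common steps for symplectic groups over fields with at least three elements
-/

set_option autoImplicit false

namespace CfsgLib.MinDegree

open Matrix CfsgLib.Forms CfsgLib.Forms4 MulAction

variable {F : Type*} [Field F] [Fintype F] {m : ℕ} {Ω : Type*}
  [MulAction (Matrix.symplecticGroup (Fin m) F) Ω]

local notation "V" => Fin m ⊕ Fin m → F
local notation "Sp" => Matrix.symplecticGroup (Fin m) F
local notation "⟪" x ", " y "⟫" => Cfsg.sympForm m F x y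

theorem rootEl_smul_left {u w : V} (h : ⟪w, u⟫ = 0) (t c : F) :
    rootEl (t • u) w c = rootEl u (t • w) (t ^ 2 * c) := by
  have h1 : ⟪w, t • u⟫ = 0 := by rw [sympForm_smul_right, h, mul_zero]
  have h2 : ⟪t • w, u⟫ = 0 := by rw [sympForm_smul_left, h, mul_zero]
  refine sp_ext fun x => ?_
  rw [rootEl_mulVec h1, rootEl_mulVec h2, sympForm_smul_right, sympForm_smul_right]
  module

/-- The torus element at the pair. -/
theorem exists_torus {u v : V} (huv : ⟪u, v⟫ = 1) {t : F} (ht : t ≠ 0) :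
    ∃ T : Sp, T.1 *ᵥ u = t • u ∧ T.1 *ᵥ v = t⁻¹ • v ∧ ∀ w ∈ perp2 u v, T.1 *ᵥ w = w := by
  set W := Submodule.span F ({u, v} : Set V) with hW
  have hsep : ∀ y ∈ W, y ≠ 0 → ∃ z ∈ W, ⟪y, z⟫ ≠ 0 := by
    intro y hy hy0
    obtain ⟨s, t', rfl⟩ := Submodule.mem_span_pair.1 hy
    by_cases hs : s = 0
    · subst hs
      refine ⟨u, Submodule.subset_span (Set.mem_insert _ _), ?_⟩
      rw [zero_smul, zero_add] at hy0 ⊢
      rw [sympForm_smul_left, sympForm_vu huv]
      intro h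
      exact hy0 (by rw [show t' = 0 by linear_combination -h, zero_smul])
    · refine ⟨v, Submodule.subset_span (Set.mem_insert_of_mem _ rfl), ?_⟩
      rw [sympForm_add_left, sympForm_smul_left, sympForm_smul_left, huv, sympForm_self, mul_one,
        mul_zero, add_zero]
      exact hs
  have hu : u ∈ W := Submodule.subset_span (Set.mem_insert _ _)
  have hv : v ∈ W := Submodule.subset_span (Set.mem_insert_of_mem _ rfl)
  obtain ⟨T, hT, h1, h2⟩ := exists_mem_transvGroup_pair W hsep hu hv (W.smul_mem t hu)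
    (W.smul_mem t⁻¹ hv) huv
    (by rw [sympForm_smul_left, sympForm_smul_right, huv, mul_one, mul_inv_cancel₀ ht])
  refine ⟨T, h1, h2, fun w hw => transvGroup_fix hT fun y hy => ?_⟩
  obtain ⟨a, b, rfl⟩ := Submodule.mem_span_pair.1 hy
  rw [sympForm_add_right, sympForm_smul_right, sympForm_smul_right, (mem_perp2.1 hw).1,
    (mem_perp2.1 hw).2]
  ring

theorem torus_rootEl {u v : V} {T : Sp} {t : F} (hu : T.1 *ᵥ u = t • u)
    (hfix : ∀ w ∈ perp2 u v, T.1 *ᵥ w = w) {w : V} (hw : w ∈ perp2 u v) (c : F) :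
    T * rootEl u w c * T⁻¹ = rootEl u (t • w) (t ^ 2 * c) := by
  rw [conj_rootEl, hu, hfix w hw, rootEl_smul_left (mem_perp2.1 hw).1]

theorem rootFix_torus {u v : V} {T : Sp} {t : F} (hu : T.1 *ᵥ u = t • u)
    (hfix : ∀ w ∈ perp2 u v, T.1 *ᵥ w = w) (ht : t ≠ 0) (x : Ω) (w : V) (c : F) :
    RootFix u v (T • x) (t • w) (t ^ 2 * c) ↔ RootFix u v x w c := by
  rw [RootFix, RootFix, Submodule.smul_mem_iff _ ht]
  refine and_congr_right fun hw => ?_
  rw [← torus_rootEl hu hfix hw, mul_smul, inv_smul_smul, mul_smul, smul_left_cancel_iff]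

theorem centFix_torus {u : V} {T : Sp} {t : F} (hu : T.1 *ᵥ u = t • u) (x : Ω) (c : F) :
    t ^ 2 * c ∈ centFix u (T • x) ↔ c ∈ centFix u x := by
  change spTransv u (t ^ 2 * c) • T • x = T • x ↔ spTransv u c • x = x
  rw [← spTransv_smul, ← hu, ← conj_spTransv, mul_smul, inv_smul_smul, mul_smul,
    smul_left_cancel_iff]

theorem regular_torus {u v : V} {T : Sp} {t : F} (hu : T.1 *ᵥ u = t • u)
    (hfix : ∀ w ∈ perp2 u v, T.1 *ᵥ w = w) (ht : t ≠ 0) {x : Ω} (h : Regular u v x) :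
    Regular u v (T • x) := by
  intro w c hw
  have e : w = t • (t⁻¹ • w) := by rw [smul_inv_smul₀ ht]
  rw [e, show c = t ^ 2 * (c / t ^ 2) by rw [mul_div_cancel₀ _ (pow_ne_zero 2 ht)],
    rootFix_torus hu hfix ht] at hw
  rw [e, h _ _ hw, smul_zero]

theorem zMoved_orb {u v : V} [Finite Ω] {x z : Ω} (hx : ZMoved u x) (hz : z ∈ rootOrb u v x) :
    ZMoved u z := by
  rw [zMoved_iff, (rootOrb_props hz).1, ← zMoved_iff]; exact hx

theorem rootOrb_eq_of_mem {u v : V} [Finite Ω] {x z : Ω} (hz : z ∈ rootOrb u v x) :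
    rootOrb u v z = rootOrb u v x := by
  obtain ⟨a, ha, b, rfl⟩ := mem_rootOrb.1 hz
  ext y
  constructor
  · intro hy
    obtain ⟨a', ha', b', rfl⟩ := mem_rootOrb.1 hy
    rw [← mul_smul, rootEl_mul (mem_perp2.1 ha').1 (mem_perp2.1 ha).1]
    exact mem_rootOrb.2 ⟨_, Submodule.add_mem _ ha' ha, _, rfl⟩
  · intro hy
    obtain ⟨a', ha', b', rfl⟩ := mem_rootOrb.1 hy
    have h1 : ⟪-a, u⟫ = 0 := by rw [sympForm_neg_left, (mem_perp2.1 ha).1, neg_zero]
    refine mem_rootOrb.2 ⟨a' + -a, Submodule.add_mem _ ha' (Submodule.neg_mem _ ha),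
      b' + -b + ⟪-a, a'⟫, ?_⟩
    rw [← rootEl_mul (mem_perp2.1 ha').1 h1 b' (-b), ← rootEl_inv (mem_perp2.1 ha).1, mul_smul,
      inv_smul_smul]

/-- A transvection group moves some point. -/
theorem exists_zMoved [Nonempty Ω] (hno : ∀ x : Ω, stabilizer Sp x ≠ ⊤) {u : V} (hu : u ≠ 0) :
    ∃ z : Ω, ZMoved u z := by
  by_contra! h
  obtain ⟨x⟩ := ‹Nonempty Ω›
  refine hno x (stabilizer_eq_top_of_rootFixed fun a ha c => ?_)
  obtain ⟨A, hA⟩ := exists_mulVec_eq hu ha
  have h' : ∀ (z : Ω), spTransv u c • z = z := fun z => by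
    by_contra hz; exact h z ⟨c, hz⟩
  rw [← hA, ← conj_spTransv, mul_smul, mul_smul, h', smul_inv_smul]

theorem mulForm_sep (x : F) (h : ∀ y, LinearMap.mul F F x y = 0) : x = 0 := by
  simpa using h 1

theorem card_centFix_lt {u : V} {x : Ω} (h : ZMoved u x) :
    Nat.card (centFix u x) * 2 ≤ Fintype.card F := by
  have h1 : (centFix u x).index ≠ 1 := fun h1 => zMoved_iff.1 h (AddSubgroup.index_eq_one.1 h1)
  have h2 := (centFix u x).index_mul_card
  have h3 : (centFix u x).index ≠ 0 := AddSubgroup.index_ne_zero_of_finite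
  rw [← Nat.card_eq_fintype_card, ← h2, mul_comm (Nat.card _) 2]
  exact Nat.mul_le_mul_right _ (by omega)

/-- A nonzero projected stabiliser of order at most `q^k` gives many moved points. -/
theorem moved_of_proj [Finite Ω] {u v : V} (huv : ⟪u, v⟫ = 1) {k : ℕ} (hk : m = k + 1)
    (hk2 : 2 ≤ k) {c : ℕ} (hc : Fintype.card F ^ 2 ≤ c * (Fintype.card F - 1) ^ 2) {x : Ω}
    (hmov : ZMoved u x) (hz : Nat.card (centFix u x) * c ≤ Fintype.card F)
    (hκ : Nat.card (rootProj u v x) * Nat.card (rootProj u v x) ≤ Fintype.card F ^ (2 * k))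
    {r : perp2 u v} (hr : r ∈ rootProj u v x) (hr0 : r ≠ 0) :
    Fintype.card F ^ (2 * m) - 1 ≤ (Fintype.card F - 1) * Nat.card Ω := by
  classical
  have := Fintype.ofFinite Ω
  obtain ⟨q, hq⟩ : ∃ q, Fintype.card F = q := ⟨_, rfl⟩
  rw [hq] at hc hz hκ ⊢
  obtain ⟨κ, hκe⟩ : ∃ κ, Nat.card (rootProj u v x) = κ := ⟨_, rfl⟩
  rw [hκe] at hκ
  have hq2 : 2 ≤ q := hq ▸ Fintype.one_lt_card
  obtain ⟨R, hR⟩ : ∃ R, R = q ^ k := ⟨_, rfl⟩
  have hP2 : q ^ (2 * k) = R * R := by rw [hR, ← pow_add, two_mul]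
  have hRq : q * q ≤ R := by
    rw [hR, ← sq]; exact Nat.pow_le_pow_right (by omega) hk2
  rw [hP2] at hκ
  have hκR : κ ≤ R := Nat.mul_self_le_mul_self_iff.1 hκ
  have hκpos : 0 < κ := hκe ▸ Nat.card_pos
  obtain ⟨o, ho⟩ : ∃ o, o = (rootOrb u v x).card := ⟨_, rfl⟩
  have hoκ : c * (R * R) ≤ o * κ := by
    have h := card_rootOrb u v x
    rw [hq, hκe, ← ho, card_perp2 huv, hq, show 2 * m - 2 = 2 * k by omega, hP2] at h
    have hzp : 0 < Nat.card (centFix u x) := Nat.card_pos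
    apply Nat.le_of_mul_le_mul_left _ hzp
    calc Nat.card (centFix u x) * (c * (R * R)) = Nat.card (centFix u x) * c * (R * R) := by ring
      _ ≤ q * (R * R) := Nat.mul_le_mul_right _ hz
      _ ≤ o * (Nat.card (centFix u x) * κ) := h
      _ = _ := by ring
  have horb : ∀ A ∈ fixer u v, o ≤ (rootOrb u v (A • x)).card ∧
      ∀ z ∈ rootOrb u v (A • x), ZMoved u z ∧ rootProj u v z = rootProj u v (A • x) := by
    intro A hA
    refine ⟨?_, fun z hz => ⟨?_, (rootOrb_props hz).2⟩⟩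
    · rw [ho]
      refine Finset.card_le_card_of_injOn (fun z => A • z) (fun z hz => ?_)
        (fun a _ b _ h => smul_left_cancel A h)
      obtain ⟨a, ha, b, rfl⟩ := mem_rootOrb.1 hz
      change A • rootEl u a b • x ∈ _
      rw [fixer_smul_rootEl hA]
      exact mem_rootOrb.2 ⟨_, fixer_map_perp2 hA ha, b, rfl⟩
    · refine zMoved_orb ?_ hz
      rw [zMoved_iff, centFix_fixer hA, ← zMoved_iff]; exact hmov
  obtain ⟨h1, h2⟩ := cover_bound huv hk (rootProj u v) (ZMoved u) (rootOrb u v) hκe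
    (fun A hA r => rootProj_fixer hA x r) horb hr hr0
  rw [hq, hP2] at h1 h2
  obtain ⟨M, hM⟩ : ∃ M, Nat.card {z : Ω // ZMoved u z} = M := ⟨_, rfl⟩
  rw [hM] at h1 h2
  have hMd : M ≤ Nat.card Ω := hM ▸ Finite.card_subtype_le _
  have hgoal : q ^ (2 * m) = q * q * (R * R) := by
    rw [← hP2, hk, mul_add, pow_add]; ring
  rw [hgoal]
  refine (Nat.sub_le _ _).trans (le_trans ?_ (Nat.mul_le_mul_left _ hMd))
  have hqq : (q : ℕ) * q ≤ c * ((q - 1) * (q - 1)) := by simpa [sq] using hc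
  by_cases hline : ∃ w ∈ rootProj u v x, ∀ s : F, (w : V) ≠ s • (r : V)
  · have h3 := h2 hline
    -- multiply by the order of the projection
    have e1 : (R * R - 1) * ((q - 1) * (R * R)) * (c * (R * R)) ≤
        M * (κ - 1) * κ * q ^ 2 * κ :=
      le_trans (Nat.mul_le_mul_left _ hoκ) (by
        rw [← mul_assoc]; exact Nat.mul_le_mul_right _ h3)
    have e2 : (κ - 1) * κ * κ ≤ (R - 1) * (R * R) := by
      calc (κ - 1) * κ * κ = (κ - 1) * (κ * κ) := mul_assoc _ _ _
        _ ≤ _ := Nat.mul_le_mul (Nat.sub_le_sub_right hκR 1) hκ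
    have e3 : (R * R - 1) * (q - 1) * c * (R * R) ≤ M * (R - 1) * (q * q) := by
      apply Nat.le_of_mul_le_mul_right _ (Nat.mul_pos (show 0 < R by nlinarith) (show 0 < R by nlinarith))
      calc (R * R - 1) * (q - 1) * c * (R * R) * (R * R)
          = (R * R - 1) * ((q - 1) * (R * R)) * (c * (R * R)) := by ring
        _ ≤ M * (κ - 1) * κ * q ^ 2 * κ := e1
        _ = M * ((κ - 1) * κ * κ) * (q * q) := by ring
        _ ≤ M * ((R - 1) * (R * R)) * (q * q) :=
          Nat.mul_le_mul_right _ (Nat.mul_le_mul_left _ e2)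
        _ = _ := by ring
    obtain ⟨R', rfl⟩ : ∃ R', R = R' + 1 := ⟨R - 1, by have := Nat.mul_le_mul hq2 hq2; omega⟩
    rw [show (R' + 1) * (R' + 1) - 1 = R' * (R' + 2) from by
      rw [Nat.sub_eq_iff_eq_add (Nat.mul_pos (by omega) (by omega))]; ring,
      Nat.add_sub_cancel] at e3
    have e4 : (R' + 2) * (q - 1) * c * ((R' + 1) * (R' + 1)) ≤ M * (q * q) := by
      apply Nat.le_of_mul_le_mul_left _ (show 0 < R' by nlinarith)
      calc _ = R' * (R' + 2) * (q - 1) * c * ((R' + 1) * (R' + 1)) := by ring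
        _ ≤ M * R' * (q * q) := e3
        _ = _ := by ring
    have e5 : (q * q) * ((q - 1) * c * ((R' + 1) * (R' + 1))) ≤ (q * q) * M := by
      refine le_trans ?_ (le_of_le_of_eq e4 (mul_comm _ _))
      calc _ ≤ (R' + 2) * ((q - 1) * c * ((R' + 1) * (R' + 1))) :=
            Nat.mul_le_mul_right _ (by omega)
        _ = _ := by ring
    have e6 := Nat.le_of_mul_le_mul_left e5 (Nat.mul_pos (by omega) (by omega))
    calc q * q * ((R' + 1) * (R' + 1)) ≤ c * ((q - 1) * (q - 1)) * ((R' + 1) * (R' + 1)) :=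
          Nat.mul_le_mul_right _ hqq
      _ = (q - 1) * ((q - 1) * c * ((R' + 1) * (R' + 1))) := by ring
      _ ≤ _ := Nat.mul_le_mul_left _ e6
  · push Not at hline
    have hκq : κ ≤ q := by
      rw [← hκe, ← hq, ← Nat.card_eq_fintype_card]
      refine Nat.card_le_card_of_injective (fun w => (hline w.1 w.2).choose) fun a b hab => ?_
      have ha := (hline a.1 a.2).choose_spec
      have hb := (hline b.1 b.2).choose_spec
      simp only at hab
      rw [hab] at ha
      exact Subtype.ext (Subtype.ext (ha.trans hb.symm))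
    have e1 : (R * R - 1) * (c * (R * R)) ≤ M * (q * q) := by
      calc (R * R - 1) * (c * (R * R)) ≤ (R * R - 1) * (o * κ) := Nat.mul_le_mul_left _ hoκ
        _ = (R * R - 1) * o * κ := by ring
        _ ≤ M * (κ - 1) * κ := Nat.mul_le_mul_right _ h1
        _ ≤ M * q * q := Nat.mul_le_mul (Nat.mul_le_mul_left _ (by omega)) hκq
        _ = _ := by ring
    -- `q^4` is below `(q-1) c (R^2 - 1)`
    have e2 : q * q * (q * q) ≤ (q - 1) * c * (R * R - 1) := by
      have hc2 : 2 ≤ (q - 1) * c := by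
        obtain ⟨j, rfl⟩ : ∃ j, q = j + 1 := ⟨q - 1, by omega⟩
        rw [Nat.add_sub_cancel] at hqq ⊢
        by_contra hlt
        have hh : j * c ≤ 1 := by omega
        have : c * (j * j) ≤ 1 * j := by
          calc c * (j * j) = j * c * j := by ring
            _ ≤ 1 * j := Nat.mul_le_mul_right _ hh
        nlinarith
      calc q * q * (q * q) ≤ 2 * (R * R - 1) := by
            have h6 : q * q * (q * q) ≤ R * R := Nat.mul_le_mul hRq hRq
            have : 4 ≤ q * q := Nat.mul_le_mul hq2 hq2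
            have : 4 * 4 ≤ q * q * (q * q) := Nat.mul_le_mul this this
            omega
        _ ≤ _ := Nat.mul_le_mul_right _ hc2
    apply Nat.le_of_mul_le_mul_right _ (Nat.mul_pos (show 0 < q by omega) (show 0 < q by omega))
    calc q * q * (R * R) * (q * q) = q * q * (q * q) * (R * R) := by ring
      _ ≤ (q - 1) * c * (R * R - 1) * (R * R) := Nat.mul_le_mul_right _ e2
      _ = (q - 1) * ((R * R - 1) * (c * (R * R))) := by ring
      _ ≤ (q - 1) * (M * (q * q)) := Nat.mul_le_mul_left _ e1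
      _ = _ := by ring

end CfsgLib.MinDegree
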