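import Cfsg.Agent.MinDegree.SympRoot

/-!
# Conjugates of a subgroup of the complement cover it

If the points carry, equivariantly for the fixer of a pair, subsets of the complement, then the
number of points is bounded below through double counting.
-/

set_option autoImplicit false

namespace CfsgLib.MinDegree

open Matrix CfsgLib.Forms CfsgLib.Forms4 MulAction

variable {F : Type*} [Field F] [Fintype F] {m : ℕ} {Ω : Type*}
  [MulAction (Matrix.symplecticGroup (Fin m) F) Ω]

local notation "V" => Fin m ⊕ Fin m → F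
local notation "Sp" => Matrix.symplecticGroup (Fin m) F
local notation "⟪" x ", " y "⟫" => Cfsg.sympForm m F x y

/-- Many vectors with the same inner product with `r`, not orthogonal to `w`. -/
theorem exists_translates {u v : V} (huv : ⟪u, v⟫ = 1) {k : ℕ} (hk : m = k + 1) {r w : V}
    (hr : r ∈ perp2 u v) (hw : w ∈ perp2 u v) (hr0 : r ≠ 0) (hind : ∀ c : F, w ≠ c • r) :
    ∃ D : Finset V, (Fintype.card F - 1) * Fintype.card F ^ (2 * k) ≤
        D.card * Fintype.card F ^ 2 ∧
      ∀ z ∈ D, z ∈ perp2 u v ∧ ⟪r, z⟫ = ⟪r, w⟫ ∧ ⟪w, z⟫ ≠ 0 := by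
  classical
  have hsel : ∀ {p q : V}, p ∈ perp2 u v → q ∈ perp2 u v → p ∉ Submodule.span F {q} →
      ∃ a ∈ perp2 u v, ⟪p, a⟫ = 1 ∧ ⟪q, a⟫ = 0 := by
    intro p q hp hq hpq
    obtain ⟨g, hg, hgq⟩ := Submodule.exists_dual_map_eq_bot_of_notMem hpq inferInstance
    obtain ⟨a', ha', hrep⟩ := exists_perp2_repr huv g
    refine ⟨(-(g p)⁻¹) • a', Submodule.smul_mem _ _ ha', ?_, ?_⟩
    · rw [sympForm_smul_right, sympForm_swap a' p, hrep p hp]
      field_simp
    · rw [sympForm_smul_right, sympForm_swap a' q, hrep q hq,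
        (Submodule.eq_bot_iff _).1 hgq _ (Submodule.mem_map_of_mem (Submodule.mem_span_singleton_self q))]
      simp
  have h1 : r ∉ Submodule.span F {w} := by
    rw [Submodule.mem_span_singleton]
    rintro ⟨c, hc⟩
    rcases eq_or_ne c 0 with rfl | hc0
    · exact hr0 (by rw [← hc, zero_smul])
    · exact hind c⁻¹ (by rw [← hc, inv_smul_smul₀ hc0])
  have h2 : w ∉ Submodule.span F {r} := by
    rw [Submodule.mem_span_singleton]
    rintro ⟨c, hc⟩; exact hind c hc.symm
  obtain ⟨a, ha, har, haw⟩ := hsel hr hw h1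
  obtain ⟨b, hb, hbw, hbr⟩ := hsel hw hr h2
  let g : perp2 u v →+ F × F :=
    { toFun := fun z => (⟪r, (z : V)⟫, ⟪w, (z : V)⟫)
      map_zero' := by rw [Submodule.coe_zero, sympForm_zero_right, sympForm_zero_right]; rfl
      map_add' := fun x y => by
        rw [Submodule.coe_add, sympForm_add_right, sympForm_add_right]; rfl }
  have hker : Fintype.card F ^ (2 * k) ≤ Nat.card g.ker * Fintype.card F ^ 2 := by
    have h := g.ker.index_mul_card
    rw [AddSubgroup.index_ker, card_perp2 huv, show 2 * m - 2 = 2 * k by omega] at h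
    rw [← h, mul_comm, sq, ← Nat.card_eq_fintype_card, ← Nat.card_prod F F]
    exact Nat.mul_le_mul_left _ (Nat.card_le_card_of_injective (fun p : g.range => (p : F × F)) Subtype.val_injective)
  have := Fintype.ofFinite g.ker
  let φ : {d : F // d ≠ 0} × g.ker → V := fun p => ⟪r, w⟫ • a + p.1.1 • b + ((p.2.1 : perp2 u v) : V)
  have hgk : ∀ e : g.ker, ⟪r, ((e.1 : perp2 u v) : V)⟫ = 0 ∧ ⟪w, ((e.1 : perp2 u v) : V)⟫ = 0 :=
    fun e => Prod.ext_iff.1 e.2
  have hinj : Function.Injective φ := by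
    rintro ⟨d, e⟩ ⟨d', e'⟩ h
    have hd := congrArg (fun z => ⟪w, z⟫) h
    simp only [φ, sympForm_add_right, sympForm_smul_right, haw, hbw, (hgk e).2, (hgk e').2,
      mul_one, mul_zero, add_zero, zero_add] at hd
    obtain rfl : d = d' := Subtype.ext hd
    exact Prod.ext rfl (Subtype.ext (Subtype.ext (add_left_cancel h)))
  refine ⟨Finset.univ.image φ, ?_, fun z hz => ?_⟩
  · rw [Finset.card_image_of_injective _ hinj, Finset.card_univ, Fintype.card_prod,
      Fintype.card_subtype_compl, Fintype.card_subtype_eq, ← Nat.card_eq_fintype_card (α := g.ker),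
      mul_assoc]
    exact Nat.mul_le_mul_left _ hker
  · obtain ⟨⟨d, e⟩, -, rfl⟩ := Finset.mem_image.1 hz
    refine ⟨Submodule.add_mem _ (Submodule.add_mem _ (Submodule.smul_mem _ _ ha)
      (Submodule.smul_mem _ _ hb)) e.1.2, ?_, ?_⟩
    · simp [φ, sympForm_add_right, sympForm_smul_right, har, hbr, (hgk e).1]
    · simp only [φ, sympForm_add_right, sympForm_smul_right, haw, hbw, (hgk e).2, mul_one,
        mul_zero, add_zero, zero_add]
      exact d.2

/-- Moving `w` to `z` fixing the pair and `r`. -/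
theorem exists_fixer_move {u v r w z : V} (hw : w ∈ perp2 u v) (hz : z ∈ perp2 u v)
    (h1 : ⟪r, z⟫ = ⟪r, w⟫) (h2 : ⟪w, z⟫ ≠ 0) :
    ∃ A ∈ fixer u v, A.1 *ᵥ r = r ∧ A.1 *ᵥ w = z := by
  refine ⟨_, levi_le_fixer u v (spTransv_mem_levi (Submodule.sub_mem _ hz hw) ⟪w, z⟫⁻¹), ?_,
    spTransv_sub_mulVec h2⟩
  rw [spTransv_mulVec, sympForm_sub_right, h1, sub_self, mul_zero, zero_smul, add_zero]

/-- Double counting points against vectors of their sets. -/
theorem cover_bound [Finite Ω] {u v : V} (huv : ⟪u, v⟫ = 1) {k : ℕ} (hk : m = k + 1)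
    (W : Ω → AddSubgroup (perp2 u v)) (M : Ω → Prop) (orb : Ω → Finset Ω) {x : Ω} {o κ : ℕ}
    (hκ : Nat.card (W x) = κ)
    (hW : ∀ A (hA : A ∈ fixer u v), ∀ r, fixerRes hA r ∈ W (A • x) ↔ r ∈ W x)
    (horb : ∀ A ∈ fixer u v, o ≤ (orb (A • x)).card ∧
      ∀ z ∈ orb (A • x), M z ∧ W z = W (A • x))
    {r : perp2 u v} (hr : r ∈ W x) (hr0 : r ≠ 0) :
    (Fintype.card F ^ (2 * k) - 1) * o ≤ Nat.card {z // M z} * (κ - 1) ∧
      ((∃ w ∈ W x, ∀ c : F, (w : V) ≠ c • (r : V)) →
        (Fintype.card F ^ (2 * k) - 1) * ((Fintype.card F - 1) * Fintype.card F ^ (2 * k)) * o ≤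
          Nat.card {z // M z} * (κ - 1) * κ * Fintype.card F ^ 2) := by
  classical
  have := Fintype.ofFinite Ω
  have := Fintype.ofFinite (perp2 u v)
  let T := Finset.univ.filter fun z : Ω => M z ∧ Nat.card (W z) = κ
  let B := (Finset.univ : Finset (perp2 u v)).erase 0
  have hB : B.card = Fintype.card F ^ (2 * k) - 1 := by
    rw [Finset.card_erase_of_mem (Finset.mem_univ _), Finset.card_univ,
      ← Nat.card_eq_fintype_card, card_perp2 huv, show 2 * m - 2 = 2 * k by omega]
  have hT : T.card ≤ Nat.card {z // M z} := by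
    rw [Nat.card_eq_fintype_card, Fintype.card_subtype]
    exact Finset.card_le_card fun z hz => by
      simp only [T, Finset.mem_filter] at hz ⊢
      exact ⟨hz.1, hz.2.1⟩
  have hcard : ∀ A (hA : A ∈ fixer u v), Nat.card (W (A • x)) = κ := fun A hA => by
    rw [← hκ]
    exact (Nat.card_congr ((fixerRes hA).toEquiv.subtypeEquiv fun w => (hW A hA w).symm)).symm
  have hbelow : ∀ z ∈ T, (Finset.bipartiteBelow (fun b z => b ∈ W z) B z).card ≤ κ - 1 := by
    intro z hz
    simp only [T, Finset.mem_filter] at hz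
    rw [← hz.2.2, Nat.card_eq_fintype_card, ← Finset.card_univ,
      ← Finset.card_erase_of_mem (Finset.mem_univ (0 : W z)),
      ← Finset.card_map (Function.Embedding.subtype fun b => b ∈ W z)]
    refine Finset.card_le_card fun b hb => ?_
    simp only [Finset.bipartiteBelow, Finset.mem_filter, B, Finset.mem_erase, Finset.mem_univ,
      and_true] at hb
    simp only [Finset.mem_map, Finset.mem_erase, Finset.mem_univ, and_true]
    exact ⟨⟨b, hb.2⟩, fun h => hb.1 (congrArg Subtype.val h), rfl⟩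
  have hmove : ∀ b : perp2 u v, b ≠ 0 → ∃ A, ∃ hA : A ∈ fixer u v, fixerRes hA r = b := by
    intro b hb
    obtain ⟨A, hA, hAr⟩ := exists_levi_mulVec_eq huv r.2 b.2
      (fun h => hr0 (Subtype.ext h)) (fun h => hb (Subtype.ext h))
    exact ⟨A, levi_le_fixer u v hA, Subtype.ext hAr⟩
  refine ⟨?_, fun ⟨w, hw, hind⟩ => ?_⟩
  · rw [← hB]
    refine le_trans (Finset.card_mul_le_card_mul (fun b z => b ∈ W z) (t := T) ?_ hbelow)
      (Nat.mul_le_mul_right _ hT)
    intro b hb
    obtain ⟨A, hA, hAr⟩ := hmove b (Finset.mem_erase.1 hb).1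
    refine (horb A hA).1.trans (Finset.card_le_card fun z hz => ?_)
    obtain ⟨h1, h2⟩ := (horb A hA).2 z hz
    simp only [Finset.bipartiteAbove, Finset.mem_filter, T, Finset.mem_univ, true_and]
    refine ⟨⟨h1, by rw [h2, hcard A hA]⟩, ?_⟩
    rw [h2, ← hAr]
    exact (hW A hA r).2 hr
  obtain ⟨D, hD, hDmem⟩ := exists_translates huv hk r.2 w.2 (fun h => hr0 (Subtype.ext h)) hind
  -- each nonzero vector lies in many points' sets
  have habove : ∀ b ∈ B, D.card * o ≤ (Finset.bipartiteAbove (fun b z => b ∈ W z) T b).card * κ := by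
    intro b hb
    obtain ⟨A, hA, hAr⟩ := hmove b (Finset.mem_erase.1 hb).1
    refine Finset.card_mul_le_card_mul
      (fun (d : V) z => ∃ hd : A.1 *ᵥ d ∈ perp2 u v, ⟨A.1 *ᵥ d, hd⟩ ∈ W z) ?_ ?_
    · intro d hd
      obtain ⟨hd1, hd2, hd3⟩ := hDmem d hd
      obtain ⟨C, hC, hCr, hCw⟩ := exists_fixer_move w.2 hd1 hd2 hd3
      have hAC := mul_mem hA hC
      refine (horb _ hAC).1.trans (Finset.card_le_card fun z hz => ?_)
      obtain ⟨h1, h2⟩ := (horb _ hAC).2 z hz
      simp only [Finset.bipartiteAbove, Finset.mem_filter, T, Finset.mem_univ, true_and]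
      refine ⟨⟨⟨h1, by rw [h2, hcard _ hAC]⟩, ?_⟩, fixer_map_perp2 hA hd1, ?_⟩
      · rw [h2]
        have : fixerRes hAC r = b := by
          rw [← hAr]; exact Subtype.ext (by rw [fixerRes_apply, fixerRes_apply, sp_mul_mulVec, hCr])
        rw [← this]
        exact (hW _ hAC r).2 hr
      · rw [h2]
        have : fixerRes hAC w = ⟨A.1 *ᵥ d, fixer_map_perp2 hA hd1⟩ :=
          Subtype.ext (by rw [fixerRes_apply, sp_mul_mulVec, hCw])
        rw [← this]
        exact (hW _ hAC w).2 hw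
    · intro z hz
      simp only [Finset.bipartiteAbove, Finset.mem_filter, T] at hz
      rw [← hz.1.2.2, Nat.card_eq_fintype_card, ← Finset.card_univ]
      refine Finset.card_le_card_of_injOn
        (fun d => if h : ∃ hd : A.1 *ᵥ d ∈ perp2 u v, ⟨A.1 *ᵥ d, hd⟩ ∈ W z then
          ⟨_, h.choose_spec⟩ else 0) (fun _ _ => Finset.mem_univ _) ?_
      intro d hd d' hd' he
      simp only [Finset.coe_filter, Finset.bipartiteBelow, Set.mem_setOf_eq] at hd hd'
      simp only [dif_pos hd.2, dif_pos hd'.2] at he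
      have := congrArg (fun e : W z => (A⁻¹).1 *ᵥ ((e : perp2 u v) : V)) he
      simpa only [sp_inv_mulVec_self] using this
  have hsum : B.card * (D.card * o) ≤ T.card * (κ - 1) * κ := by
    calc B.card * (D.card * o) = ∑ b ∈ B, D.card * o := by rw [Finset.sum_const, smul_eq_mul]
      _ ≤ ∑ b ∈ B, (Finset.bipartiteAbove (fun b z => b ∈ W z) T b).card * κ :=
        Finset.sum_le_sum habove
      _ = (∑ z ∈ T, (Finset.bipartiteBelow (fun b z => b ∈ W z) B z).card) * κ := by
        rw [← Finset.sum_mul, Finset.sum_card_bipartiteAbove_eq_sum_card_bipartiteBelow]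
      _ ≤ _ := by
        refine Nat.mul_le_mul_right κ ?_
        have := Finset.sum_le_card_nsmul T _ (κ - 1) hbelow
        rwa [smul_eq_mul] at this
  rw [← hB]
  calc _ ≤ B.card * (D.card * Fintype.card F ^ 2) * o :=
        Nat.mul_le_mul_right _ (Nat.mul_le_mul_left _ hD)
    _ = B.card * (D.card * o) * Fintype.card F ^ 2 := by ring
    _ ≤ T.card * (κ - 1) * κ * Fintype.card F ^ 2 := Nat.mul_le_mul_right _ hsum
    _ ≤ _ := Nat.mul_le_mul_right _ (Nat.mul_le_mul_right _ (Nat.mul_le_mul_right _ hT))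

end CfsgLib.MinDegree
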