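import Cfsg.Agent.MinDegree.SympEvenCount

/-!
# The smallest `Sp(2m,q)`-sets for even `q ≥ 4`, `m ≥ 3`
-/

set_option autoImplicit false

namespace CfsgLib.MinDegree

open Matrix CfsgLib.Forms CfsgLib.Forms4 MulAction

variable {F : Type*} [Field F] [Fintype F] [CharP F 2] {m : ℕ} {Ω : Type*}
  [MulAction (Matrix.symplecticGroup (Fin m) F) Ω]

local notation "V" => Fin m ⊕ Fin m → F
local notation "Sp" => Matrix.symplecticGroup (Fin m) F
local notation "⟪" x ", " y "⟫" => Cfsg.sympForm m F x y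

theorem exists_move_pair {u v u' v' : V} (h : ⟪u, v⟫ = 1) (h' : ⟪u', v'⟫ = 1) :
    ∃ A : Sp, A.1 *ᵥ u = u' ∧ A.1 *ᵥ v = v' := by
  obtain ⟨A, -, hA⟩ := exists_mem_transvGroup_pair (⊤ : Submodule F V)
    (fun z _ hz => by
      obtain ⟨y, hy⟩ := exists_pair hz
      exact ⟨y, trivial, by rw [hy]; exact one_ne_zero⟩) trivial trivial trivial trivial h h'
  exact ⟨A, hA⟩

theorem rootFix_conj {u v u' v' : V} {A : Sp} (hu : A.1 *ᵥ u = u') (hv : A.1 *ᵥ v = v') (x : Ω)
    (w : V) (c : F) : RootFix u' v' (A • x) (A.1 *ᵥ w) c ↔ RootFix u v x w c := by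
  subst hu hv
  rw [RootFix, RootFix, ← conj_rootEl, mul_smul, inv_smul_smul, mul_smul, smul_left_cancel_iff]
  refine and_congr_left fun _ => ?_
  simp only [mem_perp2, sympForm_map]

theorem centFix_conj {u : V} (A : Sp) (x : Ω) :
    centFix (A.1 *ᵥ u) (A • x) = centFix u x := by
  ext c
  change spTransv (A.1 *ᵥ u) c • A • x = A • x ↔ spTransv u c • x = x
  rw [← conj_spTransv, mul_smul, inv_smul_smul, mul_smul, smul_left_cancel_iff]

theorem isFree_conj {u v u' v' : V} {A : Sp} (hu : A.1 *ᵥ u = u') (hv : A.1 *ᵥ v = v') {x : Ω}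
    (h : IsFree u v x) : IsFree u' v' (A • x) := by
  refine ⟨fun w c hw => ?_, fun c hc => ?_⟩
  · rw [← sp_mulVec_inv_self A w] at hw ⊢
    rw [h.1 _ _ ((rootFix_conj hu hv x _ c).1 hw), Matrix.mulVec_zero]
  · rw [← hu, centFix_conj] at hc
    exact h.2 c hc

theorem label_conj {pr : F →+ ZMod 2} {u v u' v' : V} {A : Sp} (hu : A.1 *ᵥ u = u')
    (hv : A.1 *ᵥ v = v') {x : Ω} {a : F} {Q : V → F} (h : IsLabel pr u v x (a, Q)) :
    IsLabel pr u' v' (A • x) (a, fun y => Q ((A⁻¹).1 *ᵥ y)) := by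
  obtain ⟨ha, hQ, hu', hv', hK⟩ := h
  refine ⟨ha, hQ.comp _, ?_, ?_, fun w c hw => ?_⟩
  · change Q ((A⁻¹).1 *ᵥ u') = 0; rw [← hu, sp_inv_mulVec_self]; exact hu'
  · change Q ((A⁻¹).1 *ᵥ v') = 0; rw [← hv, sp_inv_mulVec_self]; exact hv'
  · rw [← sp_mulVec_inv_self A w] at hw
    exact hK _ c ((rootFix_conj hu hv x _ c).1 hw)

theorem isFormPt_conj {pr : F →+ ZMod 2} {u v u' v' : V} {A : Sp} (hu : A.1 *ᵥ u = u')
    (hv : A.1 *ᵥ v = v') {x : Ω} (h : IsFormPt pr u v x) : IsFormPt pr u' v' (A • x) := by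
  obtain ⟨hfull, Q, ⟨a, hQ⟩, huniq⟩ := h
  refine ⟨fun w hw => ?_, _, ⟨a, label_conj hu hv hQ⟩, fun l hl => ?_⟩
  · have hw' : (A⁻¹).1 *ᵥ w ∈ perp2 u v := by
      rw [← hu, ← hv] at hw
      refine ⟨?_, ?_⟩ <;> rw [← sympForm_map A, sp_mulVec_inv_self]
      exacts [hw.1, hw.2]
    obtain ⟨c, hc⟩ := hfull _ hw'
    exact ⟨c, by rw [← sp_mulVec_inv_self A w]; exact (rootFix_conj hu hv x _ c).2 hc⟩
  · obtain ⟨b, Q'⟩ := l
    have h' := label_conj (A := A⁻¹) (u' := u) (v' := v)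
      (by rw [← hu, sp_inv_mulVec_self]) (by rw [← hv, sp_inv_mulVec_self]) hl
    rw [inv_smul_smul] at h'
    have e := huniq _ h'
    simp only [inv_inv] at e
    funext y
    have := congrFun e ((A⁻¹).1 *ᵥ y)
    simpa only [sp_mulVec_inv_self] using this

theorem rootEl_self_inverse {u w : V} (h : ⟪w, u⟫ = 0) : (rootEl u w (0 : F))⁻¹ = rootEl u w 0 := by
  rw [rootEl_inv h, vec_neg', neg_zero]

theorem free_case [Finite Ω] [Nonempty Ω] (hm : 3 ≤ m) (hq : 4 ≤ Fintype.card F)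
    (hno : ∀ x : Ω, stabilizer Sp x ≠ ⊤)
    (hfree : ∀ u v : V, ⟪u, v⟫ = 1 → ∀ x : Ω, ZMoved u x → IsFree u v x) :
    Fintype.card F ^ (2 * m) - 1 ≤ (Fintype.card F - 1) * Nat.card Ω := by
  classical
  have := Fintype.ofFinite Ω
  by_contra hlt
  obtain ⟨k, hk⟩ : ∃ k, m = k + 1 := ⟨m - 1, by omega⟩
  obtain ⟨u, hu⟩ : ∃ u : V, u ≠ 0 :=
    ⟨Pi.single (Sum.inl ⟨0, by omega⟩) 1, fun h => by simpa using congrFun h (Sum.inl ⟨0, by omega⟩)⟩
  obtain ⟨v, huv⟩ := exists_pair hu
  obtain ⟨x, hx⟩ := exists_zMoved hno hu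
  have hself : ∀ y : Ω, y ∈ rootOrb u v y := fun y =>
    mem_rootOrb.2 ⟨0, Submodule.zero_mem _, 0, by rw [rootEl_zero_zero, one_smul]⟩
  have hsize : ∀ y : Ω, ZMoved u y →
      Fintype.card F * (Fintype.card F ^ k * Fintype.card F ^ k) ≤ (rootOrb u v y).card := by
    intro y hy
    have h := card_rootOrb u v y
    have hf := hfree u v huv y hy
    have h2 : Nat.card (centFix u y) = 1 := Nat.card_eq_one_iff_unique.2
      ⟨⟨fun a b => Subtype.ext ((hf.2 _ a.2).trans (hf.2 _ b.2).symm)⟩, ⟨0⟩⟩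
    rw [h2, card_rootProj_regular hf.1, one_mul, mul_one, card_perp2 huv,
      show 2 * m - 2 = k + k by omega, pow_add] at h
    exact h
  -- transvections of the complement keep the orbit
  have hkeep0 : ∀ y : Ω, ZMoved u y → ∀ s ∈ perp2 u v, ∀ l : F,
      spTransv s l • y ∈ rootOrb u v y := by
    intro y hy s hs l
    by_contra hout
    apply hlt
    have hA : spTransv s l ∈ fixer u v := levi_le_fixer u v (spTransv_mem_levi hs l)
    have hy' : ZMoved u (spTransv s l • y) := by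
      rw [zMoved_iff, centFix_fixer hA, ← zMoved_iff]; exact hy
    have hdisj : Disjoint (rootOrb u v y) (rootOrb u v (spTransv s l • y)) := by
      rw [Finset.disjoint_left]
      intro z h1 h2
      refine hout ?_
      rw [← rootOrb_eq_of_mem h1, rootOrb_eq_of_mem h2]
      exact hself _
    have h := (Finset.card_union_of_disjoint hdisj).symm.trans_le (Finset.card_le_univ _)
    rw [← Nat.card_eq_fintype_card] at h
    have h1 := hsize y hy
    have h2 := hsize _ hy'
    rw [goal_form hk]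
    refine (Nat.sub_le _ _).trans ?_
    obtain ⟨j, hj⟩ : ∃ j, Fintype.card F = j + 1 := ⟨Fintype.card F - 1, by omega⟩
    rw [hj] at h1 h2 ⊢
    rw [Nat.add_sub_cancel]
    generalize (j + 1) ^ k * (j + 1) ^ k = P at h1 h2 ⊢
    calc (j + 1) * (j + 1) * P ≤ j * (2 * (j + 1)) * P := Nat.mul_le_mul_right _ (by nlinarith)
      _ = j * ((j + 1) * P + (j + 1) * P) := by ring
      _ ≤ _ := Nat.mul_le_mul_left _ (by omega)
  -- moving the central part into the translation
  have hkill : ∀ y : Ω, ZMoved u y → ∀ a ∈ perp2 u v, a ≠ 0 → ∀ μ e : F,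
      spTransv a (1 : F) • y = rootEl u (μ • a) e • y → ∀ s ∈ perp2 u v, e = ⟪s, a⟫ ^ 2 →
      μ + ⟪s, a⟫ = 0 ∧ RootFixed (rootEl u s (0 : F) • y) a := by
    intro y hy a ha ha0 μ e he s hs hse
    have hA : spTransv a (1 : F) ∈ fixer u v := levi_le_fixer u v (spTransv_mem_levi ha 1)
    set y' := rootEl u s (0 : F) • y with hy'
    have hmy' : ZMoved u y' := zMoved_orb hy (mem_rootOrb.2 ⟨s, hs, 0, rfl⟩)
    obtain ⟨ν, hν⟩ : ∃ ν, ν = μ + ⟪s, a⟫ := ⟨_, rfl⟩
    rw [← hν]
    have hμa : ⟪μ • a, u⟫ = 0 := by rw [sympForm_smul_left, (mem_perp2.1 ha).1, mul_zero]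
    have hνa : ⟪ν • a, u⟫ = 0 := by rw [sympForm_smul_left, (mem_perp2.1 ha).1, mul_zero]
    have h1 : spTransv a (1 : F) • y' = rootEl u (ν • a) 0 • y' := by
      rw [hy', fixer_smul_rootEl hA, he, ← mul_smul, ← mul_smul,
        rootEl_mul (mem_perp2.1 (fixer_map_perp2 hA hs)).1 hμa, rootEl_mul hνa (mem_perp2.1 hs).1]
      congr 2
      · rw [spTransv_mulVec, one_mul, hν]; module
      · rw [spTransv_mulVec, one_mul, hν, hse]
        simp only [sympForm_smul_left, sympForm_smul_right, sympForm_add_right, sympForm_self,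
          sympForm_comm' a s]
        ring
    have hua : ⟪u, a⟫ = 0 := by rw [sympForm_comm', (mem_perp2.1 ha).1]
    have hel : rootEl u (ν • a) (0 : F) * spTransv a 1 = rootEl a (ν • u) 1 := by
      have h' : ⟪ν • u, a⟫ = 0 := by rw [sympForm_smul_left, hua, mul_zero]
      refine sp_ext fun z => ?_
      rw [sp_mul_mulVec, rootEl_mulVec hνa, spTransv_mulVec, rootEl_mulVec h']
      simp only [sympForm_add_left, sympForm_smul_left, sympForm_smul_right, sympForm_self,
        (mem_perp2.1 ha).1, mul_zero, add_zero, one_mul]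
      module
    have hfix : rootEl a (ν • u) (1 : F) • y' = y' := by
      rw [← hel, mul_smul, h1, ← mul_smul]
      conv_lhs => arg 1; arg 1; rw [← rootEl_self_inverse hνa]
      rw [inv_mul_cancel, one_smul]
    obtain ⟨a', ha', haa⟩ := perp2_nondeg huv ha ha0
    by_cases hmv : ZMoved a y'
    · exfalso
      have hf := hfree a a' haa y' hmv
      have hP : ν • u ∈ perp2 a a' := Submodule.smul_mem _ _
        ⟨hua, by rw [sympForm_comm', (mem_perp2.1 ha').1]⟩
      have h0 := hf.1 _ _ ⟨hP, hfix⟩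
      rw [h0, rootEl_zero] at hfix
      exact one_ne_zero (hf.2 1 hfix)
    · have hall : RootFixed y' a := fun c => by
        by_contra hc; exact hmv ⟨c, hc⟩
      refine ⟨?_, hall⟩
      rw [hall 1] at h1
      have := (hfree u v huv y' hmy').1 _ _ ⟨Submodule.smul_mem _ ν ha, h1.symm⟩
      exact (smul_eq_zero.1 this).resolve_right ha0
  have hreg := (hfree u v huv x hx).1
  have hex : ∀ a ∈ perp2 u v, a ≠ 0 → ∃ s ∈ perp2 u v, ZFixed u (rootEl u s (0 : F) • x) a := by
    intro a ha ha0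
    obtain ⟨d, hd, e, hde⟩ := mem_rootOrb.1 (hkeep0 x hx a ha 1)
    obtain ⟨μ, rfl⟩ := translation_mem_line huv hm hreg (hkeep0 x hx) ha ha0 hd hde.symm
    obtain ⟨ε, hε⟩ := exists_sqrt e
    obtain ⟨a', ha', haa⟩ := perp2_nondeg huv ha ha0
    obtain ⟨-, hfix⟩ := hkill x hx a ha ha0 μ e hde.symm (ε • a') (Submodule.smul_mem _ _ ha')
      (by rw [sympForm_smul_left, sympForm_comm' a' a, haa, mul_one, hε])
    exact ⟨_, Submodule.smul_mem _ _ ha', fun l => ⟨0, by rw [hfix l, spTransv_zero', one_smul]⟩⟩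
  obtain ⟨s₁, hs₁, hZ⟩ := common_zFixed huv (by omega) hreg hex
  set y := rootEl u s₁ (0 : F) • x with hy
  have hmy : ZMoved u y := zMoved_orb hx (mem_rootOrb.2 ⟨s₁, hs₁, 0, rfl⟩)
  refine hlt (le_card_of_levi_fixed hm huv (hno y) fun a ha => ?_)
  rcases eq_or_ne a 0 with rfl | ha0
  · intro c; rw [spTransv_zero_center, one_smul]
  obtain ⟨e, he⟩ := hZ a ha 1
  obtain ⟨ε, hε⟩ := exists_sqrt e
  obtain ⟨a', ha', haa⟩ := perp2_nondeg huv ha ha0
  obtain ⟨hε0, hfix⟩ := hkill y hmy a ha ha0 0 e (by rw [zero_smul, rootEl_zero]; exact he)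
    (ε • a') (Submodule.smul_mem _ _ ha')
    (by rw [sympForm_smul_left, sympForm_comm' a' a, haa, mul_one, hε])
  rw [sympForm_smul_left, sympForm_comm' a' a, haa, mul_one, zero_add] at hε0
  rwa [hε0, zero_smul, rootEl_zero, spTransv_zero', one_smul] at hfix

theorem isFormPt_fixes {pr : F →+ ZMod 2} (hpr : pr ≠ 0) {u v : V} (huv : ⟪u, v⟫ = 1) {x : Ω}
    (hfull : Full u v x) {Q : V → F} (huniq : ∀ l, IsLabel pr u v x l → l.2 = Q) {w : V}
    (hw : w ∈ perp2 u v) : RootFix u v x w (Q w) := by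
  obtain ⟨c, hc⟩ := hfull w hw
  have hd : c + Q w ∈ centFix u x := by
    by_contra hne
    obtain ⟨r, hr, hr'⟩ := exists_ne_zero_addPerp (LinearMap.mul F F) mulForm_sep hpr hne
    have hr0 : r ≠ 0 := fun h => hr' (by rw [h, map_zero, LinearMap.zero_apply, map_zero])
    obtain ⟨Q', hl⟩ := exists_label hpr huv hr0 hr
    have e : Q' = Q := huniq _ hl
    subst e
    exact hr' (hl.2.2.2.2 w c hc)
  have := rootFix_central hc hd
  rwa [← add_assoc, CharTwo.add_self_eq_zero, zero_add] at this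

theorem form_case [Finite Ω] [Nonempty Ω] {pr : F →+ ZMod 2} (hpr : pr ≠ 0) (hm : 3 ≤ m)
    (hq : 4 ≤ Fintype.card F)
    (hno : ∀ x : Ω, stabilizer Sp x ≠ ⊤)
    (hform : ∀ u v : V, ⟪u, v⟫ = 1 → ∀ x : Ω, ZMoved u x → IsFormPt pr u v x) : False := by
  classical
  have := Fintype.ofFinite Ω
  -- no point is fixed by one and moved by a non-orthogonal root group
  have hnb : ∀ (x : Ω) (u v : V), ⟪u, v⟫ = 1 → RootFixed x v → ZMoved u x → False := by
    intro x u v huv hv hux
    obtain ⟨hfull, Q, ⟨a, hl⟩, huniq⟩ := hform u v huv x hux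
    have hQ : IsQuad Q := hl.2.1
    have hvu : ⟪v, u⟫ = 1 := by rw [sympForm_comm', huv]
    have himg : ∀ w ∈ perp2 u v, RootFixed x (v + w + Q w • u) := by
      intro w hw
      have h := rootFixed_conj hv (isFormPt_fixes hpr huv hfull huniq hw).2
      rw [rootEl_mulVec (mem_perp2.1 hw).1, sympForm_comm' v w, (mem_perp2.1 hw).2, hvu, mul_one,
        zero_smul, add_zero, one_smul] at h
      exact h
    obtain ⟨w₀, hw₀, hQw₀⟩ : ∃ w₀ ∈ perp2 u v, Q w₀ ≠ 0 := by
      by_contra! h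
      obtain ⟨w, hw, hw0⟩ : ∃ w ∈ perp2 u v, w ≠ 0 := by
        obtain ⟨p, hp, -, hpind⟩ := exists_perp_indep huv hm (Submodule.zero_mem (perp2 u v))
        exact ⟨p, hp, fun e => hpind 0 (by rw [e, zero_smul])⟩
      obtain ⟨z, hz, hwz⟩ := perp2_nondeg huv hw hw0
      have := hQ.1 w z
      rw [h w hw, h z hz, h _ (Submodule.add_mem _ hw hz), hwz, zero_add, zero_add] at this
      exact zero_ne_one this
    have e0 : RootFixed x (w₀ + Q w₀ • u) := by
      have h := rootFixed_combine hv (himg w₀ hw₀) (by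
        rw [sympForm_add_right, sympForm_add_right, sympForm_self, sympForm_smul_right, hvu,
          mul_one, sympForm_comm' v w₀, (mem_perp2.1 hw₀).2, zero_add, zero_add]
        exact hQw₀) (-1) 1
      have e : (-1 : F) • v + (1 : F) • (v + w₀ + Q w₀ • u) = w₀ + Q w₀ • u := by module
      rwa [e] at h
    have eall : ∀ b : F, RootFixed x (w₀ + b • u) := by
      intro b
      obtain ⟨z, hz, hwz⟩ := perp2_nondeg huv hw₀ (fun h => hQw₀ (by rw [h, hQ.map_zero]))
      set s := (b + Q w₀) • z with hs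
      have hsP : s ∈ perp2 u v := Submodule.smul_mem _ _ hz
      have h := rootFixed_conj e0 (isFormPt_fixes hpr huv hfull huniq hsP).2
      rw [rootEl_mulVec (mem_perp2.1 hsP).1] at h
      simp only [sympForm_add_left, sympForm_smul_left, sympForm_self, sympForm_comm' u s,
        (mem_perp2.1 hsP).1, (mem_perp2.1 hw₀).1, mul_zero, add_zero, zero_smul] at h
      rw [hs, sympForm_smul_right, hwz, mul_one] at h
      have e : w₀ + Q w₀ • u + (b + Q w₀) • u = w₀ + b • u := by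
        rw [add_assoc, ← add_smul, add_left_comm, CharTwo.add_self_eq_zero, add_zero]
      rwa [e] at h
    have hmix : ∀ b : F, b ≠ 0 → RootFixed x (v + (w₀ + b • u)) := by
      intro b hb
      have h := rootFixed_combine hv (eall b) (by
        rw [sympForm_add_right, sympForm_smul_right, hvu, mul_one, sympForm_comm' v w₀,
          (mem_perp2.1 hw₀).2, zero_add]
        exact hb) 1 1
      rwa [one_smul, one_smul] at h
    obtain ⟨g, hg0, hg1⟩ : ∃ g : F, g ≠ 0 ∧ g ≠ Q w₀ := by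
      by_contra! h
      have hsub : (Finset.univ : Finset F) ⊆ {0, Q w₀} := fun d _ => by
        rcases eq_or_ne d 0 with rfl | hd
        · simp
        · simp [h d hd]
      have := (Finset.card_le_card hsub).trans Finset.card_le_two
      rw [Finset.card_univ] at this
      omega
    have h := rootFixed_combine (hmix g hg0) (hmix (Q w₀) hQw₀) (by
      simp only [sympForm_add_left, sympForm_add_right, sympForm_smul_left, sympForm_smul_right,
        sympForm_self, hvu, huv, sympForm_comm' v w₀, sympForm_comm' u w₀, (mem_perp2.1 hw₀).1,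
        (mem_perp2.1 hw₀).2, mul_zero, mul_one, add_zero, zero_add]
      intro h0
      exact hg1 (by linear_combination h0 - Q w₀ * two_eq_zero' (F := F))) 1 (-1)
    have e : (1 : F) • (v + (w₀ + g • u)) + (-1 : F) • (v + (w₀ + Q w₀ • u)) = (g - Q w₀) • u := by
      module
    rw [e] at h
    have h2 := rootFixed_smul h (g - Q w₀)⁻¹
    rw [inv_smul_smul₀ (sub_ne_zero.2 hg1)] at h2
    obtain ⟨c, hc⟩ := hux
    exact hc (h2 c)
  -- every root group moves every point
  have hmoved : ∀ (x : Ω) (u : V), u ≠ 0 → ZMoved u x := by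
    intro x u hu
    by_contra hn
    have hfix : RootFixed x u := fun c => by by_contra hc; exact hn ⟨c, hc⟩
    refine hno x (stabilizer_eq_top_of_rootFixed fun a ha => ?_)
    obtain ⟨z, hz1, hz2⟩ := exists_sympForm_ne_zero_two hu ha
    have step : ∀ {b b' : V}, RootFixed x b → ⟪b, b'⟫ ≠ 0 → RootFixed x b' := by
      intro b b' hb hne
      by_contra hb'
      have hm' : ZMoved b' x := by
        by_contra h; exact hb' fun c => by by_contra hc; exact h ⟨c, hc⟩
      refine hnb x b' (⟪b', b⟫⁻¹ • b) ?_ (rootFixed_smul hb _) hm'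
      rw [sympForm_smul_right, inv_mul_cancel₀]
      rwa [sympForm_comm']
    exact step (step hfix hz1) (by rwa [sympForm_comm'])
  obtain ⟨u, hu⟩ : ∃ u : V, u ≠ 0 :=
    ⟨Pi.single (Sum.inl ⟨0, by omega⟩) 1, fun h => by simpa using congrFun h (Sum.inl ⟨0, by omega⟩)⟩
  obtain ⟨v, huv⟩ := exists_pair hu
  have hall := fun x : Ω => hform u v huv x (hmoved x u hu)
  choose hfull Qx hQx huniq using hall
  obtain ⟨x₀⟩ := ‹Nonempty Ω›
  have hQ : IsQuad (Qx x₀) := (hQx x₀).choose_spec.2.1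
  -- a singular vector and an orthogonal nonsingular one
  obtain ⟨a, ha, ha0, hQa⟩ : ∃ a ∈ perp2 u v, a ≠ 0 ∧ Qx x₀ a = 0 := by
    obtain ⟨p, hp, -, hpind⟩ := exists_perp_indep huv hm (Submodule.zero_mem (perp2 u v))
    have hp0 : p ≠ 0 := fun e => hpind 0 (by rw [e, zero_smul])
    rcases eq_or_ne (Qx x₀ p) 0 with h | h
    · exact ⟨p, hp, hp0, h⟩
    obtain ⟨e, he, hep, heind⟩ := exists_perp_indep huv hm hp
    obtain ⟨l, hl⟩ := exists_sqrt (Qx x₀ e / Qx x₀ p)
    refine ⟨l • p + e, Submodule.add_mem _ (Submodule.smul_mem _ _ hp) he,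
      fun h0 => heind l ?_, ?_⟩
    · rw [eq_neg_of_add_eq_zero_right h0, vec_neg']
    · rw [hQ.1, hQ.2, hl, div_mul_cancel₀ _ h, sympForm_smul_left, sympForm_comm' p e, hep,
        mul_zero, add_zero, CharTwo.add_self_eq_zero]
  obtain ⟨b, hb, hab, hQb, hbind⟩ : ∃ b ∈ perp2 u v, ⟪a, b⟫ = 0 ∧ Qx x₀ b ≠ 0 ∧
      ∀ c : F, b ≠ c • a := by
    obtain ⟨b₁, hb₁, hb₁a, hb₁ind⟩ := exists_perp_indep huv hm ha
    have hab₁ : ⟪a, b₁⟫ = 0 := by rw [sympForm_comm', hb₁a]
    rcases eq_or_ne (Qx x₀ b₁) 0 with h1 | h1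
    swap
    · exact ⟨b₁, hb₁, hab₁, h1, hb₁ind⟩
    obtain ⟨b₂, hb₂, hab₂, hb12⟩ := exists_dual_values huv ha hb₁ hb₁ind 0 1 ha0
    rcases eq_or_ne (Qx x₀ b₂) 0 with h2 | h2
    swap
    · exact ⟨b₂, hb₂, hab₂, h2, fun c hc => by
        rw [hc, sympForm_smul_right, hb₁a, mul_zero] at hb12; exact zero_ne_one hb12⟩
    refine ⟨b₁ + b₂, Submodule.add_mem _ hb₁ hb₂, by rw [sympForm_add_right, hab₁, hab₂, add_zero],
      ?_, fun c hc => ?_⟩
    · rw [hQ.1, h1, h2, hb12, zero_add, zero_add]; exact one_ne_zero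
    · have := congrArg (fun y => ⟪b₁, y⟫) hc
      simp [sympForm_add_right, sympForm_smul_right, sympForm_self, hb12, hb₁a] at this
  have hua : ⟪a, u⟫ = 0 := (mem_perp2.1 ha).1
  set g := rootEl u a (0 : F) with hg
  set σ := rootEl b a (0 : F) with hσ
  have hσfix : σ ∈ fixer u v := by
    rw [hσ, rootEl]
    exact levi_le_fixer u v (mul_mem (mul_mem (spTransv_mem_levi (Submodule.add_mem _ hb ha) _)
      (spTransv_mem_levi hb _)) (spTransv_mem_levi ha _))
  -- the two elements are conjugate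
  obtain ⟨A, hAu, hAa⟩ : ∃ A : Sp, A.1 *ᵥ u = b ∧ A.1 *ᵥ a = a := by
    have hli : LinearIndependent F ![u, a] := by
      rw [LinearIndependent.pair_iff' hu]
      intro c hc
      have := congrArg (fun y => ⟪y, v⟫) hc
      simp only [sympForm_smul_left, huv, (mem_perp2.1 ha).2, mul_one] at this
      rw [this, zero_smul] at hc
      exact ha0 hc.symm
    have hb0 : b ≠ 0 := fun h => hQb (by rw [h, hQ.map_zero])
    have hli' : LinearIndependent F ![b, a] := by
      rw [LinearIndependent.pair_iff' hb0]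
      intro c hc
      rcases eq_or_ne c 0 with rfl | hc0
      · exact ha0 (by rw [← hc, zero_smul])
      · exact hbind c⁻¹ (by rw [← hc, inv_smul_smul₀ hc0])
    obtain ⟨B, hB1, hB2⟩ := exists_spGL_mulVec_pair hli hli'
      (by rw [sympForm_comm' u a, hua, sympForm_comm' b a, hab])
    obtain ⟨A, rfl⟩ := toSpGL_surjective B
    exact ⟨A, hB1, hB2⟩
  have hconj : A * g * A⁻¹ = σ := by rw [hg, conj_rootEl, hAu, hAa]
  let Fg := Finset.univ.filter fun z : Ω => g • z = z
  let Fσ := Finset.univ.filter fun z : Ω => σ • z = z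
  have hcard : Fg.card = Fσ.card := by
    refine Finset.card_bij (fun z _ => A • z) (fun z hz => ?_)
      (fun p _ q _ h => smul_left_cancel A h) (fun z hz => ?_)
    · simp only [Fg, Fσ, Finset.mem_filter, Finset.mem_univ, true_and] at hz ⊢
      rw [← hconj, mul_smul, inv_smul_smul, mul_smul, hz]
    · simp only [Fσ, Finset.mem_filter, Finset.mem_univ, true_and] at hz
      rw [← hconj, mul_smul, mul_smul, ← eq_inv_smul_iff] at hz
      exact ⟨A⁻¹ • z, by simp only [Fg, Finset.mem_filter, Finset.mem_univ, true_and]; exact hz,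
        smul_inv_smul _ _⟩
  let Sa := Finset.univ.filter fun z : Ω => Qx z a = 0
  let Sab := Finset.univ.filter fun z : Ω => Qx z a = 0 ∧ Qx z b = 0
  have h1 : Sa ⊆ Fg := by
    intro z hz
    simp only [Sa, Fg, Finset.mem_filter, Finset.mem_univ, true_and] at hz ⊢
    have := isFormPt_fixes hpr huv (hfull z) (huniq z) ha
    rw [hz] at this
    exact this.2
  have h2 : Fσ ⊆ Sab := by
    intro z hz
    simp only [Sab, Fσ, Finset.mem_filter, Finset.mem_univ, true_and] at hz ⊢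
    obtain ⟨c, hc⟩ := hQx z
    have hl := label_fixer hσfix hc
    rw [hz] at hl
    have e : (fun y => Qx z ((σ⁻¹).1 *ᵥ y)) = Qx z := huniq z _ hl
    have hba : ⟪a, b⟫ = 0 := hab
    rw [hσ, rootEl_self_inverse hba] at e
    have hexp : ∀ y, ⟪y, a⟫ ^ 2 * Qx z b + ⟪y, b⟫ ^ 2 * Qx z a = 0 := by
      intro y
      have h := congrFun e y
      simp only [rootEl_mulVec hba] at h
      have hQz : IsQuad (Qx z) := hc.2.1
      rw [hQz.1, hQz.1, hQz.1, hQz.2, hQz.2, hQz.2] at h
      simp only [sympForm_add_left, sympForm_add_right, sympForm_smul_left, sympForm_smul_right,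
        sympForm_self, hba, sympForm_comm' b a, mul_zero, zero_mul, add_zero] at h
      linear_combination h - ⟪y, a⟫ * ⟪y, b⟫ * two_eq_zero' (F := F)
    have ha0' : a ≠ 0 := ha0
    obtain ⟨y1, -, hy1a, hy1b⟩ := exists_dual_values huv ha hb hbind 1 0 ha0
    obtain ⟨y2, -, hy2a, hy2b⟩ := exists_dual_values huv ha hb hbind 0 1 ha0
    have k1 := hexp y1
    have k2 := hexp y2
    rw [sympForm_comm' y1 a, hy1a, sympForm_comm' y1 b, hy1b] at k1
    rw [sympForm_comm' y2 a, hy2a, sympForm_comm' y2 b, hy2b] at k2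
    exact ⟨by linear_combination k2, by linear_combination k1⟩
  have h3 : Sab ⊂ Sa := by
    refine Finset.ssubset_iff_of_subset (fun z hz => ?_) |>.2 ⟨x₀, ?_, ?_⟩
    · simp only [Sab, Sa, Finset.mem_filter] at hz ⊢; exact ⟨hz.1, hz.2.1⟩
    · simp [Sa, hQa]
    · simp [Sab, hQb]
  have c1 := Finset.card_le_card h1
  have c2 := Finset.card_le_card h2
  have c3 := Finset.card_lt_card h3
  omega

theorem le_card_sp_even [Finite Ω] [Nonempty Ω] (hm : 3 ≤ m) (hq : 4 ≤ Fintype.card F)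
    (hno : ∀ x : Ω, stabilizer Sp x ≠ ⊤) :
    Fintype.card F ^ (2 * m) - 1 ≤ (Fintype.card F - 1) * Nat.card Ω := by
  classical
  by_contra hlt
  obtain ⟨k, hk⟩ : ∃ k, m = k + 1 := ⟨m - 1, by omega⟩
  obtain ⟨pr, hpr, -, hAS⟩ := exists_prAS (F := F)
  by_cases hex : ∃ u v : V, ⟪u, v⟫ = 1 ∧ ∃ x : Ω, ZMoved u x ∧ IsFree u v x
  · obtain ⟨u₁, v₁, huv₁, x₁, hx₁, hf₁⟩ := hex
    refine hlt (free_case hm hq hno fun u v huv x hx => ?_)
    rcases even_dichotomy hpr hAS huv hk (by omega) hq hlt hx with h | h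
    · exact h
    exfalso
    obtain ⟨A, hAu, hAv⟩ := exists_move_pair huv₁ huv
    refine hlt (not_both hpr hAS huv hk (by omega) hq ?_ hx (isFree_conj hAu hAv hf₁) h)
    rw [zMoved_iff, ← hAu, centFix_conj, ← zMoved_iff]; exact hx₁
  · push Not at hex
    exact form_case hpr hm hq hno fun u v huv x hx =>
      (even_dichotomy hpr hAS huv hk (by omega) hq hlt hx).resolve_left (hex u v huv x hx)

end CfsgLib.MinDegree
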