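import Cfsg.Agent.MinDegree.SympLabels

/-!
# Small `Sp(2m,q)`-sets, `q` even: the two possible kinds of moved points
-/

set_option autoImplicit false

namespace CfsgLib.MinDegree

open Matrix CfsgLib.Forms CfsgLib.Forms4 MulAction

variable {F : Type*} [Field F] [Fintype F] [CharP F 2] {m : ℕ} {Ω : Type*}
  [MulAction (Matrix.symplecticGroup (Fin m) F) Ω]

local notation "V" => Fin m ⊕ Fin m → F
local notation "Sp" => Matrix.symplecticGroup (Fin m) F
local notation "⟪" x ", " y "⟫" => Cfsg.sympForm m F x y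

/-- The stabiliser is trivial in the centre and central in the root group. -/
def IsFree (u v : V) (x : Ω) : Prop := Regular u v x ∧ ∀ c ∈ centFix u x, c = 0

/-- The stabiliser projects onto the complement and all labels carry the same form. -/
def IsFormPt (pr : F →+ ZMod 2) (u v : V) (x : Ω) : Prop :=
  Full u v x ∧ ∃ Q : V → F, (∃ a, IsLabel pr u v x (a, Q)) ∧
    ∀ l, IsLabel pr u v x l → l.2 = Q

theorem projAnn_fixer {pr : F →+ ZMod 2} {u v : V} {A : Sp} (hA : A ∈ fixer u v) (x : Ω)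
    (r : perp2 u v) : fixerRes hA r ∈ projAnn pr u v (A • x) ↔ r ∈ projAnn pr u v x := by
  constructor
  · intro h w hw
    have := h _ ((rootProj_fixer hA x w).2 hw)
    rwa [perpForm_apply, fixerRes_apply, fixerRes_apply, sympForm_map, ← perpForm_apply] at this
  · intro h w hw
    obtain ⟨w', rfl⟩ := (fixerRes hA).surjective w
    rw [perpForm_apply, fixerRes_apply, fixerRes_apply, sympForm_map, ← perpForm_apply]
    exact h _ ((rootProj_fixer hA x w').1 hw)

theorem even_constants (hq : 4 ≤ Fintype.card F) :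
    Fintype.card F ^ 2 ≤ 2 * (Fintype.card F - 1) ^ 2 := by
  obtain ⟨j, hj⟩ : ∃ j, Fintype.card F = j + 1 := ⟨Fintype.card F - 1, by omega⟩
  rw [hj, Nat.add_sub_cancel]
  nlinarith

theorem numeric_ann {q R d ρ : ℕ} (hq : 4 ≤ q) (hR : q * q ≤ R) (hρ : ρ ≤ R) (hρ0 : 0 < ρ)
    (h : (R * R - 1) * ((q - 1) * (R * R)) * (2 * ρ) ≤ d * (ρ - 1) * ρ * (q * q)) :
    q * q * (R * R) ≤ (q - 1) * d := by
  have h1 : (R * R - 1) * ((q - 1) * (R * R)) * 2 ≤ d * (R - 1) * (q * q) := by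
    apply Nat.le_of_mul_le_mul_right _ hρ0
    calc _ = (R * R - 1) * ((q - 1) * (R * R)) * (2 * ρ) := by ring
      _ ≤ d * (ρ - 1) * ρ * (q * q) := h
      _ ≤ d * (R - 1) * ρ * (q * q) := Nat.mul_le_mul_right _ (Nat.mul_le_mul_right _
          (Nat.mul_le_mul_left _ (Nat.sub_le_sub_right hρ 1)))
      _ = _ := by ring
  obtain ⟨R', rfl⟩ : ∃ R', R = R' + 1 := ⟨R - 1, by
    have := Nat.mul_le_mul hq hq; omega⟩
  obtain ⟨j, rfl⟩ : ∃ j, q = j + 1 := ⟨q - 1, by omega⟩
  have hR' : 0 < R' := by have := Nat.mul_le_mul hq hq; omega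
  rw [show (R' + 1) * (R' + 1) - 1 = R' * (R' + 2) from by
    rw [Nat.sub_eq_iff_eq_add (Nat.mul_pos (by omega) (by omega))]; ring,
    Nat.add_sub_cancel, Nat.add_sub_cancel] at h1
  rw [Nat.add_sub_cancel]
  have h2 : (j + 1) * (j + 1) * (2 * j * ((R' + 1) * (R' + 1))) ≤ (j + 1) * (j + 1) * d := by
    apply Nat.le_of_mul_le_mul_left _ hR'
    calc R' * ((j + 1) * (j + 1) * (2 * j * ((R' + 1) * (R' + 1))))
        ≤ R' * ((R' + 2) * (2 * j * ((R' + 1) * (R' + 1)))) :=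
          Nat.mul_le_mul_left _ (Nat.mul_le_mul_right _ (by omega))
      _ = R' * (R' + 2) * (j * ((R' + 1) * (R' + 1))) * 2 := by ring
      _ ≤ d * R' * ((j + 1) * (j + 1)) := h1
      _ = _ := by ring
  have h3 := Nat.le_of_mul_le_mul_left h2 (Nat.mul_pos (by omega) (by omega))
  calc (j + 1) * (j + 1) * ((R' + 1) * (R' + 1)) ≤ 2 * j * j * ((R' + 1) * (R' + 1)) :=
        Nat.mul_le_mul_right _ (by nlinarith)
    _ = j * (2 * j * ((R' + 1) * (R' + 1))) := by ring
    _ ≤ _ := Nat.mul_le_mul_left _ h3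

theorem numeric_types {q R d S : ℕ} (hq : 4 ≤ q) (hR : 16 ≤ R) (hS : R * R ≤ 2 * S + R)
    (h : q * (3 * S) ≤ d) : q * q * (R * R) ≤ (q - 1) * d := by
  obtain ⟨j, rfl⟩ : ∃ j, q = j + 1 := ⟨q - 1, by omega⟩
  rw [Nat.add_sub_cancel]
  obtain ⟨T, hT⟩ : ∃ T, R * R = T + R := ⟨R * R - R, by have := Nat.le_mul_self R; omega⟩
  have h1 : T ≤ 2 * S := by omega
  have h2 : 2 * ((j + 1) * (T + R)) ≤ 3 * j * T := by
    have h4 : 15 * R ≤ T := by
      have : 16 * R ≤ R * R := Nat.mul_le_mul_right _ hR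
      omega
    nlinarith
  rw [hT]
  have h5 : (j + 1) * (2 * ((j + 1) * (T + R))) ≤ (j + 1) * (j * (3 * (2 * S))) := by
    refine Nat.mul_le_mul_left _ (h2.trans ?_)
    calc 3 * j * T ≤ 3 * j * (2 * S) := Nat.mul_le_mul_left _ h1
      _ = _ := by ring
  have h6 : (j + 1) * (3 * S) * j ≤ d * j := Nat.mul_le_mul_right _ h
  nlinarith

theorem numeric_coexist {q R d S : ℕ} (hq : 4 ≤ q) (hR : 16 ≤ R) (hS : R * R ≤ 2 * S + R)
    (h : q * (R * R) + q * S ≤ d) : q * q * (R * R) ≤ (q - 1) * d := by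
  obtain ⟨j, rfl⟩ : ∃ j, q = j + 1 := ⟨q - 1, by omega⟩
  rw [Nat.add_sub_cancel]
  obtain ⟨T, hT⟩ : ∃ T, R * R = T + R := ⟨R * R - R, by have := Nat.le_mul_self R; omega⟩
  have h1 : T ≤ 2 * S := by omega
  have h4 : 15 * R ≤ T := by
    have : 16 * R ≤ R * R := Nat.mul_le_mul_right _ hR
    omega
  rw [hT] at h ⊢
  have h2 : 2 * ((j + 1) * (T + R)) ≤ j * (2 * (T + R) + T) := by nlinarith
  have h3 : (j + 1) * (2 * ((j + 1) * (T + R))) ≤ (j + 1) * (j * (2 * (T + R) + 2 * S)) :=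
    Nat.mul_le_mul_left _ (h2.trans (Nat.mul_le_mul_left _ (by omega)))
  have h6 : ((j + 1) * (T + R) + (j + 1) * S) * j ≤ d * j := Nat.mul_le_mul_right _ h
  nlinarith

theorem scale_alpha {q α S M : ℕ} (hα1 : 1 ≤ α) (hαq : α ≤ q) (hq : 2 ≤ q)
    (h : (q - 1) * S * α ≤ M * (α - 1)) : q * S ≤ M := by
  obtain ⟨i, rfl⟩ : ∃ i, α = i + 1 := ⟨α - 1, by omega⟩
  obtain ⟨j, rfl⟩ : ∃ j, q = j + 1 := ⟨q - 1, by omega⟩
  rw [Nat.add_sub_cancel, Nat.add_sub_cancel] at h
  rcases Nat.eq_zero_or_pos i with rfl | hi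
  · simp at h
    rcases h with h | h
    · omega
    · subst h; simp
  apply Nat.le_of_mul_le_mul_right _ hi
  calc (j + 1) * S * i = S * ((j + 1) * i) := by ring
    _ ≤ S * (j * (i + 1)) := Nat.mul_le_mul_left _ (by nlinarith)
    _ = j * S * (i + 1) := by ring
    _ ≤ _ := h

theorem goal_form {k : ℕ} (hk : m = k + 1) :
    Fintype.card F ^ (2 * m) =
      Fintype.card F * Fintype.card F * (Fintype.card F ^ k * Fintype.card F ^ k) := by
  rw [hk, ← pow_add, ← sq, ← pow_add]; congr 1; ring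

theorem large_R {k : ℕ} (hk2 : 2 ≤ k) (hq : 4 ≤ Fintype.card F) :
    16 ≤ Fintype.card F ^ k :=
  le_trans (Nat.pow_le_pow_left hq 2) (Nat.pow_le_pow_right (by omega) hk2)

theorem exists_two_reflections {u v : V} (huv : ⟪u, v⟫ = 1) (hm : 3 ≤ m)
    (hq : 4 ≤ Fintype.card F) {Q : V → F} (hQ : IsQuad Q) {s : V} (hs : s ∈ perp2 u v)
    (hs0 : s ≠ 0) : ∃ c₁ ∈ perp2 u v, ∃ c₂ ∈ perp2 u v, Q c₁ ≠ 0 ∧ Q c₂ ≠ 0 ∧
      ⟪s, c₁⟫ = 1 ∧ ⟪s, c₂⟫ = 1 ∧ ∀ a b : F, c₁ ≠ a • s + b • c₂ := by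
  classical
  obtain ⟨z, hz, hsz⟩ := perp2_nondeg huv hs hs0
  have hzs : ⟪z, s⟫ = 1 := by rw [sympForm_comm', hsz]
  obtain ⟨μ, hμ⟩ : ∃ μ : F, Q (z + μ • s) ≠ 0 := by
    by_contra! h
    have hQz : Q z = 0 := by simpa using h 0
    have h' : ∀ μ : F, μ ≠ 0 → μ * Q s = -1 := by
      intro μ hμ
      have h1 := h μ
      rw [hQ.1, hQ.2, sympForm_smul_right, hzs, hQz, mul_one, zero_add] at h1
      have h2 : μ * (μ * Q s + 1) = 0 := by linear_combination h1
      linear_combination (mul_eq_zero.1 h2).resolve_left hμ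
    have : (Finset.univ : Finset F) ⊆ {0, (-1) / Q s} := fun d _ => by
      rcases eq_or_ne d 0 with rfl | hd
      · simp
      · have hQs : Q s ≠ 0 := fun h0 => by
          have := h' d hd
          rw [h0, mul_zero] at this
          exact one_ne_zero (neg_eq_zero.1 this.symm)
        simp [← h' d hd, mul_div_cancel_right₀ _ hQs]
    have := (Finset.card_le_card this).trans Finset.card_le_two
    rw [Finset.card_univ] at this
    omega
  set c₀ := z + μ • s with hc₀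
  have hc₀P : c₀ ∈ perp2 u v := Submodule.add_mem _ hz (Submodule.smul_mem _ _ hs)
  have hsc : ⟪s, c₀⟫ = 1 := by
    rw [hc₀, sympForm_add_right, sympForm_smul_right, sympForm_self, hsz, mul_zero, add_zero]
  obtain ⟨p, hp, hps, hpind⟩ := exists_perp_indep huv hm hs
  set e := p + ⟪p, c₀⟫ • s with he
  have heP : e ∈ perp2 u v := Submodule.add_mem _ hp (Submodule.smul_mem _ _ hs)
  have hse : ⟪s, e⟫ = 0 := by
    rw [he, sympForm_add_right, sympForm_smul_right, sympForm_self, sympForm_comm' s p, hps,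
      mul_zero, add_zero]
  have hec : ⟪e, c₀⟫ = 0 := by
    rw [he, sympForm_add_left, sympForm_smul_left, hsc, mul_one, CharTwo.add_self_eq_zero]
  have he0 : e ≠ 0 := fun h => hpind (-⟪p, c₀⟫) (by
    rw [neg_smul]; exact eq_neg_of_add_eq_zero_left h)
  obtain ⟨g, hg0, hg⟩ : ∃ g : F, g ≠ 0 ∧ Q (c₀ + g • e) ≠ 0 := by
    by_contra! h
    obtain ⟨g₁, hg₁, hg₁'⟩ : ∃ g₁ : F, g₁ ≠ 0 ∧ g₁ ≠ 1 := by
      by_contra! h'
      have : (Finset.univ : Finset F) ⊆ {0, 1} := fun d _ => by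
        rcases eq_or_ne d 0 with rfl | hd
        · simp
        · simp [h' d hd]
      have := (Finset.card_le_card this).trans Finset.card_le_two
      rw [Finset.card_univ] at this
      omega
    have h1 := h 1 one_ne_zero
    have h2 := h g₁ hg₁
    rw [hQ.1, hQ.2, sympForm_smul_right, sympForm_comm' c₀ e, hec] at h1 h2
    have h3 : (g₁ ^ 2 - 1) * Q e = 0 := by linear_combination h2 - h1
    have h4 : Q e = 0 := (mul_eq_zero.1 h3).resolve_left fun h5 => hg₁'
      (sq_inj' (by linear_combination h5))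
    rw [h4] at h1
    exact hμ (by linear_combination h1)
  refine ⟨c₀ + g • e, Submodule.add_mem _ hc₀P (Submodule.smul_mem _ _ heP), c₀, hc₀P, hg, hμ,
    by rw [sympForm_add_right, sympForm_smul_right, hse, hsc, mul_zero, add_zero], hsc, ?_⟩
  intro a b h
  have h1 := congrArg (fun y => ⟪s, y⟫) h
  simp only [sympForm_add_right, sympForm_smul_right, sympForm_self, hse, hsc, mul_zero, mul_one,
    add_zero, zero_add] at h1
  have h2 := congrArg (fun y => ⟪y, c₀⟫) h
  simp only [sympForm_add_left, sympForm_smul_left, sympForm_self, hec, hsc, mul_zero, mul_one,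
    add_zero] at h2
  rw [← h1, ← h2, zero_smul, one_smul, zero_add, add_eq_left, smul_eq_zero] at h
  exact he0 (h.resolve_left hg0)

/-- A point with two different forms as labels, the second unique up to scalars, gives too many
moved points. -/
theorem three_bound [Finite Ω] {pr : F →+ ZMod 2} (hpr : pr ≠ 0)
    (hAS : ∀ x, pr x = 0 → ∃ y, y ^ 2 + y = x) {u v : V} (huv : ⟪u, v⟫ = 1) {k : ℕ}
    (hk : m = k + 1) (hk2 : 2 ≤ k) (hq : 4 ≤ Fintype.card F) {x : Ω} (hmov : ZMoved u x)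
    {a a' : F} {Q : V → F} {s : V} (hs : s ∈ perp2 u v) (hs0 : s ≠ 0)
    (h1 : IsLabel pr u v x (a, Q)) (h2 : IsLabel pr u v x (a', qshift Q s))
    (hline : ∀ s' ∈ perp2 u v, IsLabel pr u v x (a', qshift Q s') → ∃ c : F, s' = c • s) :
    Fintype.card F ^ (2 * m) - 1 ≤ (Fintype.card F - 1) * Nat.card Ω := by
  classical
  have := Fintype.ofFinite Ω
  have hQ : IsQuad Q := h1.2.1
  obtain ⟨α, hα⟩ : ∃ α, Nat.card (centAnn pr u x) = α := ⟨_, rfl⟩
  obtain ⟨ρ, hρ⟩ : ∃ ρ, Nat.card (projAnn pr u v x) = ρ := ⟨_, rfl⟩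
  have hx : OfType pr u v α ρ x := ⟨hmov, hα, hρ⟩
  obtain ⟨c₁, hc₁, c₂, hc₂, hQ1, hQ2, hs1, hs2, hind⟩ :=
    exists_two_reflections huv (by omega) hq hQ hs hs0
  -- the reflections move the second label
  have hτ : ∀ c ∈ perp2 u v, Q c ≠ 0 → ⟪s, c⟫ = 1 →
      OfType pr u v α ρ (spTransv c (Q c)⁻¹ • x) ∧
      IsLabel pr u v (spTransv c (Q c)⁻¹ • x) (a, Q) ∧
      IsLabel pr u v (spTransv c (Q c)⁻¹ • x) (a', qshift Q (s + (Q c)⁻¹ • c)) ∧
      ∀ s' ∈ perp2 u v, IsLabel pr u v (spTransv c (Q c)⁻¹ • x) (a', qshift Q s') →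
        ∃ t : F, s' = t • (s + (Q c)⁻¹ • c) := by
    intro c hc hQc hsc
    set τ := spTransv c (Q c)⁻¹ with hτdef
    have hA : τ ∈ fixer u v := levi_le_fixer u v (spTransv_mem_levi hc _)
    have hsq : τ⁻¹ = τ := inv_eq_of_mul_eq_one_right (by
      rw [hτdef, ← spTransv_add, CharTwo.add_self_eq_zero, spTransv_zero'])
    have hτs : τ.1 *ᵥ s = s + (Q c)⁻¹ • c := by
      rw [hτdef, spTransv_mulVec, hsc, mul_one]
    have hcomp : ∀ s' : V, (fun y => qshift Q s' ((τ⁻¹).1 *ᵥ y)) = qshift Q (τ.1 *ᵥ s') := by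
      intro s'
      funext y
      simp only [qshift_apply]
      have e1 : Q ((τ⁻¹).1 *ᵥ y) = Q y := by
        rw [hsq]; exact congrFun (hQ.comp_reflection hQc) y
      rw [e1, ← sympForm_map τ s', sp_mulVec_inv_self]
    refine ⟨ofType_fixer hpr huv hA hx, ?_, ?_, fun s' hs' hl => ?_⟩
    · have h := label_fixer hA h1
      rw [hsq, hQ.comp_reflection hQc] at h
      exact h
    · have h := label_fixer hA h2
      rwa [hcomp, hτs] at h
    · have h := label_fixer (inv_mem hA) hl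
      rw [inv_smul_smul] at h
      have e : (fun y => qshift Q s' (((τ⁻¹)⁻¹).1 *ᵥ y)) = qshift Q (τ.1 *ᵥ s') := by
        rw [inv_inv]; simpa only [hsq] using hcomp s'
      rw [e] at h
      obtain ⟨t, ht⟩ := hline _ (fixer_map_perp2 hA hs') h
      refine ⟨t, ?_⟩
      rw [← hτs, ← Matrix.mulVec_smul, ← ht]
      conv_lhs => rw [← sp_inv_mulVec_self τ s', hsq]
  obtain ⟨t1, l1, m1, u1⟩ := hτ c₁ hc₁ hQ1 hs1
  obtain ⟨t2, l2, m2, u2⟩ := hτ c₂ hc₂ hQ2 hs2
  set x₁ := spTransv c₁ (Q c₁)⁻¹ • x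
  set x₂ := spTransv c₂ (Q c₂)⁻¹ • x
  have hdis : ∀ {y z : Ω} {sy sz : V}, sz ∈ perp2 u v →
      (∀ s' ∈ perp2 u v, IsLabel pr u v y (a', qshift Q s') → ∃ t : F, s' = t • sy) →
      IsLabel pr u v z (a', qshift Q sz) → (∀ t : F, sz ≠ t • sy) →
      Disjoint (rootOrb u v y) (rootOrb u v z) := by
    intro y z sy sz hsz huy hlz hne
    rw [Finset.disjoint_left]
    intro w hwy hwz
    obtain ⟨t, ht⟩ := huy sz hsz ((label_orb hwy).1 ((label_orb hwz).2 hlz))
    exact hne t ht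
  have n1 : ∀ t : F, s + (Q c₁)⁻¹ • c₁ ≠ t • s := by
    intro t h
    refine hind ((t - 1) * Q c₁) 0 ?_
    rw [zero_smul, add_zero, mul_comm, mul_smul, sub_smul, one_smul, ← h, add_sub_cancel_left,
      smul_inv_smul₀ hQ1]
  have n2 : ∀ t : F, s + (Q c₂)⁻¹ • c₂ ≠ t • s := by
    intro t h
    have := congrArg (fun y => ⟪s, y⟫) h
    simp [sympForm_add_right, sympForm_smul_right, sympForm_self, hs2, hQ2] at this
  have n12 : ∀ t : F, s + (Q c₂)⁻¹ • c₂ ≠ t • (s + (Q c₁)⁻¹ • c₁) := by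
    intro t h
    rcases eq_or_ne t 0 with rfl | ht
    · exact n2 0 (by rw [h, zero_smul, zero_smul])
    refine hind ((1 - t) / t * Q c₁) ((Q c₂)⁻¹ / t * Q c₁) ?_
    have e : (Q c₁ / t) • (t • (s + (Q c₁)⁻¹ • c₁) - t • s) = c₁ := by
      rw [← smul_sub, add_sub_cancel_left, smul_smul, smul_smul]
      rw [show Q c₁ / t * t * (Q c₁)⁻¹ = 1 by field_simp, one_smul]
    rw [← h] at e
    refine e.symm.trans ?_
    match_scalars <;> field_simp
  have d01 := hdis (Submodule.add_mem _ hs (Submodule.smul_mem _ _ hc₁)) hline m1 n1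
  have d02 := hdis (Submodule.add_mem _ hs (Submodule.smul_mem _ _ hc₂)) hline m2 n2
  have d12 := hdis (Submodule.add_mem _ hs (Submodule.smul_mem _ _ hc₂)) u1 m2 n12
  set U := rootOrb u v x ∪ rootOrb u v x₁ ∪ rootOrb u v x₂ with hU
  have hUcard : 3 * (α * ρ) ≤ U.card := by
    rw [hU, Finset.card_union_of_disjoint (Finset.disjoint_union_left.2 ⟨d02, d12⟩),
      Finset.card_union_of_disjoint d01]
    have o0 := card_rootOrb_labels hpr huv hk x
    have o1 := card_rootOrb_labels hpr huv hk x₁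
    have o2 := card_rootOrb_labels hpr huv hk x₂
    rw [hα, hρ] at o0
    rw [t1.2.1, t1.2.2] at o1
    rw [t2.2.1, t2.2.2] at o2
    omega
  have hUmem : ∀ z ∈ U, OfType pr u v α ρ z ∧ IsLabel pr u v z (a, Q) := by
    intro z hz
    simp only [hU, Finset.mem_union] at hz
    rcases hz with (hz | hz) | hz
    · exact ⟨ofType_orb hx hz, (label_orb hz).2 h1⟩
    · exact ⟨ofType_orb t1 hz, (label_orb hz).2 l1⟩
    · exact ⟨ofType_orb t2 hz, (label_orb hz).2 l2⟩
  obtain ⟨Y, hYcard, hY⟩ := exists_orbit_labels (u := u) (v := v) (pr := pr) h1.1 Q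
    fun s => pr (Q s) = 0
  have hc := label_count hpr huv (α := α) (ρ := ρ) (c := 3 * (α * ρ)) Y (fun l hl => by
    obtain ⟨t, ht, s', hs', hps, rfl⟩ := hY l hl
    obtain ⟨lam, hlam⟩ := hQ.exists_transv_shift hAS hps
    obtain ⟨T, hTu, -, hTfix⟩ := exists_torus huv ht
    have hA : (spTransv s' lam)⁻¹ ∈ fixer u v :=
      inv_mem (levi_le_fixer u v (spTransv_mem_levi hs' lam))
    refine ⟨U.image fun z => T • (spTransv s' lam)⁻¹ • z, ?_, fun w hw => ?_⟩
    · rwa [Finset.card_image_of_injective _ fun p q h =>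
        smul_left_cancel _ (smul_left_cancel T h)]
    · obtain ⟨z, hz, rfl⟩ := Finset.mem_image.1 hw
      obtain ⟨g1, g2⟩ := hUmem z hz
      have g3 := label_fixer hA g2
      rw [inv_inv, hlam] at g3
      exact ⟨ofType_torus hpr huv hTu hTfix ht (ofType_fixer hpr huv hA g1),
        label_torus hTu hTfix ht g3⟩)
  have hS := card_kept_shifts huv hk hpr hQ
  obtain ⟨S, hSe⟩ : ∃ S, Nat.card {s : perp2 u v // pr (Q s) = 0} = S := ⟨_, rfl⟩
  rw [hSe] at hS hYcard
  have hρpos : 0 < ρ := hρ ▸ Nat.card_pos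
  have hM : Nat.card {z : Ω // OfType pr u v α ρ z} ≤ Nat.card Ω := Finite.card_subtype_le _
  have h5 : (Fintype.card F - 1) * (3 * S) * α ≤ Nat.card Ω * (α - 1) := by
    apply Nat.le_of_mul_le_mul_right _ hρpos
    calc (Fintype.card F - 1) * (3 * S) * α * ρ = (Fintype.card F - 1) * S * (3 * (α * ρ)) := by ring
      _ = Y.card * (3 * (α * ρ)) := by rw [hYcard]
      _ ≤ _ := hc
      _ ≤ Nat.card Ω * ((α - 1) * ρ) := Nat.mul_le_mul_right _ hM
      _ = _ := by ring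
  have hα1 : 1 ≤ α := hα ▸ Nat.card_pos
  have hαq : α ≤ Fintype.card F := by
    rw [← hα, ← card_centAnn hpr u x]
    exact Nat.le_mul_of_pos_right _ Nat.card_pos
  rw [goal_form hk]
  refine (Nat.sub_le _ _).trans (numeric_types hq (large_R hk2 hq) ?_
    (scale_alpha hα1 hαq (by omega) h5))
  rw [← sq]; exact hS

theorem card_rootProj_regular {u v : V} {x : Ω} (hreg : Regular u v x) :
    Nat.card (rootProj u v x) = 1 := by
  rw [Nat.card_eq_one_iff_unique]
  exact ⟨⟨fun a b => Subtype.ext (Subtype.ext (by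
    obtain ⟨c, hc⟩ := a.2; obtain ⟨c', hc'⟩ := b.2
    rw [hreg _ _ hc, hreg _ _ hc']))⟩, ⟨0⟩⟩

/-- Moved points of a small set are free or carry one form. -/
theorem even_dichotomy [Finite Ω] {pr : F →+ ZMod 2} (hpr : pr ≠ 0)
    (hAS : ∀ x, pr x = 0 → ∃ y, y ^ 2 + y = x) {u v : V} (huv : ⟪u, v⟫ = 1) {k : ℕ}
    (hk : m = k + 1) (hk2 : 2 ≤ k) (hq : 4 ≤ Fintype.card F)
    (hlt : ¬ Fintype.card F ^ (2 * m) - 1 ≤ (Fintype.card F - 1) * Nat.card Ω) {x : Ω}
    (hmov : ZMoved u x) : IsFree u v x ∨ IsFormPt pr u v x := by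
  classical
  have := Fintype.ofFinite Ω
  have := Fintype.ofFinite (perp2 u v)
  obtain ⟨a, ha, ha0⟩ := exists_ann_ne_zero hpr hmov
  obtain ⟨Q, hlab⟩ := exists_label hpr huv ha0 ha
  have hQ : IsQuad Q := hlab.2.1
  have hsQ : Q u = 0 ∧ Q v = 0 := ⟨hlab.2.2.1, hlab.2.2.2.1⟩
  obtain ⟨b, hb0, hb⟩ := exists_linearize hpr ha0
  have hprod := card_projAnn hpr huv hk x
  obtain ⟨R, hR⟩ : ∃ R, Fintype.card F ^ k = R := ⟨_, rfl⟩
  have hP2 : Fintype.card F ^ (2 * k) = R * R := by rw [← hR, ← pow_add, two_mul]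
  rw [hP2] at hprod
  by_cases hK : ∃ r ∈ rootProj u v x, r ≠ 0
  swap
  · push Not at hK
    refine Or.inl ⟨fun w c hw => congrArg Subtype.val (hK ⟨w, hw.1⟩ ⟨c, hw⟩), fun c hc => ?_⟩
    by_contra hc0
    apply hlt
    have hreg : Regular u v x := fun w c hw => congrArg Subtype.val (hK ⟨w, hw.1⟩ ⟨c, hw⟩)
    rw [card_rootProj_regular hreg, mul_one] at hprod
    obtain ⟨α, hα⟩ : ∃ α, Nat.card (centAnn pr u x) = α := ⟨_, rfl⟩
    obtain ⟨Y, hYcard, hY⟩ := exists_orbit_labels (u := u) (v := v) (pr := pr) ha0 Q fun _ => True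
    have hc' := label_count hpr huv (α := α) (ρ := R * R) (c := α * (R * R)) Y (fun l hl => by
      obtain ⟨t, ht, s', hs', -, rfl⟩ := hY l hl
      obtain ⟨T, hTu, -, hTfix⟩ := exists_torus huv ht
      have g : IsLabel pr u v x (a, qshift Q s') := by
        refine (label_diff hpr hb0 hb hlab (s := ⟨s', hs'⟩)).2 fun w hw => ?_
        rw [hK w hw, map_zero, map_zero]
      have hty := ofType_torus hpr huv hTu hTfix ht (α := α) (ρ := R * R) (x := x)
        ⟨hmov, hα, hprod⟩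
      refine ⟨rootOrb u v (T • x), ?_, fun z hz =>
        ⟨ofType_orb hty hz, (label_orb hz).2 (label_torus hTu hTfix ht g)⟩⟩
      have o := card_rootOrb_labels hpr huv hk (T • x)
      rwa [hty.2.1, hty.2.2] at o)
    rw [hYcard, Nat.card_congr (Equiv.subtypeUnivEquiv fun _ => trivial), card_perp2 huv,
      show 2 * m - 2 = 2 * k by omega, hP2] at hc'
    have hzc : 2 ≤ Nat.card (centFix u x) := Finite.one_lt_card_iff_nontrivial.2
      ⟨⟨⟨c, hc⟩, 0, fun h => hc0 (congrArg Subtype.val h)⟩⟩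
    have hα2 : 2 * α ≤ Fintype.card F := by
      rw [← card_centAnn hpr u x, hα, mul_comm 2]; exact Nat.mul_le_mul_left _ hzc
    have hα1 : 2 ≤ α := hα ▸ Finite.one_lt_card_iff_nontrivial.2
      ⟨⟨⟨a, ha⟩, 0, fun h => ha0 (congrArg Subtype.val h)⟩⟩
    have hM := le_trans hc' (Nat.mul_le_mul_right _
      (Finite.card_subtype_le fun z : Ω => OfType pr u v α (R * R) z))
    rw [goal_form hk, hR]
    refine (Nat.sub_le _ _).trans ?_
    obtain ⟨j, hj⟩ : ∃ j, Fintype.card F = j + 1 := ⟨Fintype.card F - 1, by omega⟩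
    obtain ⟨i, rfl⟩ : ∃ i, α = i + 1 := ⟨α - 1, by omega⟩
    rw [hj, Nat.add_sub_cancel] at hM ⊢
    rw [Nat.add_sub_cancel] at hM
    have hRpos : 0 < R * R := by rw [← hP2]; positivity
    have hM' : j * ((i + 1) * (R * R)) ≤ Nat.card Ω * i := by
      apply Nat.le_of_mul_le_mul_right _ hRpos
      calc j * ((i + 1) * (R * R)) * (R * R) = j * (R * R) * ((i + 1) * (R * R)) := by ring
        _ ≤ Nat.card Ω * (i * (R * R)) := hM
        _ = _ := by ring
    apply Nat.le_of_mul_le_mul_right _ (show 0 < i by omega)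
    have h5 : 2 * i + 1 ≤ j := by omega
    calc (j + 1) * (j + 1) * (R * R) * i = (j + 1) * (j + 1) * i * (R * R) := by ring
      _ ≤ j * j * (i + 1) * (R * R) := Nat.mul_le_mul_right _ (by nlinarith)
      _ = j * (j * ((i + 1) * (R * R))) := by ring
      _ ≤ j * (Nat.card Ω * i) := Nat.mul_le_mul_left _ hM'
      _ = _ := by ring
  obtain ⟨r₀, hr₀, hr₀0⟩ := hK
  by_cases hκ : Nat.card (rootProj u v x) ≤ R
  · refine absurd (moved_of_proj huv hk hk2 (even_constants hq) hmov (card_centFix_lt hmov) ?_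
      hr₀ hr₀0) hlt
    rw [hP2]; exact Nat.mul_le_mul hκ hκ
  push Not at hκ
  obtain ⟨ρ, hρ⟩ : ∃ ρ, Nat.card (projAnn pr u v x) = ρ := ⟨_, rfl⟩
  rw [hρ] at hprod
  have hρR : ρ ≤ R := by
    by_contra! h
    have := Nat.mul_lt_mul_of_lt_of_lt h hκ
    omega
  by_cases hρ1 : ∃ r ∈ projAnn pr u v x, r ≠ 0
  · exfalso
    obtain ⟨r, hr, hr0⟩ := hρ1
    by_cases hline : ∃ w ∈ projAnn pr u v x, ∀ c : F, (w : V) ≠ c • (r : V)
    · apply hlt
      obtain ⟨α, hα⟩ : ∃ α, Nat.card (centAnn pr u x) = α := ⟨_, rfl⟩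
      have hα1 : 2 ≤ α := hα ▸ Finite.one_lt_card_iff_nontrivial.2
        ⟨⟨⟨a, ha⟩, 0, fun h => ha0 (congrArg Subtype.val h)⟩⟩
      have horb : ∀ A ∈ fixer u v, 2 * ρ ≤ (rootOrb u v (A • x)).card ∧
          ∀ z ∈ rootOrb u v (A • x), ZMoved u z ∧ projAnn pr u v z = projAnn pr u v (A • x) := by
        intro A hA
        have hty := ofType_fixer hpr huv hA (α := α) (ρ := ρ) (x := x) ⟨hmov, hα, hρ⟩
        refine ⟨?_, fun z hz => ⟨zMoved_orb hty.1 hz, by rw [projAnn, (rootOrb_props hz).2]; rfl⟩⟩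
        have o := card_rootOrb_labels hpr huv hk (A • x)
        rw [hty.2.1, hty.2.2] at o
        exact le_trans (Nat.mul_le_mul_right _ hα1) o
      have h2 := (cover_bound huv hk (projAnn pr u v) (ZMoved u) (rootOrb u v) hρ
        (fun A hA r => projAnn_fixer hA x r) horb hr hr0).2 hline
      rw [hP2] at h2
      rw [goal_form hk, hR]
      refine (Nat.sub_le _ _).trans ?_
      refine numeric_ann hq ?_ hρR (hρ ▸ Nat.card_pos) (h2.trans ?_)
      · rw [← hR, ← sq]; exact Nat.pow_le_pow_right (by omega) hk2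
      · rw [sq]
        exact Nat.mul_le_mul_right _ (Nat.mul_le_mul_right _
          (Nat.mul_le_mul_right _ (Finite.card_subtype_le _)))
    · push Not at hline
      apply hlt
      refine three_bound hpr hAS huv hk hk2 hq hmov (a := a) (a' := a) (Q := Q)
        (s := ((b⁻¹ • r : perp2 u v) : V)) (b⁻¹ • r : perp2 u v).2 ?_ hlab ?_ ?_
      · simp [hb0, hr0]
      · exact (label_diff hpr hb0 hb hlab).2 (by rw [smul_inv_smul₀ hb0]; exact hr)
      · intro s' hs' hl
        obtain ⟨c, hc⟩ := hline _ ((label_diff hpr hb0 hb hlab (s := ⟨s', hs'⟩)).1 hl)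
        refine ⟨c, ?_⟩
        have := congrArg (fun y => b⁻¹ • y) hc
        simp only [Submodule.coe_smul, inv_smul_smul₀ hb0] at this
        rw [this, Submodule.coe_smul, smul_comm]
  · push Not at hρ1
    have hfull : Full u v x := by
      intro w hw
      by_contra hne
      obtain ⟨r, hr, hr'⟩ := exists_ne_zero_addPerp (perpForm u v) (perpForm_sep huv) hpr
        (W := rootProj u v x) (x := ⟨w, hw⟩) hne
      exact hr' (by rw [hρ1 r hr, map_zero, LinearMap.zero_apply, map_zero])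
    by_cases hsame : ∀ l, IsLabel pr u v x l → l.2 = Q
    · exact Or.inr ⟨hfull, Q, ⟨a, hlab⟩, hsame⟩
    · exfalso
      push Not at hsame
      obtain ⟨⟨a', Q'⟩, hl, hne⟩ := hsame
      obtain ⟨s, hs, rfl⟩ := exists_qshift huv hQ hl.2.1 hsQ.1 hsQ.2 hl.2.2.1 hl.2.2.2.1
      apply hlt
      refine three_bound hpr hAS huv hk hk2 hq hmov hs (fun h => hne ?_) hlab hl ?_
      · change qshift Q s = Q; rw [h, qshift_zero]
      · intro s' hs' hl'
        refine ⟨1, ?_⟩
        obtain ⟨b', hb'0, hb'⟩ := exists_linearize hpr hl.1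
        obtain ⟨d, hd⟩ : ∃ d, d = s + s' := ⟨_, rfl⟩
        have hdP : d ∈ perp2 u v := hd ▸ Submodule.add_mem _ hs hs'
        have e : qshift (qshift Q s) d = qshift Q s' := by
          rw [qshift_qshift, hd, ← add_assoc,
            show s + s = (0 : V) from funext fun i => CharTwo.add_self_eq_zero (s i), zero_add]
        have h0 := hρ1 _ ((label_diff hpr hb'0 hb' hl (s := ⟨d, hdP⟩)).1 (by rw [e]; exact hl'))
        have h00 : d = 0 := by simpa [hb'0] using congrArg Subtype.val h0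
        rw [one_smul]
        have := eq_neg_of_add_eq_zero_right (hd ▸ h00 : s + s' = 0)
        rw [this, vec_neg']

/-- A free point and a form point for one pair exceed the bound. -/
theorem not_both [Finite Ω] {pr : F →+ ZMod 2} (hpr : pr ≠ 0)
    (hAS : ∀ x, pr x = 0 → ∃ y, y ^ 2 + y = x) {u v : V} (huv : ⟪u, v⟫ = 1) {k : ℕ}
    (hk : m = k + 1) (hk2 : 2 ≤ k) (hq : 4 ≤ Fintype.card F) {x y : Ω} (hmx : ZMoved u x)
    (hmy : ZMoved u y) (hx : IsFree u v x) (hy : IsFormPt pr u v y) :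
    Fintype.card F ^ (2 * m) - 1 ≤ (Fintype.card F - 1) * Nat.card Ω := by
  classical
  have := Fintype.ofFinite Ω
  obtain ⟨q, hqe⟩ : ∃ q, Fintype.card F = q := ⟨_, rfl⟩
  obtain ⟨R, hR⟩ : ∃ R, Fintype.card F ^ k = R := ⟨_, rfl⟩
  have hP2 : Fintype.card F ^ (2 * k) = R * R := by rw [← hR, ← pow_add, two_mul]
  have hR16 : 16 ≤ R := hR ▸ large_R hk2 hq
  have hpx : Nat.card (projAnn pr u v x) = R * R := by
    have h := card_projAnn hpr huv hk x
    rwa [card_rootProj_regular hx.1, mul_one, hP2] at h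
  obtain ⟨hfull, Q, ⟨a, hlab⟩, -⟩ := hy
  have hpy : Nat.card (projAnn pr u v y) = 1 := by
    have h := card_projAnn hpr huv hk y
    have htop : rootProj u v y = ⊤ := eq_top_iff.2 fun w _ => hfull w w.2
    rw [htop, AddSubgroup.card_top, card_perp2 huv, show 2 * m - 2 = 2 * k by omega] at h
    exact Nat.eq_of_mul_eq_mul_right (show 0 < Fintype.card F ^ (2 * k) by positivity)
      (by rw [h, one_mul])
  have hαx : Nat.card (centAnn pr u x) = q := by
    have h := card_centAnn hpr u x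
    have : Nat.card (centFix u x) = 1 := Nat.card_eq_one_iff_unique.2
      ⟨⟨fun a b => Subtype.ext ((hx.2 _ a.2).trans (hx.2 _ b.2).symm)⟩, ⟨0⟩⟩
    rwa [this, mul_one, hqe] at h
  obtain ⟨α, hα⟩ : ∃ α, Nat.card (centAnn pr u y) = α := ⟨_, rfl⟩
  have hαq : α ≤ q := by
    rw [← hα, ← hqe, ← card_centAnn hpr u y]
    exact Nat.le_mul_of_pos_right _ Nat.card_pos
  -- the form points
  obtain ⟨Y, hYcard, hY⟩ := exists_orbit_labels (u := u) (v := v) (pr := pr) hlab.1 Q
    fun s => pr (Q s) = 0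
  have hc := label_count hpr huv (α := α) (ρ := 1) (c := α) Y (fun l hl => by
    obtain ⟨t, ht, s', hs', hps, rfl⟩ := hY l hl
    obtain ⟨lam, hlam⟩ := hlab.2.1.exists_transv_shift hAS hps
    obtain ⟨T, hTu, -, hTfix⟩ := exists_torus huv ht
    have hA : (spTransv s' lam)⁻¹ ∈ fixer u v :=
      inv_mem (levi_le_fixer u v (spTransv_mem_levi hs' lam))
    have hty := ofType_torus hpr huv hTu hTfix ht (ofType_fixer hpr huv hA (α := α) (ρ := 1)
      (x := y) ⟨hmy, hα, hpy⟩)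
    have g := label_fixer hA hlab
    rw [inv_inv] at g
    change IsLabel pr u v _ (a, fun z => Q ((spTransv s' lam).1 *ᵥ z)) at g
    rw [hlam] at g
    refine ⟨rootOrb u v (T • (spTransv s' lam)⁻¹ • y), ?_, fun z hz =>
      ⟨ofType_orb hty hz, (label_orb hz).2 (label_torus hTu hTfix ht g)⟩⟩
    have o := card_rootOrb_labels hpr huv hk (T • (spTransv s' lam)⁻¹ • y)
    rwa [hty.2.1, hty.2.2, mul_one] at o)
  rw [hYcard, mul_one, hqe] at hc
  have hM := scale_alpha (hα ▸ Nat.card_pos) hαq (by omega) hc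
  -- the free orbit
  have ho := card_rootOrb_labels hpr huv hk x
  rw [hαx, hpx] at ho
  let Tx := rootOrb u v x
  let Ty := Finset.univ.filter fun z : Ω => OfType pr u v α 1 z
  have hdisj : Disjoint Tx Ty := by
    rw [Finset.disjoint_left]
    intro z hzx hzy
    have h1 := (Finset.mem_filter.1 hzy).2.2.2
    rw [projAnn, (rootOrb_props hzx).2] at h1
    change Nat.card (projAnn pr u v x) = 1 at h1
    rw [hpx] at h1
    have : 1 < R * R := lt_of_lt_of_le (by omega) (Nat.le_mul_self R)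
    omega
  have hTy : Ty.card = Nat.card {z : Ω // OfType pr u v α 1 z} := by
    rw [Nat.card_eq_fintype_card, Fintype.card_subtype]
  have hd : Tx.card + Ty.card ≤ Nat.card Ω := by
    rw [← Finset.card_union_of_disjoint hdisj, Nat.card_eq_fintype_card]
    exact Finset.card_le_univ _
  rw [goal_form hk, hR, hqe]
  have hS := card_kept_shifts huv hk hpr hlab.2.1
  rw [hR, sq] at hS
  exact (Nat.sub_le _ _).trans (numeric_coexist (hqe ▸ hq) hR16 hS (by
    rw [← hTy] at hM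
    exact le_trans (add_le_add ho hM) hd))

end CfsgLib.MinDegree
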