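import Cfsg.Agent.MinDegree.SympFourFix
import Cfsg.Agent.MinDegree.SympBasic

/-!
# Counting the conjugates of a projected root-group stabiliser in `Sp(4,q)`
-/

set_option autoImplicit false

namespace CfsgLib.MinDegree

open Matrix CfsgLib.Forms CfsgLib.Forms4 MulAction

variable {F : Type*} [Field F] [Fintype F] {Ω : Type*}
  [MulAction (Matrix.symplecticGroup (Fin 2) F) Ω]

local notation "V" => Fin 2 ⊕ Fin 2 → F
local notation "Sp" => Matrix.symplecticGroup (Fin 2) F
local notation "⟪" x ", " y "⟫" => Cfsg.sympForm 2 F x y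

/-- The projected stabilisers of the images of `x` under the fixer of the pair. -/
noncomputable def conjProj (u v : V) (x : Ω) : Finset (AddSubgroup (perp2 u v)) :=
  (Set.toFinite {K | ∃ A ∈ fixer u v, rootProj u v (A • x) = K}).toFinset

theorem mem_conjProj {u v : V} {x : Ω} {K : AddSubgroup (perp2 u v)} :
    K ∈ conjProj u v x ↔ ∃ A ∈ fixer u v, rootProj u v (A • x) = K := by
  rw [conjProj, Set.Finite.mem_toFinset]; rfl

theorem self_mem_conjProj (u v : V) (x : Ω) : rootProj u v x ∈ conjProj u v x :=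
  mem_conjProj.2 ⟨1, one_mem _, by rw [one_smul]⟩

theorem rootProj_eq_of_fixer {u v : V} {A : Sp} (hA : A ∈ fixer u v) {x y : Ω}
    (h : rootProj u v x = rootProj u v y) : rootProj u v (A • x) = rootProj u v (A • y) := by
  ext w
  obtain ⟨w, rfl⟩ := (fixerRes hA).surjective w
  rw [rootProj_fixer, rootProj_fixer, h]

theorem card_centAnn_const {p : ℕ} [Fact p.Prime] [CharP F p] {pr : F →+ ZMod p} (hpr : pr ≠ 0)
    {u : V} {x y : Ω} (h : Nat.card (centFix u y) = Nat.card (centFix u x)) :
    Nat.card (addPerp (LinearMap.mul F F) pr (centFix u y)) =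
      Nat.card (addPerp (LinearMap.mul F F) pr (centFix u x)) := by
  have h1 := card_addPerp_mul (LinearMap.mul F F) mulForm_sep hpr (centFix u y)
  rw [h, ← card_addPerp_mul (LinearMap.mul F F) mulForm_sep hpr (centFix u x)] at h1
  exact Nat.eq_of_mul_eq_mul_right Nat.card_pos h1

/-- Distinct conjugates and distinct scalar classes give distinct points. -/
theorem pair_count [Finite Ω] {p : ℕ} [Fact p.Prime] [CharP F p] {pr : F →+ ZMod p} (hpr : pr ≠ 0)
    {u v : V} (huv : ⟪u, v⟫ = 1) {x : Ω} {a₀ : F}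
    (ha₀ : a₀ ∈ addPerp (LinearMap.mul F F) pr (centFix u x)) (ha₀0 : a₀ ≠ 0) (Y : Finset F)
    (hY : ∀ a ∈ Y, ∃ t : F, t ≠ 0 ∧ a = a₀ / t ^ 2) (U : Finset Ω)
    (hU : ∀ z ∈ U, rootProj u v z = rootProj u v x ∧ centFix u z = centFix u x) :
    Y.card * (conjProj u v x).card * U.card ≤
      Nat.card Ω * (Nat.card (addPerp (LinearMap.mul F F) pr (centFix u x)) - 1) ∧
    (conjProj u v x).card * U.card ≤ Nat.card Ω := by
  classical
  have := Fintype.ofFinite Ω
  have hK : ∀ K : conjProj u v x, ∃ A ∈ fixer u v, rootProj u v (A • x) = K.1 :=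
    fun K => mem_conjProj.1 K.2
  choose A hA hAK using hK
  have hAU : ∀ K : conjProj u v x, ∀ z ∈ U, rootProj u v (A K • z) = K.1 ∧
      centFix u (A K • z) = centFix u x := fun K z hz =>
    ⟨(rootProj_eq_of_fixer (hA K) (hU z hz).1).trans (hAK K),
      (centFix_fixer (hA K) z).trans (hU z hz).2⟩
  constructor
  swap
  · have h := Finset.card_mul_le_card_mul (n := 1) (s := (Finset.univ : Finset (conjProj u v x)))
      (t := (Finset.univ : Finset Ω)) (fun K z => z ∈ U.image fun w => A K • w) (m := U.card) ?_ ?_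
    · rwa [Finset.card_univ, Fintype.card_coe, Finset.card_univ, mul_one,
        ← Nat.card_eq_fintype_card] at h
    · intro K _
      rw [← Finset.card_image_of_injective U (MulAction.injective (A K))]
      exact Finset.card_le_card fun z hz => Finset.mem_filter.2 ⟨Finset.mem_univ _, hz⟩
    · intro z _
      refine Finset.card_le_one.2 fun K hK K' hK' => ?_
      obtain ⟨w, hw, rfl⟩ := Finset.mem_image.1 (Finset.mem_filter.1 hK).2
      obtain ⟨w', hw', e⟩ := Finset.mem_image.1 (Finset.mem_filter.1 hK').2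
      refine Subtype.ext ?_
      rw [← (hAU K w hw).1, ← e, (hAU K' w' hw').1]
  choose t ht0 hta using hY
  have hT : ∀ a : Y, ∃ T : Sp, T.1 *ᵥ u = t a.1 a.2 • u := fun a => by
    obtain ⟨T, hT, -⟩ := exists_torus huv (ht0 a.1 a.2); exact ⟨T, hT⟩
  choose T hTu using hT
  have hann : ∀ (a : Y) (K : conjProj u v x), ∀ w ∈ U,
      (a : F) ∈ addPerp (LinearMap.mul F F) pr (centFix u (T a • A K • w)) ∧
      Nat.card (centFix u (T a • A K • w)) = Nat.card (centFix u x) := by
    intro a K w hw
    have e := (hAU K w hw).2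
    have htpos : t a.1 a.2 ^ 2 ≠ 0 := pow_ne_zero 2 (ht0 a.1 a.2)
    constructor
    · intro c hc
      have hmem : c / t a.1 a.2 ^ 2 ∈ centFix u x := by
        rw [← e, ← centFix_torus (hTu a), mul_div_cancel₀ _ htpos]; exact hc
      have h := ha₀ _ hmem
      change pr (a₀ * (c / t a.1 a.2 ^ 2)) = 0 at h
      change pr ((a : F) * c) = 0
      rwa [hta a.1 a.2, div_mul_eq_mul_div, mul_div_assoc]
    · rw [← e]
      exact (Nat.card_congr ((Equiv.mulLeft₀ _ htpos).subtypeEquiv
        fun c => (centFix_torus (hTu a) _ c).symm)).symm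
  have h := Finset.card_mul_le_card_mul
    (s := (Finset.univ : Finset (Y × conjProj u v x))) (t := (Finset.univ : Finset Ω))
    (fun q z => z ∈ U.image fun w => T q.1 • A q.2 • w) (m := U.card)
    (n := Nat.card (addPerp (LinearMap.mul F F) pr (centFix u x)) - 1) ?_ ?_
  · rwa [Finset.card_univ, Fintype.card_prod, Fintype.card_coe, Fintype.card_coe, Finset.card_univ,
      ← Nat.card_eq_fintype_card] at h
  · intro q _
    rw [← Finset.card_image_of_injective U
      (f := fun w => T q.1 • A q.2 • w)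
      ((MulAction.injective (T q.1)).comp (MulAction.injective (A q.2)))]
    exact Finset.card_le_card fun z hz => Finset.mem_filter.2 ⟨Finset.mem_univ _, hz⟩
  · intro z _
    rcases (Finset.bipartiteBelow (fun (q : Y × conjProj u v x) z =>
        z ∈ U.image fun w => T q.1 • A q.2 • w) Finset.univ z).eq_empty_or_nonempty with h0 | ⟨q, hq⟩
    · rw [h0]; exact Nat.zero_le _
    obtain ⟨w, hw, hwz⟩ := Finset.mem_image.1 (Finset.mem_filter.1 hq).2
    rw [← card_centAnn_const hpr (hann q.1 q.2 w hw).2, hwz, Nat.card_eq_fintype_card,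
      ← Finset.card_univ, ← Finset.card_erase_of_mem (Finset.mem_univ
        (0 : addPerp (LinearMap.mul F F) pr (centFix u z)))]
    refine Finset.card_le_card_of_injOn
      (fun q => if h : (q.1 : F) ∈ addPerp (LinearMap.mul F F) pr (centFix u z) then ⟨_, h⟩ else 0)
      (fun q hq => ?_) (fun q hq q' hq' e => ?_)
    · obtain ⟨w, hw, hwz⟩ := Finset.mem_image.1 (Finset.mem_filter.1 hq).2
      have hm := (hann q.1 q.2 w hw).1
      rw [hwz] at hm
      simp only [dif_pos hm, Finset.mem_coe, Finset.mem_erase, Finset.mem_univ, and_true]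
      intro h0
      have h1 : (q.1 : F) = 0 := congrArg Subtype.val h0
      have h2 := hta q.1.1 q.1.2
      exact div_ne_zero ha₀0 (pow_ne_zero 2 (ht0 _ _)) (h2.symm.trans h1)
    · obtain ⟨w, hw, hwz⟩ := Finset.mem_image.1 (Finset.mem_filter.1 hq).2
      obtain ⟨w', hw', hwz'⟩ := Finset.mem_image.1 (Finset.mem_filter.1 hq').2
      have hm := (hann q.1 q.2 w hw).1
      have hm' := (hann q'.1 q'.2 w' hw').1
      rw [hwz] at hm
      rw [hwz'] at hm'
      simp only [dif_pos hm, dif_pos hm'] at e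
      have e1 : q.1 = q'.1 := Subtype.ext (Subtype.mk.inj e)
      refine Prod.ext e1 (Subtype.ext ?_)
      rw [← hwz', e1] at hwz
      rw [← (hAU q.2 w hw).1, smul_left_cancel _ hwz, (hAU q'.2 w' hw').1]

/-- The conjugates cover the complement evenly. -/
theorem conjProj_cover {u v : V} (huv : ⟪u, v⟫ = 1) {x : Ω}
    (G : AddSubgroup (perp2 u v) → AddSubgroup (perp2 u v))
    (hG : ∀ {A : Sp} (hA : A ∈ fixer u v) (z : Ω) (w : perp2 u v),
      fixerRes hA w ∈ G (rootProj u v (A • z)) ↔ w ∈ G (rootProj u v z))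
    {r : perp2 u v} (hr : r ≠ 0) (S : Finset (AddSubgroup (perp2 u v)))
    (hS : S ⊆ conjProj u v x) (hrS : ∀ K ∈ S, r ∈ G K) :
    S.card * (Fintype.card F ^ 2 - 1) ≤
      (conjProj u v x).card * (Nat.card (G (rootProj u v x)) - 1) := by
  classical
  have := Fintype.ofFinite (perp2 u v)
  have h := Finset.card_mul_le_card_mul (s := (Finset.univ : Finset (perp2 u v)).erase 0)
    (t := conjProj u v x) (fun z K => z ∈ G K) (m := S.card)
    (n := Nat.card (G (rootProj u v x)) - 1) ?_ ?_
  · rwa [Finset.card_erase_of_mem (Finset.mem_univ _), Finset.card_univ,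
      ← Nat.card_eq_fintype_card, card_perp2_four huv, mul_comm] at h
  · intro z hz
    have hz0 : (z : V) ≠ 0 := fun h => (Finset.mem_erase.1 hz).1 (Subtype.ext h)
    have hr0 : (r : V) ≠ 0 := fun h => hr (Subtype.ext h)
    obtain ⟨A, hA, hAr⟩ := exists_levi_mulVec_eq huv r.2 z.2 hr0 hz0
    have hAf := levi_le_fixer u v hA
    have hres : fixerRes hAf r = z := Subtype.ext hAr
    refine Finset.card_le_card_of_injOn
      (fun K => if h : ∃ B ∈ fixer u v, rootProj u v (B • x) = K
        then rootProj u v (A • h.choose • x) else ⊥) (fun K hK => ?_) (fun K hK K' hK' e => ?_)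
    · have hh := mem_conjProj.1 (hS hK)
      simp only [dif_pos hh, Finset.mem_coe, Finset.bipartiteAbove, Finset.mem_filter]
      refine ⟨mem_conjProj.2 ⟨A * hh.choose, mul_mem hAf hh.choose_spec.1, by rw [mul_smul]⟩, ?_⟩
      rw [← hres, hG, hh.choose_spec.2]
      exact hrS K hK
    · have hh := mem_conjProj.1 (hS hK)
      have hh' := mem_conjProj.1 (hS hK')
      simp only [dif_pos hh, dif_pos hh'] at e
      have e' := rootProj_eq_of_fixer (inv_mem hAf) e
      rwa [inv_smul_smul, inv_smul_smul, hh.choose_spec.2, hh'.choose_spec.2] at e'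
  · intro K hK
    obtain ⟨B, hB, rfl⟩ := mem_conjProj.1 hK
    have e : Nat.card (G (rootProj u v (B • x))) = Nat.card (G (rootProj u v x)) :=
      (Nat.card_congr ((fixerRes hB).toEquiv.subtypeEquiv fun w => (hG hB x w).symm)).symm
    rw [← e, Nat.card_eq_fintype_card, ← Finset.card_univ,
      ← Finset.card_erase_of_mem (Finset.mem_univ (0 : G (rootProj u v (B • x)))),
      ← Finset.card_map (Function.Embedding.subtype fun w => w ∈ G (rootProj u v (B • x)))]
    refine Finset.card_le_card fun w hw => ?_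
    obtain ⟨hw1, hw2⟩ := Finset.mem_filter.1 hw
    refine Finset.mem_map.2 ⟨⟨w, hw2⟩, Finset.mem_erase.2 ⟨fun h => ?_, Finset.mem_univ _⟩, rfl⟩
    exact (Finset.mem_erase.1 hw1).1 (congrArg Subtype.val h)

end CfsgLib.MinDegree
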