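import Cfsg.Agent.MinDegree.SympBasic

/-!
# The smallest `Sp(2m,q)`-sets for odd `q`, `m ≥ 3`
-/

set_option autoImplicit false

namespace CfsgLib.MinDegree

open Matrix CfsgLib.Forms CfsgLib.Forms4 MulAction

variable {F : Type*} [Field F] [Fintype F] {m : ℕ} {Ω : Type*}
  [MulAction (Matrix.symplecticGroup (Fin m) F) Ω]

local notation "V" => Fin m ⊕ Fin m → F
local notation "Sp" => Matrix.symplecticGroup (Fin m) F
local notation "⟪" x ", " y "⟫" => Cfsg.sympForm m F x y

theorem exists_char_p : ∃ p : ℕ, Fact p.Prime ∧ CharP F p := by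
  obtain ⟨p, hp⟩ := CharP.exists F
  exact ⟨p, ⟨(CharP.char_is_prime_or_zero F p).resolve_right fun h => by
    subst h
    exact CharP.char_ne_zero_of_finite F 0 rfl⟩, hp⟩

theorem rootOrb_card_ge [Finite Ω] {u v : V} (huv : ⟪u, v⟫ = 1) {k : ℕ} (hk : m = k + 1) {x : Ω}
    (hreg : Regular u v x) : Fintype.card F * Fintype.card F ^ (2 * k) ≤
      (rootOrb u v x).card * Nat.card (centFix u x) := by
  have h := card_rootOrb u v x
  have h1 : Nat.card (rootProj u v x) = 1 := by
    rw [Nat.card_eq_one_iff_unique]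
    exact ⟨⟨fun a b => Subtype.ext (Subtype.ext (by
      obtain ⟨c, hc⟩ := a.2; obtain ⟨c', hc'⟩ := b.2
      rw [hreg _ _ hc, hreg _ _ hc']))⟩, ⟨0⟩⟩
  rwa [h1, mul_one, card_perp2 huv, show 2 * m - 2 = 2 * k by omega] at h

/-- Two root-group orbits of regular points with the same central stabiliser exceed the bound. -/
theorem two_orbits [Finite Ω] {u v : V} (huv : ⟪u, v⟫ = 1) {k : ℕ} (hk : m = k + 1)
    (hq3 : 3 ≤ Fintype.card F) (h2 : (2 : F) ≠ 0) {p : ℕ} [Fact p.Prime] [CharP F p]
    {x y : Ω} (hx : Regular u v x) (hy : Regular u v y) (hmx : ZMoved u x)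
    (hc : centFix u y = centFix u x) (hdis : y ∉ rootOrb u v x) :
    Fintype.card F ^ (2 * m) - 1 ≤ (Fintype.card F - 1) * Nat.card Ω := by
  classical
  have := Fintype.ofFinite Ω
  obtain ⟨q, hq⟩ : ∃ q, Fintype.card F = q := ⟨_, rfl⟩
  obtain ⟨P2, hP2⟩ : ∃ P2, q ^ (2 * k) = P2 := ⟨_, rfl⟩
  rw [hq] at hq3 ⊢
  have hgoal : q ^ (2 * m) = q * q * P2 := by rw [← hP2, hk, mul_add, pow_add]; ring
  rw [hgoal]
  obtain ⟨pr, hpr⟩ := exists_pr_ne_zero (F := F) (p := p)
  let B := LinearMap.mul F F
  let An : Ω → AddSubgroup F := fun z => addPerp B pr (centFix u z)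
  obtain ⟨α, hα⟩ : ∃ α, Nat.card (An x) = α := ⟨_, rfl⟩
  have hαz : α * Nat.card (centFix u x) = q := by
    rw [← hα, card_addPerp_mul B mulForm_sep hpr, Nat.card_eq_fintype_card, hq]
  have hzp : 0 < Nat.card (centFix u x) := Nat.card_pos
  have horbx : ∀ z : Ω, Regular u v z → Nat.card (centFix u z) = Nat.card (centFix u x) →
      α * P2 ≤ (rootOrb u v z).card := by
    intro z hz hzc
    have h := rootOrb_card_ge huv hk hz
    rw [hq, hP2, hzc, ← hαz, mul_right_comm] at h
    exact Nat.le_of_mul_le_mul_right h hzp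
  have hdisj : Disjoint (rootOrb u v x) (rootOrb u v y) := by
    rw [Finset.disjoint_left]
    intro z hzx hzy
    refine hdis ?_
    rw [← rootOrb_eq_of_mem hzx, rootOrb_eq_of_mem hzy]
    exact mem_rootOrb.2 ⟨0, Submodule.zero_mem _, 0, by rw [rootEl_zero_zero, one_smul]⟩
  rcases eq_or_ne (Nat.card (centFix u x)) 1 with hz1 | hz1
  · -- regular orbits
    rw [hz1, mul_one] at hαz
    have h1 := horbx x hx rfl
    have h2' := horbx y hy (by rw [hc])
    have h3 : (rootOrb u v x).card + (rootOrb u v y).card ≤ Nat.card Ω := by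
      rw [← Finset.card_union_of_disjoint hdisj, Nat.card_eq_fintype_card]
      exact Finset.card_le_univ _
    subst hαz
    obtain ⟨j, rfl⟩ : ∃ j, α = j + 1 := ⟨α - 1, by omega⟩
    rw [Nat.add_sub_cancel]
    refine (Nat.sub_le _ _).trans ?_
    calc (j + 1) * (j + 1) * P2 ≤ j * (2 * (j + 1)) * P2 := Nat.mul_le_mul_right _ (by nlinarith)
      _ = j * ((j + 1) * P2 + (j + 1) * P2) := by ring
      _ ≤ _ := Nat.mul_le_mul_left _ (by omega)
  -- labels in a square class
  obtain ⟨a₀, ha₀, ha₀0⟩ : ∃ a₀ ∈ An x, a₀ ≠ 0 := by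
    obtain ⟨c, hcm⟩ := hmx
    obtain ⟨r, hr, hr0⟩ := exists_ne_zero_addPerp B mulForm_sep hpr
      (show c ∉ centFix u x from hcm)
    exact ⟨r, hr, fun h => hr0 (by rw [h, map_zero, LinearMap.zero_apply, map_zero])⟩
  let Y : Finset F := ((Finset.univ : Finset F).erase 0).image fun t => a₀ * (t ^ 2)⁻¹
  have hYcard : q - 1 ≤ 2 * Y.card := by
    have h := Finset.card_le_mul_card_image ((Finset.univ : Finset F).erase 0)
      (f := fun t => a₀ * (t ^ 2)⁻¹) 2 (fun b hb => by
        obtain ⟨t₀, -, rfl⟩ := Finset.mem_image.1 hb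
        refine le_trans (Finset.card_le_card (t := {t₀, -t₀}) fun t ht => ?_) Finset.card_le_two
        simp only [Finset.mem_filter] at ht
        have := inv_inj.1 (mul_left_cancel₀ ha₀0 ht.2)
        rcases sq_eq_sq_iff_eq_or_eq_neg.1 this with h | h <;> simp [h])
    rwa [Finset.card_erase_of_mem (Finset.mem_univ _), Finset.card_univ, hq] at h
  let T := Finset.univ.filter fun z : Ω => Nat.card (An z) = α
  have hmain : Y.card * (2 * (α * P2)) ≤ T.card * (α - 1) := by
    refine Finset.card_mul_le_card_mul (fun a z => a ∈ An z) ?_ ?_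
    · intro b hb
      obtain ⟨t, ht, rfl⟩ := Finset.mem_image.1 hb
      have ht0 := (Finset.mem_erase.1 ht).1
      obtain ⟨A, hAu, -, hAfix⟩ := exists_torus huv ht0
      have hcA : ∀ z, centFix u z = centFix u x →
          Nat.card (centFix u (A • z)) = Nat.card (centFix u x) ∧ a₀ * (t ^ 2)⁻¹ ∈ An (A • z) := by
        intro z hz
        constructor
        · rw [← hz]
          refine (Nat.card_congr ((Equiv.mulLeft₀ (t ^ 2) (pow_ne_zero 2 ht0)).subtypeEquiv
            fun c => ?_)).symm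
          exact (centFix_torus hAu z c).symm
        · intro c hc'
          have hmem : c / t ^ 2 ∈ centFix u x := by
            rw [← hz, ← centFix_torus hAu z, mul_div_cancel₀ _ (pow_ne_zero 2 ht0)]; exact hc'
          have := ha₀ _ hmem
          change pr (a₀ * (c / t ^ 2)) = 0 at this
          change pr (a₀ * (t ^ 2)⁻¹ * c) = 0
          rwa [mul_assoc, inv_mul_eq_div]
      have hin : ∀ z0, Regular u v z0 → centFix u z0 = centFix u x →
          α * P2 ≤ (rootOrb u v (A • z0)).card ∧ ∀ z ∈ rootOrb u v (A • z0),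
            z ∈ Finset.bipartiteAbove (fun a z => a ∈ An z) T (a₀ * (t ^ 2)⁻¹) := by
        intro z0 hreg0 hc0
        obtain ⟨e1, e2⟩ := hcA z0 hc0
        refine ⟨horbx _ (regular_torus hAu hAfix ht0 hreg0) e1, fun z hz => ?_⟩
        simp only [Finset.bipartiteAbove, Finset.mem_filter, T, Finset.mem_univ, true_and, An,
          (rootOrb_props hz).1]
        refine ⟨?_, e2⟩
        have h := card_addPerp_mul B mulForm_sep hpr (centFix u (A • z0))
        rw [e1, Nat.card_eq_fintype_card (α := F), hq, ← hαz] at h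
        exact Nat.eq_of_mul_eq_mul_right hzp h
      obtain ⟨x1, x2⟩ := hin x hx rfl
      obtain ⟨y1, y2⟩ := hin y hy hc
      have hdisj' : Disjoint (rootOrb u v (A • x)) (rootOrb u v (A • y)) := by
        rw [Finset.disjoint_left]
        intro z hzx hzy
        refine hdis ?_
        have hyx : A • y ∈ rootOrb u v (A • x) := by
          rw [← rootOrb_eq_of_mem hzx, rootOrb_eq_of_mem hzy]
          exact mem_rootOrb.2 ⟨0, Submodule.zero_mem _, 0, by rw [rootEl_zero_zero, one_smul]⟩
        obtain ⟨w, hw, c, hwc⟩ := mem_rootOrb.1 hyx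
        refine mem_rootOrb.2 ⟨t⁻¹ • w, Submodule.smul_mem _ _ hw, c / t ^ 2,
          smul_left_cancel A ?_⟩
        rw [← hwc]
        have e := torus_rootEl hAu hAfix (Submodule.smul_mem _ t⁻¹ hw) (c / t ^ 2)
        rw [smul_inv_smul₀ ht0, mul_div_cancel₀ _ (pow_ne_zero 2 ht0)] at e
        rw [← e, mul_smul, mul_smul, inv_smul_smul]
      rw [two_mul]
      refine le_trans (add_le_add x1 y1) ?_
      rw [← Finset.card_union_of_disjoint hdisj']
      exact Finset.card_le_card (Finset.union_subset x2 y2)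
    · intro z hz
      simp only [T, Finset.mem_filter, Finset.mem_univ, true_and] at hz
      rw [← hz, Nat.card_eq_fintype_card, ← Finset.card_univ,
        ← Finset.card_erase_of_mem (Finset.mem_univ (0 : An z)),
        ← Finset.card_map (Function.Embedding.subtype fun b => b ∈ An z)]
      refine Finset.card_le_card fun b hb => ?_
      simp only [Finset.bipartiteBelow, Finset.mem_filter] at hb
      simp only [Finset.mem_map, Finset.mem_erase, Finset.mem_univ, and_true]
      refine ⟨⟨b, hb.2⟩, fun h => ?_, rfl⟩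
      obtain ⟨t, ht, hb'⟩ := Finset.mem_image.1 hb.1
      have h0 : b = 0 := congrArg Subtype.val h
      rw [h0] at hb'
      exact mul_ne_zero ha₀0 (inv_ne_zero (pow_ne_zero 2 (Finset.mem_erase.1 ht).1)) hb'
  have hT : T.card ≤ Nat.card Ω := by
    rw [Nat.card_eq_fintype_card]; exact Finset.card_le_univ _
  generalize hd : Nat.card Ω = d at hT ⊢
  have h4 : (q - 1) * (α * P2) ≤ d * (α - 1) := by
    calc (q - 1) * (α * P2) ≤ 2 * Y.card * (α * P2) := Nat.mul_le_mul_right _ hYcard
      _ = Y.card * (2 * (α * P2)) := by ring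
      _ ≤ T.card * (α - 1) := hmain
      _ ≤ d * (α - 1) := Nat.mul_le_mul_right _ hT
  -- `α` is a proper divisor of `q`
  have hα2 : 2 * α ≤ q := by
    rw [← hαz, mul_comm 2]; exact Nat.mul_le_mul_left _ (by omega)
  refine (Nat.sub_le _ _).trans ?_
  obtain ⟨j, rfl⟩ : ∃ j, q = j + 1 := ⟨q - 1, by omega⟩
  rw [Nat.add_sub_cancel] at h4 ⊢
  rcases Nat.eq_zero_or_pos α with rfl | hαpos
  · simp at hαz
  obtain ⟨i, rfl⟩ : ∃ i, α = i + 1 := ⟨α - 1, by omega⟩
  rw [Nat.add_sub_cancel] at h4
  have hkey : (j + 1) * (j + 1) * i ≤ j * j * (i + 1) := by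
    have h5 : 2 * i ≤ j := by omega
    nlinarith
  rcases Nat.eq_zero_or_pos i with rfl | hi
  · have : 0 < P2 := hP2 ▸ by positivity
    simp only [mul_zero, zero_add, one_mul, Nat.le_zero, mul_eq_zero] at h4
    omega
  apply Nat.le_of_mul_le_mul_right _ hi
  calc (j + 1) * (j + 1) * P2 * i = (j + 1) * (j + 1) * i * P2 := by ring
    _ ≤ j * j * (i + 1) * P2 := Nat.mul_le_mul_right _ hkey
    _ = j * (j * ((i + 1) * P2)) := by ring
    _ ≤ j * (d * i) := Nat.mul_le_mul_left _ h4
    _ = _ := by ring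

theorem le_card_sp_odd [Finite Ω] [Nonempty Ω] (hm : 3 ≤ m) (hodd : Odd (Fintype.card F))
    (hno : ∀ x : Ω, stabilizer Sp x ≠ ⊤) :
    Fintype.card F ^ (2 * m) - 1 ≤ (Fintype.card F - 1) * Nat.card Ω := by
  classical
  by_contra hlt
  obtain ⟨p, hp, hchar⟩ := exists_char_p (F := F)
  obtain ⟨k, hk⟩ : ∃ k, m = k + 1 := ⟨m - 1, by omega⟩
  have hq3 : 3 ≤ Fintype.card F := by
    have h : 2 ≤ Fintype.card F := Fintype.one_lt_card
    obtain ⟨j, hj⟩ := hodd
    omega
  have h2 : (2 : F) ≠ 0 := by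
    intro h
    have h' : ringChar F = 2 := by
      have := CharTwo.two_eq_zero (R := ZMod 2)
      exact ringChar.eq_iff.2 ((CharP.charP_iff_prime_eq_zero Nat.prime_two).2 (by exact_mod_cast h))
    have := FiniteField.even_card_of_char_two h'
    rw [Nat.odd_iff] at hodd
    omega
  obtain ⟨pr, hpr⟩ := exists_pr_ne_zero (F := F) (p := p)
  obtain ⟨u, hu⟩ : ∃ u : V, u ≠ 0 :=
    ⟨Pi.single (Sum.inl ⟨0, by omega⟩) 1, fun h => by simpa using congrFun h (Sum.inl ⟨0, by omega⟩)⟩
  obtain ⟨v, huv⟩ := exists_pair hu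
  -- moved points have central stabilisers
  have hreg : ∀ x : Ω, ZMoved u x → Regular u v x := by
    intro x hx w c hw
    by_contra hw0
    refine hlt (moved_of_proj huv hk (by omega) (c := 3) ?_ hx ?_ ?_ (r := ⟨w, hw.1⟩) ⟨c, hw⟩
      fun h => hw0 (congrArg Subtype.val h))
    · obtain ⟨j, hj⟩ : ∃ j, Fintype.card F = j + 1 := ⟨_, (Nat.succ_pred (by omega)).symm⟩
      rw [hj, Nat.add_sub_cancel]
      nlinarith
    · have h1 : (centFix u x).index ≠ 1 := fun h1 => zMoved_iff.1 hx (AddSubgroup.index_eq_one.1 h1)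
      have h2' := (centFix u x).index_mul_card
      rw [Nat.card_eq_fintype_card (α := F)] at h2'
      have h3 : Odd (centFix u x).index := (Nat.odd_mul.1 (h2' ▸ hodd)).1
      rw [← h2', mul_comm (Nat.card _) 3]
      refine Nat.mul_le_mul_right _ ?_
      obtain ⟨j, hj⟩ := h3
      omega
    · obtain ⟨c', hc'⟩ := hx
      obtain ⟨a, ha, ha0⟩ := exists_ne_zero_addPerp (LinearMap.mul F F) mulForm_sep hpr
        (show c' ∉ centFix u x from hc')
      have ha' : a ≠ 0 := fun h => ha0 (by rw [h, map_zero, LinearMap.zero_apply, map_zero])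
      have hle := AddSubgroup.card_le_of_le (rootProj_le_perp (v := v) (a := a) (pr := pr)
        (x := x) fun c hc => ha c hc)
      have h := card_addPerp_mul ((2 * a) • perpForm u v) (fun y hy => perpForm_sep huv y fun z => by
        have := hy z
        rw [LinearMap.smul_apply, LinearMap.smul_apply, smul_eq_mul] at this
        exact (mul_eq_zero.1 this).resolve_left (mul_ne_zero h2 ha')) hpr (rootProj u v x)
      rw [card_perp2 huv, show 2 * m - 2 = 2 * k by omega] at h
      rw [← h]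
      exact Nat.mul_le_mul_right _ hle
  obtain ⟨x, hx⟩ := exists_zMoved hno hu
  have hreg' := hreg x hx
  -- transvections of the complement keep the orbit
  have hkeep0 : ∀ y ∈ rootOrb u v x, ∀ s ∈ perp2 u v, ∀ l : F,
      spTransv s l • y ∈ rootOrb u v y := by
    intro y hy s hs l
    by_contra hout
    have hA : spTransv s l ∈ fixer u v := levi_le_fixer u v (spTransv_mem_levi hs l)
    have hmy := zMoved_orb hx hy
    refine hlt (two_orbits huv hk hq3 h2 (hreg y hmy) (hreg _ ?_) hmy (centFix_fixer hA y) hout)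
    rw [zMoved_iff, centFix_fixer hA, ← zMoved_iff]; exact hmy
  have hkeep : ∀ s ∈ perp2 u v, ∀ l : F, spTransv s l • x ∈ rootOrb u v x :=
    hkeep0 x (mem_rootOrb.2 ⟨0, Submodule.zero_mem _, 0, by rw [rootEl_zero_zero, one_smul]⟩)
  obtain ⟨s₁, hs₁, hZ⟩ := common_zFixed huv hq3 hreg' (by
    intro a ha ha0
    obtain ⟨a', ha', haa⟩ := perp2_nondeg huv ha ha0
    set W := Submodule.span F ({a, a'} : Set V) with hW
    have hWP : W ≤ perp2 u v := Submodule.span_le.2 (by
      rintro z (rfl | rfl) <;> assumption)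
    have hWa : a ∈ W := Submodule.subset_span (Set.mem_insert _ _)
    have hWa' : a' ∈ W := Submodule.subset_span (Set.mem_insert_of_mem _ rfl)
    have hsep : ∀ y ∈ W, y ≠ 0 → ∃ z ∈ W, ⟪y, z⟫ ≠ 0 := by
      intro y hy hy0
      obtain ⟨s, t, rfl⟩ := Submodule.mem_span_pair.1 hy
      by_cases hs : s = 0
      · subst hs
        refine ⟨a, hWa, ?_⟩
        rw [zero_smul, zero_add] at hy0 ⊢
        rw [sympForm_smul_left, sympForm_vu haa]
        intro h
        exact hy0 (by rw [show t = 0 by linear_combination -h, zero_smul])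
      · refine ⟨a', hWa', ?_⟩
        rw [sympForm_add_left, sympForm_smul_left, sympForm_smul_left, haa, sympForm_self, mul_one,
          mul_zero, add_zero]
        exact hs
    obtain ⟨j, hjW, hja, hja'⟩ := exists_mem_transvGroup_pair W hsep hWa hWa'
      (W.neg_mem hWa) (W.neg_mem hWa') haa (by
        rw [sympForm_neg_left, ← neg_one_smul F a', sympForm_smul_right, haa]; ring)
    have hjL : j ∈ levi u v := Subgroup.closure_mono (by
      rintro _ ⟨z, hz, c, rfl⟩; exact ⟨z, hWP hz, c, rfl⟩) hjW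
    have hjf := levi_le_fixer u v hjL
    obtain ⟨d, hd, e, hde⟩ := mem_rootOrb.1 (levi_keeps_orbit hkeep hjL)
    -- `j` is an involution
    have hjj : j * j = 1 := sp_ext fun y => by
      obtain ⟨y₀, hy₀⟩ : ∃ y₀, y₀ = y - ⟪y, a'⟫ • a + ⟪y, a⟫ • a' := ⟨_, rfl⟩
      have hperp := proj_mem_perp2 haa y
      rw [← hy₀] at hperp
      have hfix : j.1 *ᵥ y₀ = y₀ := transvGroup_fix hjW fun w hw => by
        obtain ⟨s, t, rfl⟩ := Submodule.mem_span_pair.1 hw
        rw [sympForm_add_right, sympForm_smul_right, sympForm_smul_right, hperp.1, hperp.2]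
        ring
      have hy : y = y₀ + ⟪y, a'⟫ • a + (-⟪y, a⟫) • a' := by rw [hy₀]; module
      rw [sp_one_mulVec, sp_mul_mulVec]
      conv_lhs => rw [hy]
      conv_rhs => rw [hy]
      simp only [Matrix.mulVec_add, Matrix.mulVec_smul, hfix, hja, hja', Matrix.mulVec_neg,
        neg_neg]
    have hjd : j.1 *ᵥ d + d = 0 := by
      have h : rootEl u (j.1 *ᵥ d + d) (e + e + ⟪d, j.1 *ᵥ d⟫) • x = rootEl u 0 (0 : F) • x := by
        rw [← rootEl_mul (mem_perp2.1 (fixer_map_perp2 hjf hd)).1 (mem_perp2.1 hd).1, mul_smul,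
          hde, ← fixer_smul_rootEl hjf, hde, ← mul_smul, hjj, rootEl_zero_zero]
      exact reg_inj hreg' (Submodule.add_mem _ (fixer_map_perp2 hjf hd) hd)
        (Submodule.zero_mem _) h
    have hjd' : j.1 *ᵥ d = -d := eq_neg_of_add_eq_zero_left hjd
    set s := (1 / 2 : F) • d with hs
    have hsP : s ∈ perp2 u v := Submodule.smul_mem _ _ hd
    refine ⟨s, hsP, fun l => ?_⟩
    have hreg1 : Regular u v (rootEl u s (0 : F) • x) := regular_translate hsP 0 hreg'
    -- `j` is central at the new point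
    obtain ⟨z, hz⟩ : ∃ z : F, j • rootEl u s (0 : F) • x = spTransv u z • rootEl u s (0 : F) • x := by
      refine ⟨e + ⟪d, j.1 *ᵥ s⟫, ?_⟩
      rw [fixer_smul_rootEl hjf, ← hde, ← mul_smul, ← mul_smul,
        rootEl_mul (mem_perp2.1 (fixer_map_perp2 hjf hsP)).1 (mem_perp2.1 hd).1,
        central_mul_rootEl (mem_perp2.1 hsP).1, zero_add, zero_add]
      have e1 : j.1 *ᵥ s + d = s := by
        rw [hs, Matrix.mulVec_smul, hjd', smul_neg, ← sub_eq_zero]
        have e2 : -((1 / 2 : F) • d) + d - (1 / 2 : F) • d = ((1 : F) - 1 / 2 - 1 / 2) • d := by module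
        rw [e2, show (1 : F) - 1 / 2 - 1 / 2 = 0 by field_simp; ring, zero_smul]
      rw [e1]
    have hkeep1 : ∀ w ∈ perp2 u v, ∀ l : F, spTransv w l • rootEl u s (0 : F) • x ∈
        rootOrb u v (rootEl u s (0 : F) • x) :=
      hkeep0 _ (mem_rootOrb.2 ⟨s, hsP, 0, rfl⟩)
    obtain ⟨w, hw, c, hwc⟩ := mem_rootOrb.1 (hkeep1 a ha l)
    obtain ⟨μ, rfl⟩ := translation_mem_line huv hm hreg1 hkeep1 ha ha0 hw hwc.symm
    have hAf : spTransv a l ∈ fixer u v := levi_le_fixer u v (spTransv_mem_levi ha l)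
    have hcomm : j * spTransv a l = spTransv a l * j := by
      rw [← mul_inv_eq_iff_eq_mul, conj_spTransv, hja, ← neg_one_smul F a, spTransv_smul,
        neg_one_sq, one_mul]
    have h := congrArg (· • rootEl u s (0 : F) • x) hcomm
    simp only [mul_smul] at h
    rw [← hwc, fixer_smul_rootEl hjf, hz, fixer_smul_transv hAf, ← hwc,
      ← mul_smul (rootEl u (j.1 *ᵥ (μ • a)) c) (spTransv u z),
      ← mul_smul (spTransv u z) (rootEl u (μ • a) c),
      rootEl_add_central (mem_perp2.1 (fixer_map_perp2 hjf hw)).1,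
      central_mul_rootEl (mem_perp2.1 hw).1] at h
    have h3 := reg_inj hreg1 (fixer_map_perp2 hjf hw) hw h
    rw [Matrix.mulVec_smul, hja, smul_neg, neg_eq_iff_add_eq_zero, ← add_smul, smul_eq_zero] at h3
    obtain rfl : μ = 0 := by
      rcases h3.resolve_right ha0 |> fun h => mul_eq_zero.1 (show (2 : F) * μ = 0 by
        linear_combination h) with h | h
      · exact absurd h h2
      · exact h
    refine ⟨c, ?_⟩
    rw [← hwc, zero_smul, rootEl_zero])
  -- the central parts vanish
  set y := rootEl u s₁ (0 : F) • x with hy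
  have hmy : ZMoved u y := zMoved_orb hx (mem_rootOrb.2 ⟨s₁, hs₁, 0, rfl⟩)
  have hlevi : ∀ A ∈ levi u v, ∃ e : F, A • y = spTransv u e • y := by
    intro A hA
    induction hA using Subgroup.closure_induction with
    | mem A hA =>
      obtain ⟨a, ha, l, rfl⟩ := hA
      exact hZ a ha l
    | one => exact ⟨0, by rw [spTransv_zero']⟩
    | mul A B hA' _ hA hB =>
      obtain ⟨e, he⟩ := hA; obtain ⟨f, hf⟩ := hB
      refine ⟨f + e, ?_⟩
      rw [mul_smul, hf, fixer_smul_transv (levi_le_fixer u v hA'), he, ← mul_smul, ← spTransv_add]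
    | inv A hA' hA =>
      obtain ⟨e, he⟩ := hA
      refine ⟨-e, ?_⟩
      rw [inv_smul_eq_iff, fixer_smul_transv (levi_le_fixer u v hA'), he, ← mul_smul,
        ← spTransv_add, neg_add_cancel, spTransv_zero', one_smul]
  have hfixed : ∀ a ∈ perp2 u v, RootFixed y a := by
    intro a ha c₀
    rcases eq_or_ne a 0 with rfl | ha0
    · rw [spTransv_zero_center, one_smul]
    obtain ⟨b, hb, hba, hbind⟩ := exists_perp_indep huv hm ha
    have hab : ⟪a, b⟫ = 0 := by rw [sympForm_swap, hba, neg_zero]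
    have hb0 : b ≠ 0 := fun h => hbind 0 (by rw [h, zero_smul])
    obtain ⟨c, rfl⟩ : ∃ c, c₀ = c + c := ⟨c₀ / 2, by field_simp; ring⟩
    obtain ⟨e, he⟩ := hZ a ha c
    have hsame : ∀ z ∈ perp2 u v, z ≠ 0 → spTransv z c • y = spTransv u e • y := by
      intro z hz hz0
      obtain ⟨A, hA, hAz⟩ := exists_levi_mulVec_eq huv ha hz ha0 hz0
      obtain ⟨f, hf⟩ := hlevi A hA
      have hAi : A⁻¹ • y = spTransv u (-f) • y := by
        rw [inv_smul_eq_iff, fixer_smul_transv (levi_le_fixer u v hA), hf, ← mul_smul,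
          ← spTransv_add, neg_add_cancel, spTransv_zero', one_smul]
      rw [← hAz, ← conj_spTransv, mul_smul, mul_smul, hAi,
        fixer_smul_transv (levi_le_fixer u v (spTransv_mem_levi ha c)), he,
        fixer_smul_transv (levi_le_fixer u v hA), fixer_smul_transv (levi_le_fixer u v hA), hf,
        ← mul_smul, ← mul_smul, ← spTransv_add, ← spTransv_add]
      congr 2; ring
    have hab1 : a + b ≠ 0 := fun h => hbind (-1) (by
      rw [neg_one_smul]; exact eq_neg_of_add_eq_zero_right h)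
    have hab2 : a + (-1 : F) • b ≠ 0 := fun h => hbind 1 (by
      rw [one_smul, ← sub_eq_zero, ← neg_eq_zero, ← h]; module)
    have e1 := hsame _ (Submodule.add_mem _ ha hb) hab1
    have e2 := hsame _ (Submodule.add_mem _ ha (Submodule.smul_mem _ _ hb)) hab2
    have e3 := hsame b hb hb0
    have hcen : ∀ w ∈ perp2 u v, ∀ f : F, spTransv w c • y = spTransv u f • y → ∀ g : F,
        spTransv w c • spTransv u g • y = spTransv u (g + f) • y := fun w hw f h g => by
      rw [fixer_smul_transv (levi_le_fixer u v (spTransv_mem_levi hw c)), h, ← mul_smul,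
        ← spTransv_add]
    have hrel := congrArg (· • y) (transv_relation_two hab c)
    simp only [mul_smul] at hrel
    rw [e2, hcen _ (Submodule.add_mem _ ha hb) e e1 e, spTransv_add b c c, mul_smul, e3,
      hcen b hb e e3 e, spTransv_add a c c, mul_smul, hcen a ha e he (e + e),
      hcen a ha e he (e + e + e)] at hrel
    -- `2 e` fixes `y`
    have h4 : e + e ∈ centFix u y := by
      have := congrArg (spTransv u (-(e + e)) • ·) hrel
      simp only [← mul_smul, ← spTransv_add] at this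
      rw [neg_add_cancel, spTransv_zero', one_smul, show -(e + e) + (e + e + e + e) = e + e by ring]
        at this
      exact this.symm
    rw [spTransv_add a c c, mul_smul, he, hcen a ha e he e]
    exact h4
  exact hlt (le_card_of_levi_fixed hm huv (hno y) hfixed)

end CfsgLib.MinDegree
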