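import Cfsg.Agent.MinDegree.SympFourLine
import Cfsg.Agent.MinDegree.SympFourCount
import Cfsg.Agent.MinDegree.SympOdd

/-!
# The smallest `Sp(4,q)`-sets for odd `q ≥ 5`
-/

set_option autoImplicit false

namespace CfsgLib.MinDegree

open Matrix CfsgLib.Forms CfsgLib.Forms4 MulAction

variable {F : Type*} [Field F] [Fintype F] {Ω : Type*}
  [MulAction (Matrix.symplecticGroup (Fin 2) F) Ω]

local notation "V" => Fin 2 ⊕ Fin 2 → F
local notation "Sp" => Matrix.symplecticGroup (Fin 2) F
local notation "⟪" x ", " y "⟫" => Cfsg.sympForm 2 F x y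

theorem four_lt {q n : ℕ} (hq : 2 ≤ q) (h : ¬ q ^ 4 - 1 ≤ (q - 1) * n) :
    n ≤ q ^ 3 + q ^ 2 + q := by
  obtain ⟨j, rfl⟩ : ∃ j, q = j + 1 := ⟨q - 1, by omega⟩
  by_contra hn
  apply h
  rw [Nat.add_sub_cancel, Nat.sub_le_iff_le_add]
  calc (j + 1) ^ 4 = j * ((j + 1) ^ 3 + (j + 1) ^ 2 + (j + 1) + 1) + 1 := by ring
    _ ≤ _ := Nat.add_le_add_right (Nat.mul_le_mul_left _ (by omega)) 1

theorem small_proj_numeric {q C κ α o n y : ℕ} (hq : 5 ≤ q) (hκ : 3 * κ ≤ q) (hα : 1 ≤ α)
    (hn : n ≤ q ^ 3 + q ^ 2 + q) (hY : q - 1 ≤ 2 * y) (hpair : y * C * o ≤ n * (α - 1))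
    (ho : α * q ^ 2 ≤ o * κ) (hC : q ^ 2 - 1 ≤ C * κ) : False := by
  obtain ⟨P, hP⟩ : ∃ P, q ^ 2 - 1 = P := ⟨_, rfl⟩
  rw [hP] at hC
  have hP' : q ^ 2 = P + 1 := by have : 1 ≤ q ^ 2 := Nat.one_le_pow _ _ (by omega); omega
  have h1 : (q - 1) * C * (α * q ^ 2) ≤ 2 * n * α * κ := by
    calc (q - 1) * C * (α * q ^ 2) ≤ 2 * y * C * (o * κ) :=
          Nat.mul_le_mul (Nat.mul_le_mul_right _ hY) ho
      _ = 2 * (y * C * o) * κ := by ring
      _ ≤ 2 * (n * (α - 1)) * κ := Nat.mul_le_mul_right _ (Nat.mul_le_mul_left _ hpair)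
      _ ≤ 2 * (n * α) * κ :=
          Nat.mul_le_mul_right _ (Nat.mul_le_mul_left _ (Nat.mul_le_mul_left _ (by omega)))
      _ = _ := by ring
  have h2 : (q - 1) * P * 9 * (α * q ^ 2) ≤ 2 * n * (α * q ^ 2) := by
    calc (q - 1) * P * 9 * (α * q ^ 2) ≤ (q - 1) * (C * κ) * 9 * (α * q ^ 2) :=
          Nat.mul_le_mul_right _ (Nat.mul_le_mul_right _ (Nat.mul_le_mul_left _ hC))
      _ = (q - 1) * C * (α * q ^ 2) * (9 * κ) := by ring
      _ ≤ 2 * n * α * κ * (9 * κ) := Nat.mul_le_mul_right _ h1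
      _ = 2 * n * α * ((3 * κ) * (3 * κ)) := by ring
      _ ≤ 2 * n * α * (q * q) := Nat.mul_le_mul_left _ (Nat.mul_le_mul hκ hκ)
      _ = _ := by ring
  have h3 : (q - 1) * P * 9 ≤ 2 * n := Nat.le_of_mul_le_mul_right h2 (by positivity)
  obtain ⟨j, rfl⟩ : ∃ j, q = j + 1 := ⟨q - 1, by omega⟩
  rw [Nat.add_sub_cancel] at h3
  obtain rfl : P = j ^ 2 + 2 * j := by ring_nf at hP' ⊢; omega
  have hj : 4 * j ^ 2 ≤ j ^ 3 := by
    rw [show j ^ 3 = j * j ^ 2 by ring]; exact Nat.mul_le_mul_right _ (by omega)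
  ring_nf at h3 hn
  nlinarith

theorem class_numeric {q C μ α z n : ℕ} (hq : 5 ≤ q) (hn : n ≤ q ^ 3 + q ^ 2 + q) (hα : 1 ≤ α)
    (hαz : α * z = q) (hz : z = 1 ∨ 3 ≤ z) (hμ : 2 * (q + 1) ≤ C * μ)
    (h1 : (q - 1) * (C * μ) * (α * q) ≤ 2 * n * (α - 1)) (h2 : C * μ * (α * q) ≤ n) : False := by
  rcases hz with rfl | hz
  · rw [mul_one] at hαz
    subst hαz
    have : 2 * (α + 1) * (α * α) ≤ n := le_trans (Nat.mul_le_mul_right _ hμ) h2
    nlinarith
  have h3 : 3 * α ≤ q := by rw [← hαz, mul_comm 3]; exact Nat.mul_le_mul_left _ hz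
  obtain ⟨i, rfl⟩ : ∃ i, α = i + 1 := ⟨α - 1, by omega⟩
  obtain ⟨j, rfl⟩ : ∃ j, q = j + 5 := ⟨q - 5, by omega⟩
  rw [Nat.add_sub_cancel, show j + 5 - 1 = j + 4 from rfl] at h1
  have h4 : (j + 4) * (2 * (j + 6)) * ((i + 1) * (j + 5)) ≤ 2 * n * i :=
    le_trans (Nat.mul_le_mul_right _ (Nat.mul_le_mul_left _ (by omega))) h1
  have h5 : i * (j + 5) ≤ (i + 1) * (j + 2) := by nlinarith
  have h6 : (j + 4) * (j + 6) * (j + 5) * (j + 5) * (i + 1) ≤ n * (j + 2) * (i + 1) := by
    calc (j + 4) * (j + 6) * (j + 5) * (j + 5) * (i + 1)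
        = (j + 4) * (j + 6) * ((i + 1) * (j + 5)) * (j + 5) := by ring
      _ ≤ n * i * (j + 5) := Nat.mul_le_mul_right _ (by linarith)
      _ = n * (i * (j + 5)) := by ring
      _ ≤ n * ((i + 1) * (j + 2)) := Nat.mul_le_mul_left _ h5
      _ = _ := by ring
  have h7 := (Nat.le_of_mul_le_mul_right h6 (Nat.succ_pos i)).trans (Nat.mul_le_mul_right _ hn)
  nlinarith

theorem le_card_sp_four_odd [Finite Ω] [Nonempty Ω] (hq : 4 ≤ Fintype.card F)
    (hodd : Odd (Fintype.card F)) (hno : ∀ x : Ω, stabilizer Sp x ≠ ⊤) :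
    Fintype.card F ^ 4 - 1 ≤ (Fintype.card F - 1) * Nat.card Ω := by
  classical
  by_contra hlt
  have := Fintype.ofFinite Ω
  have hq5 : 5 ≤ Fintype.card F := by obtain ⟨j, hj⟩ := hodd; omega
  have hn := four_lt (by omega) hlt
  obtain ⟨p, hp, hchar⟩ := exists_char_p (F := F)
  have hp3 : 3 ≤ p := by
    obtain ⟨e, -, he⟩ := FiniteField.card F p
    rcases hp.out.eq_two_or_odd with rfl | h
    · rw [he, Nat.odd_pow_iff e.ne_zero] at hodd
      exact absurd hodd (by decide)
    · have := hp.out.two_le; omega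
  have h2 : (2 : F) ≠ 0 := by
    intro h
    have h' : p ∣ 2 := (CharP.cast_eq_zero_iff F p 2).1 (by exact_mod_cast h)
    have := Nat.le_of_dvd two_pos h'
    omega
  have hf : ∀ (z : Ω) (a : V), a ≠ 0 → ¬ RootFixed z a := fun z a ha h =>
    hlt (le_card_of_rootFixed (by omega) (hno z) ha h)
  have hmoved : ∀ (z : Ω) (a : V), a ≠ 0 → ZMoved a z := fun z a ha => by
    by_contra h; exact hf z a ha fun c => by by_contra hc; exact h ⟨c, hc⟩
  obtain ⟨pr, hpr⟩ := exists_pr_ne_zero (F := F) (p := p)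
  obtain ⟨u, hu⟩ : ∃ u : V, u ≠ 0 :=
    ⟨Pi.single (Sum.inl 0) 1, fun h => by simpa using congrFun h (Sum.inl 0)⟩
  obtain ⟨v, huv⟩ := exists_pair hu
  have hregular : ∀ x : Ω, Regular u v x := by
    intro x w₀ c₀ hw₀
    by_contra hw00
    have hr : (⟨w₀, hw₀.1⟩ : perp2 u v) ∈ rootProj u v x := ⟨c₀, hw₀⟩
    have hr0 : (⟨w₀, hw₀.1⟩ : perp2 u v) ≠ 0 := fun h => hw00 (congrArg Subtype.val h)
    have hx := hmoved x u hu
    obtain ⟨c', hc'⟩ := id hx
    obtain ⟨a, ha, hane⟩ := exists_ne_zero_addPerp (LinearMap.mul F F) mulForm_sep hpr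
      (show c' ∉ centFix u x from hc')
    have ha0 : a ≠ 0 := fun h => hane (by rw [h, map_zero, LinearMap.zero_apply, map_zero])
    obtain ⟨α, hα⟩ : ∃ α, Nat.card (addPerp (LinearMap.mul F F) pr (centFix u x)) = α := ⟨_, rfl⟩
    obtain ⟨κ, hκ⟩ : ∃ κ, Nat.card (rootProj u v x) = κ := ⟨_, rfl⟩
    obtain ⟨z, hz⟩ : ∃ z, Nat.card (centFix u x) = z := ⟨_, rfl⟩
    have hαz : α * z = Fintype.card F := by
      rw [← hα, ← hz, card_addPerp_mul (LinearMap.mul F F) mulForm_sep hpr,
        Nat.card_eq_fintype_card]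
    have hα1 : 1 ≤ α := hα ▸ Nat.card_pos
    have hz13 : z = 1 ∨ 3 ≤ z := by
      have h3 : Odd z := (Nat.odd_mul.1 (hαz ▸ hodd)).2
      obtain ⟨j, hj⟩ := h3; omega
    have horb : α * Fintype.card F ^ 2 ≤ (rootOrb u v x).card * κ := by
      have h := card_rootOrb u v x
      rw [card_perp2_four huv, hz, hκ] at h
      refine Nat.le_of_mul_le_mul_right ?_ (show 0 < z from hz ▸ Nat.card_pos)
      calc α * Fintype.card F ^ 2 * z = α * z * Fintype.card F ^ 2 := by ring
        _ = Fintype.card F * Fintype.card F ^ 2 := by rw [hαz]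
        _ ≤ (rootOrb u v x).card * (z * κ) := h
        _ = _ := by ring
    let Y : Finset F := ((Finset.univ : Finset F).erase 0).image fun t => a / t ^ 2
    have hY : ∀ b ∈ Y, ∃ t : F, t ≠ 0 ∧ b = a / t ^ 2 := fun b hb => by
      obtain ⟨t, ht, rfl⟩ := Finset.mem_image.1 hb
      exact ⟨t, (Finset.mem_erase.1 ht).1, rfl⟩
    have hYcard : Fintype.card F - 1 ≤ 2 * Y.card := by
      have h := Finset.card_le_mul_card_image ((Finset.univ : Finset F).erase 0)
        (f := fun t => a / t ^ 2) 2 (fun b hb => by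
          obtain ⟨t₀, -, rfl⟩ := Finset.mem_image.1 hb
          refine le_trans (Finset.card_le_card (t := {t₀, -t₀}) fun t ht => ?_) Finset.card_le_two
          simp only [Finset.mem_filter] at ht
          have ht2 := ht.2
          rw [div_eq_mul_inv, div_eq_mul_inv] at ht2
          have := inv_inj.1 (mul_left_cancel₀ ha0 ht2)
          rcases sq_eq_sq_iff_eq_or_eq_neg.1 this with h | h <;> simp [h])
      rwa [Finset.card_erase_of_mem (Finset.mem_univ _), Finset.card_univ] at h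
    have hsame : ∀ y ∈ rootOrb u v x, rootProj u v y = rootProj u v x ∧
        centFix u y = centFix u x := fun y hy => ⟨(rootOrb_props hy).2, (rootOrb_props hy).1⟩
    have hcov : ∀ S ⊆ conjProj u v x, (∀ K ∈ S, (⟨w₀, hw₀.1⟩ : perp2 u v) ∈ K) →
        S.card * (Fintype.card F ^ 2 - 1) ≤ (conjProj u v x).card * (κ - 1) := fun S hS hrS => by
      rw [← hκ]
      exact conjProj_cover huv id (fun hA z w => rootProj_fixer hA z w) hr0 S hS hrS
    have hC0 := hcov {rootProj u v x} (Finset.singleton_subset_iff.2 (self_mem_conjProj u v x))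
      (fun K hK => by rw [Finset.mem_singleton.1 hK]; exact hr)
    rw [Finset.card_singleton, one_mul] at hC0
    -- the projection is at most isotropic
    have hκq : κ ≤ Fintype.card F := by
      have hle := AddSubgroup.card_le_of_le (rootProj_le_perp (v := v) (a := a) (pr := pr)
        (x := x) fun c hc => ha c hc)
      have h := card_addPerp_mul ((2 * a) • perpForm u v) (fun y hy => perpForm_sep huv y fun z => by
        have := hy z
        rw [LinearMap.smul_apply, LinearMap.smul_apply, smul_eq_mul] at this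
        exact (mul_eq_zero.1 this).resolve_left (mul_ne_zero h2 ha0)) hpr (rootProj u v x)
      rw [card_perp2_four huv, sq] at h
      refine Nat.mul_self_le_mul_self_iff.1 ?_
      rw [← h, hκ]
      exact Nat.mul_le_mul_right _ (hκ ▸ hle)
    -- it is not smaller
    have hκeq : κ = Fintype.card F := by
      by_contra hne
      have h3κ : 3 * κ ≤ Fintype.card F := by
        obtain ⟨e, -, he⟩ := FiniteField.card F p
        have hdvd : κ ∣ p ^ ((e : ℕ) * 2) := by
          rw [pow_mul, ← he, ← hκ, ← card_perp2_four huv]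
          exact AddSubgroup.card_addSubgroup_dvd_card _
        obtain ⟨i, -, hi⟩ := (Nat.dvd_prime_pow hp.out).1 hdvd
        have hlt' : κ < Fintype.card F := lt_of_le_of_ne hκq hne
        rw [hi, he] at hlt'
        have hie : i < e := (Nat.pow_lt_pow_iff_right hp.out.one_lt).1 hlt'
        calc 3 * κ ≤ p * p ^ i := by rw [hi]; exact Nat.mul_le_mul_right _ hp3
          _ = p ^ (i + 1) := by ring
          _ ≤ _ := by rw [he]; exact Nat.pow_le_pow_right hp.out.pos hie
      refine small_proj_numeric hq5 h3κ hα1 hn hYcard ?_ horb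
        (hC0.trans (Nat.mul_le_mul_left _ (Nat.sub_le _ _)))
      rw [← hα]
      exact (pair_count hpr huv ha ha0 Y hY (rootOrb u v x) hsame).1
    subst hκeq
    have hfew : ∀ (μ : ℕ) (U : Finset Ω),
        (∀ y ∈ U, rootProj u v y = rootProj u v x ∧ centFix u y = centFix u x) →
        μ * (α * Fintype.card F) ≤ U.card → (conjProj u v x).card * μ < 2 * (Fintype.card F + 1) := by
      intro μ U hU hUc
      by_contra! hμ
      obtain ⟨c1, c2⟩ := pair_count hpr huv ha ha0 Y hY U hU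
      rw [hα] at c1
      refine class_numeric hq5 hn hα1 hαz hz13 hμ ?_
        (le_trans (by rw [mul_assoc]; exact Nat.mul_le_mul_left _ hUc) c2)
      calc (Fintype.card F - 1) * ((conjProj u v x).card * μ) * (α * Fintype.card F)
          = (Fintype.card F - 1) * (conjProj u v x).card * (μ * (α * Fintype.card F)) := by ring
        _ ≤ 2 * Y.card * (conjProj u v x).card * U.card :=
            Nat.mul_le_mul (Nat.mul_le_mul_right _ hYcard) hUc
        _ = 2 * (Y.card * (conjProj u v x).card * U.card) := by ring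
        _ ≤ 2 * (Nat.card Ω * (α - 1)) := Nat.mul_le_mul_left _ c1
        _ = _ := by ring
    have ho1 : α * Fintype.card F ≤ (rootOrb u v x).card := by
      refine Nat.le_of_mul_le_mul_right ?_ (show 0 < Fintype.card F by omega)
      calc α * Fintype.card F * Fintype.card F = α * Fintype.card F ^ 2 := by ring
        _ ≤ _ := horb
    have hC2 := hfew 1 (rootOrb u v x) hsame (by rwa [one_mul])
    rw [mul_one] at hC2
    have hqq : Fintype.card F ^ 2 - 1 = (Fintype.card F + 1) * (Fintype.card F - 1) := by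
      rw [sq, ← Nat.mul_self_sub_mul_self_eq, one_mul]
    have hC1 : Fintype.card F + 1 ≤ (conjProj u v x).card := by
      rw [hqq] at hC0; exact Nat.le_of_mul_le_mul_right hC0 (by omega)
    -- each vector lies in one conjugate only
    have huniq : ∀ A ∈ fixer u v, (⟨w₀, hw₀.1⟩ : perp2 u v) ∈ rootProj u v (A • x) →
        rootProj u v (A • x) = rootProj u v x := by
      intro A hA hmem
      by_contra hne
      have h := hcov {rootProj u v (A • x), rootProj u v x} (fun K hK => by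
        rcases Finset.mem_insert.1 hK with rfl | hK
        · exact mem_conjProj.2 ⟨A, hA, rfl⟩
        · rw [Finset.mem_singleton.1 hK]; exact self_mem_conjProj u v x) (fun K hK => by
        rcases Finset.mem_insert.1 hK with rfl | hK
        · exact hmem
        · rw [Finset.mem_singleton.1 hK]; exact hr)
      rw [Finset.card_pair hne, hqq, ← mul_assoc] at h
      exact absurd (Nat.le_of_mul_le_mul_right h (by omega)) (by omega)
    -- it is a line
    let φ : F → perp2 u v := fun t => t • ⟨w₀, hw₀.1⟩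
    have hφ : Function.Injective φ := smul_left_injective F hr0
    have hline : ∀ w : perp2 u v, w ∈ rootProj u v x ↔ ∃ t : F, (w : V) = t • w₀ := by
      have heq : (rootProj u v x : Set (perp2 u v)) = Set.range φ := by
        have hc : (Set.range φ).ncard = (rootProj u v x : Set (perp2 u v)).ncard := by
          rw [Set.ncard_range_of_injective hφ, ← Nat.card_coe_set_eq, Nat.card_eq_fintype_card]
          exact hκ.symm
        by_cases hperp : ∀ w ∈ rootProj u v x, ⟪(w : V), w₀⟫ = 0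
        · refine Set.eq_of_subset_of_ncard_le (fun w hw => ?_) hc.le
          obtain ⟨t, ht⟩ := perp2_line huv w.2 hw₀.1 hw00 (hperp w hw)
          exact ⟨t, Subtype.ext ht.symm⟩
        push Not at hperp
        obtain ⟨w₁, hw₁, hne⟩ := hperp
        refine (Set.eq_of_subset_of_ncard_le ?_ hc.ge).symm
        rintro _ ⟨t, rfl⟩
        set T := spTransv w₀ (t / ⟪(w₁ : V), w₀⟫) with hT
        have hTf : T ∈ fixer u v := levi_le_fixer u v (spTransv_mem_levi hw₀.1 _)
        have hT1 : fixerRes hTf ⟨w₀, hw₀.1⟩ = ⟨w₀, hw₀.1⟩ :=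
          Subtype.ext (transv_mulVec_fix (sympForm_self w₀) _)
        have hK := huniq T hTf (by rw [← hT1, rootProj_fixer]; exact hr)
        have hm : fixerRes hTf w₁ ∈ rootProj u v x := by rw [← hK, rootProj_fixer]; exact hw₁
        have e : φ t = fixerRes hTf w₁ - w₁ := Subtype.ext (by
          change t • w₀ = T.1 *ᵥ (w₁ : V) - w₁
          rw [hT, spTransv_mulVec, div_mul_cancel₀ _ hne, add_sub_cancel_left])
        rw [e]
        exact AddSubgroup.sub_mem _ hm hw₁
      intro w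
      constructor
      · intro hw
        have : w ∈ Set.range φ := heq ▸ hw
        obtain ⟨t, rfl⟩ := this
        exact ⟨t, rfl⟩
      · rintro ⟨t, ht⟩
        have : w ∈ (rootProj u v x : Set (perp2 u v)) := heq ▸ ⟨t, Subtype.ext ht.symm⟩
        exact this
    obtain ⟨r', hr', hrr⟩ := perp2_nondeg huv hw₀.1 hw00
    refine line_case huv hq hw₀.1 hr' hrr hline hx (fun h => absurd h h2) ?_ fun z => hf z w₀ hw00
    rintro A hA ⟨s, hs⟩
    by_contra hout
    have hs0 : s ≠ 0 := fun h => hw00 (by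
      rw [← sp_inv_mulVec_self A w₀, hs, h, zero_smul, Matrix.mulVec_zero])
    have hpA : rootProj u v (A • x) = rootProj u v x := huniq A hA (by
      have h : φ s⁻¹ ∈ rootProj u v x := (hline _).2 ⟨_, rfl⟩
      rw [show (⟨w₀, hw₀.1⟩ : perp2 u v) = fixerRes hA (φ s⁻¹) from Subtype.ext (by
        change w₀ = A.1 *ᵥ (s⁻¹ • w₀)
        rw [Matrix.mulVec_smul, hs, inv_smul_smul₀ hs0]), rootProj_fixer]
      exact h)
    have hdisj : Disjoint (rootOrb u v x) (rootOrb u v (A • x)) := by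
      rw [Finset.disjoint_left]
      intro y h1 h2
      refine hout ?_
      rw [← rootOrb_eq_of_mem h1, rootOrb_eq_of_mem h2]
      exact mem_rootOrb.2 ⟨0, Submodule.zero_mem _, 0, by rw [rootEl_zero_zero, one_smul]⟩
    have h := hfew 2 (rootOrb u v x ∪ rootOrb u v (A • x)) (fun y hy => by
      rcases Finset.mem_union.1 hy with hy | hy
      · exact hsame y hy
      · exact ⟨(rootOrb_props hy).2.trans hpA, (rootOrb_props hy).1.trans (centFix_fixer hA x)⟩) ?_
    · omega
    rw [Finset.card_union_of_disjoint hdisj]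
    have h' := card_rootOrb u v (A • x)
    rw [card_perp2_four huv, centFix_fixer hA, card_rootProj_fixer hA, hz, hκ] at h'
    have ho2 : α * Fintype.card F ≤ (rootOrb u v (A • x)).card := by
      refine Nat.le_of_mul_le_mul_right ?_
        (show 0 < z * Fintype.card F from Nat.mul_pos (hz ▸ Nat.card_pos) (by omega))
      calc α * Fintype.card F * (z * Fintype.card F) = α * z * Fintype.card F ^ 2 := by ring
        _ = Fintype.card F * Fintype.card F ^ 2 := by rw [hαz]
        _ ≤ _ := h'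
    omega
  -- the fixer keeps each orbit
  have hkeep : ∀ (x : Ω), ∀ A ∈ fixer u v, A • x ∈ rootOrb u v x := by
    intro x A hA
    by_contra hout
    exact hlt (two_orbits huv (k := 1) rfl (by omega) h2 (p := p) (hregular x) (hregular _)
      (hmoved x u hu) (centFix_fixer hA x) hout)
  obtain ⟨a, ha, ha0⟩ : ∃ a ∈ perp2 u v, a ≠ 0 := by
    by_contra! hh
    have h1 : Nat.card (perp2 u v) ≤ 1 := by
      rw [Finite.card_le_one_iff_subsingleton]
      exact ⟨fun y z => Subtype.ext ((hh _ y.2).trans (hh _ z.2).symm)⟩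
    rw [card_perp2_four huv] at h1
    nlinarith
  obtain ⟨a', ha', haa⟩ := perp2_nondeg huv ha ha0
  obtain ⟨j, hj, hja, hja'⟩ := exists_plane_elem huv ha ha' (Submodule.smul_mem _ (-1 : F) ha)
    (Submodule.smul_mem _ (-1 : F) ha') haa (by
      rw [sympForm_smul_left, sympForm_smul_right, haa]; ring)
  have hjneg : ∀ w ∈ perp2 u v, j.1 *ᵥ w = -w := by
    intro w hw
    rw [plane_coord huv ha ha' haa hw, Matrix.mulVec_add, Matrix.mulVec_smul, Matrix.mulVec_smul,
      hja, hja']
    module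
  obtain ⟨x⟩ := ‹Nonempty Ω›
  obtain ⟨d, hd, e, hde⟩ := mem_rootOrb.1 (hkeep x j hj)
  -- the point where the central involution of the Levi factor is central
  obtain ⟨s, hs⟩ : ∃ s, s = (1 / 2 : F) • d := ⟨_, rfl⟩
  have hsP : s ∈ perp2 u v := hs ▸ Submodule.smul_mem _ _ hd
  obtain ⟨y, hy⟩ : ∃ y, y = rootEl u s (0 : F) • x := ⟨_, rfl⟩
  obtain ⟨f, hf'⟩ : ∃ f : F, j • y = spTransv u f • y := by
    refine ⟨e + ⟪d, j.1 *ᵥ s⟫, ?_⟩
    rw [hy, fixer_smul_rootEl hj, ← hde, ← mul_smul, ← mul_smul,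
      rootEl_mul (mem_perp2.1 (fixer_map_perp2 hj hsP)).1 (mem_perp2.1 hd).1,
      central_mul_rootEl (mem_perp2.1 hsP).1, zero_add, zero_add]
    congr 2
    rw [hjneg s hsP, hs, ← sub_eq_zero]
    have e2 : -((1 / 2 : F) • d) + d - (1 / 2 : F) • d = ((1 : F) - 1 / 2 - 1 / 2) • d := by module
    rw [e2, show (1 : F) - 1 / 2 - 1 / 2 = 0 by field_simp; ring, zero_smul]
  have hregy : Regular u v y := hregular y
  have hcentral : ∀ A ∈ fixer u v, ∃ g : F, A • y = spTransv u g • y := by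
    intro A hA
    obtain ⟨w, hw, g, hwg⟩ := mem_rootOrb.1 (hkeep y A hA)
    refine ⟨g, ?_⟩
    suffices h0 : w = 0 by rw [← hwg, h0, rootEl_zero]
    have hcomm : j * A = A * j := fixer_eq huv ha ha' haa (mul_mem hj hA) (mul_mem hA hj)
      (by rw [sp_mul_mulVec, sp_mul_mulVec, hja, hjneg _ (fixer_map_perp2 hA ha),
        Matrix.mulVec_smul, neg_one_smul])
      (by rw [sp_mul_mulVec, sp_mul_mulVec, hja', hjneg _ (fixer_map_perp2 hA ha'),
        Matrix.mulVec_smul, neg_one_smul])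
    have h := congrArg (· • y) hcomm
    simp only [mul_smul] at h
    rw [← hwg, fixer_smul_rootEl hj, hf', fixer_smul_transv hA, ← hwg, ← mul_smul, ← mul_smul,
      central_mul_rootEl (mem_perp2.1 hw).1,
      rootEl_add_central (mem_perp2.1 (fixer_map_perp2 hj hw)).1] at h
    have h3 := reg_inj hregy (fixer_map_perp2 hj hw) hw h
    rw [hjneg w hw] at h3
    have h4 : (2 : F) • w = 0 := by
      rw [two_smul]
      nth_rewrite 1 [← h3]
      exact neg_add_cancel w
    exact (smul_eq_zero.1 h4).resolve_left h2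
  obtain ⟨L, hL0, hL1⟩ := exists_sq_ne_one hq
  obtain ⟨A, hA, hAa, -⟩ := exists_plane_elem huv ha ha' (Submodule.smul_mem _ L ha)
    (Submodule.smul_mem _ L⁻¹ ha') haa (by
      rw [sympForm_smul_left, sympForm_smul_right, haa, mul_one, mul_inv_cancel₀ hL0])
  obtain ⟨eA, heA⟩ := hcentral A hA
  refine hf y a ha0 fun c => ?_
  obtain ⟨l, rfl⟩ : ∃ l, c = L ^ 2 * l + -l :=
    ⟨c / (L ^ 2 - 1), by field_simp [sub_ne_zero.2 hL1]; ring⟩
  have hTf : spTransv a l ∈ fixer u v := levi_le_fixer u v (spTransv_mem_levi ha l)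
  obtain ⟨g, hg⟩ := hcentral _ hTf
  have hAi : A⁻¹ • y = spTransv u (-eA) • y := by
    rw [inv_smul_eq_iff, fixer_smul_transv hA, heA, ← mul_smul, ← spTransv_add, neg_add_cancel,
      spTransv_zero', one_smul]
  have e1 : spTransv a (L ^ 2 * l) • y = spTransv u g • y := by
    rw [← spTransv_smul, ← hAa, ← conj_spTransv, mul_smul, mul_smul, hAi, fixer_smul_transv hTf,
      hg, fixer_smul_transv hA, fixer_smul_transv hA, heA, ← mul_smul, ← mul_smul, ← spTransv_add,
      ← spTransv_add]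
    congr 2
    ring
  have e2 : spTransv a (-l) • y = spTransv u (-g) • y := by
    have e3 : spTransv a (-l) = (spTransv a l)⁻¹ := eq_inv_of_mul_eq_one_left (by
      rw [← spTransv_add, neg_add_cancel, spTransv_zero'])
    rw [e3, inv_smul_eq_iff, fixer_smul_transv hTf, hg, ← mul_smul, ← spTransv_add,
      neg_add_cancel, spTransv_zero', one_smul]
  rw [spTransv_add, mul_smul, e2, fixer_smul_transv (levi_le_fixer u v (spTransv_mem_levi ha _)),
    e1, ← mul_smul, ← spTransv_add, neg_add_cancel, spTransv_zero', one_smul]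

end CfsgLib.MinDegree
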