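import Cfsg.Agent.MinDegree.SympFourLine
import Cfsg.Agent.MinDegree.SympFourCount
import Cfsg.Agent.MinDegree.SympFourOdd
import Cfsg.Agent.MinDegree.SympEven

/-!
# The smallest `Sp(4,q)`-sets for even `q ≥ 4`
-/

set_option autoImplicit false

namespace CfsgLib.MinDegree

open Matrix CfsgLib.Forms CfsgLib.Forms4 MulAction

variable {F : Type*} [Field F] [Fintype F] [CharP F 2] {Ω : Type*}
  [MulAction (Matrix.symplecticGroup (Fin 2) F) Ω]

local notation "V" => Fin 2 ⊕ Fin 2 → F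
local notation "Sp" => Matrix.symplecticGroup (Fin 2) F
local notation "⟪" x ", " y "⟫" => Cfsg.sympForm 2 F x y

/-- A subgroup of the complement moved only to disjoint subgroups is a line. -/
theorem proj_line {u v r : V} {x : Ω} (huv : ⟪u, v⟫ = 1) (hr : r ∈ perp2 u v) (hr0 : r ≠ 0)
    (hrK : (⟨r, hr⟩ : perp2 u v) ∈ rootProj u v x)
    (hcard : Nat.card (rootProj u v x) = Fintype.card F)
    (huniq : ∀ A ∈ fixer u v, (⟨r, hr⟩ : perp2 u v) ∈ rootProj u v (A • x) →
      rootProj u v (A • x) = rootProj u v x) :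
    ∀ w : perp2 u v, w ∈ rootProj u v x ↔ ∃ t : F, (w : V) = t • r := by
  classical
  let φ : F → perp2 u v := fun t => t • ⟨r, hr⟩
  have hne : (⟨r, hr⟩ : perp2 u v) ≠ 0 := fun h => hr0 (congrArg Subtype.val h)
  have hφ : Function.Injective φ := smul_left_injective F hne
  have hc : (Set.range φ).ncard = (rootProj u v x : Set (perp2 u v)).ncard := by
    rw [Set.ncard_range_of_injective hφ, ← Nat.card_coe_set_eq, Nat.card_eq_fintype_card]
    exact hcard.symm
  have heq : (rootProj u v x : Set (perp2 u v)) = Set.range φ := by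
    by_cases hperp : ∀ w ∈ rootProj u v x, ⟪(w : V), r⟫ = 0
    · refine Set.eq_of_subset_of_ncard_le (fun w hw => ?_) hc.le
      obtain ⟨t, ht⟩ := perp2_line huv w.2 hr hr0 (hperp w hw)
      exact ⟨t, Subtype.ext ht.symm⟩
    push Not at hperp
    obtain ⟨w₁, hw₁, hne⟩ := hperp
    refine (Set.eq_of_subset_of_ncard_le ?_ hc.ge).symm
    rintro _ ⟨t, rfl⟩
    set T := spTransv r (t / ⟪(w₁ : V), r⟫) with hT
    have hTf : T ∈ fixer u v := levi_le_fixer u v (spTransv_mem_levi hr _)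
    have hT1 : fixerRes hTf ⟨r, hr⟩ = ⟨r, hr⟩ :=
      Subtype.ext (transv_mulVec_fix (sympForm_self r) _)
    have hK := huniq T hTf (by rw [← hT1, rootProj_fixer]; exact hrK)
    have hm : fixerRes hTf w₁ ∈ rootProj u v x := by rw [← hK, rootProj_fixer]; exact hw₁
    have e : φ t = fixerRes hTf w₁ - w₁ := Subtype.ext (by
      change t • r = T.1 *ᵥ (w₁ : V) - w₁
      rw [hT, spTransv_mulVec, div_mul_cancel₀ _ hne, add_sub_cancel_left])
    rw [e]
    exact AddSubgroup.sub_mem _ hm hw₁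
  intro w
  constructor
  · intro hw
    have : w ∈ Set.range φ := heq ▸ hw
    obtain ⟨t, rfl⟩ := this
    exact ⟨t, rfl⟩
  · rintro ⟨t, ht⟩
    have : w ∈ (rootProj u v x : Set (perp2 u v)) := heq ▸ ⟨t, Subtype.ext ht.symm⟩
    exact this

/-- In a small set the points are free or full for each pair. -/
theorem dichotomy_four [Finite Ω] (hq : 4 ≤ Fintype.card F)
    (hlt : ¬ Fintype.card F ^ 4 - 1 ≤ (Fintype.card F - 1) * Nat.card Ω)
    (hf : ∀ (z : Ω) (a : V), a ≠ 0 → ¬ RootFixed z a) {u v : V} (huv : ⟪u, v⟫ = 1) (x : Ω) :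
    IsFree u v x ∨ Full u v x := by
  classical
  have := Fintype.ofFinite Ω
  have hn := four_lt (by omega) hlt
  obtain ⟨pr, hpr, -, -⟩ := exists_prAS (F := F)
  have hu : u ≠ 0 := fun h => by rw [h, sympForm_zero_left] at huv; exact zero_ne_one huv
  have hx : ZMoved u x := by by_contra h; exact hf x u hu fun c => by by_contra hc; exact h ⟨c, hc⟩
  obtain ⟨a, ha, ha0⟩ := exists_ann_ne_zero hpr hx
  obtain ⟨q, hq'⟩ : ∃ q, Fintype.card F = q := ⟨_, rfl⟩
  rw [hq'] at hq hn
  obtain ⟨α, hα⟩ : ∃ α, Nat.card (addPerp (LinearMap.mul F F) pr (centFix u x)) = α := ⟨_, rfl⟩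
  obtain ⟨κ, hκ⟩ : ∃ κ, Nat.card (rootProj u v x) = κ := ⟨_, rfl⟩
  obtain ⟨z, hz⟩ : ∃ z, Nat.card (centFix u x) = z := ⟨_, rfl⟩
  obtain ⟨ρ, hρ⟩ : ∃ ρ, Nat.card (addPerp (perpForm u v) pr (rootProj u v x)) = ρ := ⟨_, rfl⟩
  have hαz : α * z = q := by
    rw [← hα, ← hz, card_addPerp_mul (LinearMap.mul F F) mulForm_sep hpr,
      Nat.card_eq_fintype_card, hq']
  have hκρ : ρ * κ = q ^ 2 := by
    rw [← hρ, ← hκ, card_addPerp_mul (perpForm u v) (perpForm_sep huv) hpr, card_perp2_four huv,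
      hq']
  have hα1 : 1 ≤ α := hα ▸ Nat.card_pos
  have hαq : α ≤ q := hαz ▸ Nat.le_mul_of_pos_right _ (hz ▸ Nat.card_pos)
  have hκ0 : 0 < κ := hκ ▸ Nat.card_pos
  have horb : ∀ y : Ω, centFix u y = centFix u x → Nat.card (rootProj u v y) = κ →
      α * q ^ 2 ≤ (rootOrb u v y).card * κ := by
    intro y h1 h2
    have h := card_rootOrb u v y
    rw [card_perp2_four huv, h1, hz, h2, hq'] at h
    refine Nat.le_of_mul_le_mul_right ?_ (show 0 < z from hz ▸ Nat.card_pos)
    calc α * q ^ 2 * z = α * z * q ^ 2 := by ring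
      _ = q * q ^ 2 := by rw [hαz]
      _ ≤ (rootOrb u v y).card * (z * κ) := h
      _ = _ := by ring
  let Y : Finset F := ((Finset.univ : Finset F).erase 0).image fun t => a / t ^ 2
  have hY : ∀ b ∈ Y, ∃ t : F, t ≠ 0 ∧ b = a / t ^ 2 := fun b hb => by
    obtain ⟨t, ht, rfl⟩ := Finset.mem_image.1 hb
    exact ⟨t, (Finset.mem_erase.1 ht).1, rfl⟩
  have hYcard : Y.card = q - 1 := by
    rw [Finset.card_image_of_injective, Finset.card_erase_of_mem (Finset.mem_univ _),
      Finset.card_univ, hq']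
    intro s t h
    simp only [div_eq_mul_inv] at h
    exact sq_inj' (inv_inj.1 (mul_left_cancel₀ ha0 h))
  have hsame : ∀ y ∈ rootOrb u v x, rootProj u v y = rootProj u v x ∧
      centFix u y = centFix u x := fun y hy => ⟨(rootOrb_props hy).2, (rootOrb_props hy).1⟩
  obtain ⟨C, hC⟩ : ∃ C, (conjProj u v x).card = C := ⟨_, rfl⟩
  have hpc : ∀ U : Finset Ω,
      (∀ y ∈ U, rootProj u v y = rootProj u v x ∧ centFix u y = centFix u x) →
      (q - 1) * C * U.card ≤ Nat.card Ω * (α - 1) := fun U hU => by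
    rw [← hYcard, ← hC, ← hα]
    exact (pair_count hpr huv ha ha0 Y hY U hU).1
  have hscale : ∀ μ : ℕ, ∀ U : Finset Ω,
      (∀ y ∈ U, rootProj u v y = rootProj u v x ∧ centFix u y = centFix u x) →
      μ * (α * q ^ 2) ≤ U.card * κ → q * (C * (μ * q ^ 2)) ≤ Nat.card Ω * κ := by
    intro μ U hU hUc
    refine scale_alpha hα1 hαq (by omega) ?_
    calc (q - 1) * (C * (μ * q ^ 2)) * α = (q - 1) * C * (μ * (α * q ^ 2)) := by ring
      _ ≤ (q - 1) * C * (U.card * κ) := Nat.mul_le_mul_left _ hUc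
      _ = (q - 1) * C * U.card * κ := by ring
      _ ≤ Nat.card Ω * (α - 1) * κ := Nat.mul_le_mul_right _ (hpc U hU)
      _ = _ := by ring
  by_cases hK : ∃ r ∈ rootProj u v x, r ≠ 0
  swap
  · push Not at hK
    have hreg : Regular u v x := fun w c hw => congrArg Subtype.val (hK ⟨w, hw.1⟩ ⟨c, hw⟩)
    refine Or.inl ⟨hreg, fun c hc => ?_⟩
    by_contra hc0
    have hκ1 : κ = 1 := hκ ▸ card_rootProj_regular hreg
    have hz2 : 2 ≤ z := hz ▸ Finite.one_lt_card_iff_nontrivial.2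
      ⟨⟨⟨c, hc⟩, 0, fun h => hc0 (congrArg Subtype.val h)⟩⟩
    have h2α : 2 * α ≤ q := by rw [← hαz, mul_comm 2]; exact Nat.mul_le_mul_left _ hz2
    have ho := horb x rfl hκ
    rw [hκ1, mul_one] at ho
    have hC1 : 1 ≤ C := hC ▸ Finset.card_pos.2 ⟨_, self_mem_conjProj u v x⟩
    have h1 : (q - 1) * (α * q ^ 2) ≤ Nat.card Ω * (α - 1) :=
      le_trans (Nat.mul_le_mul (Nat.le_mul_of_pos_right _ hC1) ho) (hpc _ hsame)
    obtain ⟨i, rfl⟩ : ∃ i, α = i + 1 := ⟨α - 1, by omega⟩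
    obtain ⟨j, rfl⟩ : ∃ j, q = j + 4 := ⟨q - 4, by omega⟩
    rw [Nat.add_sub_cancel, show j + 4 - 1 = j + 3 from rfl] at h1
    have h5 : i * (j + 4) ≤ (i + 1) * (j + 2) := by nlinarith
    have h6 : (j + 3) * (j + 4) ^ 3 * (i + 1) ≤ Nat.card Ω * (j + 2) * (i + 1) := by
      calc (j + 3) * (j + 4) ^ 3 * (i + 1)
          = (j + 3) * ((i + 1) * (j + 4) ^ 2) * (j + 4) := by ring
        _ ≤ Nat.card Ω * i * (j + 4) := Nat.mul_le_mul_right _ h1
        _ = Nat.card Ω * (i * (j + 4)) := by ring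
        _ ≤ Nat.card Ω * ((i + 1) * (j + 2)) := Nat.mul_le_mul_left _ h5
        _ = _ := by ring
    have h7 := (Nat.le_of_mul_le_mul_right h6 (Nat.succ_pos i)).trans (Nat.mul_le_mul_right _ hn)
    nlinarith
  obtain ⟨r, hr, hr0⟩ := hK
  have hcov : ∀ S ⊆ conjProj u v x, (∀ K ∈ S, r ∈ K) → S.card * (q ^ 2 - 1) ≤ C * (κ - 1) :=
    fun S hS hrS => by
      rw [← hκ, ← hC, ← hq']
      exact conjProj_cover huv id (fun hA z w => rootProj_fixer hA z w) hr0 S hS hrS
  have hC0 := hcov {rootProj u v x} (Finset.singleton_subset_iff.2 (self_mem_conjProj u v x))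
    (fun K hK => by rw [Finset.mem_singleton.1 hK]; exact hr)
  rw [Finset.card_singleton, one_mul] at hC0
  by_cases hρ1 : ρ = 1
  · refine Or.inr fun w hw => ?_
    have htop : rootProj u v x = ⊤ := by
      refine AddSubgroup.eq_top_of_card_eq _ ?_
      rw [hκ, card_perp2_four huv, hq', ← hκρ, hρ1, one_mul]
    have : (⟨w, hw⟩ : perp2 u v) ∈ rootProj u v x := htop ▸ AddSubgroup.mem_top _
    exact this
  exfalso
  -- the bound through the labels
  have hmain : q * (C * ρ) ≤ Nat.card Ω := by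
    refine Nat.le_of_mul_le_mul_right ?_ hκ0
    calc q * (C * ρ) * κ = q * (C * (1 * (ρ * κ))) := by ring
      _ = q * (C * (1 * q ^ 2)) := by rw [hκρ]
      _ ≤ _ := hscale 1 (rootOrb u v x) hsame (by rw [one_mul]; exact horb x rfl hκ)
  obtain ⟨P, hP⟩ : ∃ P, q ^ 2 = P + 1 :=
    ⟨q ^ 2 - 1, by have : 1 ≤ q ^ 2 := Nat.one_le_pow _ _ (by omega); omega⟩
  rw [hP, Nat.add_sub_cancel] at hC0 hcov
  rcases lt_trichotomy κ q with hlt' | heq | hgt
  · have hρq : q + 1 ≤ ρ := by
      by_contra h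
      have : ρ * κ ≤ q * κ := Nat.mul_le_mul_right _ (by omega)
      have : q * κ < q * q := Nat.mul_lt_mul_of_pos_left hlt' (by omega)
      rw [sq] at hκρ
      omega
    have hC2 : q + 2 ≤ C := by
      by_contra h
      have : C * (κ - 1) ≤ (q + 1) * (q - 2) := Nat.mul_le_mul (by omega) (by omega)
      have h' : (q + 1) * (q - 2) + 2 * (q + 1) = (q + 1) * q := by
        rw [mul_comm 2, ← mul_add, Nat.sub_add_cancel (by omega)]
      nlinarith
    have : q * ((q + 2) * (q + 1)) ≤ Nat.card Ω :=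
      le_trans (Nat.mul_le_mul_left _ (Nat.mul_le_mul hC2 hρq)) hmain
    nlinarith
  swap
  · have hρq : ρ + 1 ≤ q := by
      by_contra h
      have : q * κ ≤ ρ * κ := Nat.mul_le_mul_right _ (by omega)
      have : q * q < q * κ := Nat.mul_lt_mul_of_pos_left hgt (by omega)
      rw [sq] at hκρ
      omega
    obtain ⟨r', hr', hr'0⟩ : ∃ r' ∈ addPerp (perpForm u v) pr (rootProj u v x), r' ≠ 0 := by
      by_contra! h
      refine hρ1 (hρ ▸ ?_)
      rw [Nat.card_eq_one_iff_unique]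
      exact ⟨⟨fun b c => Subtype.ext ((h _ b.2).trans (h _ c.2).symm)⟩, ⟨0⟩⟩
    have hCa : q ^ 2 - 1 ≤ C * (ρ - 1) := by
      have h := conjProj_cover (x := x) huv (addPerp (perpForm u v) pr)
        (fun hA z w => projAnn_fixer (pr := pr) hA z w) hr'0 {rootProj u v x}
        (Finset.singleton_subset_iff.2 (self_mem_conjProj u v x))
        (fun K hK => by rw [Finset.mem_singleton.1 hK]; exact hr')
      rw [Finset.card_singleton, one_mul, hC, hρ, hq'] at h
      exact h
    rw [hP, Nat.add_sub_cancel] at hCa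
    have hC3 : q + 3 ≤ C := by
      by_contra h
      have : C * (ρ - 1) ≤ (q + 2) * (q - 2) := Nat.mul_le_mul (by omega) (by omega)
      have h' : (q + 2) * (q - 2) + 2 * (q + 2) = (q + 2) * q := by
        rw [mul_comm 2, ← mul_add, Nat.sub_add_cancel (by omega)]
      nlinarith
    have h2 : C * (ρ - 1) + C = C * ρ := by
      conv_rhs => rw [show ρ = ρ - 1 + 1 by
        have : 0 < ρ := hρ ▸ Nat.card_pos
        omega, mul_add, mul_one]
    have : q * (q ^ 2 + q + 2) ≤ Nat.card Ω := le_trans (Nat.mul_le_mul_left _ (by omega)) hmain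
    nlinarith
  subst heq
  have hfew : ∀ (μ : ℕ) (U : Finset Ω),
      (∀ y ∈ U, rootProj u v y = rootProj u v x ∧ centFix u y = centFix u x) →
      μ * (α * κ) ≤ U.card → C * μ ≤ κ + 1 := by
    intro μ U hU hUc
    by_contra! h
    have h1 := hscale μ U hU (by
      calc μ * (α * κ ^ 2) = μ * (α * κ) * κ := by ring
        _ ≤ _ := Nat.mul_le_mul_right _ hUc)
    have h2 : κ * κ * (C * μ) ≤ Nat.card Ω := by
      refine Nat.le_of_mul_le_mul_right ?_ hκ0
      calc κ * κ * (C * μ) * κ = κ * (C * (μ * κ ^ 2)) := by ring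
        _ ≤ _ := h1
    have : κ * κ * (κ + 2) ≤ Nat.card Ω := le_trans (Nat.mul_le_mul_left _ (by omega)) h2
    nlinarith
  have ho1 : ∀ y : Ω, centFix u y = centFix u x → Nat.card (rootProj u v y) = κ →
      α * κ ≤ (rootOrb u v y).card := fun y h1 h2 => by
    refine Nat.le_of_mul_le_mul_right ?_ hκ0
    calc α * κ * κ = α * κ ^ 2 := by ring
      _ ≤ _ := horb y h1 h2
  have hC2 := hfew 1 (rootOrb u v x) hsame (by rw [one_mul]; exact ho1 x rfl hκ)
  rw [mul_one] at hC2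
  have hPq : P = (κ + 1) * (κ - 1) := by
    rw [← Nat.mul_self_sub_mul_self_eq, one_mul, ← sq, hP, Nat.add_sub_cancel]
  have hC1 : κ + 1 ≤ C := by
    rw [hPq] at hC0; exact Nat.le_of_mul_le_mul_right hC0 (by omega)
  have hz1 : z = 1 := by
    by_contra hz1
    have hz2 : 2 ≤ z := by have : 0 < z := hz ▸ Nat.card_pos; omega
    have h2α : 2 * α ≤ κ := by rw [← hαz, mul_comm 2]; exact Nat.mul_le_mul_left _ hz2
    have h1 : (κ - 1) * (κ + 1) * (α * κ) ≤ Nat.card Ω * (α - 1) :=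
      le_trans (Nat.mul_le_mul (Nat.mul_le_mul_left _ hC1) (ho1 x rfl hκ)) (hpc _ hsame)
    obtain ⟨i, rfl⟩ : ∃ i, α = i + 1 := ⟨α - 1, by omega⟩
    obtain ⟨j, rfl⟩ : ∃ j, κ = j + 4 := ⟨κ - 4, by omega⟩
    rw [Nat.add_sub_cancel, show j + 4 - 1 = j + 3 from rfl] at h1
    have h5 : i * (j + 4) ≤ (i + 1) * (j + 2) := by nlinarith
    have h6 : (j + 3) * (j + 5) * (j + 4) ^ 2 * (i + 1) ≤ Nat.card Ω * (j + 2) * (i + 1) := by
      calc (j + 3) * (j + 5) * (j + 4) ^ 2 * (i + 1)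
          = (j + 3) * (j + 4 + 1) * ((i + 1) * (j + 4)) * (j + 4) := by ring
        _ ≤ Nat.card Ω * i * (j + 4) := Nat.mul_le_mul_right _ h1
        _ = Nat.card Ω * (i * (j + 4)) := by ring
        _ ≤ Nat.card Ω * ((i + 1) * (j + 2)) := Nat.mul_le_mul_left _ h5
        _ = _ := by ring
    have h7 := (Nat.le_of_mul_le_mul_right h6 (Nat.succ_pos i)).trans (Nat.mul_le_mul_right _ hn)
    nlinarith
  have huniq : ∀ A ∈ fixer u v, r ∈ rootProj u v (A • x) →
      rootProj u v (A • x) = rootProj u v x := by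
    intro A hA hmem
    by_contra hne
    have h := hcov {rootProj u v (A • x), rootProj u v x} (fun K hK => by
      rcases Finset.mem_insert.1 hK with rfl | hK
      · exact mem_conjProj.2 ⟨A, hA, rfl⟩
      · rw [Finset.mem_singleton.1 hK]; exact self_mem_conjProj u v x) (fun K hK => by
      rcases Finset.mem_insert.1 hK with rfl | hK
      · exact hmem
      · rw [Finset.mem_singleton.1 hK]; exact hr)
    rw [Finset.card_pair hne, hPq, ← mul_assoc] at h
    exact absurd (Nat.le_of_mul_le_mul_right h (by omega)) (by omega)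
  have hr0' : (r : V) ≠ 0 := fun h => hr0 (Subtype.ext h)
  have hline := proj_line huv r.2 hr0' hr (by rw [hκ, hq']) huniq
  obtain ⟨r', hr', hrr⟩ := perp2_nondeg huv r.2 hr0'
  refine line_case huv (hq' ▸ hq) r.2 hr' hrr hline hx (fun _ c hc => ?_) ?_ fun y => hf y r hr0'
  · by_contra hc0
    have : 2 ≤ Nat.card (centFix u x) := Finite.one_lt_card_iff_nontrivial.2
      ⟨⟨⟨c, hc⟩, 0, fun h => hc0 (congrArg Subtype.val h)⟩⟩
    omega
  rintro A hA ⟨s, hs⟩
  by_contra hout
  have hs0 : s ≠ 0 := fun h => hr0' (by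
    rw [← sp_inv_mulVec_self A r, hs, h, zero_smul, Matrix.mulVec_zero])
  have hpA : rootProj u v (A • x) = rootProj u v x := huniq A hA (by
    have h : s⁻¹ • r ∈ rootProj u v x := (hline _).2 ⟨s⁻¹, rfl⟩
    rw [show r = fixerRes hA (s⁻¹ • r) from Subtype.ext (by
      rw [fixerRes_apply, Submodule.coe_smul, Matrix.mulVec_smul, hs, inv_smul_smul₀ hs0]),
      rootProj_fixer]
    exact h)
  have hdisj : Disjoint (rootOrb u v x) (rootOrb u v (A • x)) := by
    rw [Finset.disjoint_left]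
    intro y h1 h2
    refine hout ?_
    rw [← rootOrb_eq_of_mem h1, rootOrb_eq_of_mem h2]
    exact mem_rootOrb.2 ⟨0, Submodule.zero_mem _, 0, by rw [rootEl_zero_zero, one_smul]⟩
  have h := hfew 2 (rootOrb u v x ∪ rootOrb u v (A • x)) (fun y hy => by
    rcases Finset.mem_union.1 hy with hy | hy
    · exact hsame y hy
    · exact ⟨(rootOrb_props hy).2.trans hpA, (rootOrb_props hy).1.trans (centFix_fixer hA x)⟩) (by
    rw [Finset.card_union_of_disjoint hdisj, two_mul]
    exact add_le_add (ho1 x rfl hκ) (ho1 _ (centFix_fixer hA x) (by rw [hpA, hκ])))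
  omega

/-- A free and a full point do not fit into a small set. -/
theorem not_both_four [Finite Ω] (hq : 4 ≤ Fintype.card F)
    (hlt : ¬ Fintype.card F ^ 4 - 1 ≤ (Fintype.card F - 1) * Nat.card Ω) {u v : V}
    (huv : ⟪u, v⟫ = 1) {x y : Ω} (hmy : ZMoved u y) (hx : IsFree u v x) (hy : Full u v y) :
    False := by
  classical
  have := Fintype.ofFinite Ω
  have hn := four_lt (by omega) hlt
  obtain ⟨pr, hpr, -, hAS⟩ := exists_prAS (F := F)
  obtain ⟨q, hqe⟩ : ∃ q, Fintype.card F = q := ⟨_, rfl⟩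
  have hk : 2 = 1 + 1 := rfl
  have hP2 : Fintype.card F ^ (2 * 1) = q * q := by rw [hqe]; ring
  have hpx : Nat.card (projAnn pr u v x) = q * q := by
    have h := card_projAnn hpr huv hk x
    rwa [card_rootProj_regular hx.1, mul_one, hP2] at h
  obtain ⟨a, ha, ha0⟩ := exists_ann_ne_zero hpr hmy
  obtain ⟨Q, hlab⟩ := exists_label hpr huv ha0 ha
  have hpy : Nat.card (projAnn pr u v y) = 1 := by
    have h := card_projAnn hpr huv hk y
    have htop : rootProj u v y = ⊤ := eq_top_iff.2 fun w _ => hy w w.2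
    rw [htop, AddSubgroup.card_top, card_perp2_four huv] at h
    exact Nat.eq_of_mul_eq_mul_right (show 0 < Fintype.card F ^ 2 by positivity)
      (by rw [h, one_mul])
  have hαx : Nat.card (centAnn pr u x) = q := by
    have h := card_centAnn hpr u x
    have : Nat.card (centFix u x) = 1 := Nat.card_eq_one_iff_unique.2
      ⟨⟨fun a b => Subtype.ext ((hx.2 _ a.2).trans (hx.2 _ b.2).symm)⟩, ⟨0⟩⟩
    rwa [this, mul_one, hqe] at h
  obtain ⟨α, hα⟩ : ∃ α, Nat.card (centAnn pr u y) = α := ⟨_, rfl⟩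
  have hαq : α ≤ q := by
    rw [← hα, ← hqe, ← card_centAnn hpr u y]
    exact Nat.le_mul_of_pos_right _ Nat.card_pos
  obtain ⟨Y, hYcard, hY⟩ := exists_orbit_labels (u := u) (v := v) (pr := pr) ha0 Q
    fun s => pr (Q s) = 0
  have hc := label_count hpr huv (α := α) (ρ := 1) (c := α) Y (fun l hl => by
    obtain ⟨t, ht, s', hs', hps, rfl⟩ := hY l hl
    obtain ⟨lam, hlam⟩ := hlab.2.1.exists_transv_shift hAS hps
    obtain ⟨T, hTu, -, hTfix⟩ := exists_torus huv ht
    have hA : (spTransv s' lam)⁻¹ ∈ fixer u v :=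
      inv_mem (levi_le_fixer u v (spTransv_mem_levi hs' lam))
    have hty := ofType_torus hpr huv hTu hTfix ht (ofType_fixer hpr huv hA (α := α) (ρ := 1)
      (x := y) ⟨hmy, hα, hpy⟩)
    have g := label_fixer hA hlab
    rw [inv_inv] at g
    change IsLabel pr u v _ (a, fun z => Q ((spTransv s' lam).1 *ᵥ z)) at g
    rw [hlam] at g
    refine ⟨rootOrb u v (T • (spTransv s' lam)⁻¹ • y), ?_, fun z hz =>
      ⟨ofType_orb hty hz, (label_orb hz).2 (label_torus hTu hTfix ht g)⟩⟩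
    have o := card_rootOrb_labels hpr huv hk (T • (spTransv s' lam)⁻¹ • y)
    rwa [hty.2.1, hty.2.2, mul_one] at o)
  rw [hYcard, mul_one, hqe] at hc
  have hM := scale_alpha (hα ▸ Nat.card_pos) hαq (by omega) hc
  have ho := card_rootOrb_labels hpr huv hk x
  rw [hαx, hpx] at ho
  let Tx := rootOrb u v x
  let Ty := Finset.univ.filter fun z : Ω => OfType pr u v α 1 z
  have hdisj : Disjoint Tx Ty := by
    rw [Finset.disjoint_left]
    intro z hzx hzy
    have h1 := (Finset.mem_filter.1 hzy).2.2.2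
    rw [projAnn, (rootOrb_props hzx).2] at h1
    change Nat.card (projAnn pr u v x) = 1 at h1
    rw [hpx] at h1
    have : 4 * 4 ≤ q * q := Nat.mul_le_mul (hqe ▸ hq) (hqe ▸ hq)
    omega
  have hTy : Ty.card = Nat.card {z : Ω // OfType pr u v α 1 z} := by
    rw [Nat.card_eq_fintype_card, Fintype.card_subtype]
  have hd : Tx.card + Ty.card ≤ Nat.card Ω := by
    rw [← Finset.card_union_of_disjoint hdisj, Nat.card_eq_fintype_card]
    exact Finset.card_le_univ _
  have hS := card_kept_shifts huv hk hpr hlab.2.1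
  rw [pow_one, hqe, sq] at hS
  rw [← hTy] at hM
  rw [hqe] at hn hq
  obtain ⟨S, hSe⟩ : ∃ S, Nat.card {s : perp2 u v // pr (Q s) = 0} = S := ⟨_, rfl⟩
  rw [hSe] at hS hM
  have h : q * (q * q) + q * S ≤ Nat.card Ω := le_trans (add_le_add ho hM) hd
  have h2 : q * (q * q) ≤ q * (2 * S + q) := Nat.mul_le_mul_left _ hS
  nlinarith

/-- All points free is impossible in a small set. -/
theorem free_four [Finite Ω] [Nonempty Ω] (hq : 4 ≤ Fintype.card F)
    (hlt : ¬ Fintype.card F ^ 4 - 1 ≤ (Fintype.card F - 1) * Nat.card Ω)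
    (hfree : ∀ u v : V, ⟪u, v⟫ = 1 → ∀ x : Ω, IsFree u v x) : False := by
  classical
  have := Fintype.ofFinite Ω
  have hn := four_lt (by omega) hlt
  obtain ⟨u, hu⟩ : ∃ u : V, u ≠ 0 :=
    ⟨Pi.single (Sum.inl 0) 1, fun h => by simpa using congrFun h (Sum.inl 0)⟩
  obtain ⟨v, huv⟩ := exists_pair hu
  have hsize : ∀ y : Ω, Fintype.card F * Fintype.card F ^ 2 ≤ (rootOrb u v y).card := by
    intro y
    have h := card_rootOrb u v y
    have hf := hfree u v huv y
    have h2 : Nat.card (centFix u y) = 1 := Nat.card_eq_one_iff_unique.2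
      ⟨⟨fun a b => Subtype.ext ((hf.2 _ a.2).trans (hf.2 _ b.2).symm)⟩, ⟨0⟩⟩
    rwa [h2, card_rootProj_regular hf.1, one_mul, mul_one, card_perp2_four huv] at h
  obtain ⟨x⟩ := ‹Nonempty Ω›
  obtain ⟨a, ha, ha0⟩ : ∃ a ∈ perp2 u v, a ≠ 0 := by
    by_contra! hh
    have h1 : Nat.card (perp2 u v) ≤ 1 := by
      rw [Finite.card_le_one_iff_subsingleton]
      exact ⟨fun y z => Subtype.ext ((hh _ y.2).trans (hh _ z.2).symm)⟩
    rw [card_perp2_four huv] at h1
    nlinarith
  obtain ⟨a', ha', haa⟩ := perp2_nondeg huv ha ha0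
  have hA : spTransv a (1 : F) ∈ fixer u v := levi_le_fixer u v (spTransv_mem_levi ha 1)
  obtain ⟨d, hd, e, hde⟩ : ∃ d ∈ perp2 u v, ∃ e : F, rootEl u d e • x = spTransv a (1 : F) • x := by
    refine mem_rootOrb.1 ?_
    by_contra hout
    have hdisj : Disjoint (rootOrb u v x) (rootOrb u v (spTransv a (1 : F) • x)) := by
      rw [Finset.disjoint_left]
      intro z h1 h2
      refine hout ?_
      rw [← rootOrb_eq_of_mem h1, rootOrb_eq_of_mem h2]
      exact mem_rootOrb.2 ⟨0, Submodule.zero_mem _, 0, by rw [rootEl_zero_zero, one_smul]⟩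
    have h := (Finset.card_union_of_disjoint hdisj).symm.trans_le (Finset.card_le_univ _)
    rw [← Nat.card_eq_fintype_card] at h
    have h1 := hsize x
    have h2 := hsize (spTransv a (1 : F) • x)
    nlinarith
  have hreg := (hfree u v huv x).1
  have hAd := fixer_map_perp2 hA hd
  have hTT : spTransv a (1 : F) * spTransv a 1 = 1 := by
    rw [← spTransv_add, CharTwo.add_self_eq_zero, spTransv_zero']
  have hinv := congrArg (· • x) hTT
  simp only [mul_smul, one_smul] at hinv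
  rw [← hde, fixer_smul_rootEl hA, ← hde, ← mul_smul,
    rootEl_mul (mem_perp2.1 hAd).1 (mem_perp2.1 hd).1] at hinv
  have hperp := hreg _ _ ⟨Submodule.add_mem _ hAd hd, hinv⟩
  rw [spTransv_mulVec, one_mul] at hperp
  have hda : ⟪d, a⟫ = 0 := by
    have e1 : ⟪d, a⟫ • a = 0 := by
      rw [← hperp, add_right_comm, show d + d = (0 : V) from
        funext fun i => CharTwo.add_self_eq_zero (d i), zero_add]
    exact (smul_eq_zero.1 e1).resolve_right ha0
  obtain ⟨μ, rfl⟩ := perp2_line huv hd ha ha0 hda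
  obtain ⟨ε, hε⟩ := exists_sqrt e
  obtain ⟨s, hs⟩ : ∃ s, s = ε • a' := ⟨_, rfl⟩
  have hsP : s ∈ perp2 u v := hs ▸ Submodule.smul_mem _ _ ha'
  have hse : e = ⟪s, a⟫ ^ 2 := by
    rw [hs, sympForm_smul_left, sympForm_comm' a' a, haa, mul_one, hε]
  obtain ⟨y, hy⟩ : ∃ y, y = rootEl u s (0 : F) • x := ⟨_, rfl⟩
  obtain ⟨ν, hν⟩ : ∃ ν, ν = μ + ⟪s, a⟫ := ⟨_, rfl⟩
  have hνa : ⟪ν • a, u⟫ = 0 := by rw [sympForm_smul_left, (mem_perp2.1 ha).1, mul_zero]
  have h1 : spTransv a (1 : F) • y = rootEl u (ν • a) 0 • y := by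
    rw [hy, fixer_smul_rootEl hA, ← hde, ← mul_smul, ← mul_smul,
      rootEl_mul (mem_perp2.1 (fixer_map_perp2 hA hsP)).1 (mem_perp2.1 hd).1,
      rootEl_mul hνa (mem_perp2.1 hsP).1]
    congr 2
    · rw [spTransv_mulVec, one_mul, hν]; module
    · rw [spTransv_mulVec, one_mul, hν, hse]
      simp only [sympForm_smul_left, sympForm_smul_right, sympForm_add_right, sympForm_self,
        sympForm_comm' a s]
      ring
  have hua : ⟪u, a⟫ = 0 := by rw [sympForm_comm', (mem_perp2.1 ha).1]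
  have h' : ⟪ν • u, a⟫ = 0 := by rw [sympForm_smul_left, hua, mul_zero]
  have hel : rootEl u (ν • a) (0 : F) * spTransv a 1 = rootEl a (ν • u) 1 := by
    refine sp_ext fun z => ?_
    rw [sp_mul_mulVec, rootEl_mulVec hνa, spTransv_mulVec, rootEl_mulVec h']
    simp only [sympForm_add_left, sympForm_smul_left, sympForm_smul_right,
      sympForm_self, (mem_perp2.1 ha).1, mul_zero, add_zero, one_mul]
    module
  have hfix : rootEl a (ν • u) (1 : F) • y = y := by
    rw [← hel, mul_smul, h1, ← mul_smul]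
    conv_lhs => arg 1; arg 1; rw [← rootEl_self_inverse hνa]
    rw [inv_mul_cancel, one_smul]
  have hf := hfree a a' haa y
  have hP : ν • u ∈ perp2 a a' := Submodule.smul_mem _ _
    ⟨hua, by rw [sympForm_comm', (mem_perp2.1 ha').1]⟩
  have h0 := hf.1 _ _ ⟨hP, hfix⟩
  rw [h0, rootEl_zero] at hfix
  exact one_ne_zero (hf.2 1 hfix)

/-- All pairs full is impossible at one point. -/
theorem full_four (hq : 4 ≤ Fintype.card F) {x : Ω} (hmov : ∀ a : V, a ≠ 0 → ZMoved a x)
    (hfull : ∀ u v : V, ⟪u, v⟫ = 1 → Full u v x) : False := by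
  classical
  have hadd : ∀ {u w : V}, ⟪w, u⟫ = 0 → ∀ l c : F, rootEl u (w + l • u) c = rootEl u w c := by
    intro u w hwu l c
    have h1 : ⟪w + l • u, u⟫ = 0 := by
      rw [sympForm_add_left, sympForm_smul_left, sympForm_self, hwu, mul_zero, add_zero]
    refine sp_ext fun z => ?_
    rw [rootEl_mulVec h1, rootEl_mulVec hwu, sympForm_add_right, sympForm_smul_right, ← sub_eq_zero]
    have e : (2 : F) • ((l * ⟪z, u⟫) • u) = 0 := by rw [two_eq_zero', zero_smul]
    rw [← e]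
    module
  have hproj : ∀ {u v w : V}, ⟪u, v⟫ = 1 → ⟪w, u⟫ = 0 → w + ⟪w, v⟫ • u ∈ perp2 u v := by
    intro u v w huv hwu
    have h := proj_mem_perp2 huv w
    rw [hwu, zero_smul, add_zero, sub_eq_add_neg, vec_neg'] at h
    exact h
  have hhas : ∀ {u w : V}, u ≠ 0 → ⟪w, u⟫ = 0 → ∃ c : F, rootEl u w c • x = x := by
    intro u w hu hwu
    obtain ⟨v, huv⟩ := exists_pair hu
    obtain ⟨c, hc⟩ := hfull u v huv _ (hproj huv hwu)
    exact ⟨c, by rw [← hadd hwu ⟪w, v⟫]; exact hc.2⟩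
  have hgen : ∀ {u w : V}, u ≠ 0 → ⟪w, u⟫ = 0 → (∀ c : F, w ≠ c • u) → ∀ {t r : F}, r ≠ 0 →
      rootEl w (t • u) r • x = x → ∀ z : F, rootEl u (z • w) (z ^ 2 / r) • x = x := by
    intro u w hu hwu hind t r hr h z
    obtain ⟨v, huv⟩ := exists_pair hu
    obtain ⟨p, hp, hwp⟩ := perp2_nondeg huv (hproj huv hwu) (fun h0 => hind (-⟪w, v⟫) (by
      rw [neg_smul]; exact eq_neg_of_add_eq_zero_left h0))
    rw [sympForm_add_left, sympForm_smul_left, sympForm_comm' u p, (mem_perp2.1 hp).1, mul_zero,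
      add_zero] at hwp
    have hpu : ⟪(z / r) • p, u⟫ = 0 := by rw [sympForm_smul_left, (mem_perp2.1 hp).1, mul_zero]
    obtain ⟨c, hc⟩ := hhas hu hpu
    set g := rootEl u ((z / r) • p) c with hg
    have e1 : g.1 *ᵥ w = w + (z / r) • u := by
      rw [hg, rootEl_mulVec hpu, sympForm_smul_right, hwp, hwu]; module
    have e2 : g.1 *ᵥ (t • u) = t • u := by
      rw [hg, rootEl_mulVec hpu, sympForm_smul_left, sympForm_smul_left, sympForm_comm' u _, hpu,
        sympForm_self]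
      module
    have h' : rootEl (w + (z / r) • u) (t • u) r • x = x := by
      rw [← e2, ← e1, ← conj_rootEl, mul_smul, mul_smul, inv_smul_eq_iff.2 hc.symm, h, hc]
    have ht1 : ⟪t • u, w⟫ = 0 := by rw [sympForm_smul_left, sympForm_comm', hwu, mul_zero]
    have ht2 : ⟪t • u, w + (z / r) • u⟫ = 0 := by
      rw [sympForm_add_right, ht1, sympForm_smul_left, sympForm_smul_right, sympForm_self,
        mul_zero, mul_zero, add_zero]
    have hz : ⟪z • w, u⟫ = 0 := by rw [sympForm_smul_left, hwu, mul_zero]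
    have hkey : rootEl (w + (z / r) • u) (t • u) r * rootEl w (t • u) r =
        rootEl u (z • w) (z ^ 2 / r) := by
      refine sp_ext fun y => ?_
      rw [sp_mul_mulVec, rootEl_mulVec ht2, rootEl_mulVec ht1, rootEl_mulVec hz, ← sub_eq_zero]
      simp only [sympForm_add_left, sympForm_add_right, sympForm_smul_left, sympForm_smul_right,
        sympForm_self, hwu, sympForm_comm' u w, mul_zero, add_zero]
      have e : (2 : F) • ((t * ⟪y, u⟫) • w + (t * ⟪y, w⟫) • u + (r * ⟪y, w⟫) • w +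
          (t * (z / r) * ⟪y, u⟫) • u) = 0 := by rw [two_eq_zero', zero_smul]
      rw [← e]
      match_scalars <;> field_simp <;> ring
    rw [← hkey, mul_smul, h, h']
  have hzero : ∀ {u w : V}, u ≠ 0 → ⟪w, u⟫ = 0 → (∀ c : F, w ≠ c • u) → ∀ {t r : F},
      rootEl w (t • u) r • x = x → r = 0 := by
    intro u w hu hwu hind t r h
    by_contra hr
    have hw0 : w ≠ 0 := fun h => hind 0 (by rw [h, zero_smul])
    have hind' : ∀ c : F, u ≠ c • w := fun c hc => by
      rcases eq_or_ne c 0 with rfl | hc0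
      · exact hu (by rw [hc, zero_smul])
      · exact hind c⁻¹ (by rw [hc, inv_smul_smul₀ hc0])
    obtain ⟨g, hg0, hg1⟩ := exists_sq_ne_one hq
    have h1 := hgen hu hwu hind hr h
    have h2 := hgen hw0 (by rw [sympForm_comm', hwu]) hind' (t := 1) (inv_ne_zero hr)
      (by simpa [one_div] using h1 1) g
    rw [div_inv_eq_mul] at h2
    have h3 := hgen hu hwu hind (mul_ne_zero (pow_ne_zero 2 hg0) hr) h2
    obtain ⟨c, hc⟩ := hmov u hu
    refine hc ?_
    have hne : r⁻¹ + (g ^ 2 * r)⁻¹ ≠ 0 := fun h0 => hg1 (by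
      have h4 : (g ^ 2 * r)⁻¹ = r⁻¹ := by
        rw [eq_neg_of_add_eq_zero_right h0, CharTwo.neg_eq]
      exact mul_right_cancel₀ hr ((inv_inj.1 h4).trans (one_mul r).symm))
    obtain ⟨z, hz⟩ := exists_sqrt (c / (r⁻¹ + (g ^ 2 * r)⁻¹))
    have hzu : ⟪z • w, u⟫ = 0 := by rw [sympForm_smul_left, hwu, mul_zero]
    have e : spTransv u c = rootEl u (z • w) (z ^ 2 / r) * rootEl u (z • w) (z ^ 2 / (g ^ 2 * r)) := by
      rw [rootEl_mul hzu hzu, sympForm_self, add_zero, show z • w + z • w = (0 : V) from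
        funext fun i => CharTwo.add_self_eq_zero _, rootEl_zero]
      congr 1
      rw [div_eq_mul_inv, div_eq_mul_inv, ← mul_add, hz, div_mul_cancel₀ _ hne]
    rw [e, mul_smul, h3 z, h1 z]
  have hfix0 : ∀ {u w : V}, u ≠ 0 → ⟪w, u⟫ = 0 → (∀ c : F, w ≠ c • u) →
      rootEl u w (0 : F) • x = x := by
    intro u w hu hwu hind
    have hw0 : w ≠ 0 := fun h => hind 0 (by rw [h, zero_smul])
    have hind' : ∀ c : F, u ≠ c • w := fun c hc => by
      rcases eq_or_ne c 0 with rfl | hc0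
      · exact hu (by rw [hc, zero_smul])
      · exact hind c⁻¹ (by rw [hc, inv_smul_smul₀ hc0])
    obtain ⟨c, hc⟩ := hhas hu hwu
    have := hzero hw0 (by rw [sympForm_comm', hwu]) hind' (t := 1) (r := c) (by rwa [one_smul])
    rwa [this] at hc
  obtain ⟨u, hu⟩ : ∃ u : V, u ≠ 0 :=
    ⟨Pi.single (Sum.inl 0) 1, fun h => by simpa using congrFun h (Sum.inl 0)⟩
  obtain ⟨v, huv⟩ := exists_pair hu
  obtain ⟨c, hc⟩ := hmov u hu
  refine hc ?_
  obtain ⟨a, ha, ha0⟩ : ∃ a ∈ perp2 u v, a ≠ 0 := by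
    by_contra! hh
    have := Fintype.ofFinite (perp2 u v)
    have h1 : Nat.card (perp2 u v) ≤ 1 := by
      rw [Finite.card_le_one_iff_subsingleton]
      exact ⟨fun y z => Subtype.ext ((hh _ y.2).trans (hh _ z.2).symm)⟩
    rw [card_perp2_four huv] at h1
    nlinarith
  obtain ⟨a', ha', haa⟩ := perp2_nondeg huv ha ha0
  rcases eq_or_ne c 0 with rfl | hc0
  · rw [spTransv_zero', one_smul]
  have hind : ∀ {b : V}, b ∈ perp2 u v → b ≠ 0 → ∀ l : F, b ≠ l • u := by
    intro b hb hb0 l h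
    have h1 := (mem_perp2.1 hb).2
    rw [h, sympForm_smul_left, huv, mul_one] at h1
    exact hb0 (by rw [h, h1, zero_smul])
  have hb : c • a' ∈ perp2 u v := Submodule.smul_mem _ _ ha'
  have hab : a + c • a' ∈ perp2 u v := Submodule.add_mem _ ha hb
  have ha'0 : a' ≠ 0 := fun h => by rw [h, sympForm_zero_right] at haa; exact zero_ne_one haa
  have hab0 : a + c • a' ≠ 0 := fun h => by
    have := congrArg (fun z => ⟪z, a'⟫) h
    simp [sympForm_add_left, sympForm_smul_left, sympForm_self, haa, sympForm_zero_left] at this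
  have f1 := hfix0 hu (mem_perp2.1 ha).1 (hind ha ha0)
  have f2 := hfix0 hu (mem_perp2.1 hb).1 (hind hb (smul_ne_zero hc0 ha'0))
  have f3 := hfix0 hu (mem_perp2.1 hab).1 (hind hab hab0)
  have e : spTransv u c = rootEl u (a + c • a') 0 * (rootEl u a 0 * rootEl u (c • a') 0) := by
    rw [rootEl_mul (mem_perp2.1 ha).1 (mem_perp2.1 hb).1,
      rootEl_mul (mem_perp2.1 hab).1 (mem_perp2.1 hab).1, sympForm_self,
      show a + c • a' + (a + c • a') = (0 : V) from funext fun i => CharTwo.add_self_eq_zero _,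
      rootEl_zero, sympForm_smul_left, sympForm_comm' a' a, haa]
    congr 1
    ring
  rw [e, mul_smul, mul_smul, f2, f1, f3]

theorem le_card_sp_four_even [Finite Ω] [Nonempty Ω] (hq : 4 ≤ Fintype.card F)
    (hno : ∀ x : Ω, stabilizer Sp x ≠ ⊤) :
    Fintype.card F ^ 4 - 1 ≤ (Fintype.card F - 1) * Nat.card Ω := by
  classical
  by_contra hlt
  have hf : ∀ (z : Ω) (a : V), a ≠ 0 → ¬ RootFixed z a := fun z a ha h =>
    hlt (le_card_of_rootFixed (by omega) (hno z) ha h)
  have hmoved : ∀ (z : Ω) (a : V), a ≠ 0 → ZMoved a z := fun z a ha => by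
    by_contra h; exact hf z a ha fun c => by by_contra hc; exact h ⟨c, hc⟩
  have hne : ∀ {u v : V}, ⟪u, v⟫ = 1 → u ≠ 0 := fun huv h => by
    rw [h, sympForm_zero_left] at huv; exact zero_ne_one huv
  by_cases hex : ∃ u v : V, ⟪u, v⟫ = 1 ∧ ∃ x : Ω, IsFree u v x
  · obtain ⟨u₁, v₁, huv₁, x₁, hx₁⟩ := hex
    refine free_four hq hlt fun u v huv x => (dichotomy_four hq hlt hf huv x).resolve_right ?_
    intro hfull
    obtain ⟨A, hAu, hAv⟩ := exists_move_pair huv₁ huv
    exact not_both_four hq hlt huv (hmoved x u (hne huv)) (isFree_conj hAu hAv hx₁) hfull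
  · push Not at hex
    obtain ⟨x⟩ := ‹Nonempty Ω›
    exact full_four hq (hmoved x) fun u v huv =>
      (dichotomy_four hq hlt hf huv x).resolve_left (hex u v huv x)

end CfsgLib.MinDegree
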