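import Cfsg.Agent.MinDegree.SympLine

/-!
# Actions of `Sp(4,q)` in which some point is fixed by a full transvection group

The centres of the transvection groups fixing a point form a configuration preserved by the
stabiliser: a point, a totally isotropic line, or a pair of orthogonal hyperbolic lines. Each of
these has at least `(q^4 - 1)/(q - 1)` images.
-/

set_option autoImplicit false

namespace CfsgLib.MinDegree

open Matrix CfsgLib.Forms CfsgLib.Forms4 MulAction

variable {F : Type*} [Field F] [Fintype F] {Ω : Type*}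
  [MulAction (Matrix.symplecticGroup (Fin 2) F) Ω]

local notation "V" => Fin 2 ⊕ Fin 2 → F
local notation "Sp" => Matrix.symplecticGroup (Fin 2) F
local notation "⟪" x ", " y "⟫" => Cfsg.sympForm 2 F x y

theorem card_perp2_four {u v : V} (huv : ⟪u, v⟫ = 1) :
    Nat.card (perp2 u v) = Fintype.card F ^ 2 := by
  rw [card_perp2 huv]

/-- In a plane complement, orthogonal vectors are proportional. -/
theorem perp2_line {u v w p : V} (huv : ⟪u, v⟫ = 1) (hw : w ∈ perp2 u v) (hp : p ∈ perp2 u v)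
    (hp0 : p ≠ 0) (h : ⟪w, p⟫ = 0) : ∃ c : F, w = c • p := by
  classical
  obtain ⟨p', hp', hpp⟩ := perp2_nondeg huv hp hp0
  let φ : F × F → perp2 u v := fun c =>
    ⟨c.1 • p + c.2 • p', Submodule.add_mem _ (Submodule.smul_mem _ _ hp)
      (Submodule.smul_mem _ _ hp')⟩
  have hinj : Function.Injective φ := by
    intro a b hab
    have hab' : a.1 • p + a.2 • p' = b.1 • p + b.2 • p' := congrArg Subtype.val hab
    have h1 := congrArg (fun z => ⟪z, p'⟫) hab'
    have h2 := congrArg (fun z => ⟪p, z⟫) hab'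
    simp only [sympForm_add_left, sympForm_smul_left, sympForm_add_right, sympForm_smul_right,
      sympForm_self, hpp, mul_one, mul_zero, add_zero, zero_add] at h1 h2
    exact Prod.ext h1 h2
  have hbij := (Nat.bijective_iff_injective_and_card φ).2 ⟨hinj, by
    rw [card_perp2_four huv, Nat.card_prod, Nat.card_eq_fintype_card, sq]⟩
  obtain ⟨c, hc⟩ := hbij.2 ⟨w, hw⟩
  have hc' : c.1 • p + c.2 • p' = w := congrArg Subtype.val hc
  refine ⟨c.1, ?_⟩
  rw [← hc', sympForm_add_left, sympForm_smul_left, sympForm_smul_left, sympForm_self,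
    sympForm_swap p p', hpp] at h
  rw [← hc', show c.2 = 0 by linear_combination -h, zero_smul, add_zero]

/-- Two orthogonal independent vectors span their common complement. -/
theorem perp_span_pair {a b e : V} (ha : a ≠ 0) (hb : ∀ c : F, b ≠ c • a) (hab : ⟪b, a⟫ = 0)
    (hea : ⟪e, a⟫ = 0) (heb : ⟪e, b⟫ = 0) : ∃ s t : F, e = s • a + t • b := by
  obtain ⟨v, hv⟩ := exists_pair ha
  have hpj : ∀ z : V, ⟪z, a⟫ = 0 → z - ⟪z, v⟫ • a ∈ perp2 a v := by
    intro z hz
    have h := proj_mem_perp2 hv z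
    rwa [hz, zero_smul, add_zero] at h
  obtain ⟨c, hc⟩ := perp2_line hv (hpj e hea) (hpj b hab) (sub_ne_zero.2 (hb _)) (by
    simp only [sympForm_sub_left, sympForm_sub_right, sympForm_smul_left, sympForm_smul_right,
      sympForm_self, hea, heb, sympForm_swap b a, hab]
    ring)
  refine ⟨⟪e, v⟫ - c * ⟪b, v⟫, c, ?_⟩
  rw [← sub_eq_zero] at hc ⊢
  rw [← hc]
  module

/-- The hyperbolic pairs in a plane. -/
theorem card_plane_pairs [DecidableEq F] {u v : V} (huv : ⟪u, v⟫ = 1) (D : Finset (V × V))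
    (hD : ∀ ab ∈ D, ab.1 ∈ perp2 u v ∧ ab.2 ∈ perp2 u v ∧ ⟪ab.1, ab.2⟫ = 1) :
    D.card ≤ Fintype.card F * (Fintype.card F ^ 2 - 1) := by
  classical
  refine (Finset.card_le_mul_card_image D (Fintype.card F) (f := Prod.fst) ?_).trans
    (Nat.mul_le_mul_left _ ?_)
  · intro a ha
    obtain ⟨⟨a, b₀⟩, h₀, rfl⟩ := Finset.mem_image.1 ha
    obtain ⟨ha1, hb1, hab⟩ := hD _ h₀
    have ha0 : a ≠ 0 := fun h => by simp [h, sympForm_zero_left] at hab
    refine le_trans (Finset.card_le_card (t := Finset.univ.image fun c : F => (a, b₀ + c • a)) ?_)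
      Finset.card_image_le
    intro ab hab'
    obtain ⟨h1, rfl⟩ := Finset.mem_filter.1 hab'
    obtain ⟨-, hb', hab''⟩ := hD _ h1
    obtain ⟨c, hc⟩ := perp2_line huv (Submodule.sub_mem _ hb' hb1) ha1 ha0 (by
      rw [sympForm_swap, sympForm_sub_right, hab'', hab, sub_self, neg_zero])
    exact Finset.mem_image.2 ⟨c, Finset.mem_univ _, Prod.ext rfl (by
      change b₀ + c • ab.1 = ab.2
      rw [← hc, add_sub_cancel])⟩
  · have h : (D.image Prod.fst).card ≤
        (((Finset.univ : Finset (perp2 u v)).erase 0).image Subtype.val).card := by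
      refine Finset.card_le_card fun a ha => ?_
      obtain ⟨ab, hab, rfl⟩ := Finset.mem_image.1 ha
      obtain ⟨h1, -, h3⟩ := hD _ hab
      refine Finset.mem_image.2 ⟨⟨ab.1, h1⟩, Finset.mem_erase.2 ⟨fun h => ?_, Finset.mem_univ _⟩, rfl⟩
      have h' : ab.1 = 0 := congrArg Subtype.val h
      simp [h', sympForm_zero_left] at h3
    refine h.trans (Finset.card_image_le.trans ?_)
    rw [Finset.card_erase_of_mem (Finset.mem_univ _), Finset.card_univ,
      ← Nat.card_eq_fintype_card, card_perp2_four huv]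

theorem card_nonzero_four :
    Nat.card {a : V // a ≠ 0} = Fintype.card F ^ 4 - 1 := by
  classical
  rw [Nat.card_eq_fintype_card, Fintype.card_subtype_compl, Fintype.card_subtype_eq, card_vectors]

/-- If the stabiliser of `x` preserves a totally isotropic line, the set is large. -/
theorem card_bound_isoLine [Finite Ω] {x : Ω} {a b : V} (ha : a ≠ 0) (hb : ∀ c : F, b ≠ c • a)
    (hab : ⟪b, a⟫ = 0)
    (h : ∀ g : Sp, g • x = x → (∃ s t : F, g.1 *ᵥ a = s • a + t • b) ∧
      ∃ s t : F, g.1 *ᵥ b = s • a + t • b) :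
    Fintype.card F ^ 4 - 1 ≤ (Fintype.card F - 1) * Nat.card Ω := by
  classical
  have := Fintype.ofFinite Ω
  let S := {ab : V × V // ab.1 ≠ 0 ∧ ⟪ab.2, ab.1⟫ = 0 ∧ ∀ c : F, ab.2 ≠ c • ab.1}
  have hA : ∀ ab : S, ∃ A : Sp, A.1 *ᵥ a = ab.1.1 ∧ A.1 *ᵥ b = ab.1.2 := by
    intro ab
    have hli : ∀ {p r : V}, p ≠ 0 → (∀ c : F, r ≠ c • p) → LinearIndependent F ![p, r] := by
      intro p r hp hr
      rw [LinearIndependent.pair_iff' hp]
      exact fun c hc => hr c hc.symm
    obtain ⟨B, hB1, hB2⟩ := exists_spGL_mulVec_pair (hli ha hb) (hli ab.2.1 ab.2.2.2) (by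
      rw [sympForm_swap b a, hab, sympForm_swap ab.1.2 ab.1.1, ab.2.2.1])
    obtain ⟨A, rfl⟩ := toSpGL_surjective B
    exact ⟨A, hB1, hB2⟩
  let f : S → Ω := fun ab => (hA ab).choose • x
  let C : Finset ((F × F) × F × F) :=
    Finset.univ.filter fun c => c.1 ≠ 0 ∧ ∀ t : F, c.2 ≠ t • c.1
  have hC : C.card ≤ (Fintype.card F ^ 2 - Fintype.card F) * (Fintype.card F ^ 2 - 1) := by
    refine (Finset.card_le_mul_card_image C _ (f := Prod.fst) ?_).trans (Nat.mul_le_mul_left _ ?_)
    · intro c₁ hc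
      obtain ⟨c, hc', rfl⟩ := Finset.mem_image.1 hc
      have hne := (Finset.mem_filter.1 hc').2.1
      refine le_trans (Finset.card_le_card (t := ((Finset.univ : Finset (F × F)) \
        Finset.univ.image fun t : F => t • c.1).image fun d => (c.1, d)) ?_)
        (Finset.card_image_le.trans ?_)
      · intro d hd
        obtain ⟨hd1, hd2⟩ := Finset.mem_filter.1 hd
        refine Finset.mem_image.2 ⟨d.2, Finset.mem_sdiff.2 ⟨Finset.mem_univ _, fun hm => ?_⟩,
          Prod.ext hd2.symm rfl⟩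
        obtain ⟨t, -, ht⟩ := Finset.mem_image.1 hm
        exact (Finset.mem_filter.1 hd1).2.2 t (by rw [hd2]; exact ht.symm)
      · rw [Finset.card_sdiff_of_subset (Finset.subset_univ _), Finset.card_image_of_injective _
          (smul_left_injective F hne), Finset.card_univ, Finset.card_univ, Fintype.card_prod, sq]
    · refine (Finset.card_le_card (t := (Finset.univ : Finset (F × F)).erase 0) fun c hc => ?_).trans
        (le_of_eq ?_)
      · obtain ⟨d, hd, rfl⟩ := Finset.mem_image.1 hc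
        exact Finset.mem_erase.2 ⟨(Finset.mem_filter.1 hd).2.1, Finset.mem_univ _⟩
      · rw [Finset.card_erase_of_mem (Finset.mem_univ _), Finset.card_univ, Fintype.card_prod, sq]
  have h1 : (Finset.univ : Finset S).card ≤ C.card * (Finset.univ.image f).card := by
    refine Finset.card_le_mul_card_image _ _ fun y hy => ?_
    obtain ⟨a₀, -, rfl⟩ := Finset.mem_image.1 hy
    obtain ⟨e1, e2⟩ := (hA a₀).choose_spec
    refine le_trans (Finset.card_le_card_of_injOn
      (t := C.image fun c => (c.1.1 • a₀.1.1 + c.1.2 • a₀.1.2, c.2.1 • a₀.1.1 + c.2.2 • a₀.1.2))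
      (fun b => b.1) (fun d hd => ?_) (fun a _ b _ hab => Subtype.ext hab)) Finset.card_image_le
    rw [Finset.mem_coe, Finset.mem_filter] at hd
    have hg : ((hA a₀).choose⁻¹ * (hA d).choose) • x = x := by
      rw [mul_smul, inv_smul_eq_iff]; exact hd.2
    obtain ⟨p1, p2⟩ := (hA d).choose_spec
    obtain ⟨⟨s1, t1, r1⟩, s2, t2, r2⟩ := h _ hg
    have q1 := congrArg (fun z => (hA a₀).choose.1 *ᵥ z) r1
    have q2 := congrArg (fun z => (hA a₀).choose.1 *ᵥ z) r2
    simp only [sp_mul_mulVec, sp_mulVec_inv_self, Matrix.mulVec_add, Matrix.mulVec_smul, e1, e2,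
      p1, p2] at q1 q2
    refine Finset.mem_image.2 ⟨((s1, t1), (s2, t2)), ?_, Prod.ext q1.symm q2.symm⟩
    refine Finset.mem_filter.2 ⟨Finset.mem_univ _, fun h0 => d.2.1 ?_, fun t ht => d.2.2.2 t ?_⟩
    · obtain ⟨rfl, rfl⟩ := Prod.mk_eq_zero.1 h0
      rw [q1]; simp
    · obtain rfl : s2 = t * s1 := congrArg Prod.fst ht
      obtain rfl : t2 = t * t1 := congrArg Prod.snd ht
      rw [q1, q2]
      module
  have hinj : Fintype.card F * (Fintype.card F ^ 4 - 1) * (Fintype.card F ^ 2 - 1) ≤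
      Nat.card S := by
    obtain ⟨v, hav⟩ := exists_pair ha
    have hM : ∀ c : {c : V // c ≠ 0}, ∃ A : Sp, A.1 *ᵥ a = c.1 := fun c => exists_mulVec_eq ha c.2
    let φ : {c : V // c ≠ 0} × F × {p : perp2 a v // p ≠ 0} → S := fun p =>
      ⟨(p.1.1, (hM p.1).choose.1 *ᵥ (p.2.1 • a + (p.2.2.1 : V))), p.1.2,
        (congrArg (Cfsg.sympForm 2 F _) (hM p.1).choose_spec.symm).trans
          ((sympForm_map _ _ _).trans (by
            rw [sympForm_add_left, sympForm_smul_left, sympForm_self, mul_zero, zero_add]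
            exact (mem_perp2.1 p.2.2.1.2).1)), fun c hc => by
        have e := congrArg (fun z => ((hM p.1).choose⁻¹).1 *ᵥ z) hc
        have e' : ((hM p.1).choose⁻¹).1 *ᵥ p.1.1 = a :=
          (congrArg (fun z => ((hM p.1).choose⁻¹).1 *ᵥ z) (hM p.1).choose_spec.symm).trans
            (sp_inv_mulVec_self _ _)
        simp only [sp_inv_mulVec_self, Matrix.mulVec_smul, e'] at e
        have e2 := congrArg (fun z => ⟪a, z⟫) e
        have hmem : (p.2.2.1 : V) = (c - p.2.1) • a := by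
          rw [sub_smul, ← e]; module
        refine p.2.2.2 (Subtype.ext ?_)
        have e3 := congrArg (fun z => ⟪z, v⟫) hmem
        simp only [sympForm_smul_left, hav, mul_one, (mem_perp2.1 p.2.2.1.2).2] at e3
        rw [hmem, ← e3, zero_smul]
        rfl⟩
    have hφ : Function.Injective φ := by
      rintro ⟨c, t, p⟩ ⟨c', t', p'⟩ hpp
      have h' := congrArg Subtype.val hpp
      obtain ⟨h1, h2⟩ := Prod.ext_iff.1 h'
      obtain rfl : c = c' := Subtype.ext h1
      have e := congrArg (fun z => ((hM c).choose⁻¹).1 *ᵥ z) h2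
      simp only [φ, sp_inv_mulVec_self] at e
      have et : t = t' := by
        have := congrArg (fun z => ⟪z, v⟫) e
        simpa [sympForm_add_left, sympForm_smul_left, hav, (mem_perp2.1 p.1.2).2,
          (mem_perp2.1 p'.1.2).2] using this
      subst et
      rw [Subtype.ext (Subtype.ext (add_left_cancel e)) (a1 := p) (a2 := p')]
    have := Nat.card_le_card_of_injective φ hφ
    rw [Nat.card_prod, Nat.card_prod, card_nonzero_four, Nat.card_eq_fintype_card (α := F)] at this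
    have e : Nat.card {p : perp2 a v // p ≠ 0} = Fintype.card F ^ 2 - 1 := by
      rw [Nat.card_eq_fintype_card, Fintype.card_subtype_compl, Fintype.card_subtype_eq,
        ← Nat.card_eq_fintype_card, card_perp2_four hav]
    rw [e] at this
    calc _ = (Fintype.card F ^ 4 - 1) * (Fintype.card F * (Fintype.card F ^ 2 - 1)) := by ring
      _ ≤ _ := this
  rw [Finset.card_univ, ← Nat.card_eq_fintype_card] at h1
  have h2 : Fintype.card F * (Fintype.card F ^ 4 - 1) * (Fintype.card F ^ 2 - 1) ≤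
      Fintype.card F * ((Fintype.card F - 1) * Nat.card Ω) * (Fintype.card F ^ 2 - 1) := by
    refine hinj.trans (h1.trans ?_)
    refine (Nat.mul_le_mul hC ((Finset.card_le_univ _).trans (le_of_eq
      (Nat.card_eq_fintype_card).symm))).trans (le_of_eq ?_)
    rw [show Fintype.card F ^ 2 - Fintype.card F = Fintype.card F * (Fintype.card F - 1) by
      rw [Nat.mul_sub, mul_one, sq]]
    ring
  have hq : 2 ≤ Fintype.card F := Fintype.one_lt_card
  have h4 : 4 ≤ Fintype.card F ^ 2 := by rw [sq]; exact Nat.mul_le_mul hq hq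
  exact Nat.le_of_mul_le_mul_left (Nat.le_of_mul_le_mul_right h2 (by omega)) (by omega)

/-- If the stabiliser of `x` preserves a pair of orthogonal hyperbolic lines, the set is large. -/
theorem card_bound_planes [Finite Ω] (hq : 3 ≤ Fintype.card F) {x : Ω} {u v p p' : V}
    (huv : ⟪u, v⟫ = 1) (hpp : ⟪p, p'⟫ = 1)
    (h : ∀ g : Sp, g • x = x → (g.1 *ᵥ p ∈ perp2 u v ∧ g.1 *ᵥ p' ∈ perp2 u v) ∨
      (g.1 *ᵥ p ∈ perp2 p p' ∧ g.1 *ᵥ p' ∈ perp2 p p')) :
    Fintype.card F ^ 4 - 1 ≤ (Fintype.card F - 1) * Nat.card Ω := by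
  classical
  have := Fintype.ofFinite Ω
  let S := {ab : V × V // ⟪ab.1, ab.2⟫ = 1}
  have hA : ∀ ab : S, ∃ A : Sp, A.1 *ᵥ p = ab.1.1 ∧ A.1 *ᵥ p' = ab.1.2 := by
    intro ab
    obtain ⟨A, -, h1, h2⟩ := exists_mem_transvGroup_pair (⊤ : Submodule F V)
      (fun z _ hz => by
        obtain ⟨y, hy⟩ := exists_pair hz
        exact ⟨y, trivial, by rw [hy]; exact one_ne_zero⟩) trivial trivial trivial trivial hpp ab.2
    exact ⟨A, h1, h2⟩
  let f : S → Ω := fun ab => (hA ab).choose • x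
  have h1 : (Finset.univ : Finset S).card ≤
      2 * (Fintype.card F * (Fintype.card F ^ 2 - 1)) * (Finset.univ.image f).card := by
    refine Finset.card_le_mul_card_image _ _ fun y hy => ?_
    obtain ⟨a₀, -, rfl⟩ := Finset.mem_image.1 hy
    obtain ⟨e1, e2⟩ := (hA a₀).choose_spec
    let D : V → V → Finset (V × V) := fun r s => Finset.univ.filter fun ab =>
      ab.1 ∈ perp2 r s ∧ ab.2 ∈ perp2 r s ∧ ⟪ab.1, ab.2⟫ = 1
    have hD : ∀ {r s : V}, ⟪r, s⟫ = 1 →
        (D r s).card ≤ Fintype.card F * (Fintype.card F ^ 2 - 1) :=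
      fun hrs => card_plane_pairs hrs _ fun ab hab => (Finset.mem_filter.1 hab).2
    refine le_trans (Finset.card_le_card_of_injOn
      (t := (D u v ∪ D p p').image fun ab =>
        ((hA a₀).choose.1 *ᵥ ab.1, (hA a₀).choose.1 *ᵥ ab.2))
      (fun b => b.1) (fun b hb => ?_) (fun a _ b _ hab => Subtype.ext hab))
      (Finset.card_image_le.trans ((Finset.card_union_le _ _).trans
        (le_trans (add_le_add (hD huv) (hD hpp)) (le_of_eq (two_mul _).symm))))
    rw [Finset.mem_coe, Finset.mem_filter] at hb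
    have hg : ((hA a₀).choose⁻¹ * (hA b).choose) • x = x := by
      rw [mul_smul, inv_smul_eq_iff]; exact hb.2
    obtain ⟨p1, p2⟩ := (hA b).choose_spec
    refine Finset.mem_image.2 ⟨(((hA a₀).choose⁻¹ * (hA b).choose).1 *ᵥ p,
      ((hA a₀).choose⁻¹ * (hA b).choose).1 *ᵥ p'), ?_, ?_⟩
    · have hf : ⟪((hA a₀).choose⁻¹ * (hA b).choose).1 *ᵥ p,
          ((hA a₀).choose⁻¹ * (hA b).choose).1 *ᵥ p'⟫ = 1 := by rw [sympForm_map, hpp]
      rcases h _ hg with hh | hh
      · exact Finset.mem_union_left _ (Finset.mem_filter.2 ⟨Finset.mem_univ _, hh.1, hh.2, hf⟩)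
      · exact Finset.mem_union_right _ (Finset.mem_filter.2 ⟨Finset.mem_univ _, hh.1, hh.2, hf⟩)
    · simp only [sp_mul_mulVec, sp_mulVec_inv_self, p1, p2, Prod.mk.eta]
  have hinj : Fintype.card F ^ 3 * (Fintype.card F ^ 4 - 1) ≤ Nat.card S := by
    have hu : u ≠ 0 := fun h => by rw [h, sympForm_zero_left] at huv; exact zero_ne_one huv
    have hM : ∀ c : {c : V // c ≠ 0}, ∃ A : Sp, A.1 *ᵥ u = c.1 := fun c => exists_mulVec_eq hu c.2
    let φ : {c : V // c ≠ 0} × F × perp2 u v → S := fun z =>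
      ⟨(z.1.1, (hM z.1).choose.1 *ᵥ (v + z.2.1 • u + (z.2.2 : V))),
        (congrArg (fun y => Cfsg.sympForm 2 F y _) (hM z.1).choose_spec.symm).trans
          ((sympForm_map _ _ _).trans (by
            rw [sympForm_add_right, sympForm_add_right, sympForm_smul_right,
              sympForm_self, huv, sympForm_swap (z.2.2 : V) u, (mem_perp2.1 z.2.2.2).1]
            ring))⟩
    have hφ : Function.Injective φ := by
      rintro ⟨c, t, w⟩ ⟨c', t', w'⟩ hh
      have h' := congrArg Subtype.val hh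
      obtain ⟨h1, h2⟩ := Prod.ext_iff.1 h'
      obtain rfl : c = c' := Subtype.ext h1
      have e := congrArg (fun z => ((hM c).choose⁻¹).1 *ᵥ z) h2
      simp only [φ, sp_inv_mulVec_self] at e
      have et : t = t' := by
        have := congrArg (fun z => ⟪z, v⟫) e
        simpa [sympForm_add_left, sympForm_smul_left, sympForm_self, huv, (mem_perp2.1 w.2).2,
          (mem_perp2.1 w'.2).2] using this
      subst et
      rw [Subtype.ext (add_left_cancel e) (a1 := w) (a2 := w')]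
    have := Nat.card_le_card_of_injective φ hφ
    rw [Nat.card_prod, Nat.card_prod, card_nonzero_four, Nat.card_eq_fintype_card (α := F),
      card_perp2_four huv] at this
    calc _ = (Fintype.card F ^ 4 - 1) * (Fintype.card F * Fintype.card F ^ 2) := by ring
      _ ≤ _ := this
  rw [Finset.card_univ, ← Nat.card_eq_fintype_card] at h1
  have h2 := hinj.trans (h1.trans (Nat.mul_le_mul_left _
    ((Finset.card_le_univ _).trans (le_of_eq (Nat.card_eq_fintype_card).symm))))
  obtain ⟨N, hN⟩ : ∃ N, Fintype.card F ^ 4 - 1 = N := ⟨_, rfl⟩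
  rw [hN] at h2 ⊢
  obtain ⟨j, hj⟩ : ∃ j, Fintype.card F = j + 1 := ⟨Fintype.card F - 1, by omega⟩
  rw [hj] at h2 hq ⊢
  rw [show (j + 1) ^ 2 - 1 = j * (j + 2) by
    rw [Nat.sub_eq_iff_eq_add (Nat.one_le_pow _ _ (by omega))]; ring] at h2
  rw [Nat.add_sub_cancel]
  apply Nat.le_of_mul_le_mul_left _ (show 0 < (j + 1) * (2 * (j + 2)) by positivity)
  calc (j + 1) * (2 * (j + 2)) * N ≤ (j + 1) * ((j + 1) * (j + 1)) * N :=
        Nat.mul_le_mul_right _ (Nat.mul_le_mul_left _ (by nlinarith))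
    _ = (j + 1) ^ 3 * N := by ring
    _ ≤ _ := h2
    _ = _ := by ring

/-- A point fixed by a full transvection group gives the bound. -/
theorem le_card_of_rootFixed [Finite Ω] (hq : 3 ≤ Fintype.card F) {x : Ω}
    (hno : stabilizer Sp x ≠ ⊤) {a : V} (ha : a ≠ 0) (hfix : RootFixed x a) :
    Fintype.card F ^ 4 - 1 ≤ (Fintype.card F - 1) * Nat.card Ω := by
  classical
  have hg' : ∀ {g : Sp} {e : V}, g • x = x → RootFixed x e → RootFixed x (g.1 *ᵥ e) :=
    fun hg he => rootFixed_conj he hg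
  by_cases hhyp : ∃ c d : V, RootFixed x c ∧ RootFixed x d ∧ ⟪c, d⟫ ≠ 0
  swap
  · push Not at hhyp
    by_cases hline : ∀ e, RootFixed x e → ∃ t : F, e = t • a
    · exact card_bound_point (m := 2) (x := x) ha fun g hg => hline _ (hg' hg hfix)
    push Not at hline
    obtain ⟨b, hb, hbind⟩ := hline
    refine card_bound_isoLine (x := x) ha hbind (hhyp b a hb hfix) fun g hg => ?_
    exact ⟨perp_span_pair ha hbind (hhyp b a hb hfix) (hhyp _ _ (hg' hg hfix) hfix)
        (hhyp _ _ (hg' hg hfix) hb),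
      perp_span_pair ha hbind (hhyp b a hb hfix) (hhyp _ _ (hg' hg hb) hfix)
        (hhyp _ _ (hg' hg hb) hb)⟩
  obtain ⟨p, d, hp, hd, hpd⟩ := hhyp
  obtain ⟨p', hp', hpp⟩ : ∃ p', RootFixed x p' ∧ ⟪p, p'⟫ = 1 :=
    ⟨_, rootFixed_smul hd ⟪p, d⟫⁻¹, by rw [sympForm_smul_right, inv_mul_cancel₀ hpd]⟩
  obtain ⟨u, hu, hu0⟩ : ∃ u ∈ perp2 p p', u ≠ 0 := by
    by_contra! hh
    have h1 : Nat.card (perp2 p p') ≤ 1 := by
      rw [Finite.card_le_one_iff_subsingleton]
      exact ⟨fun y z => Subtype.ext ((hh _ y.2).trans (hh _ z.2).symm)⟩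
    rw [card_perp2_four hpp] at h1
    nlinarith
  obtain ⟨v, hv, huv⟩ := perp2_nondeg hpp hu hu0
  have hpP : p ∈ perp2 u v := mem_perp2.2
    ⟨by rw [sympForm_swap, (mem_perp2.1 hu).1, neg_zero],
      by rw [sympForm_swap, (mem_perp2.1 hv).1, neg_zero]⟩
  have hp'P : p' ∈ perp2 u v := mem_perp2.2
    ⟨by rw [sympForm_swap, (mem_perp2.1 hu).2, neg_zero],
      by rw [sympForm_swap, (mem_perp2.1 hv).2, neg_zero]⟩
  have hp0 : p ≠ 0 := fun h => by rw [h, sympForm_zero_left] at hpp; exact zero_ne_one hpp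
  have hp'0 : p' ≠ 0 := fun h => by rw [h, sympForm_zero_right] at hpp; exact zero_ne_one hpp
  have hzero : ∀ {w : V}, w ∈ perp2 u v → w ∈ perp2 p p' → w = 0 := by
    intro w hw hw'
    obtain ⟨c, rfl⟩ := perp2_line huv hw hpP hp0 (mem_perp2.1 hw').1
    have := (mem_perp2.1 hw').2
    rw [sympForm_smul_left, hpp, mul_one] at this
    rw [this, zero_smul]
  have hcross : ∀ {y w : V}, y ∈ perp2 p p' → w ∈ perp2 u v → ⟪y, w⟫ = 0 := by
    intro y w hy hw
    have hY : ⟪y, v⟫ • u - ⟪y, u⟫ • v ∈ perp2 p p' :=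
      Submodule.sub_mem _ (Submodule.smul_mem _ _ hu) (Submodule.smul_mem _ _ hv)
    have h0 := hzero (proj_mem_perp2 huv y) (by
      rw [show y - ⟪y, v⟫ • u + ⟪y, u⟫ • v = y - (⟪y, v⟫ • u - ⟪y, u⟫ • v) by module]
      exact Submodule.sub_mem _ hy hY)
    rw [show y = ⟪y, v⟫ • u - ⟪y, u⟫ • v by rw [← sub_eq_zero, ← h0]; module, sympForm_sub_left,
      sympForm_smul_left, sympForm_smul_left, sympForm_swap w u, sympForm_swap w v,
      (mem_perp2.1 hw).1, (mem_perp2.1 hw).2]
    ring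
  have hP : ∀ w ∈ perp2 u v, RootFixed x w := by
    intro w hw
    have h0 := hzero (w := w - ⟪w, p'⟫ • p + ⟪w, p⟫ • p') (Submodule.add_mem _
      (Submodule.sub_mem _ hw (Submodule.smul_mem _ _ hpP)) (Submodule.smul_mem _ _ hp'P))
      (proj_mem_perp2 hpp w)
    rw [show w = ⟪w, p'⟫ • p + (-⟪w, p⟫) • p' by rw [← sub_eq_zero, ← h0]; module]
    exact rootFixed_combine hp hp' (by rw [hpp]; exact one_ne_zero) _ _
  have hdec : ∀ e : V, ∃ y ∈ perp2 p p', ∃ w ∈ perp2 u v, e = y + w := fun e =>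
    ⟨⟪e, v⟫ • u - ⟪e, u⟫ • v,
      Submodule.sub_mem _ (Submodule.smul_mem _ _ hu) (Submodule.smul_mem _ _ hv), _,
      proj_mem_perp2 huv e, by module⟩
  by_cases hmix : ∃ r ∈ perp2 p p', r ≠ 0 ∧ ∃ w ∈ perp2 u v, w ≠ 0 ∧ RootFixed x (r + w)
  swap
  · push Not at hmix
    have hin : ∀ {e : V}, RootFixed x e → e ∈ perp2 u v ∨ e ∈ perp2 p p' := by
      intro e he
      obtain ⟨y, hy, w, hw, rfl⟩ := hdec e
      rcases eq_or_ne y 0 with rfl | hy0
      · exact Or.inl (by rwa [zero_add])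
      rcases eq_or_ne w 0 with rfl | hw0
      · exact Or.inr (by rwa [add_zero])
      · exact absurd he (hmix y hy hy0 w hw hw0)
    refine card_bound_planes (x := x) hq huv hpp fun g hg => ?_
    have hne : ⟪g.1 *ᵥ p, g.1 *ᵥ p'⟫ ≠ 0 := by rw [sympForm_map, hpp]; exact one_ne_zero
    rcases hin (hg' hg hp) with h1 | h1 <;> rcases hin (hg' hg hp') with h2 | h2
    · exact Or.inl ⟨h1, h2⟩
    · exact absurd (by rw [sympForm_swap, hcross h2 h1, neg_zero]) hne
    · exact absurd (hcross h1 h2) hne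
    · exact Or.inr ⟨h1, h2⟩
  obtain ⟨r, hr, hr0, w₀, hw₀, hw₀0, h₀⟩ := hmix
  have hall : ∀ {r w : V}, r ∈ perp2 p p' → w ∈ perp2 u v → w ≠ 0 → RootFixed x (r + w) →
      ∀ z ∈ perp2 u v, z ≠ 0 → RootFixed x (r + z) := fun hr hw hw0 h z hz hz0 =>
    rootFixed_all_perp huv hP (fun z hz => hcross hr hz) hw hw0 hz hz0 h
  by_cases hout : ∀ e, RootFixed x e → ⟪r, e⟫ = 0
  · refine card_bound_point (m := 2) (x := x) hr0 fun g hg => ?_
    have hgi : g⁻¹ • x = x := by rw [inv_smul_eq_iff, hg]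
    have horth : ∀ e, RootFixed x e → ⟪g.1 *ᵥ r, e⟫ = 0 := by
      intro e he
      rw [← sp_mulVec_inv_self g e, sympForm_map]
      exact hout _ (hg' hgi he)
    obtain ⟨Y, hY, W, hW, e⟩ := hdec (g.1 *ᵥ r)
    have hW0 : W = 0 := perp2_sep huv hW fun z hz => by
      have := horth z (hP z hz)
      rwa [e, sympForm_add_left, hcross hY hz, zero_add] at this
    rw [hW0, add_zero] at e
    have h1 := horth _ h₀
    rw [e, sympForm_add_right, hcross hY hw₀, add_zero] at h1
    obtain ⟨t, ht⟩ := perp2_line hpp hY hr hr0 h1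
    exact ⟨t, e.trans ht⟩
  push Not at hout
  obtain ⟨y, hy, hry, w₁, hw₁, hw₁0, h₁⟩ : ∃ y ∈ perp2 p p', ⟪r, y⟫ ≠ 0 ∧
      ∃ w ∈ perp2 u v, w ≠ 0 ∧ RootFixed x (y + w) := by
    obtain ⟨e, he, hre⟩ := hout
    obtain ⟨Y, hY, W, hW, rfl⟩ := hdec e
    rw [sympForm_add_right, hcross hr hW, add_zero] at hre
    rcases eq_or_ne W 0 with rfl | hW0
    swap
    · exact ⟨Y, hY, hre, W, hW, hW0, he⟩
    rw [add_zero] at he
    have h := rootFixed_combine h₀ he (by
      rw [sympForm_add_left, sympForm_swap Y w₀, hcross hY hw₀, neg_zero, add_zero]; exact hre) 1 1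
    refine ⟨r + Y, Submodule.add_mem _ hr hY, ?_, w₀, hw₀, hw₀0, ?_⟩
    · rwa [sympForm_add_right, sympForm_self, zero_add]
    · rwa [one_smul, one_smul, add_right_comm] at h
  have hfull : ∀ Y ∈ perp2 p p', Y ≠ 0 → ∀ z ∈ perp2 u v, z ≠ 0 → RootFixed x (Y + z) := by
    intro Y hY hY0 z hz hz0
    obtain ⟨s, t, rfl⟩ : ∃ s t : F, Y = s • r + t • y := by
      obtain ⟨s, hs⟩ := perp2_line hpp (Submodule.sub_mem _ hY
        (Submodule.smul_mem _ (⟪r, Y⟫ / ⟪r, y⟫) hy)) hr hr0 (by
        rw [sympForm_swap, sympForm_sub_right, sympForm_smul_right, div_mul_cancel₀ _ hry,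
          sub_self, neg_zero])
      exact ⟨s, ⟪r, Y⟫ / ⟪r, y⟫, by rw [← hs, sub_add_cancel]⟩
    obtain ⟨l, hl0, hl1⟩ : ∃ l : F, l ≠ 0 ∧ l ≠ -⟪r, y⟫ := by
      by_contra! h
      have hsub : (Finset.univ : Finset F) ⊆ {0, -⟪r, y⟫} := fun d _ => by
        rcases eq_or_ne d 0 with rfl | hd
        · simp
        · simp [h d hd]
      have := (Finset.card_le_card hsub).trans Finset.card_le_two
      rw [Finset.card_univ] at this
      omega
    have h := rootFixed_combine (hall hr hw₀ hw₀0 h₀ p hpP hp0)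
      (hall hy hw₁ hw₁0 h₁ (l • p') (Submodule.smul_mem _ _ hp'P) (smul_ne_zero hl0 hp'0)) (by
        simp only [sympForm_add_left, sympForm_add_right, sympForm_smul_right, hpp,
          hcross hr hp'P, sympForm_swap y p, hcross hy hpP]
        intro h0
        exact hl1 (by linear_combination h0)) s t
    rw [show s • (r + p) + t • (y + l • p') = s • r + t • y + (s • p + (t * l) • p') by module] at h
    refine hall hY (Submodule.add_mem _ (Submodule.smul_mem _ _ hpP) (Submodule.smul_mem _ _ hp'P))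
      (fun h0 => hY0 ?_) h z hz hz0
    have e1 := congrArg (fun z => ⟪z, p'⟫) h0
    have e2 := congrArg (fun z => ⟪p, z⟫) h0
    simp only [sympForm_add_left, sympForm_smul_left, sympForm_add_right, sympForm_smul_right,
      sympForm_self, hpp, sympForm_zero_left, sympForm_zero_right, mul_one, mul_zero, add_zero,
      zero_add] at e1 e2
    rw [e1, (mul_eq_zero.1 e2).resolve_right hl0, zero_smul, zero_smul, add_zero]
  refine absurd (stabilizer_eq_top_of_rootFixed fun c hc => ?_) hno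
  obtain ⟨Y, hY, W, hW, rfl⟩ := hdec c
  rcases eq_or_ne Y 0 with rfl | hY0
  · rw [zero_add]; exact hP W hW
  rcases eq_or_ne W 0 with rfl | hW0
  swap
  · exact hfull Y hY hY0 W hW hW0
  obtain ⟨Y₂, hY₂, hYY⟩ := perp2_nondeg hpp hY hY0
  have hY₂0 : Y₂ ≠ 0 := fun h => by rw [h, sympForm_zero_right] at hYY; exact zero_ne_one hYY
  have hsum : Y + Y₂ ≠ 0 := fun h => by
    rw [eq_neg_of_add_eq_zero_right h, ← neg_one_smul F Y, sympForm_smul_right, sympForm_self,
      mul_zero] at hYY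
    exact zero_ne_one hYY
  have := rootFixed_combine (hfull _ (Submodule.add_mem _ hY hY₂) hsum w₀ hw₀ hw₀0)
    (hfull _ hY₂ hY₂0 w₀ hw₀ hw₀0) (by
      simp only [sympForm_add_left, sympForm_add_right, sympForm_self, hcross hY hw₀,
        hcross hY₂ hw₀, sympForm_swap Y₂ w₀, neg_zero, add_zero, hYY]
      exact one_ne_zero) 1 (-1)
  rw [show (1 : F) • (Y + Y₂ + w₀) + (-1 : F) • (Y₂ + w₀) = Y by module] at this
  rwa [add_zero]

end CfsgLib.MinDegree
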