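import Cfsg.Agent.MinDegree.SympRoot

/-!
# Points fixed by the transvections of a Levi complement

If a point of an `Sp(2m,q)`-set, `m ≥ 3`, is fixed by all transvections with centre in the
complement of a hyperbolic pair, then its stabiliser fixes a point of the projective space or a
hyperbolic plane, so the orbit is large.
-/

set_option autoImplicit false

namespace CfsgLib.MinDegree

open Matrix CfsgLib.Forms CfsgLib.Forms4 MulAction

variable {F : Type*} [Field F] {m : ℕ} {Ω : Type*}
  [MulAction (Matrix.symplecticGroup (Fin m) F) Ω]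

local notation "V" => Fin m ⊕ Fin m → F
local notation "Sp" => Matrix.symplecticGroup (Fin m) F
local notation "⟪" x ", " y "⟫" => Cfsg.sympForm m F x y

/-- All transvections with this centre fix the point. -/
def RootFixed (x : Ω) (a : V) : Prop := ∀ c : F, spTransv a c • x = x

theorem rootFixed_smul {x : Ω} {a : V} (h : RootFixed x a) (t : F) : RootFixed x (t • a) :=
  fun c => by rw [spTransv_smul]; exact h _

theorem rootFixed_conj {x : Ω} {a : V} (h : RootFixed x a) {g : Sp} (hg : g • x = x) :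
    RootFixed x (g.1 *ᵥ a) := fun c => by
  rw [← conj_spTransv, mul_smul, mul_smul, inv_smul_eq_iff.2 hg.symm, h c, hg]

theorem rootFixed_combine {x : Ω} {a b : V} (ha : RootFixed x a) (hb : RootFixed x b)
    (hab : ⟪a, b⟫ ≠ 0) (s t : F) : RootFixed x (s • a + t • b) := by
  rcases eq_or_ne s 0 with rfl | hs
  · rw [zero_smul, zero_add]; exact rootFixed_smul hb t
  have h := rootFixed_conj ha (hb (t / s / ⟪a, b⟫))
  rw [spTransv_mulVec, div_mul_cancel₀ _ hab] at h
  have h2 := rootFixed_smul h s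
  rwa [smul_add, smul_smul, mul_div_cancel₀ _ hs] at h2

theorem stabilizer_eq_top_of_rootFixed {x : Ω} (h : ∀ a : V, a ≠ 0 → RootFixed x a) :
    stabilizer Sp x = ⊤ := by
  rw [eq_top_iff, ← transvGroup_eq_top, transvGroup, Subgroup.closure_le]
  rintro _ ⟨a, -, c, rfl⟩
  rcases eq_or_ne a 0 with rfl | ha
  · have : spTransv (0 : V) c = 1 := sp_ext fun y => by simp [spTransv_mulVec, sp_one_mulVec]
    rw [this]; exact one_mem _
  · exact h a ha c


/-- Changing the component in the complement, non-orthogonally. -/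
theorem rootFixed_step {u v : V} {x : Ω} (hP : ∀ p ∈ perp2 u v, RootFixed x p) {r p p' : V}
    (hr : ∀ z ∈ perp2 u v, ⟪r, z⟫ = 0) (hp : p ∈ perp2 u v) (hp' : p' ∈ perp2 u v)
    (h : RootFixed x (r + p)) (hne : ⟪p, p'⟫ ≠ 0) : RootFixed x (r + p') := by
  have hd : p' - p ∈ perp2 u v := Submodule.sub_mem _ hp' hp
  have := rootFixed_combine h (hP _ hd) (by
    rw [sympForm_add_left, hr _ hd, zero_add, sympForm_sub_right, sympForm_self, sub_zero]
    exact hne) 1 1
  rwa [one_smul, one_smul, add_assoc, add_sub_cancel] at this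

theorem rootFixed_all_perp {u v : V} {x : Ω} (huv : ⟪u, v⟫ = 1) (hP : ∀ p ∈ perp2 u v, RootFixed x p)
    {r p p' : V} (hr : ∀ z ∈ perp2 u v, ⟪r, z⟫ = 0) (hp : p ∈ perp2 u v) (hp0 : p ≠ 0)
    (hp' : p' ∈ perp2 u v) (hp'0 : p' ≠ 0) (h : RootFixed x (r + p)) :
    RootFixed x (r + p') := by
  by_cases hne : ⟪p, p'⟫ = 0
  swap
  · exact rootFixed_step hP hr hp hp' h hne
  obtain ⟨z, hz1, hz2⟩ := exists_sympForm_ne_zero_two hp0 hp'0
  rw [← sympForm_proj huv (y := z) hp] at hz1
  rw [← sympForm_proj huv (y := z) hp'] at hz2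
  have hzP := proj_mem_perp2 huv z
  exact rootFixed_step hP hr hzP hp' (rootFixed_step hP hr hp hzP h hz1)
    (by rw [sympForm_swap]; exact neg_ne_zero.2 hz2)

variable [Fintype F]

theorem card_vectors : Fintype.card (Fin m ⊕ Fin m → F) = Fintype.card F ^ (2 * m) := by
  rw [Fintype.card_fun, Fintype.card_sum, Fintype.card_fin, two_mul]

/-- If the stabiliser of `x` fixes the point `Fr`, the set is at least as large as the projective
space. -/
theorem card_bound_point [Finite Ω] {x : Ω} {r : V} (hr : r ≠ 0)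
    (h : ∀ g : Sp, g • x = x → ∃ t : F, g.1 *ᵥ r = t • r) :
    Fintype.card F ^ (2 * m) - 1 ≤ (Fintype.card F - 1) * Nat.card Ω := by
  classical
  have := Fintype.ofFinite Ω
  let f : {b : V // b ≠ 0} → Ω := fun b => (exists_mulVec_eq hr b.2).choose • x
  have hf : ∀ b : {b : V // b ≠ 0}, (exists_mulVec_eq hr b.2).choose.1 *ᵥ r = b.1 :=
    fun b => (exists_mulVec_eq hr b.2).choose_spec
  have h1 : (Finset.univ : Finset {b : V // b ≠ 0}).card ≤
      (Fintype.card F - 1) * (Finset.univ.image f).card := by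
    refine Finset.card_le_mul_card_image _ _ fun y hy => ?_
    obtain ⟨b₀, -, rfl⟩ := Finset.mem_image.1 hy
    have key : ∀ b, f b = f b₀ → ∃ t : F, t ≠ 0 ∧ b.1 = t • b₀.1 := by
      intro b hb
      obtain ⟨t, ht⟩ := h ((exists_mulVec_eq hr b₀.2).choose⁻¹ * (exists_mulVec_eq hr b.2).choose)
        (by rw [mul_smul, inv_smul_eq_iff]; exact hb)
      have e := congrArg (fun z => (exists_mulVec_eq hr b₀.2).choose.1 *ᵥ z) ht
      simp only [sp_mul_mulVec, sp_mulVec_inv_self, Matrix.mulVec_smul, hf] at e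
      exact ⟨t, fun h0 => b.2 (by rw [e, h0, zero_smul]), e⟩
    refine le_trans (Finset.card_le_card (t := Finset.univ.image
      fun t : {t : F // t ≠ 0} => (⟨t.1 • b₀.1, smul_ne_zero t.2 b₀.2⟩ : {b : V // b ≠ 0}))
      fun b hb => ?_) (Finset.card_image_le.trans ?_)
    · obtain ⟨t, ht, e⟩ := key b (Finset.mem_filter.1 hb).2
      exact Finset.mem_image.2 ⟨⟨t, ht⟩, Finset.mem_univ _, Subtype.ext e.symm⟩
    · rw [Finset.card_univ, Fintype.card_subtype_compl, Fintype.card_subtype_eq]
  rw [Finset.card_univ, Fintype.card_subtype_compl, Fintype.card_subtype_eq, card_vectors] at h1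
  exact h1.trans (Nat.mul_le_mul_left _ (by rw [Nat.card_eq_fintype_card]; exact Finset.card_le_univ _))

/-- If the stabiliser of `x` preserves the plane of a hyperbolic pair, the set is large. -/
theorem card_bound_plane {u v : V} [Finite Ω] {x : Ω} (huv : ⟪u, v⟫ = 1)
    (h : ∀ g : Sp, g • x = x → ∀ p : V, p ∈ Submodule.span F ({u, v} : Set V) →
      g.1 *ᵥ p ∈ Submodule.span F ({u, v} : Set V)) :
    (Fintype.card F ^ (2 * m) - 1) * Fintype.card F ^ (2 * m - 2) ≤
      Fintype.card F ^ 4 * Nat.card Ω := by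
  classical
  have := Fintype.ofFinite Ω
  let S := {ab : V × V // ⟪ab.1, ab.2⟫ = 1}
  have hA : ∀ ab : S, ∃ A : Sp, A.1 *ᵥ u = ab.1.1 ∧ A.1 *ᵥ v = ab.1.2 := by
    intro ab
    obtain ⟨A, -, h1, h2⟩ := exists_mem_transvGroup_pair (⊤ : Submodule F V)
      (fun z _ hz => by
        obtain ⟨y, hy⟩ := exists_pair hz
        exact ⟨y, trivial, by rw [hy]; exact one_ne_zero⟩) trivial trivial trivial trivial huv ab.2
    exact ⟨A, h1, h2⟩
  let f : S → Ω := fun ab => (hA ab).choose • x
  have h1 : (Finset.univ : Finset S).card ≤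
      Fintype.card F ^ 4 * (Finset.univ.image f).card := by
    refine Finset.card_le_mul_card_image _ _ fun y hy => ?_
    obtain ⟨a₀, -, rfl⟩ := Finset.mem_image.1 hy
    obtain ⟨e1, e2⟩ := (hA a₀).choose_spec
    refine le_trans (Finset.card_le_card_of_injOn
      (t := ((Finset.univ : Finset ((F × F) × F × F)).image fun c =>
        (c.1.1 • a₀.1.1 + c.1.2 • a₀.1.2, c.2.1 • a₀.1.1 + c.2.2 • a₀.1.2)))
      (fun b => b.1) (fun b hb => ?_) (fun a _ b _ hab => Subtype.ext hab))
      (Finset.card_image_le.trans (by simp [Fintype.card_prod]; ring_nf; exact le_rfl))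
    rw [Finset.mem_coe, Finset.mem_filter] at hb
    have hg : ((hA a₀).choose⁻¹ * (hA b).choose) • x = x := by
      rw [mul_smul, inv_smul_eq_iff]; exact hb.2
    obtain ⟨p1, p2⟩ := (hA b).choose_spec
    obtain ⟨s1, t1, r1⟩ := Submodule.mem_span_pair.1
      (h _ hg u (Submodule.subset_span (Set.mem_insert _ _)))
    obtain ⟨s2, t2, r2⟩ := Submodule.mem_span_pair.1
      (h _ hg v (Submodule.subset_span (Set.mem_insert_of_mem _ rfl)))
    have q1 := congrArg (fun z => (hA a₀).choose.1 *ᵥ z) r1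
    have q2 := congrArg (fun z => (hA a₀).choose.1 *ᵥ z) r2
    simp only [sp_mul_mulVec, sp_mulVec_inv_self, Matrix.mulVec_add, Matrix.mulVec_smul, e1, e2,
      p1, p2] at q1 q2
    exact Finset.mem_image.2 ⟨((s1, t1), (s2, t2)), Finset.mem_univ _, Prod.ext q1 q2⟩
  refine le_trans ?_ (h1.trans (Nat.mul_le_mul_left _
    (by rw [Nat.card_eq_fintype_card]; exact Finset.card_le_univ _)))
  rw [Finset.card_univ, ← Nat.card_eq_fintype_card (α := S)]
  have hb : ∀ a : {a : V // a ≠ 0}, ∃ b, ⟪a.1, b⟫ = 1 := fun a => exists_pair a.2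
  have hu : u ≠ 0 := fun h => by rw [h, sympForm_zero_left] at huv; exact zero_ne_one huv
  let φ : {a : V // a ≠ 0} × perp2 u v → V × V := fun p =>
    (p.1.1, (hb p.1).choose + (exists_mulVec_eq hu p.1.2).choose.1 *ᵥ (p.2 : V))
  have hφ : ∀ p, ⟪(φ p).1, (φ p).2⟫ = 1 := by
    intro p
    have he := (exists_mulVec_eq hu p.1.2).choose_spec
    have h1 := (hb p.1).choose_spec
    simp only [φ, sympForm_add_right]
    generalize (exists_mulVec_eq hu p.1.2).choose = A at he ⊢
    generalize (hb p.1).choose = B at h1 ⊢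
    generalize p.1.1 = a at he h1 ⊢
    subst he
    simp only [h1, sympForm_map, sympForm_swap (p.2 : V) u, (mem_perp2.1 p.2.2).1, neg_zero,
      add_zero]
  have hinj : Function.Injective fun p => (⟨φ p, hφ p⟩ : S) := by
    rintro ⟨a, p⟩ ⟨a', p'⟩ h
    have h := congrArg Subtype.val h
    obtain ⟨h1, h2⟩ := Prod.ext_iff.1 h
    obtain rfl : a = a' := Subtype.ext h1
    simp only [φ, add_right_inj] at h2
    have := congrArg (fun z => ((exists_mulVec_eq hu a.2).choose⁻¹).1 *ᵥ z) h2
    simp only [sp_inv_mulVec_self] at this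
    exact Prod.ext rfl (Subtype.ext this)
  have := Nat.card_le_card_of_injective _ hinj
  rw [Nat.card_prod, card_perp2 huv, Nat.card_eq_fintype_card, Fintype.card_subtype_compl,
    Fintype.card_subtype_eq, card_vectors] at this
  exact this

theorem exists_perp_indep {u v w : V} (huv : ⟪u, v⟫ = 1) (hm : 3 ≤ m) (hw : w ∈ perp2 u v) :
    ∃ p ∈ perp2 u v, ⟪p, w⟫ = 0 ∧ ∀ c : F, p ≠ c • w := by
  classical
  let g : perp2 u v →+ F :=
    { toFun := fun z => ⟪(z : V), w⟫
      map_zero' := by rw [Submodule.coe_zero, sympForm_zero_left]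
      map_add' := fun a b => by rw [Submodule.coe_add, sympForm_add_left] }
  by_contra! h
  have hle : Nat.card g.ker ≤ Nat.card F := by
    refine Nat.card_le_card_of_injective
      (fun z => (h (z.1 : V) z.1.2 z.2).choose) fun a b hab => ?_
    have ha := (h (a.1 : V) a.1.2 a.2).choose_spec
    have hb := (h (b.1 : V) b.1.2 b.2).choose_spec
    simp only at hab
    rw [hab] at ha
    exact Subtype.ext (Subtype.ext (ha.trans hb.symm))
  have hidx := g.ker.index_mul_card
  rw [AddSubgroup.index_ker, card_perp2 huv] at hidx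
  have h2 : Nat.card g.range ≤ Nat.card F :=
    Nat.card_le_card_of_injective (fun z : g.range => (z : F)) Subtype.val_injective
  rw [Nat.card_eq_fintype_card (α := F)] at hle h2
  have h3 := Nat.mul_le_mul h2 hle
  rw [hidx] at h3
  have h4 : Fintype.card F ^ 3 ≤ Fintype.card F ^ (2 * m - 2) :=
    Nat.pow_le_pow_right Fintype.card_pos (by omega)
  have h5 : 2 ≤ Fintype.card F := Fintype.one_lt_card
  nlinarith

/-- If a point is fixed by the transvections of a complement, the set is at least as large as the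
projective space. -/
theorem le_card_of_levi_fixed {u v : V} [Finite Ω] (hm : 3 ≤ m) (huv : ⟪u, v⟫ = 1) {x : Ω}
    (hno : stabilizer Sp x ≠ ⊤) (hP : ∀ p ∈ perp2 u v, RootFixed x p) :
    Fintype.card F ^ (2 * m) - 1 ≤ (Fintype.card F - 1) * Nat.card Ω := by
  classical
  set q := Fintype.card F with hq
  have hq2 : 2 ≤ q := Fintype.one_lt_card
  have hUP : ∀ y ∈ Submodule.span F ({u, v} : Set V), ∀ z ∈ perp2 u v, ⟪y, z⟫ = 0 := by
    intro y hy z hz
    obtain ⟨s, t, rfl⟩ := Submodule.mem_span_pair.1 hy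
    rw [sympForm_add_left, sympForm_smul_left, sympForm_smul_left, sympForm_swap z u,
      sympForm_swap z v, (mem_perp2.1 hz).1, (mem_perp2.1 hz).2]
    ring
  set U := Submodule.span F ({u, v} : Set V) with hU
  have hdec : ∀ e : V, ∃ y ∈ U, ∃ w ∈ perp2 u v, e = y + w := fun e =>
    ⟨⟪e, v⟫ • u + (-⟪e, u⟫) • v,
      Submodule.mem_span_pair.2 ⟨_, _, rfl⟩, _, proj_mem_perp2 huv e, by module⟩
  have hUsep : ∀ y ∈ U, y ≠ 0 → ∃ z ∈ U, ⟪y, z⟫ ≠ 0 := by
    intro y hy hy0
    obtain ⟨s, t, rfl⟩ := Submodule.mem_span_pair.1 hy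
    by_cases hs : s = 0
    · subst hs
      refine ⟨u, Submodule.subset_span (Set.mem_insert _ _), ?_⟩
      rw [zero_smul, zero_add] at hy0 ⊢
      rw [sympForm_smul_left, sympForm_vu huv]
      intro h
      exact hy0 (by rw [show t = 0 by linear_combination -h, zero_smul])
    · refine ⟨v, Submodule.subset_span (Set.mem_insert_of_mem _ rfl), ?_⟩
      rw [sympForm_add_left, sympForm_smul_left, sympForm_smul_left, huv, sympForm_self, mul_one,
        mul_zero, add_zero]
      exact hs
  by_cases hA : ∃ r ∈ U, r ≠ 0 ∧ ∃ p ∈ perp2 u v, p ≠ 0 ∧ RootFixed x (r + p)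
  · obtain ⟨r, hrU, hr0, p₀, hp₀, hp₀0, h₀⟩ := hA
    have hall : ∀ p ∈ perp2 u v, p ≠ 0 → RootFixed x (r + p) := fun p hp hp0 =>
      rootFixed_all_perp huv hP (hUP r hrU) hp₀ hp₀0 hp hp0 h₀
    -- nothing outside the hyperplane of the point
    have hout : ∀ e, RootFixed x e → ⟪r, e⟫ = 0 := by
      intro e₁ he₁
      by_contra hne
      obtain ⟨e, he, hre, y, hy, w, hw, hw0, rfl⟩ : ∃ e, RootFixed x e ∧ ⟪r, e⟫ ≠ 0 ∧
          ∃ y ∈ U, ∃ w ∈ perp2 u v, w ≠ 0 ∧ e = y + w := by
        obtain ⟨y, hy, w, hw, rfl⟩ := hdec e₁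
        rcases eq_or_ne w 0 with rfl | hw0
        · rw [add_zero] at he₁ hne
          have h := rootFixed_combine (hall p₀ hp₀ hp₀0) he₁ (by
            rw [sympForm_add_left, sympForm_swap y p₀, hUP y hy p₀ hp₀, neg_zero, add_zero]
            exact hne) 1 1
          refine ⟨_, h, ?_, r + y, Submodule.add_mem _ hrU hy, p₀, hp₀, hp₀0, by module⟩
          simp only [one_smul, sympForm_add_right, sympForm_self, hUP r hrU p₀ hp₀, zero_add]
          exact hne
        · exact ⟨_, he₁, hne, y, hy, w, hw, hw0, rfl⟩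
      rw [sympForm_add_right, hUP r hrU w hw, add_zero] at hre
      obtain ⟨p, hp, hpw, hpind⟩ := exists_perp_indep huv hm hw
      have hp0 : p ≠ 0 := fun h => hpind 0 (by rw [h, zero_smul])
      have hf : ⟪r + p, y + w⟫ ≠ 0 := by
        rw [sympForm_add_left, sympForm_add_right, sympForm_add_right, hUP r hrU w hw,
          sympForm_swap y p, hUP y hy p hp, hpw, neg_zero, add_zero, add_zero, add_zero]
        exact hre
      -- every vector with both components nonzero
      have hmix : ∀ Y ∈ U, Y ≠ 0 → ∀ q' ∈ perp2 u v, q' ≠ 0 → RootFixed x (Y + q') := by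
        intro Y hY hY0 q' hq' hq'0
        obtain ⟨s, t, hst⟩ : ∃ s t : F, Y = s • r + t • y := by
          refine ⟨⟪Y, y⟫ / ⟪r, y⟫, ⟪r, Y⟫ / ⟪r, y⟫, ?_⟩
          set Z := Y - ((⟪Y, y⟫ / ⟪r, y⟫) • r + (⟪r, Y⟫ / ⟪r, y⟫) • y) with hZ
          rw [← sub_eq_zero, ← hZ]
          have hZU : Z ∈ U := Submodule.sub_mem _ hY (Submodule.add_mem _
            (Submodule.smul_mem _ _ hrU) (Submodule.smul_mem _ _ hy))
          have h1 : ⟪r, Z⟫ = 0 := by
            rw [hZ, sympForm_sub_right, sympForm_add_right, sympForm_smul_right,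
              sympForm_smul_right, sympForm_self, mul_zero, zero_add, div_mul_cancel₀ _ hre, sub_self]
          have h2 : ⟪Z, y⟫ = 0 := by
            rw [hZ, sympForm_sub_left, sympForm_add_left, sympForm_smul_left, sympForm_smul_left,
              sympForm_self, mul_zero, add_zero, div_mul_cancel₀ _ hre, sub_self]
          obtain ⟨a, b, hab⟩ := Submodule.mem_span_pair.1 hZU
          obtain ⟨a', b', hab'⟩ := Submodule.mem_span_pair.1 hrU
          obtain ⟨a'', b'', hab''⟩ := Submodule.mem_span_pair.1 hy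
          simp only [← hab, ← hab', ← hab'', sympForm_add_left, sympForm_add_right,
            sympForm_smul_left, sympForm_smul_right, sympForm_self, huv, sympForm_vu huv]
            at h1 h2 hre
          rw [← hab]
          have hD : a' * b'' - b' * a'' ≠ 0 := fun h => hre (by linear_combination h)
          have ha : a = 0 := (mul_eq_zero.1 (show a * (a' * b'' - b' * a'') = 0 by
            linear_combination a'' * h1 + a' * h2)).resolve_right hD
          have hb : b = 0 := (mul_eq_zero.1 (show b * (a' * b'' - b' * a'') = 0 by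
            linear_combination b'' * h1 + b' * h2)).resolve_right hD
          rw [ha, hb, zero_smul, zero_smul, add_zero]
        have hq : s • p + t • w ≠ 0 := by
          intro h0
          rcases eq_or_ne s 0 with rfl | hs
          · rw [zero_smul, zero_add, smul_eq_zero] at h0
            obtain rfl := h0.resolve_right hw0
            exact hY0 (by rw [hst]; simp)
          · refine hpind (-(t / s)) ?_
            have h1 := congrArg (fun z => s⁻¹ • z) h0
            simp only [smul_add, inv_smul_smul₀ hs, smul_zero, smul_smul] at h1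
            rw [eq_neg_of_add_eq_zero_left h1, ← neg_smul, div_eq_inv_mul]
        refine rootFixed_all_perp huv hP (hUP Y hY) (Submodule.add_mem _ (Submodule.smul_mem _ _ hp)
          (Submodule.smul_mem _ _ hw)) hq hq' hq'0 ?_
        have e : Y + (s • p + t • w) = s • (r + p) + t • (y + w) := by rw [hst]; module
        rw [e]
        exact rootFixed_combine (hall p hp hp0) he hf s t
      refine hno (stabilizer_eq_top_of_rootFixed fun a ha => ?_)
      obtain ⟨Y, hY, q', hq', rfl⟩ := hdec a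
      rcases eq_or_ne Y 0 with rfl | hY0
      · rw [zero_add]; exact hP q' hq'
      rcases eq_or_ne q' 0 with rfl | hq'0
      swap
      · exact hmix Y hY hY0 q' hq' hq'0
      obtain ⟨Y₂, hY₂, hYY⟩ := hUsep Y hY hY0
      have hY₂0 : Y₂ ≠ 0 := fun h => hYY (by rw [h, sympForm_zero_right])
      have hY10 : Y + Y₂ ≠ 0 := fun h => hYY (by
        rw [eq_neg_of_add_eq_zero_right h, ← neg_one_smul F Y, sympForm_smul_right, sympForm_self,
          mul_zero])
      have := rootFixed_combine (hmix _ (Submodule.add_mem _ hY hY₂) hY10 p₀ hp₀ hp₀0)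
        (hmix _ hY₂ hY₂0 p₀ hp₀ hp₀0) (by
          simp only [sympForm_add_left, sympForm_add_right, sympForm_self, hUP Y hY p₀ hp₀,
            hUP Y₂ hY₂ p₀ hp₀, sympForm_swap Y₂ p₀, neg_zero, add_zero]
          exact hYY) 1 (-1)
      have e : Y + 0 = (1 : F) • (Y + Y₂ + p₀) + (-1 : F) • (Y₂ + p₀) := by module
      rwa [e]
    -- so the stabiliser fixes the point
    refine card_bound_point (x := x) hr0 fun g hg => ?_
    -- `g r` is orthogonal to the whole hyperplane of `r`
    obtain ⟨z₁, hz₁⟩ := exists_pair hr0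
    have key : ∀ z : V, ⟪g.1 *ᵥ r, z⟫ = ⟪r, z⟫ * ⟪g.1 *ᵥ r, z₁⟫ := by
      intro z
      have hmem : ⟪r, (z - ⟪r, z⟫ • z₁)⟫ = 0 := by
        rw [sympForm_sub_right, sympForm_smul_right, hz₁, mul_one, sub_self]
      obtain ⟨y, hy⟩ : ∃ y, g.1 *ᵥ y = z - ⟪r, z⟫ • z₁ := ⟨_, sp_mulVec_inv_self g _⟩
      have hy0 : ⟪r, y⟫ = 0 := by
        have h1 := rootFixed_conj h₀ (show g⁻¹ • x = x by rw [inv_smul_eq_iff, hg])
        have hy' : y = (g⁻¹).1 *ᵥ (z - ⟪r, z⟫ • z₁) := by rw [← hy, sp_inv_mulVec_self]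
        obtain ⟨Y, hY, q', hq', hdz⟩ := hdec (z - ⟪r, z⟫ • z₁)
        rw [hdz, sympForm_add_right, hUP r hrU q' hq', add_zero] at hmem
        obtain ⟨t, rfl⟩ : ∃ t : F, Y = t • r := by
          obtain ⟨a, b, rfl⟩ := Submodule.mem_span_pair.1 hY
          obtain ⟨a', b', rfl⟩ := Submodule.mem_span_pair.1 hrU
          simp only [sympForm_add_left, sympForm_add_right, sympForm_smul_left,
            sympForm_smul_right, sympForm_self, huv, sympForm_vu huv] at hmem
          by_cases ha : a' = 0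
          · subst ha
            have hb : b' ≠ 0 := fun h => hr0 (by rw [h]; simp)
            refine ⟨b / b', ?_⟩
            have h0 : b' * a = 0 := by linear_combination -hmem
            rw [(mul_eq_zero.1 h0).resolve_left hb, zero_smul, zero_add, zero_add,
              smul_smul, div_mul_cancel₀ _ hb]
          · refine ⟨a / a', ?_⟩
            have hb : a / a' * b' = b := by field_simp; linear_combination -hmem
            rw [smul_add, smul_smul, smul_smul, div_mul_cancel₀ _ ha, hb]
        have hginv : g⁻¹ • x = x := by rw [inv_smul_eq_iff, hg]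
        have e : (g⁻¹).1 *ᵥ (t • r + q') =
            t • (g⁻¹).1 *ᵥ (r + p₀) + ((-t) • (g⁻¹).1 *ᵥ p₀ + (g⁻¹).1 *ᵥ q') := by
          simp only [← Matrix.mulVec_smul, ← Matrix.mulVec_add]
          congr 1; module
        rw [hy', hdz, e, sympForm_add_right, sympForm_add_right, sympForm_smul_right,
          sympForm_smul_right, hout _ h1, hout _ (rootFixed_conj (hP _ hp₀) hginv),
          hout _ (rootFixed_conj (hP _ hq') hginv)]
        ring
      have h0 : ⟪g.1 *ᵥ r, z - ⟪r, z⟫ • z₁⟫ = 0 := by rw [← hy, sympForm_map, hy0]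
      rw [sympForm_sub_right, sympForm_smul_right] at h0
      exact sub_eq_zero.1 h0
    refine ⟨⟪g.1 *ᵥ r, z₁⟫, sub_eq_zero.1 (sympForm_sep _ fun z => ?_)⟩
    rw [sympForm_sub_left, sympForm_smul_left, key z]
    ring
  push Not at hA
  have hE : ∀ e, RootFixed x e → e ∈ U ∨ e ∈ perp2 u v := by
    intro e he
    obtain ⟨Y, hY, w, hw, rfl⟩ := hdec e
    rcases eq_or_ne Y 0 with rfl | hY0
    · rw [zero_add]; exact Or.inr hw
    rcases eq_or_ne w 0 with rfl | hw0
    · rw [add_zero]; exact Or.inl hY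
    exact absurd he (hA Y hY hY0 w hw hw0)
  have hdisj : ∀ z, z ∈ U → z ∈ perp2 u v → z = 0 := fun z h1 h2 =>
    perp2_sep huv h2 fun y hy => hUP z h1 y hy
  have hPinv : ∀ g : Sp, g • x = x → ∀ p ∈ perp2 u v, g.1 *ᵥ p ∈ perp2 u v := by
    intro g hg p hp
    by_contra hpn
    have hpU := (hE _ (rootFixed_conj (hP p hp) hg)).resolve_right hpn
    have hallU : ∀ y ∈ perp2 u v, g.1 *ᵥ y ∈ U := by
      intro y hy
      by_contra hyn
      have hyP := (hE _ (rootFixed_conj (hP y hy) hg)).resolve_left hyn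
      rcases hE _ (rootFixed_conj (hP _ (Submodule.add_mem _ hp hy)) hg) with h | h <;>
        rw [Matrix.mulVec_add] at h
      · exact hyn ((Submodule.add_mem_iff_right _ hpU).1 h)
      · exact hpn ((Submodule.add_mem_iff_left _ hyP).1 h)
    have hle : Nat.card (perp2 u v) ≤ Nat.card (F × F) := by
      refine (Nat.card_le_card_of_injective
        (fun y : perp2 u v => (⟨g.1 *ᵥ (y : V), hallU y y.2⟩ : U)) fun a b h => Subtype.ext (by
          have := congrArg (fun z : U => (g⁻¹).1 *ᵥ (z : V)) h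
          simpa only [sp_inv_mulVec_self] using this)).trans ?_
      exact Nat.card_le_card_of_surjective
        (fun c : F × F => (⟨c.1 • u + c.2 • v, Submodule.mem_span_pair.2 ⟨_, _, rfl⟩⟩ : U))
        fun z => by
          obtain ⟨a, b, h⟩ := Submodule.mem_span_pair.1 z.2
          exact ⟨(a, b), Subtype.ext h⟩
    rw [card_perp2 huv, Nat.card_prod, Nat.card_eq_fintype_card, ← hq] at hle
    have : q ^ 4 ≤ q ^ (2 * m - 2) := Nat.pow_le_pow_right (by omega) (by omega)
    have : q * q < q ^ 4 := by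
      rw [← sq]
      exact Nat.pow_lt_pow_right (by omega) (by norm_num)
    omega
  have key := card_bound_plane huv (x := x) fun g hg p hp => by
    obtain ⟨Y, hY, w, hw, h⟩ := hdec (g.1 *ᵥ p)
    rw [h]
    suffices w = 0 by rw [this, add_zero]; exact hY
    refine perp2_sep huv hw fun z hz => ?_
    have hz' : (g⁻¹).1 *ᵥ z ∈ perp2 u v :=
      hPinv g⁻¹ (by rw [inv_smul_eq_iff, hg]) z hz
    have h0 := hUP p hp _ hz'
    rw [← sympForm_map g p, sp_mulVec_inv_self, h, sympForm_add_left, hUP Y hY z hz, zero_add] at h0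
    exact h0
  rw [← hq] at key
  have h6 : q ^ 4 ≤ q ^ (2 * m - 2) := Nat.pow_le_pow_right (by omega) (by omega)
  have h7 : (q ^ (2 * m) - 1) * q ^ 4 ≤ Nat.card Ω * q ^ 4 := by
    rw [mul_comm (Nat.card Ω)]; exact le_trans (Nat.mul_le_mul_left _ h6) key
  have h8 := Nat.le_of_mul_le_mul_right h7 (by positivity)
  exact h8.trans (Nat.le_mul_of_pos_left _ (by omega))

end CfsgLib.MinDegree
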