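import Cfsg.Agent.MinDegree.SympCover
import Cfsg.Agent.MinDegree.SympLine

/-!
# A point with a central stabiliser in the root group

If the stabiliser of `x` in the root group at `u` lies in the centre, and the Levi complement keeps
the root-group orbit of `x`, then some point of the orbit is moved by each transvection of the
complement only inside the centre.
-/

set_option autoImplicit false

namespace CfsgLib.MinDegree

open Matrix CfsgLib.Forms CfsgLib.Forms4 MulAction

variable {F : Type*} [Field F] [Fintype F] {m : ℕ} {Ω : Type*}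
  [MulAction (Matrix.symplecticGroup (Fin m) F) Ω]

local notation "V" => Fin m ⊕ Fin m → F
local notation "Sp" => Matrix.symplecticGroup (Fin m) F
local notation "⟪" x ", " y "⟫" => Cfsg.sympForm m F x y

/-- The stabiliser in the root group is central. -/
def Regular (u v : V) (x : Ω) : Prop := ∀ w c, RootFix u v x w c → w = 0

/-- The transvections at `a` act on `x` like central elements. -/
def ZFixed (u : V) (x : Ω) (a : V) : Prop :=
  ∀ l : F, ∃ e : F, spTransv a l • x = spTransv u e • x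

theorem regular_translate {u v a : V} (ha : a ∈ perp2 u v) (b : F) {x : Ω}
    (h : Regular u v x) : Regular u v (rootEl u a b • x) := fun w c hw =>
  h w _ ((rootFix_translate ha b x w c).1 hw)

theorem reg_inj {u v : V} {x : Ω} (hreg : Regular u v x) {w w' : V} (hw : w ∈ perp2 u v)
    (hw' : w' ∈ perp2 u v) {c c' : F} (h : rootEl u w c • x = rootEl u w' c' • x) : w = w' := by
  have hn : ⟪-w', u⟫ = 0 := by rw [sympForm_neg_left, (mem_perp2.1 hw').1, neg_zero]
  have hfix : RootFix u v x (-w' + w) (-c' + c + ⟪w, -w'⟫) :=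
    ⟨Submodule.add_mem _ (Submodule.neg_mem _ hw') hw, by
      rw [← rootEl_mul hn (mem_perp2.1 hw).1, ← rootEl_inv (mem_perp2.1 hw').1, mul_smul, h,
        inv_smul_smul]⟩
  have := hreg _ _ hfix
  rwa [neg_add_eq_zero, eq_comm] at this

theorem fixer_smul_rootEl {u v : V} {A : Sp} (hA : A ∈ fixer u v) (w : V) (c : F) (x : Ω) :
    A • rootEl u w c • x = rootEl u (A.1 *ᵥ w) c • A • x := by
  rw [← conj_rootEl_fixer hA, ← mul_smul, ← mul_smul, inv_mul_cancel_right]

theorem fixer_smul_transv {u v : V} {A : Sp} (hA : A ∈ fixer u v) (c : F) (x : Ω) :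
    A • spTransv u c • x = spTransv u c • A • x := by
  rw [← mul_smul, fixer_comm hA, mul_smul]

theorem spTransv_add (a : V) (b c : F) : spTransv a (b + c) = spTransv a b * spTransv a c := by
  rw [← rootEl_zero a b, ← rootEl_zero a c, rootEl_mul (sympForm_zero_left a) (sympForm_zero_left a),
    sympForm_self, add_zero, add_zero, rootEl_zero]

theorem spTransv_zero_center (c : F) : spTransv (0 : V) c = 1 :=
  sp_ext fun y => by simp [spTransv_mulVec, sp_one_mulVec]

theorem rootEl_transv_comm {u w : V} (hw : ⟪w, u⟫ = 0) (c d : F) :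
    rootEl u w c * spTransv u d = spTransv u d * rootEl u w c := by
  rw [rootEl_add_central hw, central_mul_rootEl hw]

theorem transv_mulVec_fix {a w : V} (h : ⟪w, a⟫ = 0) (l : F) : (spTransv a l).1 *ᵥ w = w := by
  rw [spTransv_mulVec, h, mul_zero, zero_smul, add_zero]

/-- The set kept by a fixer is kept by the whole group it generates. -/
theorem rootOrb_fixer {u v : V} [Finite Ω] {A : Sp} (hA : A ∈ fixer u v) {x z : Ω}
    (hx : A • x ∈ rootOrb u v x) (hz : z ∈ rootOrb u v x) : A • z ∈ rootOrb u v x := by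
  obtain ⟨a, ha, b, rfl⟩ := mem_rootOrb.1 hz
  obtain ⟨d, hd, e, hde⟩ := mem_rootOrb.1 hx
  rw [fixer_smul_rootEl hA, ← hde, ← mul_smul,
    rootEl_mul (mem_perp2.1 (fixer_map_perp2 hA ha)).1 (mem_perp2.1 hd).1]
  exact mem_rootOrb.2 ⟨_, Submodule.add_mem _ (fixer_map_perp2 hA ha) hd, _, rfl⟩

theorem levi_keeps_orbit {u v : V} [Finite Ω] {x : Ω}
    (hkeep : ∀ s ∈ perp2 u v, ∀ l : F, spTransv s l • x ∈ rootOrb u v x) {A : Sp}
    (hA : A ∈ levi u v) : A • x ∈ rootOrb u v x := by
  induction hA using Subgroup.closure_induction with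
  | mem A hA =>
    obtain ⟨s, hs, l, rfl⟩ := hA
    exact hkeep s hs l
  | one => exact mem_rootOrb.2 ⟨0, Submodule.zero_mem _, 0, by rw [rootEl_zero_zero]⟩
  | mul A B hA' _ hA hB =>
    rw [mul_smul]
    exact rootOrb_fixer (levi_le_fixer u v hA') hA hB
  | inv A hA' hA =>
    have hAf := levi_le_fixer u v hA'
    obtain ⟨d, hd, e, hde⟩ := mem_rootOrb.1 hA
    have hw : (A⁻¹).1 *ᵥ d ∈ perp2 u v := fixer_map_perp2 (inv_mem hAf) hd
    refine mem_rootOrb.2 ⟨-((A⁻¹).1 *ᵥ d), Submodule.neg_mem _ hw, -e, ?_⟩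
    rw [← rootEl_inv (mem_perp2.1 hw).1, inv_smul_eq_iff, ← fixer_smul_rootEl (inv_mem hAf),
      hde, inv_smul_smul]

/-- The translation part of a transvection of the complement is a multiple of its centre. -/
theorem translation_mem_line {u v : V} [Finite Ω] (huv : ⟪u, v⟫ = 1) (hm : 3 ≤ m) {x : Ω}
    (hreg : Regular u v x) (hkeep : ∀ s ∈ perp2 u v, ∀ l : F, spTransv s l • x ∈ rootOrb u v x)
    {a : V} (ha : a ∈ perp2 u v) (ha0 : a ≠ 0) {l : F} {d : V} (hd : d ∈ perp2 u v) {e : F}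
    (he : spTransv a l • x = rootEl u d e • x) : ∃ μ : F, d = μ • a := by
  by_contra! hne
  have haf : spTransv a l ∈ fixer u v := levi_le_fixer u v (spTransv_mem_levi ha l)
  have key : ∀ s ∈ perp2 u v, ⟪a, s⟫ = 0 → ∃ t : F, ⟪d, s⟫ • s = t • a := by
    intro s hs has
    have hsf : spTransv s (1 : F) ∈ fixer u v := levi_le_fixer u v (spTransv_mem_levi hs 1)
    obtain ⟨d', hd', e', hde'⟩ := mem_rootOrb.1 (hkeep s hs 1)
    have hfix : (spTransv s (1 : F)).1 *ᵥ a = a := transv_mulVec_fix has 1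
    have hcomm : spTransv s (1 : F) * spTransv a l = spTransv a l * spTransv s 1 := by
      rw [← mul_inv_eq_iff_eq_mul, conj_spTransv, hfix]
    have h1 : spTransv s (1 : F) • spTransv a l • x =
        rootEl u ((spTransv s (1 : F)).1 *ᵥ d + d') (e + e' + ⟪d', (spTransv s (1 : F)).1 *ᵥ d⟫) • x := by
      rw [he, fixer_smul_rootEl hsf, ← hde', ← mul_smul,
        rootEl_mul (mem_perp2.1 (fixer_map_perp2 hsf hd)).1 (mem_perp2.1 hd').1]
    have h2 : spTransv a l • spTransv s (1 : F) • x =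
        rootEl u ((spTransv a l).1 *ᵥ d' + d) (e' + e + ⟪d, (spTransv a l).1 *ᵥ d'⟫) • x := by
      rw [← hde', fixer_smul_rootEl haf, he, ← mul_smul,
        rootEl_mul (mem_perp2.1 (fixer_map_perp2 haf hd')).1 (mem_perp2.1 hd).1]
    rw [← mul_smul, hcomm, mul_smul, h2] at h1
    have h3 := reg_inj hreg (Submodule.add_mem _ (fixer_map_perp2 haf hd') hd)
      (Submodule.add_mem _ (fixer_map_perp2 hsf hd) hd') h1
    rw [spTransv_mulVec, spTransv_mulVec, one_mul] at h3
    refine ⟨l * ⟪d', a⟫, ?_⟩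
    rw [← sub_eq_zero] at h3 ⊢
    rw [← neg_eq_zero, ← h3]; module
  -- an orthogonal vector off the line, not orthogonal to `d`
  obtain ⟨p, hp, hpa, hpind⟩ := exists_perp_indep huv hm ha
  have hap : ⟪a, p⟫ = 0 := by rw [sympForm_swap, hpa, neg_zero]
  have main : ∀ s ∈ perp2 u v, ⟪a, s⟫ = 0 → (∀ c : F, s ≠ c • a) → ⟪d, s⟫ = 0 := by
    intro s hs has hind
    by_contra hds
    obtain ⟨t, ht⟩ := key s hs has
    exact hind (⟪d, s⟫⁻¹ * t) (by rw [mul_smul, ← ht, inv_smul_smul₀ hds])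
  obtain ⟨g, hgd, hga⟩ := Submodule.exists_dual_map_eq_bot_of_notMem
    (p := Submodule.span F {a}) (x := d)
    (by rw [Submodule.mem_span_singleton]; rintro ⟨c, hc⟩; exact hne c hc.symm) inferInstance
  obtain ⟨z, hz, hrep⟩ := exists_perp2_repr huv g
  have haz : ⟪a, z⟫ = 0 := by
    rw [sympForm_swap z a, hrep a ha,
      (Submodule.eq_bot_iff _).1 hga _ (Submodule.mem_map_of_mem (Submodule.mem_span_singleton_self a)),
      neg_zero]
  have hdz : ⟪d, z⟫ ≠ 0 := by rw [sympForm_swap z d, hrep d hd]; exact neg_ne_zero.2 hgd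
  by_cases hzind : ∀ c : F, z ≠ c • a
  · exact hdz (main z hz haz hzind)
  · push Not at hzind
    obtain ⟨c, rfl⟩ := hzind
    have h1 := main p hp hap hpind
    have h2 := main (c • a + p) (Submodule.add_mem _ hz hp)
      (by rw [sympForm_add_right, haz, hap, add_zero]) fun b hb => hpind (b - c) (by
        rw [sub_smul, ← hb]; abel)
    rw [sympForm_add_right, h1, add_zero] at h2
    exact hdz h2

theorem zFixed_combine {u v : V} {x : Ω} {a b : V} (ha : a ∈ perp2 u v) (hb : b ∈ perp2 u v)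
    (h1 : ZFixed u x a) (h2 : ZFixed u x b) (hab : ⟪a, b⟫ ≠ 0) (s t : F) :
    ZFixed u x (s • a + t • b) := by
  intro l
  rcases eq_or_ne s 0 with rfl | hs
  · obtain ⟨e, he⟩ := h2 (t ^ 2 * l)
    exact ⟨e, by rw [zero_smul, zero_add, spTransv_smul, he]⟩
  obtain ⟨eb, heb⟩ := h2 (t / s / ⟪a, b⟫)
  obtain ⟨ea, hea⟩ := h1 (s ^ 2 * l)
  refine ⟨ea, ?_⟩
  set T := spTransv b (t / s / ⟪a, b⟫)
  have hT : T ∈ fixer u v := levi_le_fixer u v (spTransv_mem_levi hb _)
  have e : spTransv (s • a + t • b) l = T * spTransv a (s ^ 2 * l) * T⁻¹ := by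
    rw [conj_spTransv, spTransv_mulVec, div_mul_cancel₀ _ hab,
      show s • a + t • b = s • (a + (t / s) • b) by rw [smul_add, smul_smul, mul_div_cancel₀ _ hs],
      spTransv_smul]
  have hinv : T⁻¹ • x = spTransv u (-eb) • x := by
    rw [inv_smul_eq_iff, fixer_smul_transv hT, heb, ← mul_smul, ← spTransv_add, neg_add_cancel,
      spTransv_zero', one_smul]
  rw [e, mul_smul, mul_smul, hinv,
    fixer_smul_transv (levi_le_fixer u v (spTransv_mem_levi ha _)), hea, fixer_smul_transv hT,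
    fixer_smul_transv hT, heb, ← mul_smul, ← mul_smul, ← spTransv_add, ← spTransv_add]
  congr 2; ring

/-- Translating by a vector orthogonal to the centre keeps `ZFixed`. -/
theorem zFixed_translate {u v : V} {x : Ω} {a δ : V} (ha : a ∈ perp2 u v) (hδ : δ ∈ perp2 u v)
    (h : ⟪δ, a⟫ = 0) (b : F) (hx : ZFixed u x a) : ZFixed u (rootEl u δ b • x) a := by
  intro l
  obtain ⟨e, he⟩ := hx l
  refine ⟨e, ?_⟩
  rw [fixer_smul_rootEl (levi_le_fixer u v (spTransv_mem_levi ha l)), transv_mulVec_fix h, he,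
    ← mul_smul, ← mul_smul, rootEl_transv_comm (mem_perp2.1 hδ).1]

theorem exists_dual_values {u v a b : V} (huv : ⟪u, v⟫ = 1) (ha : a ∈ perp2 u v)
    (hb : b ∈ perp2 u v) (hab : ∀ c : F, b ≠ c • a) (α β : F) (ha0 : a ≠ 0) :
    ∃ z ∈ perp2 u v, ⟪a, z⟫ = α ∧ ⟪b, z⟫ = β := by
  have hsel : ∀ {p q : V}, p ∈ perp2 u v → q ∈ perp2 u v → p ∉ Submodule.span F {q} →
      ∃ z ∈ perp2 u v, ⟪p, z⟫ = 1 ∧ ⟪q, z⟫ = 0 := by
    intro p q hp hq hpq
    obtain ⟨g, hg, hgq⟩ := Submodule.exists_dual_map_eq_bot_of_notMem hpq inferInstance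
    obtain ⟨z, hz, hrep⟩ := exists_perp2_repr huv g
    refine ⟨(-(g p)⁻¹) • z, Submodule.smul_mem _ _ hz, ?_, ?_⟩
    · rw [sympForm_smul_right, sympForm_swap z p, hrep p hp]
      field_simp
    · rw [sympForm_smul_right, sympForm_swap z q, hrep q hq,
        (Submodule.eq_bot_iff _).1 hgq _
          (Submodule.mem_map_of_mem (Submodule.mem_span_singleton_self q))]
      simp
  obtain ⟨z1, hz1, g1, g2⟩ := hsel ha hb (by
    rw [Submodule.mem_span_singleton]
    rintro ⟨c, hc⟩
    rcases eq_or_ne c 0 with rfl | hc0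
    · exact ha0 (by rw [← hc, zero_smul])
    · exact hab c⁻¹ (by rw [← hc, inv_smul_smul₀ hc0]))
  obtain ⟨z2, hz2, k1, k2⟩ := hsel hb ha (by
    rw [Submodule.mem_span_singleton]; rintro ⟨c, hc⟩; exact hab c hc.symm)
  exact ⟨α • z1 + β • z2, Submodule.add_mem _ (Submodule.smul_mem _ _ hz1)
    (Submodule.smul_mem _ _ hz2),
    by rw [sympForm_add_right, sympForm_smul_right, sympForm_smul_right, g1, k2]; ring,
    by rw [sympForm_add_right, sympForm_smul_right, sympForm_smul_right, g2, k1]; ring⟩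

/-- If each transvection of the complement is central at some point of the orbit, all are central
at a common point. -/
theorem common_zFixed {u v : V} (huv : ⟪u, v⟫ = 1) (hq : 3 ≤ Fintype.card F) {x : Ω}
    (hreg : Regular u v x)
    (hex : ∀ a ∈ perp2 u v, a ≠ 0 → ∃ s ∈ perp2 u v, ZFixed u (rootEl u s (0 : F) • x) a) :
    ∃ s ∈ perp2 u v, ∀ a ∈ perp2 u v, ZFixed u (rootEl u s (0 : F) • x) a := by
  classical
  let G : perp2 u v → F → Prop := fun a γ =>
    ∀ s ∈ perp2 u v, ⟪s, (a : V)⟫ = γ → ZFixed u (rootEl u s (0 : F) • x) a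
  -- the admissible value exists
  have hG : ∀ a : perp2 u v, ∃ γ, G a γ := by
    rintro ⟨a, ha⟩
    rcases eq_or_ne a 0 with rfl | ha0
    · exact ⟨0, fun s _ _ l => ⟨0, by rw [spTransv_zero', spTransv_zero_center]⟩⟩
    obtain ⟨s₀, hs₀, h₀⟩ := hex a ha ha0
    refine ⟨⟪s₀, a⟫, fun s hs hsa => ?_⟩
    have hδ : ⟪s - s₀, a⟫ = 0 := by rw [sympForm_sub_left, hsa, sub_self]
    have h := zFixed_translate ha (Submodule.sub_mem _ hs hs₀) hδ (-⟪s₀, s - s₀⟫) h₀
    rw [← mul_smul, rootEl_mul (mem_perp2.1 (Submodule.sub_mem _ hs hs₀)).1 (mem_perp2.1 hs₀).1,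
      sub_add_cancel, add_zero, neg_add_cancel] at h
    exact h
  choose g hg using hG
  have huniq : ∀ (a : perp2 u v) (γ : F), (a : V) ≠ 0 → G a γ → γ = g a := by
    intro a γ ha0 h
    obtain ⟨z, hz, haz⟩ := perp2_nondeg huv a.2 ha0
    have hza : ⟪z, (a : V)⟫ = -1 := by rw [sympForm_swap, haz]
    obtain ⟨e1, h1⟩ := h ((-γ) • z) (Submodule.smul_mem _ _ hz)
      (by rw [sympForm_smul_left, hza]; ring) 1
    obtain ⟨e2, h2⟩ := hg a ((-(g a)) • z) (Submodule.smul_mem _ _ hz)
      (by rw [sympForm_smul_left, hza]; ring) 1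
    have hf := levi_le_fixer u v (spTransv_mem_levi a.2 (1 : F))
    have m1 : (-γ) • z ∈ perp2 u v := Submodule.smul_mem _ _ hz
    have m2 : (-(g a)) • z ∈ perp2 u v := Submodule.smul_mem _ _ hz
    -- both give the translation of the transvection at `x`
    have key : ∀ (γ' : F) (e : F), (-γ') • z ∈ perp2 u v →
        spTransv (a : V) (1 : F) • rootEl u ((-γ') • z) (0 : F) • x =
          spTransv u e • rootEl u ((-γ') • z) (0 : F) • x →
        ∃ c, spTransv (a : V) (1 : F) • x = rootEl u ((-γ') • (a : V)) c • x := by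
      intro γ' e hm h
      rw [fixer_smul_rootEl hf, ← mul_smul _ (rootEl u ((-γ') • z) 0), central_mul_rootEl (mem_perp2.1 hm).1,
        ← inv_smul_eq_iff] at h
      have hm' : (spTransv (a : V) (1 : F)).1 *ᵥ ((-γ') • z) ∈ perp2 u v :=
        fixer_map_perp2 hf hm
      rw [inv_smul_eq_iff, ← eq_inv_smul_iff, rootEl_inv (mem_perp2.1 hm').1, ← mul_smul,
        rootEl_mul (by rw [sympForm_neg_left, (mem_perp2.1 hm').1, neg_zero]) (mem_perp2.1 hm).1]
        at h
      generalize hC : -(0 : F) + (0 + e) + ⟪(-γ') • z, -((spTransv (a : V) (1 : F)).1 *ᵥ ((-γ') • z))⟫ = C at h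
      refine ⟨C, h.trans ?_⟩
      congr 2
      rw [spTransv_mulVec, one_mul, sympForm_smul_left, hza]
      module
    obtain ⟨c1, k1⟩ := key γ e1 m1 h1
    obtain ⟨c2, k2⟩ := key (g a) e2 m2 h2
    have := reg_inj hreg (Submodule.smul_mem _ _ a.2) (Submodule.smul_mem _ _ a.2) (k1.symm.trans k2)
    have h3 : ((-γ) - (-(g a))) • (a : V) = 0 := by rw [sub_smul, this, sub_self]
    have := (smul_eq_zero.1 h3).resolve_right ha0
    linear_combination -this
  have hsmul : ∀ (t : F) (a : perp2 u v), t ≠ 0 → (a : V) ≠ 0 → g (t • a) = t * g a := by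
    intro t a ht ha0
    refine (huniq _ _ (by simp [ht, ha0]) fun s hs hsa l => ?_).symm
    rw [Submodule.coe_smul, sympForm_smul_right] at hsa
    obtain ⟨e, he⟩ := hg a s hs (mul_left_cancel₀ ht hsa) (t ^ 2 * l)
    exact ⟨e, by rw [Submodule.coe_smul, spTransv_smul, he]⟩
  have hadd' : ∀ a b : perp2 u v, ⟪(a : V), (b : V)⟫ ≠ 0 → g (a + b) = g a + g b := by
    intro a b hab
    have ha0 : (a : V) ≠ 0 := fun h => hab (by rw [h, sympForm_zero_left])
    have hab' : ∀ c : F, (b : V) ≠ c • (a : V) := fun c h => hab (by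
      rw [h, sympForm_smul_right, sympForm_self, mul_zero])
    have hsum0 : ((a + b : perp2 u v) : V) ≠ 0 := fun h => hab' (-1) (by
      rw [Submodule.coe_add] at h
      rw [neg_one_smul]; exact eq_neg_of_add_eq_zero_right h)
    obtain ⟨s, hs, hsa, hsb⟩ := exists_dual_values huv a.2 b.2 hab' (-(g a)) (-(g b)) ha0
    have hsa' : ⟪s, (a : V)⟫ = g a := by rw [sympForm_swap, hsa, neg_neg]
    have hsb' : ⟪s, (b : V)⟫ = g b := by rw [sympForm_swap, hsb, neg_neg]
    refine (huniq _ _ hsum0 fun s' hs' hs'' => ?_).symm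
    have h := zFixed_combine a.2 b.2 (hg a s hs hsa') (hg b s hs hsb') hab 1 1
    rw [one_smul, one_smul] at h
    have hδ : ⟪s' - s, (a : V) + (b : V)⟫ = 0 := by
      rw [sympForm_sub_left, ← Submodule.coe_add, hs'', Submodule.coe_add, sympForm_add_right,
        hsa', hsb', sub_self]
    have h' := zFixed_translate (Submodule.add_mem _ a.2 b.2) (Submodule.sub_mem _ hs' hs) hδ
      (-⟪s, s' - s⟫) h
    rw [← mul_smul, rootEl_mul (mem_perp2.1 (Submodule.sub_mem _ hs' hs)).1 (mem_perp2.1 hs).1,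
      sub_add_cancel, add_zero, neg_add_cancel] at h'
    rw [Submodule.coe_add]; exact h'
  let g' : perp2 u v → F := fun a => if (a : V) = 0 then 0 else g a
  have hg'0 : g' 0 = 0 := by simp [g']
  have hg' : ∀ a : perp2 u v, (a : V) ≠ 0 → g' a = g a := fun a h => by simp only [g', if_neg h]
  obtain ⟨δ, hδ, hδ1⟩ : ∃ δ : F, δ ≠ 0 ∧ δ ≠ -1 := by
    by_contra! h
    have : (Finset.univ : Finset F) ⊆ {0, -1} := fun d _ => by
      rcases eq_or_ne d 0 with rfl | hd
      · simp
      · simp [h d hd]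
    have := (Finset.card_le_card this).trans (Finset.card_le_two)
    rw [Finset.card_univ] at this
    omega
  have hgs : ∀ (t : F) (a : perp2 u v), g' (t • a) = t * g' a := by
    intro t a
    rcases eq_or_ne t 0 with rfl | ht
    · rw [zero_smul, hg'0, zero_mul]
    rcases eq_or_ne (a : V) 0 with ha | ha
    · have : a = 0 := Subtype.ext ha
      rw [this, smul_zero, hg'0, mul_zero]
    · rw [hg' _ (by simp [ht, ha]), hg' _ ha, hsmul t a ht ha]
  have hga : ∀ a b : perp2 u v, g' (a + b) = g' a + g' b := by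
    intro a b
    rcases eq_or_ne (a : V) 0 with ha | ha
    · rw [show a = 0 from Subtype.ext ha, zero_add, hg'0, zero_add]
    rcases eq_or_ne (b : V) 0 with hb | hb
    · rw [show b = 0 from Subtype.ext hb, add_zero, hg'0, add_zero]
    by_cases hdep : ∃ c : F, (b : V) = c • (a : V)
    · obtain ⟨c, hc⟩ := hdep
      rw [show b = c • a from Subtype.ext hc]
      rw [show a + c • a = (1 + c) • a by rw [add_smul, one_smul], hgs, hgs]
      ring
    push Not at hdep
    by_cases hab : ⟪(a : V), (b : V)⟫ = 0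
    swap
    · have h0 : ((a + b : perp2 u v) : V) ≠ 0 := fun h => hdep (-1) (by
        rw [Submodule.coe_add] at h
        rw [neg_one_smul]; exact eq_neg_of_add_eq_zero_right h)
      rw [hg' _ h0, hg' _ ha, hg' _ hb, hadd' a b hab]
    obtain ⟨z, hz, haz, hbz⟩ := exists_dual_values huv a.2 b.2 hdep 1 δ ha
    set z' : perp2 u v := ⟨z, hz⟩
    have hz0 : z ≠ 0 := fun h => by rw [h, sympForm_zero_right] at haz; exact zero_ne_one haz
    have h1 : ⟪((a + z' : perp2 u v) : V), ((b - z' : perp2 u v) : V)⟫ ≠ 0 := by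
      simp only [z', Submodule.coe_add, Submodule.coe_sub, sympForm_add_left, sympForm_sub_right,
        hab, haz, sympForm_self, sympForm_swap (b : V) z, hbz]
      intro h
      exact hδ1 (by linear_combination -h)
    have h2 : ⟪(a : V), (z' : V)⟫ ≠ 0 := by simp [z', haz]
    have h3 : ⟪(b : V), ((-z' : perp2 u v) : V)⟫ ≠ 0 := by
      simp only [z', Submodule.coe_neg, ← neg_one_smul F z, sympForm_smul_right, hbz]
      simpa using hδ
    have n1 : ((a + z' : perp2 u v) : V) ≠ 0 := fun h => h1 (by rw [h, sympForm_zero_left])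
    have n2 : ((b - z' : perp2 u v) : V) ≠ 0 := fun h => h1 (by rw [h, sympForm_zero_right])
    have n3 : ((a + b : perp2 u v) : V) ≠ 0 := fun h => hdep (-1) (by
      rw [Submodule.coe_add] at h
      rw [neg_one_smul]; exact eq_neg_of_add_eq_zero_right h)
    have n4 : ((-z' : perp2 u v) : V) ≠ 0 := by simp [z', hz0]
    rw [hg' _ n3, show a + b = (a + z') + (b - z') by abel, hadd' _ _ h1, hadd' _ _ h2,
      show b - z' = b + (-z') by abel, hadd' _ _ h3, hg' _ ha, hg' _ hb]
    have : g (-z') = -g z' := by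
      rw [← neg_one_smul F z', hsmul (-1) z' (by simp) hz0, neg_one_mul]
    rw [this]; ring
  let L : perp2 u v →ₗ[F] F :=
    { toFun := g', map_add' := hga, map_smul' := fun t a => by rw [hgs]; rfl }
  obtain ⟨L', hL'⟩ := LinearMap.exists_extend L
  obtain ⟨s, hs, hrep⟩ := exists_perp2_repr huv L'
  refine ⟨s, hs, fun a ha => ?_⟩
  rcases eq_or_ne a 0 with rfl | ha0
  · intro l
    refine ⟨0, ?_⟩
    rw [spTransv_zero', spTransv_zero_center]
  refine hg ⟨a, ha⟩ s hs ?_
  rw [hrep a ha, show L' a = L ⟨a, ha⟩ from LinearMap.congr_fun hL' ⟨a, ha⟩]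
  exact hg' ⟨a, ha⟩ ha0

end CfsgLib.MinDegree
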