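import Cfsg.Agent.MinDegree.SympFourFix
import Cfsg.Agent.MinDegree.SympRegular

/-!
# `Sp(4,q)`-points whose root-group stabiliser projects onto a line

If the whole Levi stabiliser of that line keeps the orbit of the point, some point of the orbit
is fixed by a full transvection group.
-/

set_option autoImplicit false

namespace CfsgLib.MinDegree

open Matrix CfsgLib.Forms CfsgLib.Forms4 MulAction

variable {F : Type*} [Field F] [Fintype F] {Ω : Type*}
  [MulAction (Matrix.symplecticGroup (Fin 2) F) Ω]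

local notation "V" => Fin 2 ⊕ Fin 2 → F
local notation "Sp" => Matrix.symplecticGroup (Fin 2) F
local notation "⟪" x ", " y "⟫" => Cfsg.sympForm 2 F x y

theorem plane_coord {u v r r' d : V} (huv : ⟪u, v⟫ = 1) (hr : r ∈ perp2 u v)
    (hr' : r' ∈ perp2 u v) (hrr : ⟪r, r'⟫ = 1) (hd : d ∈ perp2 u v) :
    d = ⟪d, r'⟫ • r + ⟪r, d⟫ • r' := by
  have hr0 : r ≠ 0 := fun h => by rw [h, sympForm_zero_left] at hrr; exact zero_ne_one hrr
  set z := d - (⟪d, r'⟫ • r + ⟪r, d⟫ • r') with hz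
  have hzP : z ∈ perp2 u v := Submodule.sub_mem _ hd
    (Submodule.add_mem _ (Submodule.smul_mem _ _ hr) (Submodule.smul_mem _ _ hr'))
  obtain ⟨c, hc⟩ := perp2_line huv hzP hr hr0 (by
    rw [hz, sympForm_sub_left, sympForm_add_left, sympForm_smul_left, sympForm_smul_left,
      sympForm_self, sympForm_swap r r', hrr, sympForm_swap r d]
    ring)
  have h2 : ⟪z, r'⟫ = 0 := by
    rw [hz, sympForm_sub_left, sympForm_add_left, sympForm_smul_left, sympForm_smul_left,
      sympForm_self, hrr]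
    ring
  rw [hc, sympForm_smul_left, hrr, mul_one] at h2
  rw [h2, zero_smul] at hc
  exact sub_eq_zero.1 hc

/-- Prescribed images of a pair of the complement. -/
theorem exists_plane_elem {u v r r' a a' : V} (huv : ⟪u, v⟫ = 1) (hr : r ∈ perp2 u v)
    (hr' : r' ∈ perp2 u v) (ha : a ∈ perp2 u v) (ha' : a' ∈ perp2 u v) (hrr : ⟪r, r'⟫ = 1)
    (haa : ⟪a, a'⟫ = 1) : ∃ A ∈ fixer u v, A.1 *ᵥ r = a ∧ A.1 *ᵥ r' = a' := by
  obtain ⟨A, hA, h1, h2⟩ := exists_mem_transvGroup_pair (perp2 u v) (fun y hy hy0 => by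
    obtain ⟨z, hz, hyz⟩ := perp2_nondeg huv hy hy0
    exact ⟨z, hz, by rw [hyz]; exact one_ne_zero⟩) hr hr' ha ha' hrr haa
  refine ⟨A, levi_le_fixer u v (Subgroup.closure_mono ?_ hA), h1, h2⟩
  rintro _ ⟨z, hz, c, rfl⟩
  exact ⟨z, hz, c, rfl⟩

theorem fixer_eq {u v r r' : V} (huv : ⟪u, v⟫ = 1) (hr : r ∈ perp2 u v) (hr' : r' ∈ perp2 u v)
    (hrr : ⟪r, r'⟫ = 1) {A B : Sp} (hA : A ∈ fixer u v) (hB : B ∈ fixer u v)
    (h1 : A.1 *ᵥ r = B.1 *ᵥ r) (h2 : A.1 *ᵥ r' = B.1 *ᵥ r') : A = B := by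
  refine sp_ext fun y => ?_
  have hP := proj_mem_perp2 huv y
  have e := plane_coord huv hr hr' hrr hP
  have ey : y = ⟪y, v⟫ • u + (-⟪y, u⟫) • v +
      (⟪y - ⟪y, v⟫ • u + ⟪y, u⟫ • v, r'⟫ • r + ⟪r, y - ⟪y, v⟫ • u + ⟪y, u⟫ • v⟫ • r') := by
    rw [← e]; module
  rw [ey]
  simp only [Matrix.mulVec_add, Matrix.mulVec_smul, hA.1, hA.2, hB.1, hB.2, h1, h2]

theorem exists_sq_ne_one (hq : 4 ≤ Fintype.card F) : ∃ t : F, t ≠ 0 ∧ t ^ 2 ≠ 1 := by
  classical
  by_contra! h
  have hsub : (Finset.univ : Finset F) ⊆ {0, 1, -1} := fun d _ => by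
    rcases eq_or_ne d 0 with rfl | hd
    · simp
    · rcases sq_eq_one_iff.1 (h d hd) with rfl | rfl <;> simp
  have := (Finset.card_le_card hsub).trans Finset.card_le_three
  rw [Finset.card_univ] at this
  omega

/-- Two translates of a point agree only modulo the projected stabiliser. -/
theorem proj_diff {u v w w' : V} (hw : w ∈ perp2 u v) (hw' : w' ∈ perp2 u v) {x : Ω} {e e' : F}
    (h : rootEl u w e • x = rootEl u w' e' • x) : ∃ c, RootFix u v x (-w' + w) c := by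
  have h1 : ⟪-w', u⟫ = 0 := by rw [sympForm_neg_left, (mem_perp2.1 hw').1, neg_zero]
  refine ⟨-e' + e + ⟪w, -w'⟫, Submodule.add_mem _ (Submodule.neg_mem _ hw') hw, ?_⟩
  rw [← rootEl_mul h1 (mem_perp2.1 hw).1, ← rootEl_inv (mem_perp2.1 hw').1, mul_smul, h,
    inv_smul_smul]

/-- The line case. -/
theorem line_case {u v r r' : V} [Finite Ω] (huv : ⟪u, v⟫ = 1) (hq : 4 ≤ Fintype.card F)
    (hr : r ∈ perp2 u v) (hr' : r' ∈ perp2 u v) (hrr : ⟪r, r'⟫ = 1) {x : Ω}
    (hline : ∀ w : perp2 u v, w ∈ rootProj u v x ↔ ∃ t : F, (w : V) = t • r)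
    (hmov : ZMoved u x) (hz : (2 : F) = 0 → ∀ c ∈ centFix u x, c = 0)
    (hkeep : ∀ A ∈ fixer u v, (∃ s : F, A.1 *ᵥ r = s • r) → A • x ∈ rootOrb u v x)
    (hf : ∀ z : Ω, ¬ RootFixed z r) : False := by
  classical
  obtain ⟨L, hL0, hL1⟩ := exists_sq_ne_one hq
  have hL : L⁻¹ - 1 ≠ 0 := fun h => hL1 (by
    rw [sub_eq_zero, inv_eq_one] at h; rw [h, one_pow])
  have htor : ∀ t : F, t ≠ 0 → ∃ A ∈ fixer u v, A.1 *ᵥ r = t • r ∧ A.1 *ᵥ r' = t⁻¹ • r' :=
    fun t ht => exists_plane_elem huv hr hr' (Submodule.smul_mem _ t hr)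
      (Submodule.smul_mem _ t⁻¹ hr') hrr (by
        rw [sympForm_smul_left, sympForm_smul_right, hrr, mul_one, mul_inv_cancel₀ ht])
  -- the new base point
  obtain ⟨A, hA, hAr, hAr'⟩ := htor L hL0
  obtain ⟨d₀, hd₀, e₀, hde₀⟩ := mem_rootOrb.1 (hkeep A hA ⟨L, hAr⟩)
  obtain ⟨s, hs⟩ : ∃ s, s = (-⟪r, d₀⟫ / (L⁻¹ - 1)) • r' := ⟨_, rfl⟩
  have hsP : s ∈ perp2 u v := hs ▸ Submodule.smul_mem _ _ hr'
  obtain ⟨y, hy⟩ : ∃ y, y = rootEl u s (0 : F) • x := ⟨_, rfl⟩
  have hliney : ∀ w : perp2 u v, w ∈ rootProj u v y ↔ ∃ t : F, (w : V) = t • r := by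
    intro w; rw [hy, rootProj_translate hsP]; exact hline w
  have hcy : centFix u y = centFix u x := by
    rw [hy]; exact centFix_translate (mem_perp2.1 hsP).1 0 x
  have hshift : ∀ {B : Sp}, B ∈ fixer u v → ∀ {d : V}, d ∈ perp2 u v → ∀ {e : F},
      rootEl u d e • x = B • x → ∃ E, rootEl u (B.1 *ᵥ s + d + -s) E • y = B • y := by
    intro B hB d hd e he
    have h1 : ⟪B.1 *ᵥ s + d, u⟫ = 0 :=
      (mem_perp2.1 (Submodule.add_mem _ (fixer_map_perp2 hB hsP) hd)).1
    have h2 : ⟪-s, u⟫ = 0 := by rw [sympForm_neg_left, (mem_perp2.1 hsP).1, neg_zero]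
    refine ⟨0 + e + ⟪d, B.1 *ᵥ s⟫ + -0 + ⟪-s, B.1 *ᵥ s + d⟫, ?_⟩
    rw [← rootEl_mul h1 h2, ← rootEl_inv (mem_perp2.1 hsP).1, mul_smul, hy, inv_smul_smul,
      fixer_smul_rootEl hB, ← he, ← mul_smul,
      rootEl_mul (mem_perp2.1 (fixer_map_perp2 hB hsP)).1 (mem_perp2.1 hd).1]
  have habsorb : ∀ {d : V}, d ∈ perp2 u v → ∀ e : F, ∃ E : F,
      rootEl u d e • y = rootEl u (⟪r, d⟫ • r') E • y := by
    intro d hd e
    obtain ⟨c, hc⟩ := mem_rootProj.1
      ((hliney ⟨⟪d, r'⟫ • r, Submodule.smul_mem _ _ hr⟩).2 ⟨_, rfl⟩)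
    refine ⟨e - c - ⟪⟪d, r'⟫ • r, ⟪r, d⟫ • r'⟫, ?_⟩
    have h1 : ⟪⟪r, d⟫ • r', u⟫ = 0 := by rw [sympForm_smul_left, (mem_perp2.1 hr').1, mul_zero]
    have h2 : ⟪⟪d, r'⟫ • r, u⟫ = 0 := by rw [sympForm_smul_left, (mem_perp2.1 hr).1, mul_zero]
    conv_rhs => rw [← hc.2]
    rw [← mul_smul, rootEl_mul h1 h2]
    have e1 : ⟪r, d⟫ • r' + ⟪d, r'⟫ • r = d := by
      rw [add_comm]; exact (plane_coord huv hr hr' hrr hd).symm
    rw [e1]
    congr 2
    ring
  have hmain : ∀ {B : Sp}, B ∈ fixer u v → (∃ t : F, B.1 *ᵥ r = t • r) →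
      ∃ δ E : F, B • y = rootEl u (δ • r') E • y := by
    intro B hB hBr
    obtain ⟨d, hd, e, he⟩ := mem_rootOrb.1 (hkeep B hB hBr)
    obtain ⟨E, hE⟩ := hshift hB hd he
    obtain ⟨E', hE'⟩ := habsorb (Submodule.add_mem _ (Submodule.add_mem _
      (fixer_map_perp2 hB hsP) hd) (Submodule.neg_mem _ hsP)) E
    exact ⟨_, E', hE.symm.trans hE'⟩
  obtain ⟨eA, heA⟩ : ∃ e : F, A • y = spTransv u e • y := by
    obtain ⟨E, hE⟩ := hshift hA hd₀ hde₀
    obtain ⟨E', hE'⟩ := habsorb (Submodule.add_mem _ (Submodule.add_mem _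
      (fixer_map_perp2 hA hsP) hd₀) (Submodule.neg_mem _ hsP)) E
    have e0 : ⟪r, A.1 *ᵥ s + d₀ + -s⟫ = 0 := by
      rw [sympForm_add_right, sympForm_add_right, hs, Matrix.mulVec_smul, hAr',
        ← neg_one_smul F (_ • r'), sympForm_smul_right, sympForm_smul_right, sympForm_smul_right,
        sympForm_smul_right, hrr]
      linear_combination div_mul_cancel₀ (-⟪r, d₀⟫) hL
    rw [e0, zero_smul, rootEl_zero] at hE'
    exact ⟨E', hE.symm.trans hE'⟩
  -- all torus elements are central at the point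
  have htorus : ∀ t : F, t ≠ 0 → ∃ B ∈ fixer u v, B.1 *ᵥ r = t • r ∧ B.1 *ᵥ r' = t⁻¹ • r' ∧
      ∃ e : F, B • y = spTransv u e • y := by
    intro t ht
    obtain ⟨B, hB, hBr, hBr'⟩ := htor t ht
    obtain ⟨δ, E, hδ⟩ := hmain hB ⟨t, hBr⟩
    have hcomm : A * B = B * A := fixer_eq huv hr hr' hrr (mul_mem hA hB) (mul_mem hB hA)
      (by simp only [sp_mul_mulVec, hAr, hBr, Matrix.mulVec_smul, smul_smul, mul_comm])
      (by simp only [sp_mul_mulVec, hAr', hBr', Matrix.mulVec_smul, smul_smul, mul_comm])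
    have h := congrArg (· • y) hcomm
    simp only [mul_smul] at h
    have hδu : ⟪δ • r', u⟫ = 0 := by rw [sympForm_smul_left, (mem_perp2.1 hr').1, mul_zero]
    rw [hδ, fixer_smul_rootEl hA, heA, fixer_smul_transv hB, hδ, ← mul_smul, ← mul_smul,
      central_mul_rootEl hδu,
      rootEl_add_central (mem_perp2.1 (fixer_map_perp2 hA (Submodule.smul_mem _ δ hr'))).1] at h
    obtain ⟨c, hc⟩ := proj_diff (fixer_map_perp2 hA (Submodule.smul_mem _ δ hr'))
      (Submodule.smul_mem _ δ hr') h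
    obtain ⟨a, ha⟩ := (hliney ⟨_, hc.1⟩).1 (mem_rootProj.2 ⟨c, hc⟩)
    have ha' := congrArg (fun z => ⟪r, z⟫) ha
    simp only [Matrix.mulVec_smul, hAr', sympForm_add_right, ← neg_one_smul F (δ • r'),
      sympForm_smul_right, sympForm_self, hrr, mul_one, mul_zero] at ha'
    obtain rfl : δ = 0 := (mul_eq_zero.1 (show δ * (L⁻¹ - 1) = 0 by
      linear_combination ha')).resolve_right hL
    exact ⟨B, hB, hBr, hBr', E, by rw [hδ, zero_smul, rootEl_zero]⟩
  -- the lifts of the line are short root elements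
  have hshort : ∀ t : F, RootFix u v y (t • r) 0 := by
    intro t
    set z := t / (L - 1) with hz'
    obtain ⟨B, hB, hBr, -, e, he⟩ := htorus L hL0
    obtain ⟨c, hc⟩ := mem_rootProj.1
      ((hliney ⟨z • r, Submodule.smul_mem _ _ hr⟩).2 ⟨_, rfl⟩)
    have h2 := (rootFix_fixer hB y _ c).2 hc
    rw [he, ← rootEl_zero, rootFix_translate (Submodule.zero_mem _), sympForm_zero_left, mul_zero,
      add_zero, Matrix.mulVec_smul, hBr, smul_smul] at h2
    have hL' : L - 1 ≠ 0 := fun h => hL1 (by rw [sub_eq_zero.1 h, one_pow])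
    have hzu : ⟪z • r, u⟫ = 0 := (mem_perp2.1 hc.1).1
    refine ⟨Submodule.smul_mem _ _ hr, ?_⟩
    have e1 : rootEl u (t • r) (0 : F) = rootEl u ((z * L) • r) c * (rootEl u (z • r) c)⁻¹ := by
      rw [rootEl_inv hzu, rootEl_mul (mem_perp2.1 h2.1).1
        (by rw [sympForm_neg_left, hzu, neg_zero]), sympForm_neg_left, sympForm_smul_left,
        sympForm_smul_right, sympForm_self]
      congr 1
      · rw [← neg_smul, ← add_smul]
        congr 1
        rw [hz']; field_simp; ring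
      · ring
    rw [e1, mul_smul, inv_smul_eq_iff.2 hc.2.symm, h2.2]
  -- the transvections of the line are central
  have hT : ∀ l : F, ∃ e : F, spTransv r l • y = spTransv u e • y := by
    intro l
    have hTf : spTransv r l ∈ fixer u v := levi_le_fixer u v (spTransv_mem_levi hr l)
    have hTr : (spTransv r l).1 *ᵥ r = r := transv_mulVec_fix (sympForm_self r) l
    obtain ⟨δ, E, hδ⟩ := hmain hTf ⟨1, by rw [hTr, one_smul]⟩
    suffices h0 : δ = 0 by exact ⟨E, by rw [hδ, h0, zero_smul, rootEl_zero]⟩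
    have hδP : δ • r' ∈ perp2 u v := Submodule.smul_mem _ _ hr'
    by_cases h2 : (2 : F) = 0
    · have hTr' : (spTransv r l).1 *ᵥ r' = r' + (-l) • r := by
        rw [spTransv_mulVec, sympForm_swap r r', hrr]; module
      have hTT : spTransv r l * spTransv r l = 1 := by
        rw [← spTransv_add, show l + l = 0 by linear_combination l * h2, spTransv_zero']
      have h := congrArg (· • y) hTT
      simp only [mul_smul, one_smul] at h
      have hP' := fixer_map_perp2 hTf hδP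
      rw [hδ, fixer_smul_rootEl hTf, hδ, ← mul_smul, rootEl_mul (mem_perp2.1 hP').1
        (mem_perp2.1 hδP).1] at h
      have hRF : RootFix u v y ((spTransv r l).1 *ᵥ (δ • r') + δ • r')
          (E + E + ⟪δ • r', (spTransv r l).1 *ᵥ (δ • r')⟫) :=
        ⟨Submodule.add_mem _ hP' hδP, h⟩
      have e1 : (spTransv r l).1 *ᵥ (δ • r') + δ • r' = (-(δ * l)) • r := by
        have e2 : (2 : F) • (δ • r') = 0 := by rw [h2, zero_smul]
        rw [Matrix.mulVec_smul, hTr', ← sub_eq_zero, ← e2]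
        module
      rw [e1] at hRF
      have h3 := hz h2 _ (by rw [← hcy]; exact rootFix_sub hRF (hshort _))
      rw [sub_zero, Matrix.mulVec_smul, hTr', sympForm_smul_left, sympForm_smul_right,
        sympForm_add_right, sympForm_smul_right, sympForm_self, sympForm_swap r r', hrr] at h3
      have h4 : δ ^ 2 * l = 0 := by linear_combination h3 - E * h2
      rcases eq_or_ne l 0 with rfl | hl
      · rw [spTransv_zero', one_smul] at hδ
        have h5 : rootEl u (δ • r') E • y = rootEl u 0 (0 : F) • y := by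
          rw [rootEl_zero_zero, one_smul]; exact hδ.symm
        obtain ⟨c, hc⟩ := proj_diff hδP (Submodule.zero_mem _) h5
        obtain ⟨a, ha⟩ := (hliney ⟨_, hc.1⟩).1 (mem_rootProj.2 ⟨c, hc⟩)
        have := congrArg (fun z => ⟪r, z⟫) ha
        simpa [sympForm_smul_right, sympForm_self, hrr] using this
      · exact eq_zero_of_pow_eq_zero ((mul_eq_zero.1 h4).resolve_right hl)
    · by_contra hδ0
      obtain ⟨c, hc⟩ := hmov
      refine hc ?_
      change c ∈ centFix u x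
      rw [← hcy]
      have h := (rootFix_fixer hTf y _ 0).2 (hshort (-c / (2 * δ)))
      rw [Matrix.mulVec_smul, hTr, hδ, rootFix_translate hδP] at h
      have h3 := rootFix_sub h (hshort _)
      rw [sub_zero, sympForm_smul_left, sympForm_smul_right, sympForm_swap r r', hrr] at h3
      convert h3 using 1
      field_simp
      ring
  -- they fix the point
  refine hf y fun c => ?_
  obtain ⟨l, rfl⟩ : ∃ l, c = L ^ 2 * l - l :=
    ⟨c / (L ^ 2 - 1), by field_simp [sub_ne_zero.2 hL1]⟩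
  obtain ⟨e, he⟩ := hT l
  have hTf : spTransv r l ∈ fixer u v := levi_le_fixer u v (spTransv_mem_levi hr l)
  have hAi : A⁻¹ • y = spTransv u (-eA) • y := by
    rw [inv_smul_eq_iff, fixer_smul_transv hA, heA, ← mul_smul, ← spTransv_add, neg_add_cancel,
      spTransv_zero', one_smul]
  have h1 : spTransv r (L ^ 2 * l) • y = spTransv u e • y := by
    rw [← spTransv_smul, ← hAr, ← conj_spTransv, mul_smul, mul_smul, hAi, fixer_smul_transv hTf,
      he, fixer_smul_transv hA, fixer_smul_transv hA, heA, ← mul_smul, ← mul_smul, ← spTransv_add,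
      ← spTransv_add]
    congr 2
    ring
  have h2 : spTransv r (-l) • y = spTransv u (-e) • y := by
    have e1 : spTransv r (-l) = (spTransv r l)⁻¹ := eq_inv_of_mul_eq_one_left (by
      rw [← spTransv_add, neg_add_cancel, spTransv_zero'])
    rw [e1, inv_smul_eq_iff, fixer_smul_transv hTf, he, ← mul_smul, ← spTransv_add,
      neg_add_cancel, spTransv_zero', one_smul]
  rw [sub_eq_add_neg, spTransv_add, mul_smul, h2,
    fixer_smul_transv (levi_le_fixer u v (spTransv_mem_levi hr _)), h1, ← mul_smul,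
    ← spTransv_add, neg_add_cancel, spTransv_zero', one_smul]

end CfsgLib.MinDegree
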