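import Cfsg.Agent.Forms4.SymplecticSimple

/-!
# The root group of a point of a symplectic space

For a vector `u`, `rootEl u w c` (`w ⊥ u`) is `x ↦ x + f(x,w) u + f(x,u) w + c f(x,u) u`.
For a hyperbolic pair `u, v` the subspace `perp2 u v` is a complement of `⟨u, v⟩`, and `levi u v`
is generated by the transvections with centre in it.
-/

set_option autoImplicit false

namespace CfsgLib.MinDegree

open Matrix CfsgLib.Forms CfsgLib.Forms4

variable {F : Type*} [Field F] {m : ℕ}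

local notation "V" => Fin m ⊕ Fin m → F
local notation "Sp" => Matrix.symplecticGroup (Fin m) F
local notation "⟪" x ", " y "⟫" => Cfsg.sympForm m F x y

theorem sympForm_zero_left (x : V) : ⟪0, x⟫ = 0 := by simp [Cfsg.sympForm]

theorem sympForm_zero_right (x : V) : ⟪x, 0⟫ = 0 := by simp [Cfsg.sympForm]

theorem sympForm_sub_left (x u w : V) : ⟪u - w, x⟫ = ⟪u, x⟫ - ⟪w, x⟫ := by
  rw [← sympBilin_apply, map_sub, LinearMap.sub_apply, sympBilin_apply, sympBilin_apply]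

theorem sympForm_sub_right (x u w : V) : ⟪x, u - w⟫ = ⟪x, u⟫ - ⟪x, w⟫ := by
  rw [← sympBilin_apply, map_sub, sympBilin_apply, sympBilin_apply]

theorem sympForm_neg_left (x u : V) : ⟪-u, x⟫ = -⟪u, x⟫ := by
  rw [← sympBilin_apply, map_neg, LinearMap.neg_apply, sympBilin_apply]

theorem sp_mul_mulVec (A B : Sp) (x : V) : (A * B).1 *ᵥ x = A.1 *ᵥ (B.1 *ᵥ x) := by
  rw [Submonoid.coe_mul, Matrix.mulVec_mulVec]

theorem sp_one_mulVec (x : V) : (1 : Sp).1 *ᵥ x = x := by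
  rw [Submonoid.coe_one, Matrix.one_mulVec]

theorem sp_inv_mulVec_self (A : Sp) (x : V) : (A⁻¹).1 *ᵥ (A.1 *ᵥ x) = x := by
  rw [← sp_mul_mulVec, inv_mul_cancel, sp_one_mulVec]

theorem sp_mulVec_inv_self (A : Sp) (x : V) : A.1 *ᵥ ((A⁻¹).1 *ᵥ x) = x := by
  rw [← sp_mul_mulVec, mul_inv_cancel, sp_one_mulVec]

/-- Root elements at `u`. -/
noncomputable def rootEl (u w : V) (c : F) : Sp :=
  spTransv (u + w) 1 * spTransv u (c - 1) * spTransv w (-1)

theorem rootEl_mulVec {u w : V} (h : ⟪w, u⟫ = 0) (c : F) (x : V) :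
    (rootEl u w c).1 *ᵥ x = x + ⟪x, w⟫ • u + ⟪x, u⟫ • w + (c * ⟪x, u⟫) • u := by
  have h' : ⟪u, w⟫ = 0 := by rw [sympForm_swap, h, neg_zero]
  simp only [rootEl, sp_mul_mulVec, spTransv_mulVec, sympForm_add_left, sympForm_add_right,
    sympForm_smul_left, sympForm_self, h, h', mul_zero, add_zero]
  module

theorem rootEl_zero (u : V) (c : F) : rootEl u 0 c = spTransv u c := by
  refine sp_ext fun x => ?_
  rw [rootEl_mulVec (sympForm_zero_left u), spTransv_mulVec, sympForm_zero_right]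
  module

theorem rootEl_mul {u w w' : V} (h : ⟪w, u⟫ = 0) (h' : ⟪w', u⟫ = 0) (c c' : F) :
    rootEl u w c * rootEl u w' c' = rootEl u (w + w') (c + c' + ⟪w', w⟫) := by
  have hw : ⟪w + w', u⟫ = 0 := by rw [sympForm_add_left, h, h', add_zero]
  have h'' : ⟪u, w⟫ = 0 := by rw [sympForm_swap, h, neg_zero]
  refine sp_ext fun x => ?_
  simp only [sp_mul_mulVec, rootEl_mulVec h, rootEl_mulVec h', rootEl_mulVec hw,
    sympForm_add_left, sympForm_add_right, sympForm_smul_left, sympForm_self, h', h'', mul_zero,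
    add_zero]
  module

theorem conj_rootEl (A : Sp) (u w : V) (c : F) :
    A * rootEl u w c * A⁻¹ = rootEl (A.1 *ᵥ u) (A.1 *ᵥ w) c := by
  simp only [rootEl, ← Matrix.mulVec_add, ← conj_spTransv]
  group

/-- The orthogonal complement of the pair `u, v`. -/
def perp2 (u v : V) : Submodule F V where
  carrier := {x | ⟪x, u⟫ = 0 ∧ ⟪x, v⟫ = 0}
  zero_mem' := ⟨sympForm_zero_left u, sympForm_zero_left v⟩
  add_mem' ha hb := ⟨by rw [sympForm_add_left, ha.1, hb.1, add_zero],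
    by rw [sympForm_add_left, ha.2, hb.2, add_zero]⟩
  smul_mem' c x hx := ⟨by rw [sympForm_smul_left, hx.1, mul_zero],
    by rw [sympForm_smul_left, hx.2, mul_zero]⟩

theorem mem_perp2 {u v x : V} : x ∈ perp2 u v ↔ ⟪x, u⟫ = 0 ∧ ⟪x, v⟫ = 0 := Iff.rfl

theorem sympForm_vu {u v : V} (huv : ⟪u, v⟫ = 1) : ⟪v, u⟫ = -1 := by rw [sympForm_swap, huv]

theorem proj_mem_perp2 {u v : V} (huv : ⟪u, v⟫ = 1) (x : V) : x - ⟪x, v⟫ • u + ⟪x, u⟫ • v ∈ perp2 u v := by
  constructor <;>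
    simp only [sympForm_add_left, sympForm_sub_left, sympForm_smul_left, sympForm_self, huv,
      sympForm_vu huv] <;> ring

theorem sympForm_proj {u v : V} (huv : ⟪u, v⟫ = 1) {x y : V} (hx : x ∈ perp2 u v) :
    ⟪x, y - ⟪y, v⟫ • u + ⟪y, u⟫ • v⟫ = ⟪x, y⟫ := by
  simp only [sympForm_add_right, sympForm_sub_right, sympForm_smul_right, hx.1, hx.2]
  ring

theorem perp2_nondeg {u v : V} (huv : ⟪u, v⟫ = 1) {x : V} (hx : x ∈ perp2 u v) (hx0 : x ≠ 0) :
    ∃ z ∈ perp2 u v, ⟪x, z⟫ = 1 := by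
  obtain ⟨z, hz⟩ : ∃ z, ⟪x, z⟫ ≠ 0 := by
    by_contra! h
    exact hx0 (sympForm_sep x h)
  refine ⟨⟪x, z⟫⁻¹ • (z - ⟪z, v⟫ • u + ⟪z, u⟫ • v),
    Submodule.smul_mem _ _ (proj_mem_perp2 huv z), ?_⟩
  rw [sympForm_smul_right, sympForm_proj huv hx, inv_mul_cancel₀ hz]

theorem perp2_sep {u v : V} (huv : ⟪u, v⟫ = 1) {x : V} (hx : x ∈ perp2 u v) (h : ∀ z ∈ perp2 u v, ⟪x, z⟫ = 0) : x = 0 := by
  by_contra hx0
  obtain ⟨z, hz, hz1⟩ := perp2_nondeg huv hx hx0
  exact zero_ne_one ((h z hz).symm.trans hz1)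

/-- A linear form is given by a unique vector of the complement, on the complement. -/
theorem exists_perp2_repr {u v : V} (huv : ⟪u, v⟫ = 1) (g : V →ₗ[F] F) :
    ∃ r ∈ perp2 u v, ∀ x ∈ perp2 u v, ⟪r, x⟫ = g x := by
  obtain ⟨r, hr⟩ : ∃ r, sympBilin m F r = g :=
    ⟨((sympBilin m F).toDual sympBilin_nondegenerate).symm g, LinearMap.ext fun x =>
      LinearMap.BilinForm.apply_toDual_symm_apply _ _⟩
  refine ⟨_, proj_mem_perp2 huv r, fun x hx => ?_⟩
  rw [sympForm_swap, sympForm_proj huv hx, ← hr, sympBilin_apply, sympForm_swap r x, neg_neg]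

theorem card_perp2 {u v : V} (huv : ⟪u, v⟫ = 1) [Fintype F] :
    Nat.card (perp2 u v) = Fintype.card F ^ (2 * m - 2) := by
  let g : V →+ F × F :=
    { toFun := fun x => (⟪x, u⟫, ⟪x, v⟫)
      map_zero' := by rw [sympForm_zero_left, sympForm_zero_left]; rfl
      map_add' := fun x y => by rw [sympForm_add_left, sympForm_add_left]; rfl }
  have hsurj : Function.Surjective g := fun ⟨a, b⟩ => ⟨b • u - a • v, by
    change (⟪b • u - a • v, u⟫, ⟪b • u - a • v, v⟫) = (a, b)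
    simp [sympForm_sub_left, sympForm_smul_left, sympForm_self, huv, sympForm_vu huv]⟩
  have hker : (perp2 u v).toAddSubgroup = g.ker :=
    AddSubgroup.ext fun x => (Prod.mk_eq_zero (x := ⟪x, u⟫) (y := ⟪x, v⟫)).symm
  have h := g.ker.index_mul_card
  rw [AddSubgroup.index_ker, AddMonoidHom.range_eq_top.2 hsurj, AddSubgroup.card_top,
    Nat.card_prod, ← hker, Nat.card_eq_fintype_card (α := V), Fintype.card_fun, Fintype.card_sum,
    Fintype.card_fin, Nat.card_eq_fintype_card (α := F)] at h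
  change Fintype.card F * Fintype.card F * Nat.card (perp2 u v) = _ at h
  have hm : 1 ≤ m := by
    rcases Nat.eq_zero_or_pos m with rfl | h0
    · simp [sympForm_eq_sum] at huv
    · exact h0
  apply Nat.eq_of_mul_eq_mul_left (Nat.mul_pos Fintype.card_pos Fintype.card_pos) (n := Fintype.card F * Fintype.card F)
  rw [h, ← sq, ← pow_add]
  congr 1
  omega


/-- The transvections with centre in the complement of `u, v`. -/
noncomputable def levi (u v : V) : Subgroup Sp :=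
  transvGroup ((perp2 u v : Submodule F V) : Set V)

theorem spTransv_mem_levi {u v a : V} (ha : a ∈ perp2 u v) (c : F) : spTransv a c ∈ levi u v :=
  mem_transvGroup ha c

theorem levi_fix_left {u v : V} {A : Sp} (hA : A ∈ levi u v) : A.1 *ᵥ u = u :=
  transvGroup_fix hA fun w hw => by rw [sympForm_swap, (mem_perp2.1 hw).1, neg_zero]

theorem levi_fix_right {u v : V} {A : Sp} (hA : A ∈ levi u v) : A.1 *ᵥ v = v :=
  transvGroup_fix hA fun w hw => by rw [sympForm_swap, (mem_perp2.1 hw).2, neg_zero]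

theorem levi_map_perp2 {u v : V} {A : Sp} (hA : A ∈ levi u v) {x : V} (hx : x ∈ perp2 u v) :
    A.1 *ᵥ x ∈ perp2 u v := by
  constructor
  · rw [← levi_fix_left hA, sympForm_map]; exact hx.1
  · rw [← levi_fix_right hA, sympForm_map]; exact hx.2

theorem conj_rootEl_levi {u v : V} {A : Sp} (hA : A ∈ levi u v) (w : V) (c : F) :
    A * rootEl u w c * A⁻¹ = rootEl u (A.1 *ᵥ w) c := by
  rw [conj_rootEl, levi_fix_left hA]

/-- The Levi subgroup is transitive on the nonzero vectors of the complement. -/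
theorem exists_levi_mulVec_eq {u v a b : V} (huv : ⟪u, v⟫ = 1) (ha : a ∈ perp2 u v)
    (hb : b ∈ perp2 u v) (ha0 : a ≠ 0) (hb0 : b ≠ 0) : ∃ A ∈ levi u v, A.1 *ᵥ a = b := by
  obtain ⟨a', ha', hab⟩ := perp2_nondeg huv ha ha0
  obtain ⟨b', hb', hbb⟩ := perp2_nondeg huv hb hb0
  obtain ⟨A, hA, hAa, -⟩ := exists_mem_transvGroup_pair (perp2 u v)
    (fun x hx hx0 => by
      obtain ⟨z, hz, hz1⟩ := perp2_nondeg huv hx hx0
      exact ⟨z, hz, hz1 ▸ one_ne_zero⟩) ha ha' hb hb' hab hbb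
  exact ⟨A, hA, hAa⟩

/-- Every nonzero vector starts a hyperbolic pair. -/
theorem exists_pair {u : V} (hu : u ≠ 0) : ∃ v, ⟪u, v⟫ = 1 := by
  obtain ⟨z, hz, -⟩ := exists_sympForm_ne_zero_two hu hu
  exact ⟨⟪u, z⟫⁻¹ • z, by rw [sympForm_smul_right, inv_mul_cancel₀ hz]⟩

end CfsgLib.MinDegree
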