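import Cfsg.Agent.MinDegree.SympTwoRoot
import Cfsg.Agent.MinDegree.Pairing

/-!
# The root group of a point of a symplectic space acting on a set

`rootProj u v x` is the projection to the complement of the stabiliser of `x` in the root group at
`u`, and `centFix u x` is the stabiliser in the transvection group at `u`.
-/

set_option autoImplicit false

namespace CfsgLib.MinDegree

open Matrix CfsgLib.Forms CfsgLib.Forms4 MulAction

variable {F : Type*} [Field F] [Fintype F] {m : ℕ} {Ω : Type*}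
  [MulAction (Matrix.symplecticGroup (Fin m) F) Ω]

local notation "V" => Fin m ⊕ Fin m → F
local notation "Sp" => Matrix.symplecticGroup (Fin m) F
local notation "⟪" x ", " y "⟫" => Cfsg.sympForm m F x y

theorem spTransv_zero' (w : V) : spTransv w (0 : F) = 1 :=
  sp_ext fun y => by rw [spTransv_mulVec, sp_one_mulVec, zero_mul, zero_smul, add_zero]

theorem rootEl_zero_zero (u : V) : rootEl u 0 (0 : F) = 1 := by rw [rootEl_zero, spTransv_zero']

theorem rootEl_inv {u w : V} (h : ⟪w, u⟫ = 0) (c : F) :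
    (rootEl u w c)⁻¹ = rootEl u (-w) (-c) := by
  have h' : ⟪-w, u⟫ = 0 := by rw [sympForm_neg_left, h, neg_zero]
  rw [inv_eq_of_mul_eq_one_right]
  rw [rootEl_mul h h', add_neg_cancel, add_neg_cancel, sympForm_neg_left, sympForm_self, neg_zero,
    add_zero, rootEl_zero_zero]

theorem rootEl_add_central {u w : V} (h : ⟪w, u⟫ = 0) (c d : F) :
    rootEl u w c * spTransv u d = rootEl u w (c + d) := by
  rw [← rootEl_zero, rootEl_mul h (sympForm_zero_left u), sympForm_zero_left, add_zero, add_zero]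

theorem central_mul_rootEl {u w : V} (h : ⟪w, u⟫ = 0) (c d : F) :
    spTransv u d * rootEl u w c = rootEl u w (c + d) := by
  rw [← rootEl_zero, rootEl_mul (sympForm_zero_left u) h, sympForm_zero_right, add_zero, zero_add,
    add_comm]

theorem rootEl_conj {u a w : V} (ha : ⟪a, u⟫ = 0) (hw : ⟪w, u⟫ = 0) (b c : F) :
    (rootEl u a b)⁻¹ * rootEl u w c * rootEl u a b = rootEl u w (c + 2 * ⟪a, w⟫) := by
  have ha' : ⟪-a, u⟫ = 0 := by rw [sympForm_neg_left, ha, neg_zero]
  have haw : ⟪-a + w, u⟫ = 0 := by rw [sympForm_add_left, ha', hw, add_zero]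
  rw [rootEl_inv ha, rootEl_mul ha' hw, rootEl_mul haw ha]
  congr 1
  · abel
  · rw [← neg_one_smul F a, sympForm_smul_right, sympForm_add_right, sympForm_smul_right,
      sympForm_self, sympForm_swap a w]
    ring

/-- The elements fixing both vectors of a pair. -/
def fixer (u v : V) : Subgroup Sp where
  carrier := {A | A.1 *ᵥ u = u ∧ A.1 *ᵥ v = v}
  one_mem' := ⟨sp_one_mulVec u, sp_one_mulVec v⟩
  mul_mem' ha hb := ⟨by rw [sp_mul_mulVec, hb.1, ha.1], by rw [sp_mul_mulVec, hb.2, ha.2]⟩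
  inv_mem' {A} ha := ⟨by conv_lhs => rw [← ha.1]; rw [sp_inv_mulVec_self],
    by conv_lhs => rw [← ha.2]; rw [sp_inv_mulVec_self]⟩

theorem levi_le_fixer (u v : V) : levi u v ≤ fixer u v :=
  fun _ hA => ⟨levi_fix_left hA, levi_fix_right hA⟩

theorem fixer_map_perp2 {u v : V} {A : Sp} (hA : A ∈ fixer u v) {x : V} (hx : x ∈ perp2 u v) :
    A.1 *ᵥ x ∈ perp2 u v := by
  constructor
  · rw [← hA.1, sympForm_map]; exact hx.1
  · rw [← hA.2, sympForm_map]; exact hx.2

theorem conj_rootEl_fixer {u v : V} {A : Sp} (hA : A ∈ fixer u v) (w : V) (c : F) :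
    A * rootEl u w c * A⁻¹ = rootEl u (A.1 *ᵥ w) c := by rw [conj_rootEl, hA.1]

theorem fixer_comm {u v : V} {A : Sp} (hA : A ∈ fixer u v) (c : F) :
    A * spTransv u c = spTransv u c * A := by
  rw [← mul_inv_eq_iff_eq_mul, conj_spTransv, hA.1]

theorem rootFix_fixer {u v : V} {A : Sp} (hA : A ∈ fixer u v) (x : Ω) (w : V) (c : F) :
    RootFix u v (A • x) (A.1 *ᵥ w) c ↔ RootFix u v x w c := by
  have h1 : A.1 *ᵥ w ∈ perp2 u v ↔ w ∈ perp2 u v := ⟨fun h => by
    rw [← sp_inv_mulVec_self A w]; exact fixer_map_perp2 (inv_mem hA) h, fixer_map_perp2 hA⟩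
  rw [RootFix, RootFix, h1, ← conj_rootEl_fixer hA, mul_smul, inv_smul_smul, mul_smul,
    smul_left_cancel_iff]

theorem rootFix_translate {u v a : V} (ha : a ∈ perp2 u v) (b : F) (x : Ω) (w : V) (c : F) :
    RootFix u v (rootEl u a b • x) w c ↔ RootFix u v x w (c + 2 * ⟪a, w⟫) := by
  refine and_congr_right fun hw => ?_
  rw [← rootEl_conj (mem_perp2.1 ha).1 (mem_perp2.1 hw).1 b c, mul_smul, mul_smul,
    inv_smul_eq_iff]

/-- The stabiliser in the transvection group at `u`. -/
def centFix (u : V) (x : Ω) : AddSubgroup F where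
  carrier := {c | spTransv u c • x = x}
  zero_mem' := by change spTransv u (0 : F) • x = x; rw [spTransv_zero', one_smul]
  add_mem' {a b} ha hb := by
    change spTransv u (a + b) • x = x
    rw [← rootEl_zero, show rootEl u 0 (a + b) = rootEl u 0 a * spTransv u b from
      (rootEl_add_central (sympForm_zero_left u) a b).symm, rootEl_zero, mul_smul, hb, ha]
  neg_mem' {a} ha := by
    change spTransv u (-a) • x = x
    have : spTransv u (-a) = (spTransv u a)⁻¹ := by
      rw [← rootEl_zero, ← rootEl_zero, rootEl_inv (sympForm_zero_left u), neg_zero]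
    rw [this, inv_smul_eq_iff]
    exact ha.symm

/-- Some transvection at `u` moves `x`. -/
def ZMoved (u : V) (x : Ω) : Prop := ∃ c : F, spTransv u c • x ≠ x

theorem zMoved_iff {u : V} {x : Ω} : ZMoved u x ↔ centFix u x ≠ ⊤ := by
  rw [ne_eq, AddSubgroup.eq_top_iff', not_forall]
  rfl

theorem rootFix_sub {u v : V} {x : Ω} {w : V} {c c' : F}
    (h : RootFix u v x w c) (h' : RootFix u v x w c') : c - c' ∈ centFix u x := by
  change spTransv u (c - c') • x = x
  have hw := (mem_perp2.1 h.1).1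
  have e : rootEl u w c' * spTransv u (c - c') = rootEl u w c := by
    rw [rootEl_add_central hw, add_sub_cancel]
  have h2 := h.2
  rw [← e, mul_smul] at h2
  exact smul_left_cancel _ (h2.trans h'.2.symm)

theorem rootFix_central {u v : V} {x : Ω} {w : V} {c d : F}
    (h : RootFix u v x w c) (hd : d ∈ centFix u x) : RootFix u v x w (c + d) :=
  ⟨h.1, by rw [← rootEl_add_central (mem_perp2.1 h.1).1, mul_smul, hd, h.2]⟩

theorem centFix_fixer {u v : V} {A : Sp} (hA : A ∈ fixer u v) (x : Ω) :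
    centFix u (A • x) = centFix u x := by
  ext c
  change spTransv u c • A • x = A • x ↔ spTransv u c • x = x
  rw [← mul_smul, ← fixer_comm hA, mul_smul, smul_left_cancel_iff]

theorem centFix_translate {u a : V} (ha : ⟪a, u⟫ = 0) (b : F) (x : Ω) :
    centFix u (rootEl u a b • x) = centFix u x := by
  ext c
  change spTransv u c • rootEl u a b • x = rootEl u a b • x ↔ spTransv u c • x = x
  rw [← mul_smul, central_mul_rootEl ha, ← rootEl_add_central ha, mul_smul,
    smul_left_cancel_iff]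

/-- The projection to the complement of the stabiliser in the root group. -/
def rootProj (u v : V) (x : Ω) : AddSubgroup (perp2 u v) where
  carrier := {w | ∃ c, RootFix u v x (w : V) c}
  zero_mem' := ⟨0, by rw [Submodule.coe_zero]; exact rootFix_zero u v x⟩
  add_mem' := fun ⟨_, h⟩ ⟨_, h'⟩ => ⟨_, by rw [Submodule.coe_add]; exact rootFix_add h h'⟩
  neg_mem' := fun {w} ⟨c, h⟩ => ⟨-c, by
    rw [Submodule.coe_neg]
    refine ⟨Submodule.neg_mem _ h.1, ?_⟩
    rw [← rootEl_inv (mem_perp2.1 h.1).1, inv_smul_eq_iff]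
    exact h.2.symm⟩

theorem mem_rootProj {u v : V} {x : Ω} {w : perp2 u v} :
    w ∈ rootProj u v x ↔ ∃ c, RootFix u v x (w : V) c := Iff.rfl

theorem rootProj_translate {u v a : V} (ha : a ∈ perp2 u v) (b : F) (x : Ω) :
    rootProj u v (rootEl u a b • x) = rootProj u v x := by
  ext w
  simp only [mem_rootProj, rootFix_translate ha]
  exact ⟨fun ⟨c, h⟩ => ⟨_, h⟩,
    fun ⟨c, h⟩ => ⟨c - 2 * ⟪a, (w : V)⟫, by rwa [sub_add_cancel]⟩⟩

/-- The restriction of a fixing element to the complement. -/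
noncomputable def fixerRes {u v : V} {A : Sp} (hA : A ∈ fixer u v) :
    perp2 u v ≃+ perp2 u v where
  toFun w := ⟨A.1 *ᵥ (w : V), fixer_map_perp2 hA w.2⟩
  invFun w := ⟨(A⁻¹).1 *ᵥ (w : V), fixer_map_perp2 (inv_mem hA) w.2⟩
  left_inv w := Subtype.ext (sp_inv_mulVec_self A w)
  right_inv w := Subtype.ext (sp_mulVec_inv_self A w)
  map_add' a b := Subtype.ext (by simp [Matrix.mulVec_add])

theorem fixerRes_apply {u v : V} {A : Sp} (hA : A ∈ fixer u v) (w : perp2 u v) :
    (fixerRes hA w : V) = A.1 *ᵥ (w : V) := rfl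

theorem rootProj_fixer {u v : V} {A : Sp} (hA : A ∈ fixer u v) (x : Ω) (w : perp2 u v) :
    fixerRes hA w ∈ rootProj u v (A • x) ↔ w ∈ rootProj u v x := by
  simp only [mem_rootProj, fixerRes_apply, rootFix_fixer hA]

theorem card_rootProj_fixer {u v : V} {A : Sp} (hA : A ∈ fixer u v) (x : Ω) :
    Nat.card (rootProj u v (A • x)) = Nat.card (rootProj u v x) :=
  (Nat.card_congr ((fixerRes hA).toEquiv.subtypeEquiv fun w => (rootProj_fixer hA x w).symm)).symm

/-- The restricted form. -/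
noncomputable def perpForm (u v : V) : perp2 u v →ₗ[F] perp2 u v →ₗ[F] F :=
  (sympBilin m F).compl₁₂ (perp2 u v).subtype (perp2 u v).subtype

theorem perpForm_apply (u v : V) (a b : perp2 u v) :
    perpForm u v a b = ⟪(a : V), (b : V)⟫ := sympBilin_apply _ _

theorem perpForm_sep {u v : V} (huv : ⟪u, v⟫ = 1) (x : perp2 u v)
    (h : ∀ y, perpForm u v x y = 0) : x = 0 :=
  Subtype.ext (perp2_sep huv x.2 fun z hz => by rw [← perpForm_apply u v x ⟨z, hz⟩, h])

/-- The orbit of the root group. -/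
noncomputable def rootOrb [Finite Ω] (u v : V) (x : Ω) : Finset Ω :=
  (Set.toFinite (Set.range fun p : perp2 u v × F => rootEl u (p.1 : V) p.2 • x)).toFinset

theorem mem_rootOrb [Finite Ω] {u v : V} {x z : Ω} :
    z ∈ rootOrb u v x ↔ ∃ a ∈ perp2 u v, ∃ b : F, rootEl u a b • x = z := by
  rw [rootOrb, Set.Finite.mem_toFinset]
  exact ⟨fun ⟨⟨a, b⟩, h⟩ => ⟨a, a.2, b, h⟩, fun ⟨a, ha, b, h⟩ => ⟨(⟨a, ha⟩, b), h⟩⟩

theorem rootOrb_props [Finite Ω] {u v : V} {x z : Ω} (hz : z ∈ rootOrb u v x) :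
    centFix u z = centFix u x ∧ rootProj u v z = rootProj u v x := by
  obtain ⟨a, ha, b, rfl⟩ := mem_rootOrb.1 hz
  exact ⟨centFix_translate (mem_perp2.1 ha).1 b x, rootProj_translate ha b x⟩

/-- The orbit has at least `q^{2k+1} / |K|` points. -/
theorem card_rootOrb [Finite Ω] (u v : V) (x : Ω) :
    Fintype.card F * Nat.card (perp2 u v) ≤
      (rootOrb u v x).card * (Nat.card (centFix u x) * Nat.card (rootProj u v x)) := by
  classical
  have : Fintype (perp2 u v) := Fintype.ofFinite _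
  have := Fintype.ofFinite (centFix u x)
  have := Fintype.ofFinite (rootProj u v x)
  let f := fun p : perp2 u v × F => rootEl u (p.1 : V) p.2 • x
  have h : (Finset.univ : Finset (perp2 u v × F)).card ≤
      Nat.card (centFix u x) * Nat.card (rootProj u v x) * (Finset.univ.image f).card := by
    refine Finset.card_le_mul_card_image _ _ fun y hy => ?_
    obtain ⟨⟨a₀, b₀⟩, -, rfl⟩ := Finset.mem_image.1 hy
    have key : ∀ p : perp2 u v × F, f p = f (a₀, b₀) →
        RootFix u v x (-(a₀ : V) + p.1) (-b₀ + p.2 + ⟪(p.1 : V), -(a₀ : V)⟫) := by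
      rintro ⟨a, b⟩ (h : rootEl u (a : V) b • x = rootEl u (a₀ : V) b₀ • x)
      have h1 : ⟪-(a₀ : V), u⟫ = 0 := by rw [sympForm_neg_left, (mem_perp2.1 a₀.2).1, neg_zero]
      refine ⟨Submodule.add_mem _ (Submodule.neg_mem _ a₀.2) a.2, ?_⟩
      rw [← rootEl_mul h1 (mem_perp2.1 a.2).1, ← rootEl_inv (mem_perp2.1 a₀.2).1, mul_smul, h,
        inv_smul_smul]
    let cc : perp2 u v → F := fun w =>
      if h : ∃ c, RootFix u v x (w : V) c then h.choose else 0
    rw [← Nat.card_prod, Nat.card_eq_fintype_card, ← Finset.card_univ]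
    refine Finset.card_le_card_of_injOn
      (fun p => (⟨if h : -b₀ + p.2 + ⟪(p.1 : V), -(a₀ : V)⟫ - cc (-a₀ + p.1) ∈ centFix u x then
        -b₀ + p.2 + ⟪(p.1 : V), -(a₀ : V)⟫ - cc (-a₀ + p.1) else 0, by
          split_ifs with h
          exacts [h, AddSubgroup.zero_mem _]⟩,
        if h : -a₀ + p.1 ∈ rootProj u v x then ⟨_, h⟩ else 0))
      (fun _ _ => Finset.mem_univ _) ?_
    have hk : ∀ p : perp2 u v × F, f p = f (a₀, b₀) →
        -a₀ + p.1 ∈ rootProj u v x ∧
          -b₀ + p.2 + ⟪(p.1 : V), -(a₀ : V)⟫ - cc (-a₀ + p.1) ∈ centFix u x := by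
      intro p hp
      have hex : ∃ c, RootFix u v x ((-a₀ + p.1 : perp2 u v) : V) c := ⟨_, key p hp⟩
      refine ⟨hex, rootFix_sub (key p hp) ?_⟩
      simp only [cc, dif_pos hex]
      exact hex.choose_spec
    intro p hp q hq hpq
    rw [Finset.mem_coe, Finset.mem_filter] at hp hq
    obtain ⟨p1, p2⟩ := hk p hp.2
    obtain ⟨q1, q2⟩ := hk q hq.2
    have e1 := congrArg (fun r => ((r.2 : rootProj u v x) : perp2 u v)) hpq
    have e2 := congrArg (fun r => ((r.1 : centFix u x) : F)) hpq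
    simp only [dif_pos p1, dif_pos q1] at e1
    simp only [dif_pos p2, dif_pos q2] at e2
    have e3 : p.1 = q.1 := add_left_cancel e1
    rw [e3] at e2
    exact Prod.ext e3 (add_left_cancel (add_right_cancel (sub_left_inj.1 e2)))
  rw [Finset.card_univ, Fintype.card_prod, ← Nat.card_eq_fintype_card (α := perp2 u v),
    ← Set.ncard_coe_finset, Finset.coe_image, Finset.coe_univ, Set.image_univ] at h
  rw [rootOrb, ← Set.ncard_eq_toFinset_card _]
  calc _ = Nat.card (perp2 u v) * Fintype.card F := mul_comm _ _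
    _ ≤ _ := h
    _ = _ := mul_comm _ _

/-- For odd characteristic the projection is totally isotropic for a pairing killing the centre
part. -/
theorem rootProj_le_perp {p : ℕ} {u v : V} {x : Ω} {pr : F →+ ZMod p} {a : F}
    (ha : ∀ c ∈ centFix u x, pr (a * c) = 0) :
    rootProj u v x ≤ addPerp ((2 * a) • perpForm u v) pr (rootProj u v x) := by
  rintro w ⟨c, hw⟩
  rw [mem_addPerp]
  rintro w' ⟨c', hw'⟩
  have h1 := rootFix_add hw hw'
  have h2 := rootFix_add hw' hw
  rw [add_comm (w' : V) (w : V)] at h2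
  have h3 := rootFix_sub h2 h1
  rw [LinearMap.smul_apply, LinearMap.smul_apply, perpForm_apply, smul_eq_mul]
  rw [← ha _ h3, sympForm_swap (w : V) (w' : V)]
  congr 1
  ring

end CfsgLib.MinDegree
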