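import Cfsg.Agent.MinDegree.SympTwoForms
import Cfsg.Agent.MinDegree.SympRoot

/-!
# Quadratic forms in characteristic two polarising to the symplectic form
-/

set_option autoImplicit false

namespace CfsgLib.MinDegree

open Matrix CfsgLib.Forms CfsgLib.Forms4

variable {F : Type*} [Field F] [Fintype F] [CharP F 2] {m : ℕ}

local notation "V" => Fin m ⊕ Fin m → F
local notation "Sp" => Matrix.symplecticGroup (Fin m) F
local notation "⟪" x ", " y "⟫" => Cfsg.sympForm m F x y

theorem two_eq_zero' : (2 : F) = 0 := CharTwo.two_eq_zero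

theorem sympForm_comm' (x y : V) : ⟪x, y⟫ = ⟪y, x⟫ := by
  rw [sympForm_swap y x, CharTwo.neg_eq]

theorem vec_neg' (x : V) : -x = x := funext fun i => CharTwo.neg_eq (x i)

theorem exists_sqrt (a : F) : ∃ s : F, s ^ 2 = a := by
  obtain ⟨s, hs⟩ := FiniteField.isSquare_of_char_two (ringChar.eq F 2) a
  exact ⟨s, by rw [sq, hs]⟩

theorem sq_inj' {a b : F} (h : a ^ 2 = b ^ 2) : a = b := by
  rcases sq_eq_sq_iff_eq_or_eq_neg.1 h with h | h
  · exact h
  · rwa [CharTwo.neg_eq] at h

/-- A nonzero functional vanishing exactly on the values `y^2 + y`. -/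
theorem exists_prAS : ∃ pr : F →+ ZMod 2, pr ≠ 0 ∧ (∀ y, pr (y ^ 2 + y) = 0) ∧
    ∀ x, pr x = 0 → ∃ y, y ^ 2 + y = x := by
  classical
  let φ : F →+ F :=
    { toFun := fun y => y ^ 2 + y
      map_zero' := by simp
      map_add' := fun a b => by rw [add_sq, two_eq_zero' (F := F)]; ring }
  have hker : Nat.card φ.ker ≤ 2 := by
    refine (Nat.card_le_card_of_injective
      (fun y : φ.ker => if (y : F) = 0 then (0 : ZMod 2) else 1) fun a b hab => ?_).trans
      (by rw [Nat.card_zmod])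
    have key : ∀ y : φ.ker, (y : F) = 0 ∨ (y : F) = 1 := fun y => by
      have h : (y : F) * ((y : F) + 1) = 0 := by
        have := y.2
        change (y : F) ^ 2 + y = 0 at this
        linear_combination this
      refine (mul_eq_zero.1 h).imp_right fun h => ?_
      linear_combination h - two_eq_zero' (F := F)
    apply Subtype.ext
    rcases key a with ha | ha <;> rcases key b with hb | hb <;> simp [ha, hb] at hab ⊢
  have hlt : φ.range ≠ ⊤ := by
    intro htop
    have hsurj := AddMonoidHom.range_eq_top.1 htop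
    have hinj := Finite.injective_iff_surjective.2 hsurj
    have h : φ 1 = φ 0 := by
      change (1 : F) ^ 2 + 1 = (0 : F) ^ 2 + 0
      linear_combination two_eq_zero' (F := F)
    exact one_ne_zero (hinj h)
  obtain ⟨x₀, hx₀⟩ : ∃ x₀, x₀ ∉ φ.range := by
    by_contra! h; exact hlt (eq_top_iff.2 fun x _ => h x)
  obtain ⟨pr, hpr, hpr'⟩ := exists_addHom_ne_zero (p := 2) (fun y : F => nsmul_char_eq_zero (F := F) y) hx₀
  refine ⟨pr, fun h => hpr (by rw [h]; rfl), fun y => hpr' _ ⟨y, rfl⟩, fun x hx => ?_⟩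
  by_contra hne
  have hle : φ.range ≤ pr.ker := fun z hz => hpr' z hz
  have hlt' : φ.range < pr.ker :=
    lt_of_le_of_ne hle fun h => hne (by
      have : x ∈ φ.range := h ▸ hx
      obtain ⟨y, hy⟩ := this; exact ⟨y, hy⟩)
  have hc : Nat.card φ.range < Nat.card pr.ker :=
    Set.Finite.card_lt_card (Set.toFinite _) hlt'
  have h1 := φ.ker.index_mul_card
  rw [AddSubgroup.index_ker] at h1
  have h2 := pr.ker.index_mul_card
  have h3 : 2 ≤ pr.ker.index := by
    have h4 : pr.ker.index ≠ 1 := fun h => hpr ((AddSubgroup.index_eq_one.1 h).symm ▸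
      AddSubgroup.mem_top x₀ : x₀ ∈ pr.ker)
    have h5 : pr.ker.index ≠ 0 := AddSubgroup.index_ne_zero_of_finite
    omega
  have h6 : Nat.card φ.range * Nat.card φ.ker ≤ Nat.card φ.range * 2 := Nat.mul_le_mul_left _ hker
  have h7 : 2 * Nat.card pr.ker ≤ pr.ker.index * Nat.card pr.ker := Nat.mul_le_mul_right _ h3
  omega

/-- A quadratic form polarising to the symplectic form. -/
def IsQuad (Q : V → F) : Prop := IsForm Q ∧ ∀ (t : F) x, Q (t • x) = t ^ 2 * Q x

/-- Translation of a form. -/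
def qshift (Q : V → F) (s : V) : V → F := fun x => Q x + ⟪s, x⟫ ^ 2

theorem qshift_apply (Q : V → F) (s x : V) : qshift Q s x = Q x + ⟪s, x⟫ ^ 2 := rfl

theorem IsQuad.qshift {Q : V → F} (hQ : IsQuad Q) (s : V) :
    IsQuad (CfsgLib.MinDegree.qshift Q s) := by
  refine ⟨fun x y => ?_, fun t x => ?_⟩
  · simp only [qshift_apply, hQ.1 x y, sympForm_add_right]
    linear_combination ⟪s, x⟫ * ⟪s, y⟫ * two_eq_zero' (F := F)
  · simp only [qshift_apply, hQ.2, sympForm_smul_right]
    ring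

theorem qshift_qshift (Q : V → F) (s t : V) : qshift (qshift Q s) t = qshift Q (s + t) :=
  funext fun x => by
    simp only [qshift_apply, sympForm_add_left]
    linear_combination (-(⟪s, x⟫ * ⟪t, x⟫)) * two_eq_zero' (F := F)

theorem qshift_zero (Q : V → F) : qshift Q 0 = Q :=
  funext fun x => by rw [qshift_apply, sympForm_zero_left]; ring

theorem qshift_inj {Q : V → F} {s t : V} (h : qshift Q s = qshift Q t) : s = t := by
  refine sub_eq_zero.1 (sympForm_sep _ fun x => ?_)
  rw [sympForm_sub_left, sub_eq_zero]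
  exact sq_inj' (add_left_cancel (congrFun h x))

theorem IsQuad.comp {Q : V → F} (hQ : IsQuad Q) (A : Sp) : IsQuad fun x => Q (A.1 *ᵥ x) :=
  ⟨fun x y => by simp only [Matrix.mulVec_add, hQ.1 _ _, sympForm_map],
    fun t x => by simp only [Matrix.mulVec_smul, hQ.2]⟩

theorem IsQuad.map_zero {Q : V → F} (hQ : IsQuad Q) : Q 0 = 0 := hQ.1.map_zero

theorem IsQuad.comp_transv {Q : V → F} (hQ : IsQuad Q) (s x : V) (l : F) :
    Q ((spTransv s l).1 *ᵥ x) = Q x + ⟪x, s⟫ ^ 2 * (l + l ^ 2 * Q s) := by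
  rw [spTransv_mulVec, hQ.1, hQ.2, sympForm_smul_right]
  ring

theorem IsQuad.comp_reflection {Q : V → F} (hQ : IsQuad Q) {s : V} (hs : Q s ≠ 0) :
    (fun x => Q ((spTransv s (Q s)⁻¹).1 *ᵥ x)) = Q := funext fun x => by
  rw [hQ.comp_transv]
  have : (Q s)⁻¹ + (Q s)⁻¹ ^ 2 * Q s = 0 := by
    field_simp
    linear_combination two_eq_zero' (F := F)
  rw [this, mul_zero, add_zero]

/-- A vector whose value lies in the kernel of the functional translates a form within its
orbit. -/
theorem IsQuad.exists_transv_shift {Q : V → F} (hQ : IsQuad Q) {pr : F →+ ZMod 2}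
    (hAS : ∀ x, pr x = 0 → ∃ y, y ^ 2 + y = x) {s : V} (hs : pr (Q s) = 0) :
    ∃ l : F, (fun x => Q ((spTransv s l).1 *ᵥ x)) = CfsgLib.MinDegree.qshift Q s := by
  obtain ⟨l, hl⟩ : ∃ l : F, l + l ^ 2 * Q s = 1 := by
    by_cases h0 : Q s = 0
    · exact ⟨1, by rw [h0]; ring⟩
    · obtain ⟨y, hy⟩ := hAS _ hs
      refine ⟨y / Q s, ?_⟩
      field_simp
      linear_combination hy
  exact ⟨l, funext fun x => by
    rw [hQ.comp_transv, hl, mul_one, qshift_apply, sympForm_comm' x s]⟩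

section Pair

/-- A form vanishing at the two vectors of the pair. -/
theorem exists_quad {u v : V} (huv : ⟪u, v⟫ = 1) :
    ∃ Q : V → F, IsQuad Q ∧ Q u = 0 ∧ Q v = 0 := by
  have hS : IsQuad (stdForm m F) := by
    refine ⟨fun x y => ?_, fun t x => ?_⟩
    · rw [sympForm_eq_sum]
      simp only [stdForm, Pi.add_apply, ← Finset.sum_add_distrib]
      refine Finset.sum_congr rfl fun i _ => ?_
      linear_combination x (Sum.inl i) * y (Sum.inr i) * two_eq_zero' (F := F)
    · simp only [stdForm, Pi.smul_apply, smul_eq_mul, Finset.mul_sum]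
      exact Finset.sum_congr rfl fun i _ => by ring
  obtain ⟨a, ha⟩ := exists_sqrt (stdForm m F v)
  obtain ⟨b, hb⟩ := exists_sqrt (stdForm m F u)
  have hvu : ⟪v, u⟫ = 1 := by rw [sympForm_comm', huv]
  refine ⟨qshift (stdForm m F) (a • u + b • v), hS.qshift _, ?_, ?_⟩ <;>
    simp only [qshift_apply, sympForm_add_left, sympForm_smul_left, sympForm_self, huv, hvu,
      mul_zero, mul_one, zero_add, add_zero, ha, hb, CharTwo.add_self_eq_zero]

theorem quad_eq_of_eqOn {u v : V} (huv : ⟪u, v⟫ = 1) {Q Q' : V → F} (hQ : IsQuad Q)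
    (hQ' : IsQuad Q') (hu : Q u = 0) (hv : Q v = 0) (hu' : Q' u = 0) (hv' : Q' v = 0)
    (h : ∀ w ∈ perp2 u v, Q w = Q' w) : Q = Q' := funext fun x => by
  obtain ⟨p, hp, a, b, rfl⟩ : ∃ p ∈ perp2 u v, ∃ a b : F, x = a • u + b • v + p :=
    ⟨_, proj_mem_perp2 huv x, ⟪x, v⟫, -⟪x, u⟫, by module⟩
  rw [hQ.1, hQ.1, hQ'.1, hQ'.1, hQ.2, hQ.2, hQ'.2, hQ'.2, hu, hv, hu', hv', h p hp]

/-- Two forms vanishing at the pair differ by a translation from the complement. -/
theorem exists_qshift {u v : V} (huv : ⟪u, v⟫ = 1) {Q Q' : V → F} (hQ : IsQuad Q)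
    (hQ' : IsQuad Q') (hu : Q u = 0) (hv : Q v = 0) (hu' : Q' u = 0) (hv' : Q' v = 0) :
    ∃ s ∈ perp2 u v, Q' = qshift Q s := by
  choose r hr using fun a : F => exists_sqrt a
  let g : V →ₗ[F] F :=
    { toFun := fun x => r (Q' x - Q x)
      map_add' := fun x y => sq_inj' (by
        rw [hr, add_sq, hr, hr, hQ.1, hQ'.1, two_eq_zero' (F := F)]; ring)
      map_smul' := fun t x => sq_inj' (by
        rw [RingHom.id_apply, smul_eq_mul, hr, mul_pow, hr, hQ.2, hQ'.2]; ring) }
  obtain ⟨s, hs, hrep⟩ := exists_perp2_repr huv g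
  refine ⟨s, hs, quad_eq_of_eqOn huv hQ' (hQ.qshift s) hu' hv' ?_ ?_ fun w hw => ?_⟩
  · rw [qshift_apply, hu, (mem_perp2.1 hs).1]; ring
  · rw [qshift_apply, hv, (mem_perp2.1 hs).2]; ring
  · rw [qshift_apply, hrep w hw]
    change Q' w = Q w + r (Q' w - Q w) ^ 2
    rw [hr]; ring

/-- At least half of the translations keep the orbit of a form. -/
theorem card_kept_shifts {u v : V} (huv : ⟪u, v⟫ = 1) {k : ℕ} (hk : m = k + 1)
    {pr : F →+ ZMod 2} (hpr : pr ≠ 0) {Q : V → F} (hQ : IsQuad Q) :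
    (Fintype.card F ^ k) ^ 2 ≤
      2 * Nat.card {s : perp2 u v // pr (Q s) = 0} + Fintype.card F ^ k := by
  classical
  have := Fintype.ofFinite (perp2 u v)
  have h := zero_count (W := perp2 u v) (F := ZMod 2) (ZMod.card 2) (fun x => pr (Q x))
    (fun x y => pr ⟪(x : V), (y : V)⟫) (fun x y => by
      change pr (Q ((x : V) + y)) = _
      rw [hQ.1, map_add, map_add])
    (by change pr (Q 0) = 0; rw [hQ.map_zero, map_zero])
    (fun x y z => by
      change pr ⟪(x : V) + y, (z : V)⟫ = _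
      rw [sympForm_add_left, map_add])
    fun z hz => by
      obtain ⟨c, hc⟩ : ∃ c, pr c ≠ 0 := by
        by_contra! h; exact hpr (AddMonoidHom.ext h)
      obtain ⟨x, hx, hzx⟩ := perp2_nondeg huv z.2 (fun h => hz (Subtype.ext h))
      refine ⟨⟨c • x, Submodule.smul_mem _ _ hx⟩, ?_⟩
      change pr ⟪c • x, (z : V)⟫ = 1
      rw [sympForm_smul_left, sympForm_comm' x z, hzx, mul_one]
      exact eq_one_of_ne_zero (ZMod.card 2) hc
  rw [card_perp2 huv, show 2 * m - 2 = k * 2 by omega, pow_mul] at h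
  push_cast at h
  rcases sq_eq_sq_iff_eq_or_eq_neg.1 h with h | h
  · have : (((Fintype.card F ^ k) ^ 2 : ℕ) : ℤ) ≤ (2 * Nat.card {s : perp2 u v // pr (Q s) = 0} +
        Fintype.card F ^ k : ℕ) := by
      push_cast
      linarith [pow_nonneg (Int.natCast_nonneg (Fintype.card F)) k]
    exact_mod_cast this
  · have : (((Fintype.card F ^ k) ^ 2 : ℕ) : ℤ) ≤ (2 * Nat.card {s : perp2 u v // pr (Q s) = 0} +
        Fintype.card F ^ k : ℕ) := by push_cast; linarith
    exact_mod_cast this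

end Pair

end CfsgLib.MinDegree
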