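import Cfsg.Agent.MinDegree.SympBasic
import Cfsg.Agent.MinDegree.SympQuad

/-!
# Labels of root-group stabilisers in characteristic two

A label of a point is a pair `(a, Q)`, `a ≠ 0`, such that the character `pr (a (c + Q w))` of the
root group vanishes on the stabiliser of the point.
-/

set_option autoImplicit false

namespace CfsgLib.MinDegree

open Matrix CfsgLib.Forms CfsgLib.Forms4 MulAction

variable {F : Type*} [Field F] [Fintype F] [CharP F 2] {m : ℕ} {Ω : Type*}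
  [MulAction (Matrix.symplecticGroup (Fin m) F) Ω]

local notation "V" => Fin m ⊕ Fin m → F
local notation "Sp" => Matrix.symplecticGroup (Fin m) F
local notation "⟪" x ", " y "⟫" => Cfsg.sympForm m F x y

/-- A label. -/
def IsLabel (pr : F →+ ZMod 2) (u v : V) (x : Ω) (l : F × (V → F)) : Prop :=
  l.1 ≠ 0 ∧ IsQuad l.2 ∧ l.2 u = 0 ∧ l.2 v = 0 ∧
    ∀ w c, RootFix u v x w c → pr (l.1 * (c + l.2 w)) = 0

/-- The annihilator of the central part. -/
def centAnn (pr : F →+ ZMod 2) (u : V) (x : Ω) : AddSubgroup F :=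
  addPerp (LinearMap.mul F F) pr (centFix u x)

/-- The annihilator of the projected stabiliser. -/
noncomputable def projAnn (pr : F →+ ZMod 2) (u v : V) (x : Ω) : AddSubgroup (perp2 u v) :=
  addPerp (perpForm u v) pr (rootProj u v x)

theorem rootFix_translate_two {u v a : V} (ha : a ∈ perp2 u v) (b : F) (x : Ω) (w : V) (c : F) :
    RootFix u v (rootEl u a b • x) w c ↔ RootFix u v x w c := by
  rw [rootFix_translate ha, two_eq_zero', zero_mul, add_zero]

theorem label_orb [Finite Ω] {pr : F →+ ZMod 2} {u v : V} {x z : Ω} (hz : z ∈ rootOrb u v x)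
    {l : F × (V → F)} : IsLabel pr u v z l ↔ IsLabel pr u v x l := by
  obtain ⟨a, ha, b, rfl⟩ := mem_rootOrb.1 hz
  simp only [IsLabel, rootFix_translate_two ha]

theorem label_fixer {pr : F →+ ZMod 2} {u v : V} {A : Sp} (hA : A ∈ fixer u v) {x : Ω} {a : F}
    {Q : V → F} (h : IsLabel pr u v x (a, Q)) :
    IsLabel pr u v (A • x) (a, fun y => Q ((A⁻¹).1 *ᵥ y)) := by
  obtain ⟨ha, hQ, hu, hv, hK⟩ := h
  refine ⟨ha, hQ.comp _, ?_, ?_, fun w c hw => ?_⟩
  · change Q ((A⁻¹).1 *ᵥ u) = 0; rw [(inv_mem hA : A⁻¹ ∈ fixer u v).1]; exact hu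
  · change Q ((A⁻¹).1 *ᵥ v) = 0; rw [(inv_mem hA : A⁻¹ ∈ fixer u v).2]; exact hv
  · rw [← sp_mulVec_inv_self A w] at hw
    exact hK _ c ((rootFix_fixer hA x _ c).1 hw)

theorem label_torus {pr : F →+ ZMod 2} {u v : V} {T : Sp} {t : F} (hu : T.1 *ᵥ u = t • u)
    (hfix : ∀ w ∈ perp2 u v, T.1 *ᵥ w = w) (ht : t ≠ 0) {x : Ω} {a : F} {Q : V → F}
    (h : IsLabel pr u v x (a, Q)) : IsLabel pr u v (T • x) (a / t ^ 2, Q) := by
  obtain ⟨ha, hQ, hu', hv', hK⟩ := h
  simp only at hQ hK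
  refine ⟨div_ne_zero ha (pow_ne_zero 2 ht), hQ, hu', hv', fun w c hw => ?_⟩
  change pr (a / t ^ 2 * (c + Q w)) = 0
  have e : w = t • (t⁻¹ • w) := by rw [smul_inv_smul₀ ht]
  have hw' := hw
  rw [e, show c = t ^ 2 * (c / t ^ 2) by rw [mul_div_cancel₀ _ (pow_ne_zero 2 ht)],
    rootFix_torus hu hfix ht] at hw'
  have h1 := hK _ _ hw'
  simp only [hQ.2] at h1
  convert h1 using 2
  field_simp

theorem label_fst_mem {pr : F →+ ZMod 2} {u v : V} {x : Ω} {l : F × (V → F)}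
    (h : IsLabel pr u v x l) : l.1 ∈ centAnn pr u x := fun c hc => by
  have := h.2.2.2.2 0 c ⟨Submodule.zero_mem _, by rw [rootEl_zero]; exact hc⟩
  rwa [h.2.1.map_zero, add_zero] at this

theorem exists_linearize {pr : F →+ ZMod 2} (hpr : pr ≠ 0) {a : F} (ha : a ≠ 0) :
    ∃ b : F, b ≠ 0 ∧ ∀ y : F, pr (a * y ^ 2) = pr (b * y) := by
  let g : F →+ ZMod 2 :=
    { toFun := fun y => pr (a * y ^ 2)
      map_zero' := by simp
      map_add' := fun x y => by
        rw [add_sq, two_eq_zero' (F := F), ← map_add]; congr 1; ring }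
  obtain ⟨b, hb⟩ := exists_repr (LinearMap.mul F F) mulForm_sep hpr g
  refine ⟨b, fun h0 => ?_, fun y => (hb y).symm⟩
  obtain ⟨c, hc⟩ : ∃ c, pr c ≠ 0 := by
    by_contra! h; exact hpr (AddMonoidHom.ext h)
  obtain ⟨s, hs⟩ := exists_sqrt (c / a)
  have := hb s
  rw [h0, map_zero, LinearMap.zero_apply, map_zero] at this
  change 0 = pr (a * s ^ 2) at this
  rw [hs, mul_div_cancel₀ _ ha] at this
  exact hc this.symm

/-- Two labels with the same scalar differ by an element of the annihilator. -/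
theorem label_diff {pr : F →+ ZMod 2} (hpr : pr ≠ 0) {u v : V} {x : Ω} {a b : F} (hb0 : b ≠ 0)
    (hb : ∀ y : F, pr (a * y ^ 2) = pr (b * y)) {Q : V → F} {s : perp2 u v}
    (h : IsLabel pr u v x (a, Q)) :
    IsLabel pr u v x (a, qshift Q s) ↔ b • s ∈ projAnn pr u v x := by
  obtain ⟨ha, hQ, hu, hv, hK⟩ := h
  simp only at hQ hu hv hK
  have key : ∀ (w : V) (c : F), RootFix u v x w c →
      pr (a * (c + qshift Q s w)) = pr (b * ⟪(s : V), w⟫) := fun w c hw => by
    have e : a * (c + qshift Q s w) = a * (c + Q w) + a * ⟪(s : V), w⟫ ^ 2 := by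
      rw [qshift_apply]; ring
    rw [e, map_add, hK w c hw, zero_add, hb]
  constructor
  · rintro h' w ⟨c, hw⟩
    have := h'.2.2.2.2 _ c hw
    rw [key _ c hw] at this
    rw [map_smul, LinearMap.smul_apply, perpForm_apply, smul_eq_mul]
    exact this
  · intro h'
    refine ⟨ha, hQ.qshift _, ?_, ?_, fun w c hw => ?_⟩
    · change qshift Q s u = 0; rw [qshift_apply, hu, (mem_perp2.1 s.2).1]; ring
    · change qshift Q s v = 0; rw [qshift_apply, hv, (mem_perp2.1 s.2).2]; ring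
    · rw [key w c hw]
      have := h' ⟨w, hw.1⟩ ⟨c, hw⟩
      rwa [map_smul, LinearMap.smul_apply, perpForm_apply, smul_eq_mul] at this

/-- Every scalar killing the central part occurs in a label. -/
theorem exists_label {pr : F →+ ZMod 2} (hpr : pr ≠ 0) {u v : V} (huv : ⟪u, v⟫ = 1) {x : Ω}
    {a : F} (ha : a ≠ 0) (hmem : a ∈ centAnn pr u x) : ∃ Q, IsLabel pr u v x (a, Q) := by
  classical
  obtain ⟨Q₀, hQ₀, hu, hv⟩ := exists_quad huv
  obtain ⟨b, hb0, hb⟩ := exists_linearize hpr ha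
  let cc : V → F := fun w => if h : ∃ c, RootFix u v x w c then h.choose else 0
  have hcc : ∀ {w c}, RootFix u v x w c → pr (a * cc w) = pr (a * c) := by
    intro w c hw
    have hex : ∃ c, RootFix u v x w c := ⟨c, hw⟩
    simp only [cc, dif_pos hex]
    have := hmem _ (rootFix_sub hex.choose_spec hw)
    change pr (a * (hex.choose - c)) = 0 at this
    rwa [mul_sub, map_sub, sub_eq_zero] at this
  let g : rootProj u v x →+ ZMod 2 :=
    AddMonoidHom.mk' (fun w => pr (a * cc (w.1 : V)) + pr (a * Q₀ (w.1 : V))) (by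
      rintro ⟨w, c, hw⟩ ⟨w', c', hw'⟩
      change pr (a * cc ((w : V) + w')) + pr (a * Q₀ ((w : V) + w')) =
        pr (a * cc (w : V)) + pr (a * Q₀ (w : V)) + (pr (a * cc (w' : V)) + pr (a * Q₀ (w' : V)))
      rw [hcc (rootFix_add hw hw'), hcc hw, hcc hw', hQ₀.1, sympForm_comm' (w' : V) w,
        ← map_add, ← map_add, ← map_add, ← map_add]
      congr 1
      linear_combination (a * ⟪(w : V), (w' : V)⟫) * two_eq_zero' (F := F))
  obtain ⟨r, hr⟩ := exists_repr_on (perpForm u v) (perpForm_sep huv) hpr (rootProj u v x) g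
  refine ⟨qshift Q₀ ((b⁻¹ • r : perp2 u v) : V), ha, hQ₀.qshift _, ?_, ?_, fun w c hw => ?_⟩
  · change qshift Q₀ _ u = 0
    rw [qshift_apply, hu, (mem_perp2.1 (b⁻¹ • r : perp2 u v).2).1]; ring
  · change qshift Q₀ _ v = 0
    rw [qshift_apply, hv, (mem_perp2.1 (b⁻¹ • r : perp2 u v).2).2]; ring
  · change pr (a * (c + qshift Q₀ ((b⁻¹ • r : perp2 u v) : V) w)) = 0
    have h1 := hr ⟨⟨w, hw.1⟩, ⟨c, hw⟩⟩
    rw [perpForm_apply] at h1
    change pr ⟪(r : V), w⟫ = pr (a * cc w) + pr (a * Q₀ w) at h1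
    rw [qshift_apply, mul_add, mul_add, map_add, map_add, hb, Submodule.coe_smul,
      sympForm_smul_left, mul_inv_cancel_left₀ hb0, h1, hcc hw]
    have : ∀ z : ZMod 2, z + z = 0 := fun z => CharTwo.add_self_eq_zero z
    linear_combination this (pr (a * c)) + this (pr (a * Q₀ w))

theorem card_centAnn {pr : F →+ ZMod 2} (hpr : pr ≠ 0) (u : V) (x : Ω) :
    Nat.card (centAnn pr u x) * Nat.card (centFix u x) = Fintype.card F := by
  rw [centAnn, card_addPerp_mul _ mulForm_sep hpr, Nat.card_eq_fintype_card]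

theorem card_projAnn {pr : F →+ ZMod 2} (hpr : pr ≠ 0) {u v : V} (huv : ⟪u, v⟫ = 1) {k : ℕ}
    (hk : m = k + 1) (x : Ω) :
    Nat.card (projAnn pr u v x) * Nat.card (rootProj u v x) = Fintype.card F ^ (2 * k) := by
  rw [projAnn, card_addPerp_mul _ (perpForm_sep huv) hpr, card_perp2 huv,
    show 2 * m - 2 = 2 * k by omega]

theorem exists_ann_ne_zero {pr : F →+ ZMod 2} (hpr : pr ≠ 0) {u : V} {x : Ω}
    (h : ZMoved u x) : ∃ a ∈ centAnn pr u x, a ≠ 0 := by
  obtain ⟨c, hc⟩ := h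
  obtain ⟨r, hr, hr0⟩ := exists_ne_zero_addPerp (LinearMap.mul F F) mulForm_sep hpr
    (show c ∉ centFix u x from hc)
  exact ⟨r, hr, fun h => hr0 (by rw [h, map_zero, LinearMap.zero_apply, map_zero])⟩

/-- Number of labels of a point. -/
theorem ncard_labels {pr : F →+ ZMod 2} (hpr : pr ≠ 0) {u v : V} (huv : ⟪u, v⟫ = 1) (x : Ω) :
    {l | IsLabel pr u v x l}.ncard ≤
      (Nat.card (centAnn pr u x) - 1) * Nat.card (projAnn pr u v x) := by
  classical
  choose b hb0 hb using fun a : {a : F // a ≠ 0} => exists_linearize hpr a.2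
  let base : F → (V → F) := fun a =>
    if h : ∃ Q, IsLabel pr u v x (a, Q) then h.choose else 0
  have hS : ∀ l : {l : F × (V → F) // IsLabel pr u v x l}, ∃ r : projAnn pr u v x,
      l.1.2 = qshift (base l.1.1) (((b ⟨l.1.1, l.2.1⟩)⁻¹ • (r : perp2 u v) : perp2 u v) : V) := by
    rintro ⟨⟨a, Q⟩, hl⟩
    have hex : ∃ Q, IsLabel pr u v x (a, Q) := ⟨Q, hl⟩
    have hbase : IsLabel pr u v x (a, base a) := by
      simp only [base, dif_pos hex]; exact hex.choose_spec
    obtain ⟨s, hs, rfl⟩ := exists_qshift huv hbase.2.1 hl.2.1 hbase.2.2.1 hbase.2.2.2.1 hl.2.2.1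
      hl.2.2.2.1
    let a' : {a : F // a ≠ 0} := ⟨a, hl.1⟩
    let s' : perp2 u v := ⟨s, hs⟩
    have hbb : ∀ y : F, pr (a * y ^ 2) = pr (b a' * y) := fun y => hb a' y
    have hmem : b a' • s' ∈ projAnn pr u v x :=
      (label_diff (Q := base a) (s := s') hpr (hb0 a') hbb hbase).1 hl
    refine ⟨⟨b a' • s', hmem⟩, ?_⟩
    change qshift (base a) s = qshift (base a) (((b a')⁻¹ • (b a' • s') : perp2 u v) : V)
    rw [inv_smul_smul₀ (hb0 a')]
  choose r hr using hS
  let f : {l : F × (V → F) // IsLabel pr u v x l} →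
      {a : centAnn pr u x // a ≠ 0} × projAnn pr u v x :=
    fun l => (⟨⟨l.1.1, label_fst_mem l.2⟩, fun h => l.2.1 (congrArg Subtype.val h)⟩, r l)
  have hf : Function.Injective f := fun l l' h => by
    obtain ⟨h1, h2⟩ := Prod.ext_iff.1 h
    have e1 : l.1.1 = l'.1.1 := congrArg (fun a => ((a.1 : centAnn pr u x) : F)) h1
    refine Subtype.ext (Prod.ext e1 ?_)
    have e2 : (⟨l.1.1, l.2.1⟩ : {a : F // a ≠ 0}) = ⟨l'.1.1, l'.2.1⟩ := Subtype.ext e1
    simp only [f] at h2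
    rw [hr l, hr l', h2]
    have key : ∀ a a' : {a : F // a ≠ 0}, a = a' → qshift (base a.1) (((b a)⁻¹ • (r l').1 :
        perp2 u v) : V) = qshift (base a'.1) (((b a')⁻¹ • (r l').1 : perp2 u v) : V) := by
      rintro a a' rfl; rfl
    exact key _ _ e2
  have := Fintype.ofFinite (centAnn pr u x)
  have hc : Nat.card {a : centAnn pr u x // a ≠ 0} = Nat.card (centAnn pr u x) - 1 := by
    rw [Nat.card_eq_fintype_card, Fintype.card_subtype_compl, Fintype.card_subtype_eq,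
      Nat.card_eq_fintype_card]
  rw [← Nat.card_coe_set_eq, ← hc, ← Nat.card_prod]
  exact Nat.card_le_card_of_injective f hf

/-- The root orbit has at least `α ρ` points. -/
theorem card_rootOrb_labels [Finite Ω] {pr : F →+ ZMod 2} (hpr : pr ≠ 0) {u v : V}
    (huv : ⟪u, v⟫ = 1) {k : ℕ} (hk : m = k + 1) (x : Ω) :
    Nat.card (centAnn pr u x) * Nat.card (projAnn pr u v x) ≤ (rootOrb u v x).card := by
  have h := card_rootOrb u v x
  rw [card_perp2 huv, show 2 * m - 2 = 2 * k by omega, ← card_projAnn hpr huv hk x,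
    ← card_centAnn hpr u x] at h
  have hpos : 0 < Nat.card (centFix u x) * Nat.card (rootProj u v x) :=
    Nat.mul_pos Nat.card_pos Nat.card_pos
  refine Nat.le_of_mul_le_mul_right ?_ hpos
  calc _ = Nat.card (centAnn pr u x) * Nat.card (centFix u x) *
        (Nat.card (projAnn pr u v x) * Nat.card (rootProj u v x)) := by ring
    _ ≤ _ := h

/-- Points of a given type. -/
def OfType (pr : F →+ ZMod 2) (u v : V) (α ρ : ℕ) (z : Ω) : Prop :=
  ZMoved u z ∧ Nat.card (centAnn pr u z) = α ∧ Nat.card (projAnn pr u v z) = ρ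

theorem ofType_orb [Finite Ω] {pr : F →+ ZMod 2} {u v : V} {α ρ : ℕ} {x z : Ω}
    (h : OfType pr u v α ρ x) (hz : z ∈ rootOrb u v x) : OfType pr u v α ρ z := by
  obtain ⟨e1, e2⟩ := rootOrb_props hz
  exact ⟨zMoved_orb h.1 hz, by rw [centAnn, e1]; exact h.2.1, by rw [projAnn, e2]; exact h.2.2⟩

theorem ofType_fixer {pr : F →+ ZMod 2} (hpr : pr ≠ 0) {u v : V} (huv : ⟪u, v⟫ = 1) {α ρ : ℕ}
    {A : Sp} (hA : A ∈ fixer u v) {x : Ω} (h : OfType pr u v α ρ x) :
    OfType pr u v α ρ (A • x) := by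
  refine ⟨by rw [zMoved_iff, centFix_fixer hA, ← zMoved_iff]; exact h.1,
    by rw [centAnn, centFix_fixer hA]; exact h.2.1, ?_⟩
  have h1 := card_addPerp_mul _ (perpForm_sep huv) hpr (rootProj u v (A • x))
  have h2 := card_addPerp_mul _ (perpForm_sep huv) hpr (rootProj u v x)
  rw [card_rootProj_fixer hA, ← h2] at h1
  rw [← h.2.2]
  exact Nat.eq_of_mul_eq_mul_right Nat.card_pos h1

theorem card_centFix_torus {u : V} {T : Sp} {t : F} (hu : T.1 *ᵥ u = t • u) (ht : t ≠ 0)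
    (x : Ω) : Nat.card (centFix u (T • x)) = Nat.card (centFix u x) :=
  (Nat.card_congr ((Equiv.mulLeft₀ (t ^ 2) (pow_ne_zero 2 ht)).subtypeEquiv fun c =>
    (centFix_torus hu x c).symm)).symm

theorem card_rootProj_torus {u v : V} {T : Sp} {t : F} (hu : T.1 *ᵥ u = t • u)
    (hfix : ∀ w ∈ perp2 u v, T.1 *ᵥ w = w) (ht : t ≠ 0) (x : Ω) :
    Nat.card (rootProj u v (T • x)) = Nat.card (rootProj u v x) := by
  refine (Nat.card_congr ((LinearEquiv.smulOfUnit (Units.mk0 t ht) :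
    perp2 u v ≃ₗ[F] perp2 u v).toEquiv.subtypeEquiv fun w => ?_)).symm
  simp only [mem_rootProj]
  constructor
  · rintro ⟨c, hc⟩
    exact ⟨t ^ 2 * c, (rootFix_torus hu hfix ht x (w : V) c).2 hc⟩
  · rintro ⟨c, hc⟩
    refine ⟨c / t ^ 2, (rootFix_torus hu hfix ht x (w : V) _).1 ?_⟩
    rw [mul_div_cancel₀ _ (pow_ne_zero 2 ht)]
    exact hc

theorem ofType_torus {pr : F →+ ZMod 2} (hpr : pr ≠ 0) {u v : V} (huv : ⟪u, v⟫ = 1) {α ρ : ℕ}
    {T : Sp} {t : F} (hu : T.1 *ᵥ u = t • u) (hfix : ∀ w ∈ perp2 u v, T.1 *ᵥ w = w)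
    (ht : t ≠ 0) {x : Ω} (h : OfType pr u v α ρ x) : OfType pr u v α ρ (T • x) := by
  obtain ⟨⟨c, hc⟩, hα, hρ⟩ := h
  refine ⟨⟨t ^ 2 * c, fun h' => hc ((centFix_torus hu x c).1 h')⟩, ?_, ?_⟩
  · have h1 := card_centAnn hpr u (T • x)
    rw [card_centFix_torus hu ht, ← card_centAnn hpr u x, hα] at h1
    exact Nat.eq_of_mul_eq_mul_right Nat.card_pos h1
  · have h1 := card_addPerp_mul _ (perpForm_sep huv) hpr (rootProj u v (T • x))
    have h2 := card_addPerp_mul _ (perpForm_sep huv) hpr (rootProj u v x)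
    rw [card_rootProj_torus hu hfix ht, ← h2] at h1
    rw [← hρ]
    exact Nat.eq_of_mul_eq_mul_right Nat.card_pos h1

/-- Double counting points of a type against labels. -/
theorem label_count [Fintype Ω] {pr : F →+ ZMod 2} (hpr : pr ≠ 0) {u v : V} (huv : ⟪u, v⟫ = 1)
    {α ρ c : ℕ} (Y : Finset (F × (V → F)))
    (hY : ∀ l ∈ Y, ∃ P : Finset Ω, c ≤ P.card ∧
      ∀ z ∈ P, OfType pr u v α ρ z ∧ IsLabel pr u v z l) :
    Y.card * c ≤ Nat.card {z : Ω // OfType pr u v α ρ z} * ((α - 1) * ρ) := by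
  classical
  rw [Nat.card_eq_fintype_card, Fintype.card_subtype]
  refine Finset.card_mul_le_card_mul (fun l z => IsLabel pr u v z l) ?_ ?_
  · intro l hl
    obtain ⟨P, hP, hP'⟩ := hY l hl
    refine hP.trans (Finset.card_le_card fun z hz => ?_)
    simp only [Finset.bipartiteAbove, Finset.mem_filter, Finset.mem_univ, true_and]
    exact hP' z hz
  · intro z hz
    simp only [Finset.mem_filter, Finset.mem_univ, true_and] at hz
    rw [← hz.2.1, ← hz.2.2, ← Set.ncard_coe_finset]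
    have hfin : {l | IsLabel pr u v z l}.Finite := Set.toFinite _
    exact (Set.ncard_le_ncard (fun l hl => (Finset.mem_filter.1 hl).2) hfin).trans
      (ncard_labels hpr huv z)

/-- All labels obtained from one by the torus and by kept translations. -/
theorem exists_orbit_labels {pr : F →+ ZMod 2} {u v : V} {a₀ : F} (ha₀ : a₀ ≠ 0) (Q₀ : V → F)
    (p : V → Prop) :
    ∃ Y : Finset (F × (V → F)),
      Y.card = (Fintype.card F - 1) * Nat.card {s : perp2 u v // p (s : V)} ∧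
      ∀ l ∈ Y, ∃ t : F, t ≠ 0 ∧ ∃ s ∈ perp2 u v, p s ∧ l = (a₀ / t ^ 2, qshift Q₀ s) := by
  classical
  have := Fintype.ofFinite (perp2 u v)
  refine ⟨(Finset.univ : Finset ({t : F // t ≠ 0} × {s : perp2 u v // p (s : V)})).image
    fun x => (a₀ / x.1.1 ^ 2, qshift Q₀ (x.2.1 : V)), ?_, fun l hl => ?_⟩
  · rw [Finset.card_image_of_injective _ fun x y h => ?_, Finset.card_univ, Fintype.card_prod,
      Fintype.card_subtype_compl, Fintype.card_subtype_eq, Nat.card_eq_fintype_card]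
    obtain ⟨h1, h2⟩ := Prod.ext_iff.1 h
    refine Prod.ext (Subtype.ext (sq_inj' ?_)) (Subtype.ext (Subtype.ext (qshift_inj h2)))
    have := x.1.2; have := y.1.2
    field_simp at h1
    exact h1.symm
  · obtain ⟨⟨t, s⟩, -, rfl⟩ := Finset.mem_image.1 hl
    exact ⟨t, t.2, s.1, s.1.2, s.2, rfl⟩

end CfsgLib.MinDegree
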