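import Cfsg.Agent.MinDegree.SympTwoCount

/-!
# The smallest `Sp(2m,2)`-sets, `m ≥ 3`

`le_card_sp_two`: a nonempty finite `Sp(2m,2)`-set without fixed points has at least
`2^(m-1) (2^m - 1)` points.
-/

set_option autoImplicit false

namespace CfsgLib.MinDegree

open Matrix CfsgLib.Forms CfsgLib.Forms4 MulAction

variable {F : Type*} [Field F] [Fintype F] {m : ℕ} {Ω : Type*}
  [MulAction (Matrix.symplecticGroup (Fin m) F) Ω]

local notation "V" => Fin m ⊕ Fin m → F
local notation "Sp" => Matrix.symplecticGroup (Fin m) F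
local notation "⟪" x ", " y "⟫" => Cfsg.sympForm m F x y

theorem spTransv_zero_vec (c : F) : spTransv (0 : V) c = 1 :=
  sp_ext fun y => by simp [spTransv_mulVec, sp_one_mulVec]

theorem braid (hF : Fintype.card F = 2) {a b : V} (h : ⟪a, b⟫ = 1) :
    spTransv a (1 : F) * spTransv b 1 * spTransv a 1 = spTransv (a + b) 1 := by
  have e : spTransv a (1 : F) * spTransv b 1 * (spTransv a 1)⁻¹ = spTransv (a + b) 1 := by
    rw [conj_spTransv, spTransv_mulVec, one_mul, sympForm_comm_two hF b a, h, one_smul,
      add_comm b a]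
  rwa [inv_spTransv_one hF] at e

theorem smul_self_two (hF : Fintype.card F = 2) (a : V) (x : Ω) :
    spTransv a (1 : F) • spTransv a (1 : F) • x = x := by
  rw [← mul_smul, spTransv_one_sq hF, one_smul]

theorem eq_top_of_transv (hF : Fintype.card F = 2) (M : Subgroup Sp)
    (h : ∀ a : V, a ≠ 0 → spTransv a (1 : F) ∈ M) : M = ⊤ := by
  rw [eq_top_iff, ← transvGroup_eq_top, transvGroup, Subgroup.closure_le]
  rintro _ ⟨a, -, c, rfl⟩
  have h0 : spTransv a (0 : F) = 1 := sp_ext fun y => by simp [spTransv_mulVec, sp_one_mulVec]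
  rcases zero_or_one hF c with rfl | rfl
  · rw [h0]; exact M.one_mem
  · rcases eq_or_ne a 0 with rfl | ha
    · rw [spTransv_zero_vec]; exact M.one_mem
    · exact h a ha

theorem le_card_sp_two [Finite Ω] [Nonempty Ω] (hF : Fintype.card F = 2) {k : ℕ}
    (hk : m = k + 1) (hk2 : 2 ≤ k) (hno : ∀ x : Ω, stabilizer Sp x ≠ ⊤) :
    2 ^ k * (2 ^ (k + 1) - 1) ≤ Nat.card Ω := by
  classical
  have := Fintype.ofFinite Ω
  obtain ⟨P, hP⟩ : ∃ P, P = 2 ^ k := ⟨_, rfl⟩
  have hP4 : 4 ≤ P := le_trans (by norm_num) (hP ▸ Nat.pow_le_pow_right (by norm_num : 1 ≤ 2) hk2)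
  by_contra hlt
  push Not at hlt
  have hN : 2 ^ k * (2 ^ (k + 1) - 1) = 2 * (P * P) - P := by
    rw [pow_succ, ← hP, Nat.mul_sub, mul_one, ← mul_assoc, mul_comm (P * P)]
  rw [hN] at hlt
  have hsplit : ∀ a : V, Nat.card {z : Ω // spTransv a (1 : F) • z ≠ z} +
      Nat.card {z : Ω // spTransv a (1 : F) • z = z} = Nat.card Ω := fun a => by
    rw [add_comm, ← Nat.card_sum]
    exact Nat.card_congr (Equiv.sumCompl _)
  -- every transvection moves a point
  have hmv : ∀ a : V, a ≠ 0 → ∃ z : Ω, spTransv a (1 : F) • z ≠ z := by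
    intro a ha
    by_contra! h
    obtain ⟨x⟩ := ‹Nonempty Ω›
    refine hno x (eq_top_of_transv hF _ fun b hb => ?_)
    obtain ⟨A, hA⟩ := exists_mulVec_eq ha hb
    rw [MulAction.mem_stabilizer_iff, ← hA, ← conj_spTransv, mul_smul, mul_smul, h,
      smul_inv_smul]
  -- the root group fixes what its transvection fixes
  have hroot : ∀ {u v : V}, ⟪u, v⟫ = 1 → ∀ x : Ω, spTransv u (1 : F) • x = x →
      ∀ w ∈ perp2 u v, ∀ c, rootEl u w c • x = x := by
    intro u v huv x hx w hw c
    by_contra hne
    have h1 := fixed_bound hF huv hk hx hw hne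
    have hu : u ≠ 0 := fun h => by rw [h, sympForm_zero_left] at huv; exact zero_ne_one huv
    obtain ⟨y, hy⟩ := hmv u hu
    have h2 := (moved_bound hF huv hk hk2 hy).1
    have := hsplit u
    rw [← hP, Nat.mul_sub, mul_one] at h2
    rw [← hP, sq] at h1
    have : P ≤ P * P := Nat.le_mul_self P
    omega
  have hfull : ∀ {u v : V}, ⟪u, v⟫ = 1 → ∀ x : Ω, spTransv u (1 : F) • x ≠ x →
      Full u v x := by
    intro u v huv x hx
    by_contra hne
    have h1 := (moved_bound hF huv hk hk2 hx).2 hne
    have := hsplit u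
    rw [hN] at h1
    omega
  -- no transvection fixes a point
  have hfree : ∀ a : V, a ≠ 0 → ∀ x : Ω, spTransv a (1 : F) • x ≠ x := by
    intro a ha x hx
    obtain ⟨b, hb, hbx⟩ : ∃ b : V, b ≠ 0 ∧ spTransv b (1 : F) • x ≠ x := by
      by_contra! h
      exact hno x (eq_top_of_transv hF _ fun b hb => MulAction.mem_stabilizer_iff.2 (h b hb))
    obtain ⟨v, u, huv, hv, hu⟩ : ∃ v u : V, ⟪u, v⟫ = 1 ∧ spTransv v (1 : F) • x = x ∧
        spTransv u (1 : F) • x ≠ x := by
      obtain ⟨z, hza, hzb⟩ := exists_sympForm_ne_zero_two ha hb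
      have hza := eq_one_of_ne_zero hF hza
      have hzb := eq_one_of_ne_zero hF hzb
      by_cases hz : spTransv z (1 : F) • x = x
      · exact ⟨z, b, hzb, hz, hbx⟩
      · exact ⟨a, z, by rw [sympForm_comm_two hF, hza], hx, hz⟩
    have hvu : ⟪v, u⟫ = 1 := by rw [sympForm_comm_two hF, huv]
    obtain ⟨Q, hQ⟩ := exists_mem_ext hF huv hu
    obtain ⟨w, hw, hQw⟩ : ∃ w ∈ perp2 u v, Q w = 1 := by
      obtain ⟨r, hr, hr0⟩ : ∃ r ∈ perp2 u v, r ≠ 0 := by
        by_contra! h
        have h1 : Nat.card (perp2 u v) ≤ 1 := by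
          have : Subsingleton (perp2 u v) :=
            ⟨fun p q => Subtype.ext ((h _ p.2).trans (h _ q.2).symm)⟩
          exact Finite.card_le_one_iff_subsingleton.2 this
        rw [lt_card_perp2 hF huv hk, ← hP, sq] at h1
        have := Nat.le_mul_self P
        omega
      obtain ⟨a', ha', -, -, hQa', -⟩ := exists_pair_one hF huv hk hk2 hQ.1 hr hr0
      exact ⟨a', ha', hQa'⟩
    have hh : rootEl u w (1 : F) • x = x := by
      obtain ⟨c, hc⟩ := hfull huv x hu w hw
      have := hQ.2.2.2 w c hc
      rw [hQw] at this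
      rw [this]; exact hc.2
    set g := rootEl u w (1 : F) with hg
    obtain ⟨b', hb'⟩ : ∃ b', b' = g.1 *ᵥ v := ⟨_, rfl⟩
    have hb'x : spTransv b' (1 : F) • x = x := by
      rw [hb', ← conj_spTransv, mul_smul, mul_smul, inv_smul_eq_iff.2 hh.symm, hv, hh]
    have hvb' : ⟪v, b'⟫ = 1 := by
      rw [hb', hg, rootEl_mulVec (mem_perp2.1 hw).1]
      simp [sympForm_add_right, sympForm_smul_right, sympForm_self, hvu,
        sympForm_comm_two hF v w, (mem_perp2.1 hw).2]
    -- all transvections fix `x`
    have hone : ∀ y : V, ⟪v, y⟫ = 1 → spTransv y (1 : F) • x = x := by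
      intro y hy
      have hp := proj_mem_perp2 hvb' (y - b')
      have hv0 : ⟪y - b', v⟫ = 0 := by
        rw [sympForm_sub_left, sympForm_comm_two hF y v, hy, sympForm_comm_two hF b' v, hvb',
          sub_self]
      rw [hv0, zero_smul, add_zero] at hp
      have hfix := hroot hvb' x hv _ hp ⟪y - b', b'⟫
      have heq : (rootEl v (y - b' - ⟪y - b', b'⟫ • v) ⟪y - b', b'⟫).1 *ᵥ b' = y := by
        rw [rootEl_mulVec (mem_perp2.1 hp).1, sympForm_comm_two hF b' v, hvb',
          sympForm_comm_two hF b', (mem_perp2.1 hp).2]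
        module
      rw [← heq, ← conj_spTransv, mul_smul, mul_smul, inv_smul_eq_iff.2 hfix.symm, hb'x, hfix]
    refine hno x (eq_top_of_transv hF _ fun y hy => MulAction.mem_stabilizer_iff.2 ?_)
    rcases zero_or_one hF ⟪v, y⟫ with h0 | h0
    swap
    · exact hone y h0
    have hv0 : v ≠ 0 := fun h => by rw [h, sympForm_zero_left] at hvu; exact zero_ne_one hvu
    obtain ⟨z, hz1, hz2⟩ := exists_sympForm_ne_zero_two hv0 hy
    have hz1 := eq_one_of_ne_zero hF hz1
    have hz2 := eq_one_of_ne_zero hF hz2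
    have hzy : ⟪z, z + y⟫ = 1 := by
      rw [sympForm_add_right, sympForm_self, zero_add, sympForm_comm_two hF, hz2]
    have e1 := hone z hz1
    have e2 := hone (z + y) (by rw [sympForm_add_right, hz1, h0, add_zero])
    have := congrArg (· • x) (braid hF hzy)
    simp only [mul_smul, e1, e2] at this
    rw [← add_assoc, vec_add_self hF, zero_add] at this
    exact this.symm
  -- the transvections at a hyperbolic pair agree
  have hagree : ∀ {u v : V}, ⟪u, v⟫ = 1 → ∀ x : Ω,
      spTransv u (1 : F) • x = spTransv v (1 : F) • x := by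
    intro u v huv x
    have hu : u ≠ 0 := fun h => by rw [h, sympForm_zero_left] at huv; exact zero_ne_one huv
    obtain ⟨Q, hQ⟩ := exists_mem_ext hF huv (hfree u hu x)
    let Φ := Finset.univ.filter fun z : Ω => Q ∈ ext u v z
    have hlab : ∀ z, z ∈ Φ ↔ Q ∈ ext u v z := fun z => by simp [Φ]
    have hsize : ∀ z : Ω, (Rvec u v z).ncard = 1 := by
      intro z
      obtain ⟨Q', hQ'⟩ := exists_mem_ext hF huv (hfree u hu z)
      rw [← ncard_ext hF huv hQ']
      have hs := ext_subsingleton hF huv (hfull huv z (hfree u hu z))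
      rw [Set.ncard_eq_one]
      exact ⟨Q', hs.eq_singleton_of_mem hQ'⟩
    have hΦ : Φ.card ≤ 4 := by
      obtain ⟨Y, hY, hYmem⟩ := card_shifts hF (u := u) (v := v) (Q := Q) fun r => Q r = 0
      have h := double_count hF huv (Ω := Ω) (s := 1) (c := Φ.card) Y (fun Q' hQ' => by
        obtain ⟨r, hr, hQr, rfl⟩ := hYmem Q' hQ'
        refine ⟨Φ.image fun z => spTransv r (1 : F) • z, ?_, fun w hw => ?_⟩
        · rw [Finset.card_image_of_injective _ (MulAction.injective _)]
        · obtain ⟨z, hz, rfl⟩ := Finset.mem_image.1 hw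
          exact ⟨hfree u hu _, hsize _, label_shift hF hr ((hlab z).1 hz) hQr⟩)
      have hz := zeros_perp2 hF huv hk hQ.1
      rw [← hY, ← hP, sq] at hz
      have := hsplit u
      by_contra! h5
      have h6 : Y.card * 5 ≤ Y.card * Φ.card := Nat.mul_le_mul_left _ h5
      have : 4 * P ≤ P * P := Nat.mul_le_mul_right _ hP4
      omega
    have hx : x ∈ Φ := (hlab x).2 hQ
    have htΦ : ∀ a ∈ perp2 u v, Q a = 1 → ∀ z ∈ Φ, spTransv a (1 : F) • z ∈ Φ :=
      fun a ha hQa z hz => (hlab _).2 (label_smul hF ha ((hlab z).1 hz) hQa)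
    have hne : ∀ a ∈ perp2 u v, Q a = 1 → a ≠ 0 := fun a _ hQa h => by
      rw [h, hQ.1.map_zero] at hQa; exact zero_ne_one hQa
    -- non-orthogonal transvections preserving the label agree on it
    have hsame : ∀ a ∈ perp2 u v, ∀ b ∈ perp2 u v, Q a = 1 → Q b = 1 → ⟪a, b⟫ = 1 → ∀ z ∈ Φ,
        spTransv a (1 : F) • z = spTransv b (1 : F) • z := by
      intro a ha b hb hQa hQb hab
      set σ := spTransv a (1 : F)
      set τ := spTransv b (1 : F)
      have hcomm : ∀ z ∈ Φ, σ • τ • z = τ • σ • z := by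
        intro z hz
        by_cases he : σ • z = τ • z
        · rw [← he]
          conv_rhs => rw [he]
          rw [smul_self_two hF, smul_self_two hF]
        by_contra hne'
        have hσ := hfree a (hne a ha hQa)
        have hτ := hfree b (hne b hb hQb)
        have n1 : z ≠ σ • z := (hσ z).symm
        have n2 : z ≠ τ • z := (hτ z).symm
        have n3 : z ≠ σ • τ • z := fun h => he (by
          conv_lhs => rw [h]
          rw [smul_self_two hF])
        have n4 : z ≠ τ • σ • z := fun h => he (by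
          conv_rhs => rw [h]
          rw [smul_self_two hF])
        have n5 : σ • z ≠ σ • τ • z := fun h => n2 (smul_left_cancel σ h)
        have n6 : τ • z ≠ σ • τ • z := (hσ _).symm
        have n7 : σ • z ≠ τ • σ • z := (hτ _).symm
        have n8 : τ • z ≠ τ • σ • z := fun h => n1 (smul_left_cancel τ h)
        have hsub : ({z, σ • z, τ • z, σ • τ • z, τ • σ • z} : Finset Ω) ⊆ Φ := by
          simp only [Finset.insert_subset_iff, Finset.singleton_subset_iff]
          exact ⟨hz, htΦ a ha hQa z hz, htΦ b hb hQb z hz, htΦ a ha hQa _ (htΦ b hb hQb z hz),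
            htΦ b hb hQb _ (htΦ a ha hQa z hz)⟩
        have := (Finset.card_le_card hsub).trans hΦ
        rw [Finset.card_insert_of_notMem (by simp [n1, n2, n3, n4]),
          Finset.card_insert_of_notMem (by simp [he, n5, n7]),
          Finset.card_insert_of_notMem (by simp [n6, n8]),
          Finset.card_insert_of_notMem (by simpa using hne'), Finset.card_singleton] at this
        omega
      intro z hz
      have hbr : σ * τ * σ = τ * σ * τ := by
        rw [braid hF hab, braid hF (by rw [sympForm_comm_two hF, hab]), add_comm]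
      have h1 := congrArg (· • z) hbr
      simp only [mul_smul] at h1
      rw [hcomm _ (htΦ a ha hQa z hz), smul_self_two hF, ← hcomm _ (htΦ b hb hQb z hz),
        smul_self_two hF] at h1
      exact h1.symm
    set S := spTransv u (1 : F) * spTransv v 1 with hS
    have hScomm : ∀ a ∈ perp2 u v, spTransv a (1 : F) * S = S * spTransv a 1 := by
      intro a ha
      rw [hS, ← mul_assoc, levi_comm_transv_left (spTransv_mem_levi (u := u) (v := v) ha 1),
        mul_assoc, levi_comm_transv_right (spTransv_mem_levi (u := u) (v := v) ha 1), mul_assoc]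
    have hSΦ : ∀ z ∈ Φ, S • z ∈ Φ := by
      intro z hz
      obtain ⟨Q', hQ'⟩ := exists_mem_ext hF huv (hfree u hu (S • z))
      obtain ⟨r, hr⟩ := hQ.1.exists_shift hQ'.1 hF
      have hrp : r ∈ perp2 u v := by
        refine ⟨?_, ?_⟩
        · have := hQ'.2.1; rwa [hr, shift_apply, hQ.2.1, zero_add] at this
        · have := hQ'.2.2.1; rwa [hr, shift_apply, hQ.2.2.1, zero_add] at this
      rcases eq_or_ne r 0 with rfl | hr0
      · rw [hlab, ← shift_zero Q, ← hr]; exact hQ'
      exfalso
      obtain ⟨a, ha, b, hb, hQa, hQb, hab, hrab⟩ := exists_pair_one hF huv hk hk2 hQ.1 hrp hr0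
      set g := spTransv a (1 : F) * spTransv b 1 with hg
      have hgm : g ∈ levi u v := mul_mem (spTransv_mem_levi ha 1) (spTransv_mem_levi hb 1)
      have hgz : g • S • z = S • z := by
        rw [← mul_smul, hg, mul_assoc, hScomm b hb, ← mul_assoc, hScomm a ha, mul_smul, mul_smul,
          ← hsame a ha b hb hQa hQb hab z hz, smul_self_two hF]
      have hgQ := ext_levi hgm _ hQ'
      rw [hgz] at hgQ
      have heq := ext_subsingleton hF huv (hfull huv _ (hfree u hu _)) hgQ hQ'
      have hinv : ∀ y, (g⁻¹).1 *ᵥ y = (spTransv b (1 : F)).1 *ᵥ ((spTransv a (1 : F)).1 *ᵥ y) :=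
        fun y => by rw [hg, _root_.mul_inv_rev, inv_spTransv_one hF, inv_spTransv_one hF, sp_mul_mulVec]
      have key : ∀ y, ⟪r, (g⁻¹).1 *ᵥ y⟫ = ⟪r, y⟫ := by
        intro y
        have h1 := congrFun heq y
        rw [hr, shift_apply, shift_apply] at h1
        have h2 : Q ((g⁻¹).1 *ᵥ y) = Q y := by
          rw [hinv, congrFun (hQ.1.comp_transv_of_one hF hQb) _,
            congrFun (hQ.1.comp_transv_of_one hF hQa) y]
        rw [h2] at h1
        exact add_left_cancel h1
      have hgr : g.1 *ᵥ r = r := by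
        refine sub_eq_zero.1 (sympForm_sep _ fun y => ?_)
        conv_lhs => rw [← sp_mulVec_inv_self g y]
        rw [sympForm_sub_left, sympForm_map, sp_mulVec_inv_self, key, sub_self]
      rw [hg, sp_mul_mulVec, spTransv_mulVec, one_mul, spTransv_mulVec, one_mul] at hgr
      rcases zero_or_one hF ⟪r, b⟫ with hrb | hrb
      · rcases hrab with h | h
        · rw [hrb, zero_smul, add_zero, h, one_smul, add_eq_left] at hgr
          exact hne a ha hQa hgr
        · rw [hrb] at h; exact zero_ne_one h
      · have h3 := congrArg (fun y => ⟪y, a⟫) hgr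
        simp only [hrb, one_smul, sympForm_add_left, sympForm_smul_left, sympForm_self, mul_zero,
          add_zero, add_eq_left] at h3
        rw [sympForm_comm_two hF, hab] at h3
        exact one_ne_zero h3
    have hcube : S * S * S = 1 := by
      have hbr : spTransv u (1 : F) * spTransv v 1 * spTransv u 1 =
          spTransv v 1 * spTransv u 1 * spTransv v 1 := by
        rw [braid hF huv, braid hF (by rw [sympForm_comm_two hF, huv]), add_comm]
      calc S * S * S = spTransv u (1 : F) * spTransv v 1 * spTransv u 1 *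
            (spTransv v 1 * spTransv u 1 * spTransv v 1) := by rw [hS]; group
        _ = _ := by
          rw [← hbr]
          calc _ = spTransv u (1 : F) * (spTransv v 1 * (spTransv u 1 * spTransv u 1) *
                spTransv v 1) * spTransv u 1 := by group
            _ = 1 := by rw [spTransv_one_sq hF, mul_one, spTransv_one_sq hF, mul_one,
                spTransv_one_sq hF]
    have hS3 : ∀ z : Ω, S • S • S • z = z := fun z => by
      rw [← mul_smul, ← mul_smul, hcube, one_smul]
    have hfixS : S • x = x := by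
      by_contra hSx
      obtain ⟨a, ha, -, -, hQa, -⟩ : ∃ a ∈ perp2 u v, ∃ b ∈ perp2 u v, Q a = 1 ∧ Q b = 1 := by
        obtain ⟨r, hr, hr0⟩ : ∃ r ∈ perp2 u v, r ≠ 0 := by
          by_contra! h
          have h1 : Nat.card (perp2 u v) ≤ 1 := by
            have : Subsingleton (perp2 u v) :=
              ⟨fun p q => Subtype.ext ((h _ p.2).trans (h _ q.2).symm)⟩
            exact Finite.card_le_one_iff_subsingleton.2 this
          rw [lt_card_perp2 hF huv hk, ← hP, sq] at h1
          have := Nat.le_mul_self P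
          omega
        obtain ⟨a, ha, b, hb, h1, h2, -⟩ := exists_pair_one hF huv hk hk2 hQ.1 hr hr0
        exact ⟨a, ha, b, hb, h1, h2⟩
      set τ := spTransv a (1 : F)
      have hτ : ∀ z : Ω, τ • S • z = S • τ • z := fun z => by
        rw [← mul_smul, hScomm a ha, mul_smul]
      have hτf := hfree a (hne a ha hQa)
      have n01 : x ≠ S • x := Ne.symm hSx
      have n02 : x ≠ S • S • x := fun h => hSx (by
        conv_lhs => rw [h]
        rw [hS3])
      have n12 : S • x ≠ S • S • x := fun h => n01 (smul_left_cancel S h)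
      have m01 : τ • x ≠ S • x := fun h => by
        have h' : τ • τ • x = S • S • x := by rw [h, hτ, h]
        rw [smul_self_two hF] at h'
        exact n02 h'
      have m02 : τ • x ≠ S • S • x := fun h => by
        have h' : τ • τ • x = S • S • S • S • x := by rw [h, hτ, hτ, h]
        rw [smul_self_two hF, hS3] at h'
        exact n01 h'
      have m11 : τ • S • x ≠ x := fun h => m01 (by
        conv_lhs => rw [← h]
        rw [smul_self_two hF])
      have m12 : τ • S • x ≠ S • S • x := fun h => m01 (smul_left_cancel S (by rwa [← hτ]))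
      have hsub : ({x, S • x, S • S • x, τ • x, τ • S • x} : Finset Ω) ⊆ Φ := by
        simp only [Finset.insert_subset_iff, Finset.singleton_subset_iff]
        exact ⟨hx, hSΦ x hx, hSΦ _ (hSΦ x hx), htΦ a ha hQa x hx, htΦ a ha hQa _ (hSΦ x hx)⟩
      have := (Finset.card_le_card hsub).trans hΦ
      rw [Finset.card_insert_of_notMem (by
            simp only [Finset.mem_insert, Finset.mem_singleton, not_or]
            exact ⟨n01, n02, (hτf x).symm, Ne.symm m11⟩),
        Finset.card_insert_of_notMem (by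
            simp only [Finset.mem_insert, Finset.mem_singleton, not_or]
            exact ⟨n12, Ne.symm m01, (hτf (S • x)).symm⟩),
        Finset.card_insert_of_notMem (by simp [Ne.symm m02, Ne.symm m12]),
        Finset.card_insert_of_notMem
          (Finset.notMem_singleton.2 fun h => n01 (smul_left_cancel τ h)),
        Finset.card_singleton] at this
      omega
    rw [hS, mul_smul] at hfixS
    conv_lhs => rw [← hfixS]
    rw [smul_self_two hF]
  -- conclusion
  obtain ⟨x⟩ := ‹Nonempty Ω›
  have hall : ∀ a b : V, a ≠ 0 → b ≠ 0 → ∀ z : Ω,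
      spTransv a (1 : F) • z = spTransv b (1 : F) • z := by
    intro a b ha hb z
    obtain ⟨y, hy1, hy2⟩ := exists_sympForm_ne_zero_two ha hb
    rw [hagree (eq_one_of_ne_zero hF hy1) z, hagree (eq_one_of_ne_zero hF hy2) z]
  have hm0 : 0 < m := by omega
  obtain ⟨u, hu⟩ : ∃ u : V, u = Pi.single (Sum.inl ⟨0, hm0⟩) 1 := ⟨_, rfl⟩
  have hu0 : u ≠ 0 := hu ▸ fun h => by simpa using congrFun h (Sum.inl ⟨0, hm0⟩)
  obtain ⟨v, huv⟩ := exists_pair hu0
  obtain ⟨Q, hQ⟩ := exists_mem_ext hF huv (hfree u hu0 x)
  obtain ⟨b, hb, hb0, hQb⟩ : ∃ b ∈ perp2 u v, b ≠ 0 ∧ Q b = 0 := by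
    by_contra! h
    have h1 : Nat.card {r : perp2 u v // Q r = 0} ≤ 1 := by
      have : Subsingleton {r : perp2 u v // Q r = 0} := ⟨fun p q => by
        have hp : (p.1 : V) = 0 := by by_contra hp; exact h _ p.1.2 hp p.2
        have hq : (q.1 : V) = 0 := by by_contra hq; exact h _ q.1.2 hq q.2
        exact Subtype.ext (Subtype.ext (hp.trans hq.symm))⟩
      exact Finite.card_le_one_iff_subsingleton.2 this
    have h2 := zeros_perp2 hF huv hk hQ.1
    rw [← hP, sq] at h2
    have : 4 * P ≤ P * P := Nat.mul_le_mul_right _ hP4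
    omega
  obtain ⟨c, hc⟩ := hfull huv x (hfree u hu0 x) b hb
  have hc0 := hQ.2.2.2 b c hc
  rw [hQb] at hc0
  have hfix := hc.2
  rw [← hc0, rootEl, zero_sub, neg_two hF, mul_smul, mul_smul] at hfix
  have hub : u + b ≠ 0 := fun h => by
    have := congrArg (fun y => ⟪y, v⟫) h
    simp [sympForm_add_left, huv, (mem_perp2.1 hb).2, sympForm_zero_left] at this
  rw [hall b u hb0 hu0 x, smul_self_two hF, hall (u + b) u hub hu0 x] at hfix
  exact hfree u hu0 x hfix

end CfsgLib.MinDegree
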