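import Cfsg.Agent.MinDegree.SympTwoForms

/-!
# The stabiliser of an elliptic form in `Sp(2m,2)`
-/

set_option autoImplicit false

namespace CfsgLib.MinDegree

open Matrix CfsgLib.Forms CfsgLib.Forms4

variable {F : Type*} [Field F] [Fintype F] {m : ℕ}

local notation "V" => Fin m ⊕ Fin m → F
local notation "Sp" => Matrix.symplecticGroup (Fin m) F

theorem exists_value (hF : Fintype.card F = 2) (hm : 1 ≤ m) {Q : V → F} (hQ : IsForm Q) :
    ∃ w, Q w = 1 := by
  by_contra! h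
  have h0 : ∀ w, Q w = 0 := fun w => (zero_or_one hF (Q w)).resolve_right (h w)
  obtain ⟨v, hv⟩ := exists_pair (u := (Pi.single (Sum.inl ⟨0, hm⟩) 1 : V))
    fun h => by simpa using congrFun h (Sum.inl ⟨0, hm⟩)
  have := hQ (Pi.single (Sum.inl ⟨0, hm⟩) 1) v
  rw [h0, h0, h0, hv, zero_add, zero_add] at this
  exact zero_ne_one this

/-- An elliptic form exists. -/
theorem exists_elliptic (hF : Fintype.card F = 2) (hm : 1 ≤ m) :
    ∃ Q : V → F, IsForm Q ∧ 2 * numZeros Q + 2 ^ m = (2 ^ m) ^ 2 := by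
  have hS := isForm_stdForm (m := m) hF
  rcases numZeros_or hF hS with h | h
  · exact ⟨_, hS, h⟩
  · obtain ⟨w, hw⟩ := exists_value hF hm hS
    refine ⟨_, hS.shift w, ?_⟩
    have h' := numZeros_shift hS hF hw
    rw [hF, show 2 ^ (2 * m) = (2 ^ m) ^ 2 by rw [← pow_mul, mul_comm]] at h'
    omega

/-- The isometry group of a form. -/
def formStab (Q : V → F) : Subgroup Sp where
  carrier := {A | ∀ x, Q (A.1 *ᵥ x) = Q x}
  one_mem' := fun x => by rw [Submonoid.coe_one, Matrix.one_mulVec]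
  mul_mem' {A B} ha hb x := by
    rw [Submonoid.coe_mul, ← Matrix.mulVec_mulVec, ha, hb]
  inv_mem' {A} ha x := by
    conv_rhs => rw [← show A.1 *ᵥ ((A⁻¹).1 *ᵥ x) = x by
      rw [Matrix.mulVec_mulVec, ← Submonoid.coe_mul, mul_inv_cancel, Submonoid.coe_one,
        Matrix.one_mulVec]]
    rw [ha]

theorem index_formStab (hF : Fintype.card F = 2) (hm : 1 ≤ m) {Q : V → F} (hQ : IsForm Q)
    (hell : 2 * numZeros Q + 2 ^ m = (2 ^ m) ^ 2) :
    2 * (formStab Q).index + 2 ^ m = (2 ^ m) ^ 2 := by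
  classical
  let α : MulAction Sp (V → F) :=
    { smul := fun A Q x => Q ((A⁻¹).1 *ᵥ x)
      one_smul := fun Q => funext fun x => by
        change Q ((1⁻¹ : Sp).1 *ᵥ x) = Q x
        rw [inv_one, sp_one_mulVec]
      mul_smul := fun A B Q => funext fun x => by
        change Q (((A * B)⁻¹).1 *ᵥ x) = Q ((B⁻¹).1 *ᵥ ((A⁻¹).1 *ᵥ x))
        rw [_root_.mul_inv_rev, sp_mul_mulVec] }
  have hstab : formStab Q = MulAction.stabilizer Sp Q := by
    ext A
    rw [MulAction.mem_stabilizer_iff]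
    constructor
    · intro h
      exact funext fun x => (inv_mem h : A⁻¹ ∈ formStab Q) x
    · intro h x
      conv_lhs => rw [← h]
      change Q ((A⁻¹).1 *ᵥ (A.1 *ᵥ x)) = Q x
      rw [sp_inv_mulVec_self]
  rw [hstab, MulAction.index_stabilizer]
  have horb : MulAction.orbit Sp Q = shift Q '' {w | Q w = 0} := by
    ext Q'
    constructor
    · rintro ⟨A, rfl⟩
      change (fun x => Q ((A⁻¹).1 *ᵥ x)) ∈ _
      obtain ⟨w, hw⟩ := hQ.exists_shift (hQ.comp A⁻¹) hF
      refine ⟨w, ?_, hw.symm⟩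
      by_contra hne
      have h1 := numZeros_shift hQ hF (eq_one_of_ne_zero hF hne)
      rw [← hw, numZeros_comp, hF, show 2 ^ (2 * m) = (2 ^ m) ^ 2 by rw [← pow_mul, mul_comm]] at h1
      have : 0 < 2 ^ m := by positivity
      omega
    · rintro ⟨w, hw, rfl⟩
      refine ⟨(spTransv w (1 : F))⁻¹, ?_⟩
      change (fun x => Q (((spTransv w (1 : F))⁻¹⁻¹).1 *ᵥ x)) = _
      rw [inv_inv, hQ.comp_transv_of_zero hF hw]
  rw [horb, Set.ncard_image_of_injective _ fun a b h => shift_inj h, ← Nat.card_coe_set_eq]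
  exact hell

end CfsgLib.MinDegree
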