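import Cfsg.Agent.MinDegree.SympTwoRoot

/-!
# Counting the points moved and fixed by a transvection in a `Sp(2m,2)`-set
-/

set_option autoImplicit false

namespace CfsgLib.MinDegree

open Matrix CfsgLib.Forms CfsgLib.Forms4 MulAction

variable {F : Type*} [Field F] [Fintype F] {m : ℕ} {Ω : Type*}
  [MulAction (Matrix.symplecticGroup (Fin m) F) Ω]

local notation "V" => Fin m ⊕ Fin m → F
local notation "Sp" => Matrix.symplecticGroup (Fin m) F
local notation "⟪" x ", " y "⟫" => Cfsg.sympForm m F x y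

theorem rootEl_comm_transv (hF : Fintype.card F = 2) {u w : V} (h : ⟪w, u⟫ = 0) (c d : F) :
    spTransv u d * rootEl u w c = rootEl u w c * spTransv u d := by
  rw [← rootEl_zero, rootEl_comm hF (sympForm_zero_left u) h]

theorem levi_comm_transv_left {u v : V} {A : Sp} (hA : A ∈ levi u v) (c : F) :
    A * spTransv u c = spTransv u c * A := by
  rw [← mul_inv_eq_iff_eq_mul, conj_spTransv, levi_fix_left hA]

theorem levi_comm_transv_right {u v : V} {A : Sp} (hA : A ∈ levi u v) (c : F) :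
    A * spTransv v c = spTransv v c * A := by
  rw [← mul_inv_eq_iff_eq_mul, conj_spTransv, levi_fix_right hA]

theorem moved_levi {u v : V} {A : Sp} (hA : A ∈ levi u v) {x : Ω}
    (h : spTransv u (1 : F) • x ≠ x) : spTransv u (1 : F) • A • x ≠ A • x := by
  rw [← mul_smul, ← levi_comm_transv_left hA, mul_smul]
  exact fun e => h (smul_left_cancel A e)

theorem moved_rootEl (hF : Fintype.card F = 2) {u w : V} (hw : ⟪w, u⟫ = 0) (c : F) {x : Ω}
    (h : spTransv u (1 : F) • x ≠ x) :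
    spTransv u (1 : F) • rootEl u w c • x ≠ rootEl u w c • x := by
  rw [← mul_smul, rootEl_comm_transv hF hw, mul_smul]
  exact fun e => h (smul_left_cancel _ e)

theorem inv_spTransv_one (hF : Fintype.card F = 2) (a : V) :
    (spTransv a (1 : F))⁻¹ = spTransv a 1 :=
  inv_eq_of_mul_eq_one_right (spTransv_one_sq hF a)

/-- Double counting moved points against labelling forms. -/
theorem double_count [Fintype Ω] [DecidableEq Ω] (hF : Fintype.card F = 2) {u v : V}
    (huv : ⟪u, v⟫ = 1) {s c : ℕ} (Y : Finset (V → F))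
    (hY : ∀ Q ∈ Y, ∃ P : Finset Ω, c ≤ P.card ∧
      ∀ z ∈ P, spTransv u (1 : F) • z ≠ z ∧ (Rvec u v z).ncard = s ∧ Q ∈ ext u v z) :
    Y.card * c ≤ Nat.card {z : Ω // spTransv u (1 : F) • z ≠ z} * s := by
  classical
  rw [Nat.card_eq_fintype_card, Fintype.card_subtype]
  let T := Finset.univ.filter fun z : Ω =>
    spTransv u (1 : F) • z ≠ z ∧ (Rvec u v z).ncard = s
  refine le_trans (Finset.card_mul_le_card_mul (fun Q z => Q ∈ ext u v z) (t := T) ?_ ?_)
    (Nat.mul_le_mul_right s (Finset.card_le_card fun z hz => ?_))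
  · intro Q hQ
    obtain ⟨P, hP, hP'⟩ := hY Q hQ
    refine hP.trans (Finset.card_le_card fun z hz => ?_)
    obtain ⟨h1, h2, h3⟩ := hP' z hz
    simp only [Finset.bipartiteAbove, Finset.mem_filter, T]
    exact ⟨⟨Finset.mem_univ _, h1, h2⟩, h3⟩
  · intro z hz
    simp only [T, Finset.mem_filter, Finset.mem_univ, true_and] at hz
    by_cases h : ∃ Q, Q ∈ ext u v z
    · obtain ⟨Q, hQ⟩ := h
      rw [← hz.2, ← ncard_ext hF huv hQ, ← Set.ncard_coe_finset]
      exact Set.ncard_le_ncard (fun Q' hQ' => (Finset.mem_filter.1 hQ').2) (Set.toFinite _)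
    · rw [Finset.bipartiteBelow, Finset.filter_false_of_mem fun Q _ hQ => h ⟨Q, hQ⟩,
        Finset.card_empty]
      exact Nat.zero_le _
  · simp only [T, Finset.mem_filter] at hz ⊢
    exact ⟨hz.1, hz.2.1⟩

/-- The orbit of the root group through `x`. -/
noncomputable def rootOrbit [Fintype Ω] (u v : V) (x : Ω) : Finset Ω :=
  (Set.toFinite (Set.range fun p : perp2 u v × F => rootEl u (p.1 : V) p.2 • x)).toFinset

theorem mem_rootOrbit [Fintype Ω] (hF : Fintype.card F = 2) {u v : V} {x z : Ω} {Q : V → F}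
    (hmov : spTransv u (1 : F) • x ≠ x) (hQ : Q ∈ ext u v x) (hz : z ∈ rootOrbit u v x) :
    (spTransv u (1 : F) • z ≠ z ∧ (Rvec u v z).ncard = (Rvec u v x).ncard ∧ Q ∈ ext u v z) ∧
      Rvec u v z = Rvec u v x := by
  rw [rootOrbit, Set.Finite.mem_toFinset] at hz
  obtain ⟨⟨a, b⟩, rfl⟩ := hz
  refine ⟨⟨moved_rootEl hF (mem_perp2.1 a.2).1 b hmov, ?_, ?_⟩, ?_⟩
  · rw [Rvec_smul hF a.2]
  · rw [ext_smul hF a.2]; exact hQ
  · rw [Rvec_smul hF a.2]

theorem card_rootOrbit [Fintype Ω] (hF : Fintype.card F = 2) {u v : V} (huv : ⟪u, v⟫ = 1) {x : Ω}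
    (hmov : spTransv u (1 : F) • x ≠ x) : 2 * (Rvec u v x).ncard ≤ (rootOrbit u v x).card := by
  rw [rootOrbit, ← Set.ncard_eq_toFinset_card _]
  exact le_card_orbit_moved hF huv hmov

/-- A transvection preserving a label carries the points with that label to themselves. -/
theorem label_smul (hF : Fintype.card F = 2) {u v a : V} (ha : a ∈ perp2 u v) {x : Ω}
    {Q : V → F} (hQ : Q ∈ ext u v x) (hQa : Q a = 1) :
    Q ∈ ext u v (spTransv a (1 : F) • x) := by
  have h := ext_levi (spTransv_mem_levi (u := u) (v := v) ha 1) x hQ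
  rwa [inv_spTransv_one hF, hQ.1.comp_transv_of_one hF hQa] at h

theorem label_shift (hF : Fintype.card F = 2) {u v a : V} (ha : a ∈ perp2 u v) {x : Ω}
    {Q : V → F} (hQ : Q ∈ ext u v x) (hQa : Q a = 0) :
    shift Q a ∈ ext u v (spTransv a (1 : F) • x) := by
  have h := ext_levi (spTransv_mem_levi (u := u) (v := v) ha 1) x hQ
  rwa [inv_spTransv_one hF, hQ.1.comp_transv_of_zero hF hQa] at h

theorem lt_card_perp2 (hF : Fintype.card F = 2) {u v : V} (huv : ⟪u, v⟫ = 1) {k : ℕ}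
    (hk : m = k + 1) : Nat.card (perp2 u v) = (2 ^ k) ^ 2 := by
  rw [card_perp2 huv, hF, show 2 * m - 2 = k * 2 by omega, pow_mul]

/-- A vector of value one orthogonal to a given pair of the complement. -/
theorem exists_value_one (hF : Fintype.card F = 2) {u v : V} (huv : ⟪u, v⟫ = 1) {k : ℕ}
    (hk : m = k + 1) (hk2 : 2 ≤ k) {Q : V → F} (hQ : IsForm Q) {r e : V} (hr : r ∈ perp2 u v)
    (he : e ∈ perp2 u v) (hre : ⟪r, e⟫ = 1) :
    ∃ c ∈ perp2 u v, ⟪c, r⟫ = 0 ∧ ⟪c, e⟫ = 0 ∧ Q c = 1 := by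
  classical
  have her : ⟪e, r⟫ = 1 := by rw [sympForm_comm_two hF, hre]
  have hproj : ∀ y ∈ perp2 u v, y + ⟪y, e⟫ • r + ⟪y, r⟫ • e ∈ perp2 u v ∧
      ⟪y + ⟪y, e⟫ • r + ⟪y, r⟫ • e, r⟫ = 0 ∧ ⟪y + ⟪y, e⟫ • r + ⟪y, r⟫ • e, e⟫ = 0 :=
    fun y hy => ⟨Submodule.add_mem _ (Submodule.add_mem _ hy (Submodule.smul_mem _ _ hr))
      (Submodule.smul_mem _ _ he),
      by simp only [sympForm_add_left, sympForm_smul_left, sympForm_self, her, mul_zero, mul_one,
          add_zero, add_self_two hF],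
      by simp only [sympForm_add_left, sympForm_smul_left, sympForm_self, hre, mul_zero, mul_one,
          add_zero, add_self_two hF]⟩
  obtain ⟨y, hy, hy0⟩ : ∃ y ∈ perp2 u v, y + ⟪y, e⟫ • r + ⟪y, r⟫ • e ≠ 0 := by
    by_contra! h
    have hle : Nat.card (perp2 u v) ≤ Nat.card (F × F) := by
      refine Nat.card_le_card_of_injective
        (fun y : perp2 u v => (⟪(y : V), e⟫, ⟪(y : V), r⟫)) fun y y' hyy => Subtype.ext ?_
      obtain ⟨h1, h2⟩ := Prod.ext_iff.1 hyy
      have e1 := h _ y.2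
      have e2 := h _ y'.2
      simp only at h1 h2
      rw [h1, h2] at e1
      exact add_right_cancel (add_right_cancel (e1.trans e2.symm))
    rw [lt_card_perp2 hF huv hk, Nat.card_prod, Nat.card_eq_fintype_card, hF] at hle
    have : 2 ^ 2 ≤ 2 ^ k := Nat.pow_le_pow_right (by norm_num) hk2
    nlinarith
  obtain ⟨h1, h2, h3⟩ := hproj y hy
  generalize y + ⟪y, e⟫ • r + ⟪y, r⟫ • e = c at h1 h2 h3 hy0
  rcases zero_or_one hF (Q c) with hc | hc
  swap
  · exact ⟨c, h1, h2, h3, hc⟩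
  obtain ⟨z, hz, hcz⟩ := perp2_nondeg huv h1 hy0
  obtain ⟨g1, g2, g3⟩ := hproj z hz
  have hcz' : ⟪c, z + ⟪z, e⟫ • r + ⟪z, r⟫ • e⟫ = 1 := by
    simp only [sympForm_add_right, sympForm_smul_right, hcz, h2, h3, mul_zero, add_zero]
  generalize z + ⟪z, e⟫ • r + ⟪z, r⟫ • e = z' at g1 g2 g3 hcz'
  rcases zero_or_one hF (Q z') with hz' | hz'
  · exact ⟨c + z', Submodule.add_mem _ h1 g1, by rw [sympForm_add_left, h2, g2, add_zero],
      by rw [sympForm_add_left, h3, g3, add_zero],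
      by rw [hQ, hc, hz', hcz', add_zero, zero_add]⟩
  · exact ⟨z', g1, g2, g3, hz'⟩

/-- Every nonzero vector has a pair of non-orthogonal vectors of value one, not both orthogonal
to it. -/
theorem exists_pair_one (hF : Fintype.card F = 2) {u v : V} (huv : ⟪u, v⟫ = 1) {k : ℕ}
    (hk : m = k + 1) (hk2 : 2 ≤ k) {Q : V → F} (hQ : IsForm Q) {r : V} (hr : r ∈ perp2 u v)
    (hr0 : r ≠ 0) : ∃ a ∈ perp2 u v, ∃ b ∈ perp2 u v, Q a = 1 ∧ Q b = 1 ∧ ⟪a, b⟫ = 1 ∧
      (⟪r, a⟫ = 1 ∨ ⟪r, b⟫ = 1) := by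
  obtain ⟨z, hz, hrz⟩ := perp2_nondeg huv hr hr0
  obtain ⟨c, hc, hcr, hcz, hQc⟩ := exists_value_one hF huv hk hk2 hQ hr hz hrz
  have hrc : ⟪r, c⟫ = 0 := by rw [sympForm_comm_two hF, hcr]
  have hzc : ⟪z, c⟫ = 0 := by rw [sympForm_comm_two hF, hcz]
  rcases zero_or_one hF (Q r) with hr1 | hr1 <;> rcases zero_or_one hF (Q z) with hz1 | hz1
  · refine ⟨r + z, Submodule.add_mem _ hr hz, z + c, Submodule.add_mem _ hz hc, ?_, ?_, ?_,
      Or.inl ?_⟩
    · rw [hQ, hr1, hz1, hrz, zero_add, zero_add]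
    · rw [hQ, hz1, hQc, hzc, zero_add, add_zero]
    · simp [sympForm_add_left, sympForm_add_right, sympForm_self, hrz, hrc, hzc]
    · rw [sympForm_add_right, sympForm_self, hrz, zero_add]
  · refine ⟨r + c, Submodule.add_mem _ hr hc, z, hz, ?_, hz1, ?_, Or.inr hrz⟩
    · rw [hQ, hr1, hQc, hrc, zero_add, add_zero]
    · rw [sympForm_add_left, hrz, hcz, add_zero]
  · refine ⟨r, hr, z + c, Submodule.add_mem _ hz hc, hr1, ?_, ?_, Or.inr ?_⟩
    · rw [hQ, hz1, hQc, hzc, zero_add, add_zero]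
    · rw [sympForm_add_right, hrz, hrc, add_zero]
    · rw [sympForm_add_right, hrz, hrc, add_zero]
  · exact ⟨r, hr, z, hz, hr1, hz1, hrz, Or.inr hrz⟩

/-- Three root-group orbits of moved points carry a label, when the label is not total and all
its extensions have the same type. -/
theorem three_orbits [Fintype Ω] [DecidableEq Ω] (hF : Fintype.card F = 2) {u v : V}
    (huv : ⟪u, v⟫ = 1) {k : ℕ} (hk : m = k + 1) (hk2 : 2 ≤ k) {x : Ω}
    (hmov : spTransv u (1 : F) • x ≠ x) {Q : V → F} (hQ : Q ∈ ext u v x)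
    (hK : ¬ Full u v x) (hzero : ∀ r ∈ Rvec u v x, Q r = 0) :
    ∃ P : Finset Ω, 6 * (Rvec u v x).ncard ≤ P.card ∧ ∀ z ∈ P, spTransv u (1 : F) • z ≠ z ∧
      (Rvec u v z).ncard = (Rvec u v x).ncard ∧ Q ∈ ext u v z := by
  obtain ⟨r, hr, hr0⟩ := exists_ne_zero_Rvec hF huv hK
  have hrp := hr.1
  obtain ⟨z, hz, hrz⟩ := perp2_nondeg huv hrp hr0
  obtain ⟨e, he, hre, hQe⟩ : ∃ e ∈ perp2 u v, ⟪r, e⟫ = 1 ∧ Q e = 0 := by
    rcases zero_or_one hF (Q z) with h | h
    · exact ⟨z, hz, hrz, h⟩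
    · refine ⟨z + r, Submodule.add_mem _ hz hrp, ?_, ?_⟩
      · rw [sympForm_add_right, hrz, sympForm_self, add_zero]
      · rw [hQ.1, h, hzero r hr, sympForm_comm_two hF z r, hrz, add_zero, add_self_two hF]
  obtain ⟨c, hc, hcr, hce, hQc⟩ := exists_value_one hF huv hk hk2 hQ.1 hrp he hre
  have hrc : ⟪r, c⟫ = 0 := by rw [sympForm_comm_two hF, hcr]
  have hec : ⟪e, c⟫ = 0 := by rw [sympForm_comm_two hF, hce]
  set a := r + e with ha
  set b := e + c with hb
  have haP : a ∈ perp2 u v := Submodule.add_mem _ hrp he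
  have hbP : b ∈ perp2 u v := Submodule.add_mem _ he hc
  have hQa : Q a = 1 := by rw [ha, hQ.1, hzero r hr, hQe, hre, zero_add, zero_add]
  have hQb : Q b = 1 := by rw [hb, hQ.1, hQe, hQc, hec, zero_add, add_zero]
  have hta : (spTransv a (1 : F)).1 *ᵥ r = e := by
    rw [spTransv_mulVec, one_mul, ha, sympForm_add_right, sympForm_self, hre, zero_add, one_smul,
      ← add_assoc, vec_add_self hF, zero_add]
  have htb : (spTransv b (1 : F)).1 *ᵥ r = r + e + c := by
    rw [spTransv_mulVec, one_mul, hb, sympForm_add_right, hre, hrc, add_zero, one_smul, add_assoc]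
  have h1 := moved_levi (spTransv_mem_levi (u := u) (v := v) haP 1) hmov
  have h2 := moved_levi (spTransv_mem_levi (u := u) (v := v) hbP 1) hmov
  have q1 := label_smul hF haP hQ hQa
  have q2 := label_smul hF hbP hQ hQb
  have hiso : ∀ y : Ω, Q ∈ ext u v y → (∀ s ∈ Rvec u v y, Q s = 0) → ∀ s ∈ Rvec u v y,
      ∀ t ∈ Rvec u v y, ⟪s, t⟫ = 0 := by
    intro y _ hy s hs t ht
    have := hy (s + t) ⟨Submodule.add_mem _ hs.1 ht.1, fun w cc h => by
      rw [sympForm_add_left, hs.2 w cc h, ht.2 w cc h, add_zero]⟩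
    rwa [hQ.1, hy s hs, hy t ht, zero_add, zero_add] at this
  have hz1 : ∀ {d : V}, d ∈ perp2 u v → Q d = 1 →
      ∀ s ∈ Rvec u v (spTransv d (1 : F) • x), Q s = 0 := by
    intro d hd hQd s hs
    rw [← congrFun (hQ.1.comp_transv_of_one hF hQd) s]
    apply hzero
    rw [← mem_Rvec_levi (spTransv_mem_levi (u := u) (v := v) hd 1) x,
      spTransv_one_mulVec_two hF]
    exact hs
  have r1 : e ∈ Rvec u v (spTransv a (1 : F) • x) := by
    rw [← hta]; exact (mem_Rvec_levi (spTransv_mem_levi haP 1) x r).2 hr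
  have r2 : r + e + c ∈ Rvec u v (spTransv b (1 : F) • x) := by
    rw [← htb]; exact (mem_Rvec_levi (spTransv_mem_levi hbP 1) x r).2 hr
  have n01 : Rvec u v x ≠ Rvec u v (spTransv a (1 : F) • x) := fun h => by
    have := hiso x hQ hzero r hr e (h ▸ r1)
    rw [hre] at this
    exact one_ne_zero this
  have n02 : Rvec u v x ≠ Rvec u v (spTransv b (1 : F) • x) := fun h => by
    have := hiso x hQ hzero r hr (r + e + c) (h ▸ r2)
    simp [sympForm_add_right, sympForm_self, hre, hrc] at this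
  have n12 : Rvec u v (spTransv a (1 : F) • x) ≠ Rvec u v (spTransv b (1 : F) • x) := fun h => by
    have := hiso _ q1 (hz1 haP hQa) e r1 (r + e + c) (h ▸ r2)
    simp [sympForm_add_right, sympForm_self, sympForm_comm_two hF e r, hre, hec] at this
  have hdisj : ∀ {y y' : Ω}, spTransv u (1 : F) • y ≠ y → Q ∈ ext u v y →
      spTransv u (1 : F) • y' ≠ y' → Q ∈ ext u v y' → Rvec u v y ≠ Rvec u v y' →
      Disjoint (rootOrbit u v y) (rootOrbit u v y') := by
    intro y y' hy hy' hy'' hy''' hne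
    rw [Finset.disjoint_left]
    intro w hw hw'
    exact hne ((mem_rootOrbit hF hy hy' hw).2.symm.trans (mem_rootOrbit hF hy'' hy''' hw').2)
  refine ⟨rootOrbit u v x ∪ rootOrbit u v (spTransv a (1 : F) • x) ∪
    rootOrbit u v (spTransv b (1 : F) • x), ?_, fun w hw => ?_⟩
  · rw [Finset.card_union_of_disjoint (Finset.disjoint_union_left.2
      ⟨hdisj hmov hQ h2 q2 n02, hdisj h1 q1 h2 q2 n12⟩),
      Finset.card_union_of_disjoint (hdisj hmov hQ h1 q1 n01)]
    have c0 := card_rootOrbit hF huv hmov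
    have c1 := card_rootOrbit hF huv h1
    have c2 := card_rootOrbit hF huv h2
    rw [ncard_Rvec_levi (spTransv_mem_levi (u := u) (v := v) haP 1)] at c1
    rw [ncard_Rvec_levi (spTransv_mem_levi (u := u) (v := v) hbP 1)] at c2
    omega
  · simp only [Finset.mem_union] at hw
    rcases hw with (hw | hw) | hw
    · exact (mem_rootOrbit hF hmov hQ hw).1
    · obtain ⟨a1, a2, a3⟩ := (mem_rootOrbit hF h1 q1 hw).1
      exact ⟨a1, a2.trans (ncard_Rvec_levi (spTransv_mem_levi haP 1) x), a3⟩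
    · obtain ⟨a1, a2, a3⟩ := (mem_rootOrbit hF h2 q2 hw).1
      exact ⟨a1, a2.trans (ncard_Rvec_levi (spTransv_mem_levi hbP 1) x), a3⟩

theorem card_shifts (hF : Fintype.card F = 2) {u v : V} {Q : V → F} (p : V → Prop)
    [DecidablePred p] :
    ∃ Y : Finset (V → F), Y.card = Nat.card {r : perp2 u v // p r} ∧
      ∀ Q' ∈ Y, ∃ r ∈ perp2 u v, p r ∧ Q' = shift Q r := by
  classical
  have := Fintype.ofFinite (perp2 u v)
  refine ⟨((Finset.univ : Finset (perp2 u v)).filter fun r => p r.1).image fun r => shift Q r.1, ?_,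
    fun Q' hQ' => ?_⟩
  · rw [Finset.card_image_of_injective _ fun a b h => Subtype.ext (shift_inj h),
      Nat.card_eq_fintype_card, Fintype.card_subtype]
  · obtain ⟨r, hr, rfl⟩ := Finset.mem_image.1 hQ'
    exact ⟨r, r.2, (Finset.mem_filter.1 hr).2, rfl⟩

/-- The points moved by a transvection. -/
theorem moved_bound [Finite Ω] (hF : Fintype.card F = 2) {u v : V} (huv : ⟪u, v⟫ = 1) {k : ℕ}
    (hk : m = k + 1) (hk2 : 2 ≤ k) {x : Ω} (hmov : spTransv u (1 : F) • x ≠ x) :
    2 ^ k * (2 ^ k - 1) ≤ Nat.card {z : Ω // spTransv u (1 : F) • z ≠ z} ∧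
      (¬ Full u v x →
        2 ^ k * (2 ^ (k + 1) - 1) ≤ Nat.card {z : Ω // spTransv u (1 : F) • z ≠ z}) := by
  classical
  have := Fintype.ofFinite Ω
  obtain ⟨Q, hQ⟩ := exists_mem_ext hF huv hmov
  obtain ⟨P, hP1, hP⟩ : ∃ P : ℕ, 4 ≤ P ∧ P = 2 ^ k :=
    ⟨2 ^ k, le_trans (by norm_num) (Nat.pow_le_pow_right (by norm_num : 1 ≤ 2) hk2), rfl⟩
  set M := Nat.card {z : Ω // spTransv u (1 : F) • z ≠ z}
  set s := (Rvec u v x).ncard with hs
  have hspos : 0 < s := (Set.ncard_pos (Set.toFinite _)).2 ⟨0, Submodule.zero_mem _,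
    fun w c _ => sympForm_zero_left w⟩
  obtain ⟨Y, hY, hYmem⟩ := card_shifts hF (u := u) (v := v) (Q := Q) fun r => Q r = 0
  obtain ⟨z0, hz0⟩ : ∃ z0, z0 = Nat.card {r : perp2 u v // Q r = 0} := ⟨_, rfl⟩
  have hz := zeros_perp2 hF huv hk hQ.1
  rw [← hz0] at hY hz
  rw [← hP] at hz
  rw [← hP, show 2 ^ (k + 1) = 2 * P by rw [pow_succ, ← hP, mul_comm]]
  -- orbits of the shifted labels
  have base : ∀ Q' ∈ Y, ∃ S : Finset Ω, 2 * s ≤ S.card ∧
      ∀ z ∈ S, spTransv u (1 : F) • z ≠ z ∧ (Rvec u v z).ncard = s ∧ Q' ∈ ext u v z := by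
    intro Q' hQ'
    obtain ⟨r, hr, hQr, rfl⟩ := hYmem Q' hQ'
    have hm' := moved_levi (spTransv_mem_levi (u := u) (v := v) hr 1) hmov
    have he := label_shift hF hr hQ hQr
    refine ⟨rootOrbit u v (spTransv r (1 : F) • x), ?_, fun z hz => ?_⟩
    · have := card_rootOrbit hF huv hm'
      rwa [ncard_Rvec_levi (spTransv_mem_levi (u := u) (v := v) hr 1)] at this
    · obtain ⟨⟨a1, a2, a3⟩, -⟩ := mem_rootOrbit hF hm' he hz
      exact ⟨a1, a2.trans (ncard_Rvec_levi (spTransv_mem_levi hr 1) x), a3⟩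
  have h2 := double_count hF huv Y base
  rw [hY] at h2
  have h2' : 2 * z0 ≤ M := Nat.le_of_mul_le_mul_right (by linarith) hspos
  refine ⟨?_, fun hK => ?_⟩
  · rw [Nat.mul_sub, mul_one]
    rw [sq] at hz
    omega
  by_cases hzero : ∀ r ∈ Rvec u v x, Q r = 0
  · obtain ⟨S, hS, hS'⟩ := three_orbits hF huv hk hk2 hmov hQ hK hzero
    have h6 : ∀ Q' ∈ Y, ∃ T : Finset Ω, 6 * s ≤ T.card ∧
        ∀ z ∈ T, spTransv u (1 : F) • z ≠ z ∧ (Rvec u v z).ncard = s ∧ Q' ∈ ext u v z := by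
      intro Q' hQ'
      obtain ⟨r, hr, hQr, rfl⟩ := hYmem Q' hQ'
      refine ⟨S.image fun z => spTransv r (1 : F) • z, ?_, fun w hw => ?_⟩
      · rwa [Finset.card_image_of_injective _ (MulAction.injective _)]
      · obtain ⟨z, hz, rfl⟩ := Finset.mem_image.1 hw
        obtain ⟨a1, a2, a3⟩ := hS' z hz
        exact ⟨moved_levi (spTransv_mem_levi hr 1) a1,
          (ncard_Rvec_levi (spTransv_mem_levi hr 1) z).trans a2, label_shift hF hr a3 hQr⟩
    have h := double_count hF huv Y h6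
    rw [hY] at h
    have h' : 6 * z0 ≤ M := Nat.le_of_mul_le_mul_right (by linarith) hspos
    rw [Nat.mul_sub, mul_one, mul_left_comm]
    rw [sq] at hz
    have : 4 * P ≤ P * P := Nat.mul_le_mul_right _ hP1
    omega
  · push Not at hzero
    obtain ⟨r₀, hr₀, hQr₀⟩ := hzero
    have hQr₀ := eq_one_of_ne_zero hF hQr₀
    obtain ⟨Y', hY', hYmem'⟩ := card_shifts hF (u := u) (v := v) (Q := Q) fun _ => True
    have hall : ∀ Q' ∈ Y', ∃ S : Finset Ω, 2 * s ≤ S.card ∧
        ∀ z ∈ S, spTransv u (1 : F) • z ≠ z ∧ (Rvec u v z).ncard = s ∧ Q' ∈ ext u v z := by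
      intro Q' hQ'
      obtain ⟨r, hr, -, rfl⟩ := hYmem' Q' hQ'
      obtain ⟨Q₁, hQ₁, t, ht, hQt, heq⟩ : ∃ Q₁ ∈ ext u v x, ∃ t ∈ perp2 u v, Q₁ t = 0 ∧
          shift Q₁ t = shift Q r := by
        rcases zero_or_one hF (Q r) with h | h
        · exact ⟨Q, hQ, r, hr, h, rfl⟩
        · refine ⟨shift Q r₀, (mem_ext_iff hF huv hQ _).2 ⟨r₀, hr₀, rfl⟩, r + r₀,
            Submodule.add_mem _ hr hr₀.1, ?_, funext fun y => ?_⟩
          · rw [shift_apply, hQ.1, h, hQr₀, sympForm_add_right, sympForm_self, add_zero,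
              sympForm_comm_two hF r r₀]
            linear_combination add_self_two hF (1 : F) + add_self_two hF ⟪r₀, r⟫
          · simp only [shift_apply, sympForm_add_left]
            linear_combination add_self_two hF ⟪r₀, y⟫
      have hm' := moved_levi (spTransv_mem_levi (u := u) (v := v) ht 1) hmov
      have he := label_shift hF ht hQ₁ hQt
      rw [heq] at he
      refine ⟨rootOrbit u v (spTransv t (1 : F) • x), ?_, fun z hz => ?_⟩
      · have := card_rootOrbit hF huv hm'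
        rwa [ncard_Rvec_levi (spTransv_mem_levi (u := u) (v := v) ht 1)] at this
      · obtain ⟨⟨a1, a2, a3⟩, -⟩ := mem_rootOrbit hF hm' he hz
        exact ⟨a1, a2.trans (ncard_Rvec_levi (spTransv_mem_levi ht 1) x), a3⟩
    have h := double_count hF huv Y' hall
    rw [hY', Nat.card_congr (Equiv.subtypeUnivEquiv fun _ => trivial),
      lt_card_perp2 hF huv hk, ← hP] at h
    have h' : 2 * P ^ 2 ≤ M := Nat.le_of_mul_le_mul_right (by linarith) hspos
    rw [Nat.mul_sub, mul_one, mul_left_comm, ← sq]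
    omega

/-- If the root group does not fix a point fixed by the transvection, many points are fixed. -/
theorem fixed_bound [Finite Ω] (hF : Fintype.card F = 2) {u v : V} (huv : ⟪u, v⟫ = 1) {k : ℕ}
    (hk : m = k + 1) {x : Ω} (hfix : spTransv u (1 : F) • x = x) {w : V} (hw : w ∈ perp2 u v)
    {c : F} (hmv : rootEl u w c • x ≠ x) :
    (2 ^ k) ^ 2 ≤ Nat.card {z : Ω // spTransv u (1 : F) • z = z} := by
  classical
  have := Fintype.ofFinite Ω
  have := Fintype.ofFinite (perp2 u v)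
  have hK : ¬ Full u v x := by
    intro h
    obtain ⟨c', -, hc'⟩ := h w hw
    apply hmv
    have hd : rootEl u w c = rootEl u w c' * spTransv u (c - c') := by
      rw [← rootEl_zero, rootEl_mul (mem_perp2.1 hw).1 (sympForm_zero_left u), add_zero,
        sympForm_zero_left, add_zero, add_sub_cancel]
    rw [hd, mul_smul]
    rcases zero_or_one hF (c - c') with h0 | h0
    · rw [h0, ← rootEl_zero, (rootFix_zero u v x).2, hc']
    · rw [h0, hfix, hc']
  obtain ⟨r, hr, hr0⟩ := exists_ne_zero_Rvec hF huv hK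
  set s := (Rvec u v x).ncard with hs
  have h0mem : ∀ z : Ω, (0 : V) ∈ Rvec u v z := fun z =>
    ⟨Submodule.zero_mem _, fun w c _ => sympForm_zero_left w⟩
  have hs2 : 2 ≤ s := by
    rw [hs, ← Set.ncard_pair hr0]
    exact Set.ncard_le_ncard (Set.insert_subset hr (Set.singleton_subset_iff.2 (h0mem x)))
      (Set.toFinite _)
  let T := Finset.univ.filter fun z : Ω =>
    spTransv u (1 : F) • z = z ∧ (Rvec u v z).ncard = s
  let B := Finset.univ.filter fun b : perp2 u v => b ≠ 0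
  have hB : B.card + 1 = (2 ^ k) ^ 2 := by
    rw [← lt_card_perp2 hF huv hk, Nat.card_eq_fintype_card,
      show B = Finset.univ.erase 0 by ext; simp [B], Finset.card_erase_of_mem (Finset.mem_univ _),
      Finset.card_univ]
    have : 0 < Fintype.card (perp2 u v) := Fintype.card_pos
    omega
  have h1 : B.card * s ≤ T.card * (s - 1) := by
    refine Finset.card_mul_le_card_mul (fun (b : perp2 u v) z => (b : V) ∈ Rvec u v z) ?_ ?_
    · intro b hb
      obtain ⟨A, hA, hAr⟩ := exists_levi_mulVec_eq huv hr.1 b.2 hr0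
        (fun h => (Finset.mem_filter.1 hb).2 (Subtype.ext h))
      refine le_trans ?_ (le_trans (le_card_orbit_fixed hF huv (A • x))
        (Set.ncard_eq_toFinset_card _).le |>.trans (Finset.card_le_card fun z hz => ?_))
      · rw [ncard_Rvec_levi hA]
      · rw [Set.Finite.mem_toFinset] at hz
        obtain ⟨a, rfl⟩ := hz
        simp only [Finset.bipartiteAbove, Finset.mem_filter, T, Finset.mem_univ, true_and]
        refine ⟨⟨?_, ?_⟩, ?_⟩
        · rw [← mul_smul, rootEl_comm_transv hF (mem_perp2.1 a.2).1, mul_smul, ← mul_smul _ A,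
            ← levi_comm_transv_left hA, mul_smul, hfix]
        · rw [Rvec_smul hF a.2, ncard_Rvec_levi hA]
        · rw [Rvec_smul hF a.2, ← hAr]
          exact (mem_Rvec_levi hA x r).2 hr
    · intro z hz
      simp only [T, Finset.mem_filter, Finset.mem_univ, true_and] at hz
      rw [← hz.2, ← Finset.card_map (Function.Embedding.subtype fun b => b ∈ perp2 u v),
        ← Set.ncard_coe_finset, ← Set.ncard_sdiff_singleton_of_mem (h0mem z)]
      refine Set.ncard_le_ncard ?_ (Set.toFinite _)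
      intro b hb
      simp only [Finset.coe_map, Finset.bipartiteBelow, Set.mem_image, Finset.mem_coe,
        Finset.mem_filter, B] at hb
      obtain ⟨b, ⟨⟨-, hb0⟩, hbR⟩, rfl⟩ := hb
      exact ⟨hbR, fun e => hb0 (Subtype.ext e)⟩
  have hT : T.card ≤ Nat.card {z : Ω // spTransv u (1 : F) • z = z} := by
    rw [Nat.card_eq_fintype_card, Fintype.card_subtype]
    exact Finset.card_le_card fun z hz => by
      simp only [T, Finset.mem_filter] at hz ⊢
      exact ⟨hz.1, hz.2.1⟩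
  by_contra hlt
  have h3 : T.card ≤ B.card := by omega
  have h4 : B.card * s ≤ B.card * (s - 1) := h1.trans (Nat.mul_le_mul_right _ h3)
  have h5 : 0 < B.card := by
    have : 1 < (2 ^ k) ^ 2 := by
      rw [← lt_card_perp2 hF huv hk, Finite.one_lt_card_iff_nontrivial]
      exact ⟨⟨r, hr.1⟩, 0, fun h => hr0 (congrArg Subtype.val h)⟩
    omega
  have := Nat.le_of_mul_le_mul_left h4 h5
  omega

end CfsgLib.MinDegree
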