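import Cfsg.Agent.MinDegree.SympFrame

/-!
# Quadratic forms over the field with two elements polarising to the symplectic form
-/

set_option autoImplicit false

namespace CfsgLib.MinDegree

open Matrix CfsgLib.Forms CfsgLib.Forms4

variable {F : Type*} [Field F] [Fintype F] {m : ℕ}

local notation "V" => Fin m ⊕ Fin m → F
local notation "Sp" => Matrix.symplecticGroup (Fin m) F
local notation "⟪" x ", " y "⟫" => Cfsg.sympForm m F x y

theorem zero_or_one (hF : Fintype.card F = 2) (a : F) : a = 0 ∨ a = 1 := by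
  classical
  have h : ({0, 1} : Finset F) = Finset.univ :=
    Finset.eq_univ_of_card _ (by rw [hF]; exact Finset.card_pair zero_ne_one)
  have := Finset.mem_univ a
  rw [← h] at this
  simpa using this

theorem eq_one_of_ne_zero (hF : Fintype.card F = 2) {a : F} (h : a ≠ 0) : a = 1 :=
  (zero_or_one hF a).resolve_left h

theorem add_self_two (hF : Fintype.card F = 2) (a : F) : a + a = 0 := by
  have h1 : (1 : F) + 1 = 0 :=
    (zero_or_one hF _).resolve_right fun h => one_ne_zero (add_right_cancel (h.trans (zero_add 1).symm))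
  linear_combination a * h1

theorem neg_two (hF : Fintype.card F = 2) (a : F) : -a = a :=
  neg_eq_of_add_eq_zero_right (add_self_two hF a)

theorem sympForm_comm_two (hF : Fintype.card F = 2) (x y : V) : ⟪x, y⟫ = ⟪y, x⟫ := by
  rw [sympForm_swap y x, neg_two hF]

theorem vec_add_self (hF : Fintype.card F = 2) (x : V) : x + x = 0 :=
  funext fun i => add_self_two hF (x i)

theorem vec_neg (hF : Fintype.card F = 2) (x : V) : -x = x :=
  neg_eq_of_add_eq_zero_right (vec_add_self hF x)

theorem spTransv_one_sq (hF : Fintype.card F = 2) (a : V) :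
    spTransv a 1 * spTransv a 1 = 1 := by
  rw [← rootEl_zero, rootEl_mul (sympForm_zero_left a) (sympForm_zero_left a), sympForm_self,
    add_zero, add_zero, add_self_two hF, rootEl_zero]
  exact sp_ext fun x => by simp [spTransv_mulVec, sp_one_mulVec]

theorem spTransv_one_mulVec_two (hF : Fintype.card F = 2) (a x : V) :
    (spTransv a 1).1 *ᵥ ((spTransv a 1).1 *ᵥ x) = x := by
  rw [← sp_mul_mulVec, spTransv_one_sq hF, sp_one_mulVec]

/-- A quadratic form polarising to the symplectic form. -/
def IsForm (Q : V → F) : Prop := ∀ x y, Q (x + y) = Q x + Q y + ⟪x, y⟫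

/-- A form translated by a vector. -/
def shift (Q : V → F) (w : V) : V → F := fun x => Q x + ⟪w, x⟫

theorem shift_apply (Q : V → F) (w x : V) : shift Q w x = Q x + ⟪w, x⟫ := rfl

theorem IsForm.shift {Q : V → F} (hQ : IsForm Q) (w : V) :
    IsForm (CfsgLib.MinDegree.shift Q w) := fun x y => by
  simp only [shift_apply, hQ x y, sympForm_add_right]
  ring

theorem IsForm.map_zero {Q : V → F} (hQ : IsForm Q) : Q 0 = 0 := by
  have h := hQ 0 0
  rw [add_zero, sympForm_self, add_zero] at h
  exact left_eq_add.1 h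

theorem shift_inj {Q : V → F} {w w' : V} (h : shift Q w = shift Q w') : w = w' := by
  refine sub_eq_zero.1 (sympForm_sep _ fun x => ?_)
  rw [sympForm_sub_left, sub_eq_zero]
  exact add_left_cancel (congrFun h x)

theorem shift_zero (Q : V → F) : shift Q 0 = Q :=
  funext fun x => by rw [shift_apply, sympForm_zero_left, add_zero]

/-- The transvection at `w` moves a form by `w` or fixes it. -/
theorem IsForm.comp_transv {Q : V → F} (hQ : IsForm Q) (hF : Fintype.card F = 2) (w x : V) :
    Q ((spTransv w 1).1 *ᵥ x) = Q x + ⟪x, w⟫ * (Q w + 1) := by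
  rw [spTransv_mulVec, one_mul]
  rcases zero_or_one hF ⟪x, w⟫ with h | h
  · rw [h, zero_smul, add_zero, zero_mul, add_zero]
  · rw [h, one_smul, one_mul, hQ, h]
    ring

theorem IsForm.comp_transv_of_zero {Q : V → F} (hQ : IsForm Q) (hF : Fintype.card F = 2) {w : V}
    (hw : Q w = 0) : (fun x => Q ((spTransv w 1).1 *ᵥ x)) = CfsgLib.MinDegree.shift Q w :=
  funext fun x => by
    rw [hQ.comp_transv hF, hw, zero_add, mul_one, shift_apply, sympForm_comm_two hF x w]

theorem IsForm.comp_transv_of_one {Q : V → F} (hQ : IsForm Q) (hF : Fintype.card F = 2) {w : V}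
    (hw : Q w = 1) : (fun x => Q ((spTransv w 1).1 *ᵥ x)) = Q :=
  funext fun x => by rw [hQ.comp_transv hF, hw, add_self_two hF, mul_zero, add_zero]

theorem IsForm.comp {Q : V → F} (hQ : IsForm Q) (A : Sp) : IsForm fun x => Q (A.1 *ᵥ x) :=
  fun x y => by simp only [Matrix.mulVec_add, hQ _ _, sympForm_map]

theorem IsForm.exists_shift {Q Q' : V → F} (hQ : IsForm Q) (hQ' : IsForm Q')
    (hF : Fintype.card F = 2) : ∃ w, Q' = CfsgLib.MinDegree.shift Q w := by
  let g : V →ₗ[F] F :=
    { toFun := fun x => Q' x - Q x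
      map_add' := fun x y => by rw [hQ x y, hQ' x y]; ring
      map_smul' := fun a x => by
        rcases zero_or_one hF a with rfl | rfl
        · rw [zero_smul, hQ.map_zero, hQ'.map_zero, RingHom.id_apply, zero_smul, sub_zero]
        · rw [one_smul, RingHom.id_apply, one_smul] }
  refine ⟨((sympBilin m F).toDual sympBilin_nondegenerate).symm g, funext fun x => ?_⟩
  rw [shift_apply, ← sympBilin_apply, LinearMap.BilinForm.apply_toDual_symm_apply]
  change Q' x = Q x + (Q' x - Q x)
  ring

/-- The standard form. -/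
def stdForm (m : ℕ) (F : Type*) [Field F] : (Fin m ⊕ Fin m → F) → F :=
  fun x => ∑ i, x (Sum.inl i) * x (Sum.inr i)

theorem isForm_stdForm (hF : Fintype.card F = 2) : IsForm (stdForm m F) := fun x y => by
  rw [sympForm_eq_sum]
  simp only [stdForm, Pi.add_apply, ← Finset.sum_add_distrib]
  refine Finset.sum_congr rfl fun i _ => ?_
  linear_combination x (Sum.inl i) * add_self_two hF (y (Sum.inr i))

/-- The sign sum of a nondegenerate form squares to the number of vectors. -/
theorem zero_count {W : Type*} [AddCommGroup W] [Fintype W] (hF : Fintype.card F = 2)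
    (Q : W → F) (B : W → W → F) (hQ : ∀ x y, Q (x + y) = Q x + Q y + B x y) (h0 : Q 0 = 0)
    (hB : ∀ x y z, B (x + y) z = B x z + B y z) (hsep : ∀ z, z ≠ 0 → ∃ x, B x z = 1) :
    (2 * (Nat.card {x // Q x = 0} : ℤ) - Nat.card W) ^ 2 = Nat.card W := by
  classical
  let s : F → ℤ := fun a => if a = 0 then 1 else -1
  have hs : ∀ a b, s (a + b) = s a * s b := by
    intro a b
    rcases zero_or_one hF a with rfl | rfl <;> rcases zero_or_one hF b with rfl | rfl <;>
      simp [s, add_self_two hF (1 : F)]
  have hsum : ∑ x, s (Q x) = 2 * (Nat.card {x // Q x = 0} : ℤ) - Nat.card W := by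
    rw [Nat.card_eq_fintype_card, Fintype.card_subtype, Nat.card_eq_fintype_card,
      Finset.sum_congr rfl fun x _ => (show s (Q x) = 2 * (if Q x = 0 then (1 : ℤ) else 0) - 1 by
        simp only [s]; split_ifs <;> rfl),
      Finset.sum_sub_distrib, ← Finset.mul_sum, Finset.sum_boole, Finset.sum_const,
      Finset.card_univ, nsmul_one]
  rw [← hsum, sq, Finset.sum_mul_sum]
  have hB0 : ∀ x, B x 0 = 0 := fun x => by
    have h := hQ x 0
    rw [add_zero, h0, add_zero] at h
    exact left_eq_add.1 h
  calc ∑ x, ∑ y, s (Q x) * s (Q y) = ∑ x, ∑ z, s (Q z) * s (B x z) := by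
        refine Finset.sum_congr rfl fun x _ => ?_
        rw [← Equiv.sum_comp (Equiv.addLeft x)]
        refine Finset.sum_congr rfl fun z _ => ?_
        rw [Equiv.coe_addLeft, hQ, hs, hs, ← mul_assoc, ← mul_assoc, ← hs (Q x),
          add_self_two hF]
        simp [s]
    _ = ∑ z, s (Q z) * ∑ x, s (B x z) := by rw [Finset.sum_comm]; simp [Finset.mul_sum]
    _ = Nat.card W := by
        rw [Finset.sum_eq_single 0]
        · simp [hB0, h0, s]
        · intro z _ hz
          obtain ⟨x₀, hx₀⟩ := hsep z hz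
          have h : ∑ x, s (B x z) = -∑ x, s (B x z) := by
            conv_lhs => rw [← Equiv.sum_comp (Equiv.addRight x₀)]
            rw [← Finset.sum_neg_distrib]
            refine Finset.sum_congr rfl fun x _ => ?_
            rw [Equiv.coe_addRight, hB, hs, hx₀]
            simp [s]
          rw [show ∑ x, s (B x z) = 0 by omega, mul_zero]
        · simp

theorem two_mul_count {z j : ℕ} (h : (2 * (z : ℤ) - ((2 ^ j) ^ 2 : ℕ)) ^ 2 = ((2 ^ j) ^ 2 : ℕ)) :
    2 * z + 2 ^ j = (2 ^ j) ^ 2 ∨ 2 * z = (2 ^ j) ^ 2 + 2 ^ j := by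
  push_cast at h
  rcases sq_eq_sq_iff_eq_or_eq_neg.1 h with h | h
  · exact Or.inr (by zify; linarith)
  · exact Or.inl (by zify; linarith)

/-- The zeros of a form. -/
noncomputable def numZeros (Q : V → F) : ℕ := Nat.card {x // Q x = 0}

theorem numZeros_comp (Q : V → F) (A : Sp) : numZeros (fun x => Q (A.1 *ᵥ x)) = numZeros Q :=
  Nat.card_congr
    { toFun := fun x => ⟨A.1 *ᵥ x.1, x.2⟩
      invFun := fun x => ⟨(A⁻¹).1 *ᵥ x.1, by simp only [sp_mulVec_inv_self]; exact x.2⟩
      left_inv := fun x => Subtype.ext (sp_inv_mulVec_self A x.1)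
      right_inv := fun x => Subtype.ext (sp_mulVec_inv_self A x.1) }

/-- Translating by a vector of value one exchanges zeros and non-zeros. -/
theorem numZeros_shift {Q : V → F} (hQ : IsForm Q) (hF : Fintype.card F = 2) {w : V}
    (hw : Q w = 1) : numZeros Q + numZeros (shift Q w) = Fintype.card F ^ (2 * m) := by
  classical
  have e : numZeros (shift Q w) = Nat.card {x // ¬ Q x = 0} := by
    refine Nat.card_congr ((Equiv.addRight w).subtypeEquiv fun x => ?_)
    rw [Equiv.coe_addRight, hQ, hw, sympForm_comm_two hF, shift_apply]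
    rcases zero_or_one hF (Q x + ⟪w, x⟫) with h | h
    · rw [show Q x + 1 + ⟪w, x⟫ = 1 by linear_combination h]; simp [h]
    · rw [show Q x + 1 + ⟪w, x⟫ = 0 by linear_combination h + add_self_two hF (1 : F)]; simp [h]
  rw [e, numZeros, Nat.card_eq_fintype_card, Nat.card_eq_fintype_card, Fintype.card_subtype_compl]
  have h1 := Fintype.card_subtype_le fun x : V => Q x = 0
  have h2 : Fintype.card V = Fintype.card F ^ (2 * m) := by
    rw [Fintype.card_fun, Fintype.card_sum, Fintype.card_fin, two_mul]
  omega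

theorem numZeros_or (hF : Fintype.card F = 2) {Q : V → F} (hQ : IsForm Q) :
    2 * numZeros Q + 2 ^ m = (2 ^ m) ^ 2 ∨ 2 * numZeros Q = (2 ^ m) ^ 2 + 2 ^ m := by
  refine two_mul_count ?_
  have h := zero_count (W := V) hF Q (fun x y => ⟪x, y⟫) hQ hQ.map_zero
    (fun x y z => sympForm_add_left z x y) fun z hz => by
      obtain ⟨v, hv⟩ := exists_pair hz
      exact ⟨v, by rw [sympForm_comm_two hF, hv]⟩
  rw [Nat.card_eq_fintype_card (α := V), Fintype.card_fun, Fintype.card_sum, Fintype.card_fin,
    hF] at h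
  rw [show (2 ^ m) ^ 2 = 2 ^ (m + m) by rw [← pow_mul, mul_two]]
  exact h

/-- On the complement of a hyperbolic pair a form has at least the elliptic number of zeros. -/
theorem zeros_perp2 (hF : Fintype.card F = 2) {u v : V} (huv : ⟪u, v⟫ = 1) {k : ℕ}
    (hk : m = k + 1) {Q : V → F} (hQ : IsForm Q) :
    (2 ^ k) ^ 2 ≤ 2 * Nat.card {x : perp2 u v // Q x = 0} + 2 ^ k := by
  classical
  have := Fintype.ofFinite (perp2 u v)
  have h := zero_count (W := perp2 u v) hF (fun x => Q x) (fun x y => ⟪(x : V), (y : V)⟫)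
    (fun x y => hQ x y) hQ.map_zero (fun x y z => sympForm_add_left (z : V) x y) fun z hz => by
      obtain ⟨x, hx, hx1⟩ := perp2_nondeg huv z.2 (fun h => hz (Subtype.ext h))
      exact ⟨⟨x, hx⟩, by rw [sympForm_comm_two hF]; exact hx1⟩
  rw [card_perp2 huv, hF, show 2 * m - 2 = k * 2 by omega, pow_mul] at h
  rcases two_mul_count h with h | h
  · exact h.ge
  · exact le_of_le_of_eq le_self_add h.symm |>.trans le_self_add

end CfsgLib.MinDegree
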