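import Cfsg.Agent.MinDegree.SympTwoForms

/-!
# The root group of a point acting on a small `Sp(2m,2)`-set

For a point `x`, `Rvec u v x` is the orthogonal of the projection of its stabiliser in the root
group at `u`, and `ext u v x` is the set of forms extending the stabiliser.
-/

set_option autoImplicit false

namespace CfsgLib.MinDegree

open Matrix CfsgLib.Forms CfsgLib.Forms4 MulAction

variable {F : Type*} [Field F] [Fintype F] {m : ℕ} {Ω : Type*}
  [MulAction (Matrix.symplecticGroup (Fin m) F) Ω]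

local notation "V" => Fin m ⊕ Fin m → F
local notation "Sp" => Matrix.symplecticGroup (Fin m) F
local notation "⟪" x ", " y "⟫" => Cfsg.sympForm m F x y

/-- `(w, c)` gives an element of the root group at `u` fixing `x`. -/
def RootFix (u v : V) (x : Ω) (w : V) (c : F) : Prop :=
  w ∈ perp2 u v ∧ rootEl u w c • x = x

/-- Vectors of the complement orthogonal to the projected stabiliser. -/
def Rvec (u v : V) (x : Ω) : Set V :=
  {r | r ∈ perp2 u v ∧ ∀ w c, RootFix u v x w c → ⟪r, w⟫ = 0}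

/-- Forms extending the stabiliser. -/
def ext (u v : V) (x : Ω) : Set (V → F) :=
  {Q | IsForm Q ∧ Q u = 0 ∧ Q v = 0 ∧ ∀ w c, RootFix u v x w c → Q w = c}

/-- The projected stabiliser is everything. -/
def Full (u v : V) (x : Ω) : Prop := ∀ w ∈ perp2 u v, ∃ c, RootFix u v x w c

theorem rootFix_zero (u v : V) (x : Ω) : RootFix u v x 0 0 :=
  ⟨Submodule.zero_mem _, by
    rw [rootEl_zero, show spTransv u (0 : F) = 1 from sp_ext fun y => by
      rw [spTransv_mulVec, sp_one_mulVec, zero_mul, zero_smul, add_zero], one_smul]⟩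

theorem rootFix_add {u v : V} {x : Ω} {w w' : V} {c c' : F}
    (h : RootFix u v x w c) (h' : RootFix u v x w' c') :
    RootFix u v x (w + w') (c + c' + ⟪w', w⟫) :=
  ⟨Submodule.add_mem _ h.1 h'.1, by
    rw [← rootEl_mul (mem_perp2.1 h.1).1 (mem_perp2.1 h'.1).1, mul_smul, h'.2, h.2]⟩

theorem rootEl_comm (hF : Fintype.card F = 2) {u w w' : V} (h : ⟪w, u⟫ = 0) (h' : ⟪w', u⟫ = 0)
    (c c' : F) : rootEl u w c * rootEl u w' c' = rootEl u w' c' * rootEl u w c := by
  rw [rootEl_mul h h', rootEl_mul h' h, add_comm w w', add_comm c c', sympForm_comm_two hF w' w]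

/-- Root elements at `u` do not change the stabiliser in the root group. -/
theorem rootFix_smul (hF : Fintype.card F = 2) {u v a : V} (ha : a ∈ perp2 u v) (b : F) (x : Ω)
    (w : V) (c : F) : RootFix u v (rootEl u a b • x) w c ↔ RootFix u v x w c := by
  refine and_congr_right fun hw => ?_
  rw [← mul_smul, rootEl_comm hF (mem_perp2.1 hw).1 (mem_perp2.1 ha).1, mul_smul,
    smul_left_cancel_iff]

theorem rootFix_levi {u v : V} {A : Sp} (hA : A ∈ levi u v) (x : Ω) (w : V) (c : F) :
    RootFix u v (A • x) (A.1 *ᵥ w) c ↔ RootFix u v x w c := by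
  have h1 : A.1 *ᵥ w ∈ perp2 u v ↔ w ∈ perp2 u v := ⟨fun h => by
    rw [← sp_inv_mulVec_self A w]; exact levi_map_perp2 (inv_mem hA) h, levi_map_perp2 hA⟩
  rw [RootFix, RootFix, h1, ← conj_rootEl_levi hA, mul_smul, inv_smul_smul, mul_smul,
    smul_left_cancel_iff]

theorem Rvec_smul (hF : Fintype.card F = 2) {u v a : V} (ha : a ∈ perp2 u v) (b : F) (x : Ω) :
    Rvec u v (rootEl u a b • x) = Rvec u v x := by
  ext r; simp only [Rvec, Set.mem_setOf_eq, rootFix_smul hF ha]

theorem ext_smul (hF : Fintype.card F = 2) {u v a : V} (ha : a ∈ perp2 u v) (b : F) (x : Ω) :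
    ext u v (rootEl u a b • x) = ext u v x := by
  ext r; simp only [ext, Set.mem_setOf_eq, rootFix_smul hF ha]

theorem mem_Rvec_levi {u v : V} {A : Sp} (hA : A ∈ levi u v) (x : Ω) (r : V) :
    A.1 *ᵥ r ∈ Rvec u v (A • x) ↔ r ∈ Rvec u v x := by
  constructor
  · rintro ⟨h1, h2⟩
    refine ⟨by rw [← sp_inv_mulVec_self A r]; exact levi_map_perp2 (inv_mem hA) h1,
      fun w c h => ?_⟩
    rw [← sympForm_map A]
    exact h2 _ c ((rootFix_levi hA x w c).2 h)
  · rintro ⟨h1, h2⟩
    refine ⟨levi_map_perp2 hA h1, fun w c h => ?_⟩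
    rw [← sp_mulVec_inv_self A w] at h ⊢
    rw [sympForm_map]
    exact h2 _ c ((rootFix_levi hA x _ c).1 h)

theorem ncard_Rvec_levi {u v : V} {A : Sp} (hA : A ∈ levi u v) (x : Ω) :
    (Rvec u v (A • x)).ncard = (Rvec u v x).ncard := by
  have h : Rvec u v (A • x) = (fun r => A.1 *ᵥ r) '' Rvec u v x := by
    ext r
    constructor
    · intro hr
      exact ⟨(A⁻¹).1 *ᵥ r, (mem_Rvec_levi hA x _).1 (by rwa [sp_mulVec_inv_self]),
        sp_mulVec_inv_self A r⟩
    · rintro ⟨r', hr', rfl⟩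
      exact (mem_Rvec_levi hA x r').2 hr'
  rw [h, Set.ncard_image_of_injective _ fun a b hab => by
    have := congrArg (fun z => (A⁻¹).1 *ᵥ z) hab
    simpa only [sp_inv_mulVec_self] using this]

theorem ext_levi {u v : V} {A : Sp} (hA : A ∈ levi u v) (x : Ω) {Q : V → F}
    (hQ : Q ∈ ext u v x) : (fun y => Q ((A⁻¹).1 *ᵥ y)) ∈ ext u v (A • x) := by
  refine ⟨hQ.1.comp _, ?_, ?_, fun w c h => ?_⟩
  · change Q _ = 0; rw [levi_fix_left (inv_mem hA)]; exact hQ.2.1
  · change Q _ = 0; rw [levi_fix_right (inv_mem hA)]; exact hQ.2.2.1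
  · rw [← sp_mulVec_inv_self A w] at h
    exact hQ.2.2.2 _ c ((rootFix_levi hA x _ c).1 h)

/-- The projected stabiliser, a subspace. -/
def Kbar (hF : Fintype.card F = 2) (u v : V) (x : Ω) : Submodule F V where
  carrier := {w | ∃ c, RootFix u v x w c}
  zero_mem' := ⟨0, rootFix_zero u v x⟩
  add_mem' := fun ⟨_, h⟩ ⟨_, h'⟩ => ⟨_, rootFix_add h h'⟩
  smul_mem' a w hw := by
    rcases zero_or_one hF a with rfl | rfl
    · rw [zero_smul]; exact ⟨0, rootFix_zero u v x⟩
    · rwa [one_smul]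

theorem Kbar_le (hF : Fintype.card F = 2) (u v : V) (x : Ω) :
    Kbar hF u v x ≤ perp2 u v := fun _ ⟨_, h⟩ => h.1

theorem rootFix_unique (hF : Fintype.card F = 2) {u v : V} {x : Ω}
    (hmov : spTransv u (1 : F) • x ≠ x) {w : V} {c c' : F} (h : RootFix u v x w c)
    (h' : RootFix u v x w c') : c = c' := by
  by_contra hne
  have := (rootFix_add h h').2
  rw [vec_add_self hF, rootEl_zero, sympForm_self, add_zero,
    eq_one_of_ne_zero hF (a := c + c')
      fun e => hne (by linear_combination e - add_self_two hF c')] at this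
  exact hmov this

theorem card_Rvec_mul (hF : Fintype.card F = 2) {u v : V} (huv : ⟪u, v⟫ = 1) (x : Ω) :
    (Rvec u v x).ncard * Nat.card (Kbar hF u v x) = Nat.card (perp2 u v) := by
  classical
  let K := Kbar hF u v x
  let φ : perp2 u v →+ Module.Dual F K :=
    { toFun := fun r => (sympBilin m F (r : V)).comp K.subtype
      map_zero' := by ext; simp
      map_add' := fun r r' => by ext; simp }
  have hsurj : Function.Surjective φ := by
    intro g
    obtain ⟨g', hg'⟩ := LinearMap.exists_extend g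
    obtain ⟨r, hr, hr'⟩ := exists_perp2_repr huv g'
    refine ⟨⟨r, hr⟩, LinearMap.ext fun w => ?_⟩
    change sympBilin m F r (w : V) = g w
    rw [sympBilin_apply, hr' _ (Kbar_le hF u v x w.2), ← hg']
    rfl
  have hker : Nat.card φ.ker = (Rvec u v x).ncard := by
    rw [← Nat.card_coe_set_eq]
    exact Nat.card_congr
      { toFun := fun r => ⟨r.1.1, r.1.2, fun w c h => by
          have := LinearMap.congr_fun (r.2 : φ r.1 = 0) ⟨w, ⟨c, h⟩⟩
          exact (sympBilin_apply _ _).symm.trans this⟩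
        invFun := fun r => ⟨⟨r.1, r.2.1⟩, LinearMap.ext fun w => by
          obtain ⟨c, h⟩ := w.2
          exact (sympBilin_apply _ _).trans (r.2.2 _ c h)⟩
        left_inv := fun r => rfl
        right_inv := fun r => rfl }
  have hdual : Nat.card (Module.Dual F K) = Nat.card K := by
    rw [Module.natCard_eq_pow_finrank (K := F), Subspace.dual_finrank_eq]
    exact (Module.natCard_eq_pow_finrank (K := F)).symm
  have h := φ.ker.index_mul_card
  rw [AddSubgroup.index_ker, AddMonoidHom.range_eq_top.2 hsurj, AddSubgroup.card_top, hdual,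
    hker] at h
  rwa [mul_comm]

/-- An orbit of the root group has at least twice as many points as `Rvec`, for moved points. -/
theorem le_card_orbit_moved [Finite Ω] (hF : Fintype.card F = 2) {u v : V} (huv : ⟪u, v⟫ = 1)
    {x : Ω} (hmov : spTransv u (1 : F) • x ≠ x) :
    2 * (Rvec u v x).ncard ≤
      (Set.range fun p : perp2 u v × F => rootEl u (p.1 : V) p.2 • x).ncard := by
  classical
  have : Fintype (perp2 u v) := Fintype.ofFinite _
  have : Fintype (Kbar hF u v x) := Fintype.ofFinite _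
  set f := fun p : perp2 u v × F => rootEl u (p.1 : V) p.2 • x
  have h : (Finset.univ : Finset (perp2 u v × F)).card ≤
      Nat.card (Kbar hF u v x) * (Finset.univ.image f).card := by
    refine Finset.card_le_mul_card_image _ _ fun y hy => ?_
    obtain ⟨⟨a₀, b₀⟩, -, rfl⟩ := Finset.mem_image.1 hy
    have key : ∀ p : perp2 u v × F, f p = f (a₀, b₀) →
        RootFix u v x ((a₀ : V) + p.1) (b₀ + p.2 + ⟪(p.1 : V), a₀⟫) := by
      rintro ⟨a, b⟩ (h : rootEl u (a : V) b • x = rootEl u (a₀ : V) b₀ • x)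
      refine ⟨Submodule.add_mem _ a₀.2 a.2, ?_⟩
      rw [← rootEl_mul (mem_perp2.1 a₀.2).1 (mem_perp2.1 a.2).1, mul_smul, h, ← mul_smul,
        rootEl_mul (mem_perp2.1 a₀.2).1 (mem_perp2.1 a₀.2).1, vec_add_self hF, sympForm_self,
        add_zero, add_self_two hF, ← vec_add_self hF (0 : V), add_zero]
      exact (rootFix_zero u v x).2
    rw [Nat.card_eq_fintype_card, ← Finset.card_univ]
    refine Finset.card_le_card_of_injOn
      (fun p => if h : (a₀ : V) + (p.1 : V) ∈ Kbar hF u v x then ⟨_, h⟩ else 0)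
      (fun _ _ => Finset.mem_univ _) ?_
    intro p hp q hq hpq
    rw [Finset.mem_coe, Finset.mem_filter] at hp hq
    have hp' := key p hp.2
    have hq' := key q hq.2
    have e1 : (a₀ : V) + (p.1 : V) = (a₀ : V) + (q.1 : V) := by
      have := congrArg Subtype.val hpq
      simpa only [dif_pos (show (a₀ : V) + (p.1 : V) ∈ Kbar hF u v x from ⟨_, hp'⟩),
        dif_pos (show (a₀ : V) + (q.1 : V) ∈ Kbar hF u v x from ⟨_, hq'⟩)] using this
    have e2 : p.1 = q.1 := Subtype.ext (add_left_cancel e1)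
    refine Prod.ext e2 ?_
    rw [← e1] at hq'
    have := rootFix_unique hF hmov hp' hq'
    rw [e2] at this
    exact add_left_cancel (add_right_cancel this)
  rw [Finset.card_univ, Fintype.card_prod, hF, ← Nat.card_eq_fintype_card,
    ← card_Rvec_mul hF huv x, ← Set.ncard_coe_finset, Finset.coe_image, Finset.coe_univ,
    Set.image_univ] at h
  nlinarith [h, Nat.card_pos (α := Kbar hF u v x)]

theorem le_card_orbit_fixed [Finite Ω] (hF : Fintype.card F = 2) {u v : V} (huv : ⟪u, v⟫ = 1)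
    (x : Ω) : (Rvec u v x).ncard ≤
      (Set.range fun a : perp2 u v => rootEl u (a : V) 0 • x).ncard := by
  classical
  have : Fintype (perp2 u v) := Fintype.ofFinite _
  have : Fintype (Kbar hF u v x) := Fintype.ofFinite _
  set f := fun a : perp2 u v => rootEl u (a : V) 0 • x
  have h : (Finset.univ : Finset (perp2 u v)).card ≤
      Nat.card (Kbar hF u v x) * (Finset.univ.image f).card := by
    refine Finset.card_le_mul_card_image _ _ fun y hy => ?_
    obtain ⟨a₀, -, rfl⟩ := Finset.mem_image.1 hy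
    have key : ∀ a, f a = f a₀ → (a₀ : V) + a ∈ Kbar hF u v x := by
      intro a (h : rootEl u (a : V) 0 • x = rootEl u (a₀ : V) 0 • x)
      refine ⟨0 + 0 + ⟪(a : V), a₀⟫, Submodule.add_mem _ a₀.2 a.2, ?_⟩
      rw [← rootEl_mul (mem_perp2.1 a₀.2).1 (mem_perp2.1 a.2).1, mul_smul, h, ← mul_smul,
        rootEl_mul (mem_perp2.1 a₀.2).1 (mem_perp2.1 a₀.2).1, vec_add_self hF, sympForm_self,
        add_zero, add_zero]
      exact (rootFix_zero u v x).2
    rw [Nat.card_eq_fintype_card, ← Finset.card_univ]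
    refine Finset.card_le_card_of_injOn
      (fun a => if h : (a₀ : V) + (a : V) ∈ Kbar hF u v x then ⟨_, h⟩ else 0)
      (fun _ _ => Finset.mem_univ _) ?_
    intro p hp q hq hpq
    rw [Finset.mem_coe, Finset.mem_filter] at hp hq
    have := congrArg Subtype.val hpq
    simp only [dif_pos (key p hp.2), dif_pos (key q hq.2)] at this
    exact Subtype.ext (add_left_cancel this)
  rw [Finset.card_univ, ← Nat.card_eq_fintype_card,
    ← card_Rvec_mul hF huv x, ← Set.ncard_coe_finset, Finset.coe_image, Finset.coe_univ,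
    Set.image_univ] at h
  nlinarith [h, Nat.card_pos (α := Kbar hF u v x)]

theorem mem_ext_iff (hF : Fintype.card F = 2) {u v : V} (huv : ⟪u, v⟫ = 1) {x : Ω} {Q : V → F}
    (hQ : Q ∈ ext u v x) (Q' : V → F) : Q' ∈ ext u v x ↔ ∃ r ∈ Rvec u v x, Q' = shift Q r := by
  constructor
  · intro hQ'
    obtain ⟨r, rfl⟩ := hQ.1.exists_shift hQ'.1 hF
    refine ⟨r, ⟨⟨?_, ?_⟩, fun w c h => ?_⟩, rfl⟩
    · have := hQ'.2.1; rwa [shift_apply, hQ.2.1, zero_add] at this
    · have := hQ'.2.2.1; rwa [shift_apply, hQ.2.2.1, zero_add] at this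
    · have := hQ'.2.2.2 w c h
      rwa [shift_apply, hQ.2.2.2 w c h, add_eq_left] at this
  · rintro ⟨r, hr, rfl⟩
    refine ⟨hQ.1.shift r, ?_, ?_, fun w c h => ?_⟩
    · rw [shift_apply, hQ.2.1, (mem_perp2.1 hr.1).1, zero_add]
    · rw [shift_apply, hQ.2.2.1, (mem_perp2.1 hr.1).2, zero_add]
    · rw [shift_apply, hQ.2.2.2 w c h, hr.2 w c h, add_zero]

theorem ncard_ext (hF : Fintype.card F = 2) {u v : V} (huv : ⟪u, v⟫ = 1) {x : Ω} {Q : V → F}
    (hQ : Q ∈ ext u v x) : (ext u v x).ncard = (Rvec u v x).ncard := by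
  rw [show ext u v x = shift Q '' Rvec u v x from Set.ext fun Q' => by
    rw [mem_ext_iff hF huv hQ]; simp only [Set.mem_image, eq_comm],
    Set.ncard_image_of_injective _ fun a b h => shift_inj h]

theorem exists_mem_ext (hF : Fintype.card F = 2) {u v : V} (huv : ⟪u, v⟫ = 1) {x : Ω}
    (hmov : spTransv u (1 : F) • x ≠ x) : ∃ Q, Q ∈ ext u v x := by
  classical
  obtain ⟨Q₀, hQ₀, hu0, hv0⟩ : ∃ Q₀ : V → F, IsForm Q₀ ∧ Q₀ u = 0 ∧ Q₀ v = 0 := by
    have hS := isForm_stdForm (m := m) hF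
    refine ⟨shift (stdForm m F) (stdForm m F v • u + stdForm m F u • v), hS.shift _, ?_, ?_⟩ <;>
      simp only [shift_apply, sympForm_add_left, sympForm_smul_left, sympForm_self, huv,
        sympForm_vu huv, neg_two hF, mul_zero, mul_one, zero_add, add_zero, add_self_two hF]
  let cc : V → F := fun w => if h : ∃ c, RootFix u v x w c then h.choose else 0
  have hcc : ∀ {w c}, RootFix u v x w c → cc w = c := fun {w c} h => by
    simp only [cc, dif_pos (show ∃ c, RootFix u v x w c from ⟨c, h⟩)]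
    exact rootFix_unique hF hmov (Exists.choose_spec _) h
  let g : Kbar hF u v x →ₗ[F] F :=
    { toFun := fun w => cc w.1 + Q₀ w.1
      map_add' := fun ⟨a, ca, ha⟩ ⟨b, cb, hb⟩ => by
        change cc (a + b) + Q₀ (a + b) = (cc a + Q₀ a) + (cc b + Q₀ b)
        rw [hcc (rootFix_add ha hb), hcc ha, hcc hb, hQ₀, sympForm_comm_two hF b a]
        linear_combination add_self_two hF (⟪a, b⟫)
      map_smul' := fun t a => by
        rcases zero_or_one hF t with rfl | rfl
        · rw [RingHom.id_apply, zero_smul, zero_smul, Submodule.coe_zero, hQ₀.map_zero,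
            hcc (rootFix_zero u v x), add_zero]
        · rw [RingHom.id_apply, one_smul, one_smul] }
  obtain ⟨g', hg'⟩ := LinearMap.exists_extend g
  obtain ⟨r, hr, hr'⟩ := exists_perp2_repr huv g'
  refine ⟨shift Q₀ r, hQ₀.shift r, ?_, ?_, fun w c h => ?_⟩
  · rw [shift_apply, hu0, (mem_perp2.1 hr).1, zero_add]
  · rw [shift_apply, hv0, (mem_perp2.1 hr).2, zero_add]
  · have hw : w ∈ Kbar hF u v x := ⟨c, h⟩
    rw [shift_apply, hr' w h.1, show g' w = g ⟨w, hw⟩ from LinearMap.congr_fun hg' ⟨w, hw⟩]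
    change Q₀ w + (cc w + Q₀ w) = c
    rw [hcc h]
    linear_combination add_self_two hF (Q₀ w)

theorem exists_ne_zero_Rvec (hF : Fintype.card F = 2) {u v : V} (huv : ⟪u, v⟫ = 1) {x : Ω}
    (hK : ¬ Full u v x) : ∃ r ∈ Rvec u v x, r ≠ 0 := by
  simp only [Full, not_forall] at hK
  obtain ⟨w₀, hw₀, hK⟩ := hK
  obtain ⟨g, hg, hgK⟩ := Submodule.exists_dual_map_eq_bot_of_notMem
    (p := Kbar hF u v x) (x := w₀) hK inferInstance
  obtain ⟨r, hr, hr'⟩ := exists_perp2_repr huv g
  refine ⟨r, ⟨hr, fun w c h => ?_⟩, fun h0 => hg ?_⟩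
  · rw [hr' w h.1]
    exact (Submodule.eq_bot_iff _).1 hgK _ (Submodule.mem_map_of_mem ⟨c, h⟩)
  · rw [← hr' w₀ hw₀, h0, sympForm_zero_left]

theorem ext_subsingleton (hF : Fintype.card F = 2) {u v : V} (huv : ⟪u, v⟫ = 1) {x : Ω}
    (hK : Full u v x) : (ext u v x).Subsingleton := by
  intro Q hQ Q' hQ'
  obtain ⟨r, ⟨hr, hr'⟩, rfl⟩ := (mem_ext_iff hF huv hQ Q').1 hQ'
  rw [perp2_sep huv hr fun z hz => by
    obtain ⟨c, h⟩ := hK z hz
    exact hr' z c h, shift_zero]

end CfsgLib.MinDegree
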