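import Cfsg.Agent.MinDegree.UFourModel
import Cfsg.Agent.Forms.UnitaryOrder

/-!
# Binary anti-Hermitian forms over a field with `q²` elements

Isotropic points, normal form, congruence classes and the number of forms of given determinant.
-/

set_option autoImplicit false

namespace CfsgLib.MinDegree.UFour

open Matrix CfsgLib.RepBounds.Unit CfsgLib.UnitOrders

variable {F : Type*} [Field F] [Fintype F] (C : ConjField F)

local notation "M2" => Matrix (Fin 2) (Fin 2) F

/-- The element `mk2 u v w` of the anti-Hermitian matrices. -/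
def mkA (u : C.skew) (v : F) (w : C.skew) : aherm C := ⟨mk2 C u v w, mk2_mem C u.2 v w.2⟩

theorem coe_mkA (u : C.skew) (v : F) (w : C.skew) : (mkA C u v w : M2) = mk2 C u v w := rfl

theorem exists_mkA (X : aherm C) : ∃ u v w, X = mkA C u v w :=
  ⟨⟨_, (aherm_eq_mk2 C X.2).2.1⟩, X.1 0 1, ⟨_, (aherm_eq_mk2 C X.2).2.2⟩,
    Subtype.ext (aherm_eq_mk2 C X.2).1⟩

theorem mkA_inj {u u' : C.skew} {v v' : F} {w w' : C.skew} (h : mkA C u v w = mkA C u' v' w') :
    u = u' ∧ v = v' ∧ w = w' := by
  have h1 := congrArg (fun X : aherm C => (X.1 0 0, X.1 0 1, X.1 1 1)) h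
  simp [coe_mkA, mk2] at h1
  exact ⟨h1.1, h1.2.1, h1.2.2⟩

theorem mkA_add (u u' : C.skew) (v v' : F) (w w' : C.skew) :
    mkA C u v w + mkA C u' v' w' = mkA C (u + u') (v + v') (w + w') := by
  apply Subtype.ext
  ext i j
  fin_cases i <;> fin_cases j <;> simp [coe_mkA, mk2, add_comm]

theorem mkA_sub (u u' : C.skew) (v v' : F) (w w' : C.skew) :
    mkA C u v w - mkA C u' v' w' = mkA C (u - u') (v - v') (w - w') := by
  rw [sub_eq_iff_eq_add, mkA_add, sub_add_cancel, sub_add_cancel, sub_add_cancel]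

theorem det_mkA (u : C.skew) (v : F) (w : C.skew) :
    (mkA C u v w : M2).det = u * w + v * C.σ v := by
  simp [coe_mkA, mk2, det_fin_two]

theorem det_real (X : aherm C) : C.σ X.1.det = X.1.det := by
  obtain ⟨u, v, w, rfl⟩ := exists_mkA C X
  rw [det_mkA, map_add, map_mul, map_mul, C.invol, C.skew_eq u.2, C.skew_eq w.2]
  ring

theorem real_mul_skew {r : F} (hr : C.σ r = r) {s : F} (hs : s ∈ C.skew) : r * s ∈ C.skew := by
  rw [C.mem_skew, map_mul, hr, C.skew_eq hs]; ring

theorem div_real {a b : F} (ha : a ∈ C.skew) (hb : b ∈ C.skew) : C.σ (a / b) = a / b := by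
  rw [map_div₀, C.skew_eq ha, C.skew_eq hb, neg_div_neg_eq]

theorem norm_real (x : F) : C.σ (x * C.σ x) = x * C.σ x := by rw [map_mul, C.invol, mul_comm]

/-- A matrix with first row `(z, 1)`. -/
def rowEl (z : F) : M2 := !![z, 1; -1, 0]

omit [Fintype F] in
theorem rowEl_det (z : F) : (rowEl z).det = 1 := by simp [rowEl, det_fin_two]

/-- The value of a form at a point. -/
def atPt (a : Option F) (M : aherm C) : F := (cg C (a.elim 1 rowEl) M).1 0 0

theorem atPt_none (u : C.skew) (v : F) (w : C.skew) : atPt C none (mkA C u v w) = u := by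
  simp [atPt, cg_one, coe_mkA, mk2]

theorem atPt_some (z : F) (u : C.skew) (v : F) (w : C.skew) :
    atPt C (some z) (mkA C u v w) =
      z * C.σ z * u + z * v - C.σ z * C.σ v + w := by
  simp [atPt, coe_cg, rowEl, coe_mkA, mk2, uAdj, Matrix.mul_apply, Fin.sum_univ_two,
    Matrix.vecMul, dotProduct]
  ring

/-- Completing the square. -/
theorem atPt_complete {u : C.skew} (hu : (u : F) ≠ 0) (v : F) (w : C.skew) (y : F) :
    atPt C (some (y + C.σ v / u)) (mkA C u v w) =
      u * (y * C.σ y) + (mkA C u v w : M2).det / u := by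
  rw [atPt_some, det_mkA]
  simp only [map_add, map_div₀, C.invol, C.skew_eq u.2]
  field_simp
  ring

open Classical in
/-- The isotropic points. -/
noncomputable def isoPts (M : aherm C) : Finset (Option F) :=
  Finset.univ.filter fun a => atPt C a M = 0

theorem mem_isoPts {M : aherm C} {a : Option F} : a ∈ isoPts C M ↔ atPt C a M = 0 := by
  simp [isoPts]

theorem isoPts_card_pos (M : aherm C) (h : M.1.det = 0) : 0 < (isoPts C M).card := by
  classical
  obtain ⟨u, v, w, rfl⟩ := exists_mkA C M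
  rw [Finset.card_pos]
  by_cases hu : (u : F) = 0
  · exact ⟨none, Finset.mem_filter.2 ⟨Finset.mem_univ _, by rw [atPt_none, hu]⟩⟩
  · exact ⟨some (0 + C.σ v / u), Finset.mem_filter.2 ⟨Finset.mem_univ _, by
      rw [atPt_complete C hu, h]; simp⟩⟩

theorem isoPts_card_ge (M : aherm C) (h : M.1.det ≠ 0) : C.q + 1 ≤ (isoPts C M).card := by
  classical
  obtain ⟨u, v, w, rfl⟩ := exists_mkA C M
  have : Fintype C.skew := Fintype.ofFinite _
  rw [det_mkA] at h
  by_cases hu : (u : F) = 0
  · have hv : v ≠ 0 := fun h' => h (by rw [hu, h']; ring)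
    obtain ⟨s, hs⟩ := C.exists_sub_eq (C.skew.neg_mem w.2)
    let T : Finset (Option F) := insert none
      (((Finset.univ : Finset F).filter fun t => C.σ t = t).image fun t => some ((s + t) / v))
    have hT : T ⊆ isoPts C (mkA C u v w) := by
      intro a ha
      refine Finset.mem_filter.2 ⟨Finset.mem_univ _, ?_⟩
      rcases Finset.mem_insert.1 ha with rfl | ha
      · rw [atPt_none, hu]
      · obtain ⟨t, ht, rfl⟩ := Finset.mem_image.1 ha
        rw [atPt_some, hu]
        simp only [map_div₀, map_add, (Finset.mem_filter.1 ht).2]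
        have hσv : C.σ v ≠ 0 := (map_ne_zero C.σ).2 hv
        field_simp
        linear_combination (v * C.σ v) * hs
    refine le_trans ?_ (Finset.card_le_card hT)
    rw [Finset.card_insert_of_notMem (by simp), Finset.card_image_of_injective]
    · refine Nat.succ_le_succ ?_
      obtain ⟨d, hd, hd0⟩ := C.exists_skew_ne
      rw [← C.card_skew, Nat.card_eq_fintype_card, ← Finset.card_univ]
      refine Finset.card_le_card_of_injOn (fun c => (c : F) / d) (fun c _ => Finset.mem_filter.2
        ⟨Finset.mem_univ _, div_real C c.2 hd⟩) fun a _ b _ e => Subtype.ext ?_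
      exact (div_left_inj' hd0).1 e
    · intro a b e
      have := Option.some_injective _ e
      rw [div_left_inj' hv] at this
      exact add_left_cancel this
  · set μ := -((mkA C u v w : M2).det) / ((u : F) * u) with hμdef
    have hμ : μ ≠ 0 := div_ne_zero (neg_ne_zero.2 (by rw [det_mkA]; exact h)) (mul_ne_zero hu hu)
    have hμq : μ ^ C.q = μ := by
      rw [← C.pow, hμdef, map_div₀, map_neg, det_real, map_mul, C.skew_eq u.2, neg_mul_neg]
    rw [← CfsgLib.Forms.card_norm_fiber C.card μ hμ hμq, Nat.card_eq_fintype_card,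
      ← Finset.card_univ]
    refine Finset.card_le_card_of_injOn (fun y => some (y.1 + C.σ v / u))
      (fun y _ => Finset.mem_filter.2 ⟨Finset.mem_univ _, ?_⟩) fun a _ b _ e =>
        Subtype.ext (add_right_cancel (Option.some_injective _ e))
    rw [atPt_complete C hu, C.pow y.1, ← pow_succ', y.2, hμdef]
    field_simp
    ring

/-- A form of non-zero determinant is congruent to an antidiagonal one. -/
theorem exists_normal (M : aherm C) (h : M.1.det ≠ 0) :
    ∃ g : M2, g.det = 1 ∧ ∃ m : F, m ≠ 0 ∧ cg C g M = mkA C 0 m 0 := by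
  classical
  obtain ⟨a, ha, b, hb, hab⟩ := Finset.one_lt_card.1
    (lt_of_lt_of_le (by have := C.two_le; omega) (isoPts_card_ge C M h))
  have hav := (Finset.mem_filter.1 ha).2
  have hbv := (Finset.mem_filter.1 hb).2
  let x : Option F → Fin 2 → F := fun a => (a.elim 1 rowEl : M2) 0
  let g₀ : M2 := Matrix.of ![x a, x b]
  have hdet : g₀.det ≠ 0 := by
    cases a <;> cases b <;>
      simp_all [g₀, x, det_fin_two, rowEl, sub_eq_zero]
  let g : M2 := Matrix.of ![x a, g₀.det⁻¹ • x b]
  have hg : g.det = 1 := by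
    have : g.det = g₀.det⁻¹ * g₀.det := by simp [g, g₀, det_fin_two]; ring
    rw [this, inv_mul_cancel₀ hdet]
  refine ⟨g, hg, ?_⟩
  obtain ⟨u, v, w, hM⟩ := exists_mkA C (cg C g M)
  have e00 : (cg C g M).1 0 0 = 0 := by
    rw [← hav]
    simp [atPt, coe_cg, g, x, Matrix.mul_apply, Fin.sum_univ_two, uAdj, Matrix.vecMul, dotProduct]
  have e11 : (cg C g M).1 1 1 = 0 := by
    have : (cg C g M).1 1 1 = g₀.det⁻¹ * C.σ g₀.det⁻¹ * atPt C b M := by
      simp [atPt, coe_cg, g, x, Matrix.mul_apply, Fin.sum_univ_two, uAdj, Matrix.vecMul, dotProduct]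
      ring
    rw [this, hbv, mul_zero]
  rw [hM] at e00 e11
  simp [coe_mkA, mk2] at e00 e11
  subst e00 e11
  refine ⟨v, fun hv => h ?_, hM⟩
  have hd := det_cg C g M
  rw [hM, det_mkA, hg, hv] at hd
  simpa using hd.symm

/-- Forms whose determinants differ by a real square are congruent. -/
theorem exists_congr {M M' : aherm C} (hM : M.1.det ≠ 0) {r : F} (hr : C.σ r = r) (hr0 : r ≠ 0)
    (hM' : M'.1.det = r ^ 2 * M.1.det) : ∃ g : M2, IsL C g ∧ cg C g M = M' := by
  have hM'0 : M'.1.det ≠ 0 := by rw [hM']; exact mul_ne_zero (pow_ne_zero 2 hr0) hM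
  obtain ⟨g, hg, m, hm, hgm⟩ := exists_normal C M hM
  obtain ⟨g', hg', m', hm', hgm'⟩ := exists_normal C M' hM'0
  have e1 := det_cg C g M
  have e2 := det_cg C g' M'
  rw [hgm, det_mkA, hg, map_one, one_mul, one_mul] at e1
  rw [hgm', det_mkA, hg', map_one, one_mul, one_mul, hM', ← e1] at e2
  simp only [ZeroMemClass.coe_zero, zero_mul, zero_add] at e2
  have hζ : m' / (r * m) * C.σ (m' / (r * m)) = 1 := by
    rw [map_div₀, map_mul, hr, div_mul_div_comm, e2, div_eq_one_iff_eq]
    · ring
    · exact mul_ne_zero (mul_ne_zero hr0 hm) (mul_ne_zero hr0 ((map_ne_zero C.σ).2 hm))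
  obtain ⟨α, hα, hαe⟩ := CfsgLib.Forms.exists_div_eq C.ne_id C.invol hζ
  have hσα : C.σ α ≠ 0 := (map_ne_zero C.σ).2 hα
  let d : M2 := !![α, 0; 0, r / α]
  have hd : IsL C d := by
    constructor <;> simp [d, det_fin_two, mul_div_cancel₀ _ hα, hr, hr0]
  have hcg : cg C d (mkA C 0 m 0) = mkA C 0 m' 0 := by
    have hv : α * m * (r / C.σ α) = m' := by
      have hrm : r * m ≠ 0 := mul_ne_zero hr0 hm
      field_simp at hαe ⊢
      linear_combination -hαe
    apply Subtype.ext
    ext i j
    fin_cases i <;> fin_cases j <;>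
      simp [coe_cg, coe_mkA, mk2, d, uAdj, Matrix.mul_apply, Fin.sum_univ_two, Matrix.vecMul,
        dotProduct, map_div₀, hr]
    · exact hv
    · rw [← hv]; simp [map_div₀, hr, C.invol]; ring
  have hgL := IsL.of_det_one C hg'
  refine ⟨g'⁻¹ * d * g, ((hgL.inv C).mul C hd).mul C (IsL.of_det_one C hg), ?_⟩
  rw [cg_mul, hgm, cg_mul, hcg, ← hgm', ← cg_mul, nonsing_inv_mul _ (hgL.isUnit C), cg_one]

/-- The number of forms of a given non-zero determinant. -/
theorem card_det_eq [DecidableEq F] [Fintype (aherm C)] {t : F} (ht : C.σ t = t) (ht0 : t ≠ 0) :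
    C.q * (C.q ^ 2 + 1) ≤ ((Finset.univ : Finset (aherm C)).filter fun M => M.1.det = t).card := by
  classical
  have : Fintype C.skew := Fintype.ofFinite _
  let N := (Finset.univ : Finset F).filter fun v => v * C.σ v = t
  let S := (Finset.univ : Finset C.skew).erase 0
  have hN : N.card = C.q + 1 := by
    have hfib := CfsgLib.Forms.card_norm_fiber C.card t ht0 (by rw [← C.pow, ht])
    rw [Nat.card_eq_fintype_card, Fintype.card_subtype] at hfib
    rw [← hfib]
    refine congrArg Finset.card (Finset.filter_congr fun v _ => ?_)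
    rw [C.pow, ← pow_succ']
  have hS : S.card = C.q - 1 := by
    rw [Finset.card_erase_of_mem (Finset.mem_univ _), Finset.card_univ,
      ← Nat.card_eq_fintype_card, C.card_skew]
  let f : (F × C.skew) ⊕ (F × C.skew) → aherm C := Sum.elim
    (fun z => mkA C z.2 z.1
      ⟨(t - z.1 * C.σ z.1) / z.2, by
        rw [C.mem_skew, map_div₀, map_sub, ht, norm_real, C.skew_eq z.2.2, div_neg,
          add_neg_cancel]⟩)
    (fun z => mkA C 0 z.1 z.2)
  let T : Finset ((F × C.skew) ⊕ (F × C.skew)) :=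
    ((Finset.univ : Finset F) ×ˢ S).disjSum (N ×ˢ (Finset.univ : Finset C.skew))
  have hmaps : ∀ z ∈ T, f z ∈ (Finset.univ : Finset (aherm C)).filter fun M => M.1.det = t := by
    rintro (⟨v, u⟩ | ⟨v, w⟩) hz <;> simp [T, S, N] at hz <;>
      refine Finset.mem_filter.2 ⟨Finset.mem_univ _, ?_⟩
    · simp only [f, Sum.elim_inl, det_mkA]
      rw [mul_div_cancel₀ _ (fun h => hz (Subtype.ext h))]
      ring
    · simp only [f, Sum.elim_inr, det_mkA, ZeroMemClass.coe_zero, zero_mul, zero_add, hz]
  have hinj : Set.InjOn f T := by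
    rintro (⟨v, u⟩ | ⟨v, w⟩) hz (⟨v', u'⟩ | ⟨v', w'⟩) hz' e <;>
      simp [T, S, N] at hz hz' <;>
      obtain ⟨h1, h2, h3⟩ := mkA_inj C e
    · exact congrArg Sum.inl (Prod.ext h2 h1)
    · exact absurd h1 hz
    · exact absurd h1.symm hz'
    · exact congrArg Sum.inr (Prod.ext h2 h3)
  refine le_trans ?_ (Finset.card_le_card_of_injOn f hmaps hinj)
  simp only [T, Finset.card_disjSum, Finset.card_product, Finset.card_univ, hN, hS, C.card,
    ← Nat.card_eq_fintype_card, C.card_skew]
  have := C.two_le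
  obtain ⟨i, hi⟩ : ∃ i, C.q = i + 1 := ⟨C.q - 1, by omega⟩
  rw [hi, Nat.add_sub_cancel]
  nlinarith

end CfsgLib.MinDegree.UFour
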