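import Cfsg.Agent.MinDegree.UFourBinary

/-!
# Subgroups of binary anti-Hermitian forms invariant under stabilisers of their members

A subgroup that is invariant under (enough of) the stabiliser of each of its non-degenerate members is
small or everything.
-/

set_option autoImplicit false

namespace CfsgLib.MinDegree.UFour

open Matrix CfsgLib.RepBounds.Unit CfsgLib.UnitOrders

variable {F : Type*} [Field F] [Fintype F] (C : ConjField F)

local notation "M2" => Matrix (Fin 2) (Fin 2) F

/-- Real multiples. -/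
def RMul (M P : aherm C) : Prop := ∃ r : F, C.σ r = r ∧ P.1 = r • M.1

/-- Invariance under the stabilisers of the non-degenerate members. -/
def Inv (p : ℕ) (B : AddSubgroup (aherm C)) : Prop :=
  ∀ M ∈ B, M.1.det ≠ 0 → ∀ g : M2, IsL C g → cg C g M = M →
    ((2 : F) = 0 ∨ (p ≠ 2 ∧ g ^ p = 1)) → ∀ P ∈ B, cg C g P ∈ B

/-- For `q = 2` a single non-degenerate member forces nothing. -/
def Exc (B : AddSubgroup (aherm C)) (M : aherm C) : Prop :=
  C.q = 2 ∧ ∀ P ∈ B, P.1.det ≠ 0 → P = M

/-- The polar form of the determinant. -/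
def bf (M P : aherm C) : F := (M + P : aherm C).1.det - M.1.det - P.1.det

theorem bf_cg (g : M2) (M P : aherm C) :
    bf C (cg C g M) (cg C g P) = g.det * C.σ g.det * bf C M P := by
  simp only [bf, ← map_add, det_cg]; ring

/-- The shear along the upper unipotent group. -/
theorem cg_up_fix {m : F} {r : F} (hr : C.σ r = r) :
    cg C (up (r * m)) (mkA C 0 m 0) = mkA C 0 m 0 := by
  apply Subtype.ext
  ext i j
  fin_cases i <;> fin_cases j <;>
    simp [coe_cg, coe_mkA, mk2, up, uAdj, Matrix.mul_apply, Fin.sum_univ_two, Matrix.vecMul,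
      dotProduct, hr] <;> ring

/-- The lower unipotent matrix. -/
def low (b : F) : M2 := !![1, 0; b, 1]

theorem cg_low_fix {m : F} (hm : m ≠ 0) {r : F} (hr : C.σ r = r) :
    cg C (low (r / m)) (mkA C 0 m 0) = mkA C 0 m 0 := by
  have hσm : C.σ m ≠ 0 := (map_ne_zero C.σ).2 hm
  apply Subtype.ext
  ext i j
  fin_cases i <;> fin_cases j <;>
    simp [coe_cg, coe_mkA, mk2, low, uAdj, Matrix.mul_apply, Fin.sum_univ_two, Matrix.vecMul,
      dotProduct, hr, map_div₀] <;> field_simp <;> ring

theorem isL_low (b : F) : IsL C (low b) := IsL.of_det_one C (by simp [low, det_fin_two])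

omit [Fintype F] in
theorem up_pow (b : F) (k : ℕ) : up b ^ k = up (k * b) := by
  induction k with
  | zero => rw [pow_zero]; ext i j; fin_cases i <;> fin_cases j <;> simp [up]
  | succ k ih => rw [pow_succ, ih, up_mul]; congr 1; push_cast; ring

omit [Fintype F] in
theorem low_pow (b : F) (k : ℕ) : low b ^ k = low (k * b) := by
  induction k with
  | zero => rw [pow_zero]; ext i j; fin_cases i <;> fin_cases j <;> simp [low]
  | succ k ih =>
    rw [pow_succ, ih]
    ext i j
    fin_cases i <;> fin_cases j <;> simp [low, Matrix.mul_apply, Fin.sum_univ_two]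
    ring

/-- The skew part `v σm - m σv`. -/
def kk (m v : F) : C.skew :=
  ⟨v * C.σ m - m * C.σ v, by rw [C.mem_skew, map_sub, map_mul, map_mul, C.invol, C.invol]; ring⟩

theorem upper_diff {m r : F} (hr : C.σ r = r) (u : C.skew) (v : F) (w : C.skew) :
    cg C (up (r * m)) (mkA C u v w) - mkA C u v w =
      mkA C ⟨r * kk C m v + r ^ 2 * (m * C.σ m) * w, C.skew.add_mem
          (real_mul_skew C hr (kk C m v).2)
          (real_mul_skew C (by rw [map_mul, map_pow, hr, norm_real]) w.2)⟩ (r * m * w) 0 := by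
  apply Subtype.ext
  ext i j
  fin_cases i <;> fin_cases j <;>
    simp [coe_cg, coe_mkA, mk2, up, kk, uAdj, Matrix.mul_apply, Fin.sum_univ_two, Matrix.vecMul,
      dotProduct, hr, C.skew_eq w.2] <;> ring

theorem lower_diff {m r : F} (hm : m ≠ 0) (hr : C.σ r = r) (u : C.skew) (v : F) (w : C.skew) :
    cg C (low (r / m)) (mkA C u v w) - mkA C u v w =
      mkA C 0 (r * u / C.σ m)
        ⟨r / (m * C.σ m) * kk C m v + r ^ 2 / (m * C.σ m) * u, C.skew.add_mem
          (real_mul_skew C (by rw [map_div₀, hr, norm_real]) (kk C m v).2)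
          (real_mul_skew C (by rw [map_div₀, map_pow, hr, norm_real]) u.2)⟩ := by
  have hσm : C.σ m ≠ 0 := (map_ne_zero C.σ).2 hm
  apply Subtype.ext
  ext i j
  fin_cases i <;> fin_cases j <;>
    simp [coe_cg, coe_mkA, mk2, low, kk, uAdj, Matrix.mul_apply, Fin.sum_univ_two, Matrix.vecMul,
      dotProduct, hr, map_div₀, C.invol, C.skew_eq u.2] <;> field_simp <;> ring

theorem torus_diff {l m : F} (hl : C.σ l = l) (hl0 : l ≠ 0) (u : C.skew) (v : F) (w : C.skew) :
    cg C !![l, 0; 0, l⁻¹] (mkA C u v w) - mkA C u v w =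
      mkA C ⟨(l ^ 2 - 1) * u, real_mul_skew C (by rw [map_sub, map_pow, hl, map_one]) u.2⟩ 0
        ⟨(l⁻¹ ^ 2 - 1) * w, real_mul_skew C
          (by rw [map_sub, map_pow, map_inv₀, hl, map_one]) w.2⟩ := by
  apply Subtype.ext
  ext i j
  fin_cases i <;> fin_cases j <;>
    simp [coe_cg, coe_mkA, mk2, uAdj, Matrix.mul_apply, Fin.sum_univ_two, Matrix.vecMul,
      dotProduct, hl, map_inv₀] <;> field_simp <;> ring

theorem real_of_q_two (hq : C.q = 2) {x : F} (hx : C.σ x = x) : x = 0 ∨ x = 1 := by
  rw [C.pow, hq] at hx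
  rcases eq_or_ne x 0 with h | h
  · exact Or.inl h
  · exact Or.inr (mul_left_cancel₀ h (by linear_combination hx))

/-- In the normal form the orthogonal space of `M` lies in `B`. -/
theorem perp_normal {p : ℕ} [Fact p.Prime] [CharP F p] {B : AddSubgroup (aherm C)}
    (hB : Inv C p B) {m : F} (hm : m ≠ 0) (hM : mkA C 0 m 0 ∈ B)
    (hP : ∃ P ∈ B, ¬ RMul C (mkA C 0 m 0) P) (hexc : ¬ Exc C B (mkA C 0 m 0))
    {Q : aherm C} (hQ : bf C (mkA C 0 m 0) Q = 0) : Q ∈ B := by
  classical
  have hσm : C.σ m ≠ 0 := (map_ne_zero C.σ).2 hm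
  have hμ : m * C.σ m ≠ 0 := mul_ne_zero hm hσm
  have hdet : (mkA C 0 m 0).1.det ≠ 0 := by rw [det_mkA]; simp [hm]
  have hcond : ∀ {g : M2}, g ^ p = 1 → (2 : F) = 0 ∨ (p ≠ 2 ∧ g ^ p = 1) := by
    intro g hg
    by_cases h2 : (2 : F) = 0
    · exact Or.inl h2
    · refine Or.inr ⟨fun hp => h2 ?_, hg⟩
      subst hp
      exact_mod_cast CharP.cast_eq_zero F 2
  have hupp : ∀ b : F, up b ^ p = 1 := fun b => by
    rw [up_pow, CharP.cast_eq_zero, zero_mul]
    ext i j; fin_cases i <;> fin_cases j <;> simp [up]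
  have hlowp : ∀ b : F, low b ^ p = 1 := fun b => by
    rw [low_pow, CharP.cast_eq_zero, zero_mul]
    ext i j; fin_cases i <;> fin_cases j <;> simp [low]
  -- the first and the second differences
  have U : ∀ {u : C.skew} {v : F} {w : C.skew}, mkA C u v w ∈ B → ∀ r, (hr : C.σ r = r) →
      mkA C ⟨r * kk C m v + r ^ 2 * (m * C.σ m) * w, C.skew.add_mem
          (real_mul_skew C hr (kk C m v).2)
          (real_mul_skew C (by rw [map_mul, map_pow, hr, norm_real]) w.2)⟩ (r * m * w) 0 ∈ B := by
    intro u v w h r hr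
    rw [← upper_diff C hr u v w]
    exact B.sub_mem (hB _ hM hdet _ (isL_up C _) (cg_up_fix C hr) (hcond (hupp _)) _ h) h
  have L : ∀ {u : C.skew} {v : F} {w : C.skew}, mkA C u v w ∈ B → ∀ r, (hr : C.σ r = r) →
      mkA C 0 (r * u / C.σ m)
        ⟨r / (m * C.σ m) * kk C m v + r ^ 2 / (m * C.σ m) * u, C.skew.add_mem
          (real_mul_skew C (by rw [map_div₀, hr, norm_real]) (kk C m v).2)
          (real_mul_skew C (by rw [map_div₀, map_pow, hr, norm_real]) u.2)⟩ ∈ B := by
    intro u v w h r hr
    rw [← lower_diff C hm hr u v w]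
    exact B.sub_mem (hB _ hM hdet _ (isL_low C _) (cg_low_fix C hm hr) (hcond (hlowp _)) _ h) h
  -- all upper diagonal elements
  suffices hU : ∀ u : C.skew, mkA C u 0 0 ∈ B by
    have hW : ∀ w : C.skew, mkA C 0 0 w ∈ B := by
      intro w
      rcases eq_or_ne (w : F) 0 with hw | hw
      · have := hU 0
        rwa [show w = 0 from Subtype.ext hw]
      by_cases h2 : (2 : F) = 0
      · -- `r = w`, `u = μ / w`
        have hwr : C.σ (w : F) = w := by
          rw [C.skew_eq w.2]; linear_combination -(w : F) * h2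
        have hu0 : m * C.σ m / (w : F) ∈ C.skew := by
          rw [C.mem_skew, map_div₀, norm_real, hwr]
          linear_combination (m * C.σ m / (w : F)) * h2
        have h := L (hU ⟨_, hu0⟩) (w : F) hwr
        convert B.sub_mem h hM using 1
        rw [mkA_sub]
        congr 1
        · simp
        · simp only; field_simp; ring
        · apply Subtype.ext
          simp [kk]
          field_simp
      · -- second differences
        let u₀ : C.skew := ⟨(m * C.σ m) / 2 * w, real_mul_skew C (by
          rw [map_div₀, norm_real, map_ofNat]) w.2⟩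
        have h1 := L (L (hU u₀) 1 (map_one _)) 1 (map_one _)
        convert h1 using 1
        congr 1
        · simp
        · apply Subtype.ext
          simp [kk, u₀, map_div₀, map_ofNat, C.invol, C.skew_eq w.2]
          field_simp
          ring
    obtain ⟨u, v, w, rfl⟩ := exists_mkA C Q
    rw [bf, mkA_add, det_mkA, det_mkA, det_mkA] at hQ
    simp only [ZeroMemClass.coe_zero, zero_add, zero_mul, map_add] at hQ
    have hs : v * C.σ m ∈ C.skew := by
      rw [C.mem_skew, map_mul, C.invol]
      linear_combination hQ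
    have h := L (hU ⟨_, hs⟩) 1 (map_one _)
    have h2 := B.sub_mem h (hW ⟨1 / (m * C.σ m) * kk C m 0 + 1 ^ 2 / (m * C.σ m) * (v * C.σ m),
      C.skew.add_mem (real_mul_skew C (by rw [map_div₀, map_one, norm_real]) (kk C m 0).2)
        (real_mul_skew C (by rw [map_div₀, map_pow, map_one, norm_real]) hs)⟩)
    have h3 := B.add_mem (hU u) (B.add_mem h2 (hW w))
    convert h3 using 1
    rw [mkA_sub, mkA_add, mkA_add]
    congr 1
    · simp
    · field_simp
      ring
    · simp
  by_cases h2 : (2 : F) = 0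
  · -- characteristic two
    have hreal : ∀ x ∈ C.skew, C.σ x = x := fun x hx => by
      rw [C.skew_eq hx]; linear_combination -x * h2
    have hskew : ∀ x, C.σ x = x → x ∈ C.skew := fun x hx => by
      rw [C.mem_skew, hx]; linear_combination x * h2
    have hchar : ringChar F = 2 := by
      have hp2 : p = 2 := by
        have hd : p ∣ 2 := (CharP.cast_eq_zero_iff F p 2).1 (by exact_mod_cast h2)
        exact (Nat.prime_dvd_prime_iff_eq Fact.out Nat.prime_two).1 hd
      subst hp2
      exact ringChar.eq F 2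
    have T : ∀ {u : C.skew} {v : F} {w : C.skew}, mkA C u v w ∈ B → ∀ l, (hl : C.σ l = l) →
        l ≠ 0 → mkA C ⟨(l ^ 2 - 1) * u, real_mul_skew C
            (by rw [map_sub, map_pow, hl, map_one]) u.2⟩ 0
          ⟨(l⁻¹ ^ 2 - 1) * w, real_mul_skew C
            (by rw [map_sub, map_pow, map_inv₀, hl, map_one]) w.2⟩ ∈ B := by
      intro u v w h l hl hl0
      rw [← torus_diff C (m := m) hl hl0 u v w]
      refine B.sub_mem (hB _ hM hdet _ (IsL.of_det_one C (by simp [det_fin_two, hl0])) ?_
        (Or.inl h2) _ h) h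
      apply Subtype.ext
      ext i j
      fin_cases i <;> fin_cases j <;>
        simp [coe_cg, coe_mkA, mk2, uAdj, Matrix.mul_apply, Fin.sum_univ_two, Matrix.vecMul,
          dotProduct, hl, map_inv₀] <;> field_simp
    -- one element is enough
    suffices hone : ∃ u : C.skew, (u : F) ≠ 0 ∧ mkA C u 0 0 ∈ B by
      obtain ⟨u₀, hu₀, hmem⟩ := hone
      intro u
      rcases eq_or_ne (u : F) 0 with hu | hu
      · convert B.zero_mem
        rw [show u = 0 from Subtype.ext hu]
        apply Subtype.ext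
        ext i j
        fin_cases i <;> fin_cases j <;> simp [coe_mkA, mk2]
      obtain ⟨l, hl⟩ := FiniteField.isSquare_of_char_two hchar ((u : F) / u₀)
      have hlr : C.σ l = l := by
        have e : C.σ l * C.σ l = l * l := by
          rw [← map_mul, ← hl, map_div₀, hreal _ u.2, hreal _ u₀.2]
        have : (C.σ l - l) ^ 2 = 0 := by linear_combination e + (l * l - C.σ l * l) * h2
        exact sub_eq_zero.1 (eq_zero_of_pow_eq_zero this)
      have hl0 : l ≠ 0 := fun h => div_ne_zero hu hu₀ (by rw [hl, h, zero_mul])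
      have h := B.add_mem (T hmem l hlr hl0) hmem
      convert h using 1
      rw [mkA_add]
      congr 1
      · apply Subtype.ext
        simp only [AddSubgroup.coe_add]
        rw [sub_mul, one_mul, sub_add_cancel, sq, ← hl, div_mul_cancel₀ _ hu₀]
      · simp
      · apply Subtype.ext; simp
    -- choose a member to start from
    obtain ⟨P, hPB, hPm, hPq⟩ : ∃ P ∈ B, ¬ RMul C (mkA C 0 m 0) P ∧
        (C.q = 2 → P.1.det ≠ 0) := by
      by_cases hq : C.q = 2
      · obtain ⟨P, hPB, hPd, hne⟩ : ∃ P ∈ B, P.1.det ≠ 0 ∧ P ≠ mkA C 0 m 0 := by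
          by_contra! h
          exact hexc ⟨hq, h⟩
        refine ⟨P, hPB, fun ⟨r, hr, hrP⟩ => ?_, fun _ => hPd⟩
        rcases real_of_q_two C hq hr with rfl | rfl
        · rw [hrP, zero_smul, det_zero] at hPd
          exact hPd rfl
        · exact hne (Subtype.ext (by rw [hrP, one_smul]))
      · obtain ⟨P, hPB, hPm⟩ := hP
        exact ⟨P, hPB, hPm, fun h => absurd h hq⟩
    obtain ⟨u, v, w, rfl⟩ := exists_mkA C P
    have hl : C.q ≠ 2 → ∃ l : F, C.σ l = l ∧ l ≠ 0 ∧ l ≠ 1 := by
      intro hq
      by_contra! h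
      have hle : Nat.card C.skew ≤ 2 := by
        have : Fintype C.skew := Fintype.ofFinite _
        rw [Nat.card_eq_fintype_card, ← Finset.card_univ]
        refine le_trans (Finset.card_le_card_of_injOn (t := ({0, 1} : Finset F))
          (fun c : C.skew => (c : F)) (fun c _ => ?_) fun a _ b _ e => Subtype.ext e)
          Finset.card_le_two
        rcases eq_or_ne (c : F) 0 with hc | hc
        · simp [hc]
        · simp [h _ (hreal _ c.2) hc]
      rw [C.card_skew] at hle
      have := C.two_le
      omega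
    -- from `w ≠ 0` with `K ≠ Nm`
    have good : ∀ {u : C.skew} {v : F} {w : C.skew}, mkA C u v w ∈ B → (w : F) ≠ 0 →
        (kk C m v : F) + m * C.σ m ≠ 0 → ∃ u : C.skew, (u : F) ≠ 0 ∧ mkA C u 0 0 ∈ B := by
      intro u v w h hw hk
      have hr : C.σ ((w : F)⁻¹) = (w : F)⁻¹ := by rw [map_inv₀, hreal _ w.2]
      have h1 := B.sub_mem (U h _ hr) hM
      rw [mkA_sub] at h1
      refine ⟨⟨((kk C m v : F) + m * C.σ m) / w, hskew _ ?_⟩, div_ne_zero hk hw, ?_⟩
      · rw [map_div₀, map_add, norm_real, hreal _ (kk C m v).2, hreal _ w.2]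
      convert h1 using 1
      congr 1
      · apply Subtype.ext
        simp
        field_simp
      · field_simp
        ring
      · simp
    by_cases hw : (w : F) = 0
    · by_cases hk : (kk C m v : F) = 0
      · -- `v` on the line of `m`
        have ht : C.σ (v / m) = v / m := by
          rw [map_div₀, div_eq_div_iff hσm hm]
          simp only [kk] at hk
          linear_combination -hk
        have hu : (u : F) ≠ 0 := fun hu => hPm ⟨v / m, ht, by
          rw [show u = 0 from Subtype.ext hu, show w = 0 from Subtype.ext hw]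
          ext i j
          fin_cases i <;> fin_cases j <;> simp [coe_mkA, mk2, hm]
          rw [map_div₀] at ht
          field_simp at ht ⊢
          linear_combination ht⟩
        by_cases hq : C.q = 2
        · refine ⟨u, hu, ?_⟩
          rcases real_of_q_two C hq ht with h0 | h1
          · rw [(div_eq_zero_iff.1 h0).resolve_right hm, show w = 0 from Subtype.ext hw] at hPB
            exact hPB
          · have := B.sub_mem hPB hM
            rw [mkA_sub, sub_zero, sub_zero, (div_eq_one_iff_eq hm).1 h1, sub_self,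
              show w = 0 from Subtype.ext hw] at this
            exact this
        · obtain ⟨l, hlr, hl0, hl1⟩ := hl hq
          refine ⟨_, ?_, by
            have h := T hPB l hlr hl0
            convert h using 1
            congr 1
            apply Subtype.ext
            simp [hw]⟩
          refine mul_ne_zero (fun h => hl1 ?_) hu
          have : (l - 1) ^ 2 = 0 := by linear_combination h + (1 - l) * h2
          exact sub_eq_zero.1 (eq_zero_of_pow_eq_zero this)
      · refine ⟨kk C m v, hk, ?_⟩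
        have h := U hPB 1 (map_one _)
        convert h using 1
        congr 1
        · apply Subtype.ext; simp [hw]
        · simp [hw]
    · by_cases hk : (kk C m v : F) + m * C.σ m = 0
      swap
      · exact good hPB hw hk
      by_cases hq : C.q = 2
      · have hμ1 : m * C.σ m = 1 := (real_of_q_two C hq (norm_real C m)).resolve_left hμ
        have hw1 : (w : F) = 1 := (real_of_q_two C hq (hreal _ w.2)).resolve_left hw
        by_cases hu : (u : F) = 0
        · -- one lower shear
          have h := L hPB 1 (map_one _)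
          refine good h ?_ ?_
          · simp only [one_div, one_pow]
            rw [hu, mul_zero, add_zero, hμ1, inv_one, one_mul]
            exact fun h0 => one_ne_zero (α := F) (by linear_combination hk - h0 - hμ1)
          · simp [kk, hu, hμ]
        · exfalso
          have hu1 : (u : F) = 1 := (real_of_q_two C hq (hreal _ u.2)).resolve_left hu
          have hv : v ≠ 0 := fun h => one_ne_zero (α := F) (by
            rw [h] at hk; simp [kk] at hk; rcases hk with h' | h' <;> contradiction)
          have hv1 : v * C.σ v = 1 := (real_of_q_two C hq (norm_real C v)).resolve_left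
            (mul_ne_zero hv ((map_ne_zero C.σ).2 hv))
          refine hPq hq ?_
          rw [det_mkA, hu1, hw1, hv1, one_mul]
          linear_combination h2
      · obtain ⟨l, hlr, hl0, hl1⟩ := hl hq
        refine good (T hPB l hlr hl0) ?_ (by simp [kk, hμ])
        refine mul_ne_zero (fun h => hl1 ?_) hw
        have hl' : l⁻¹ = 1 := by
          have : (l⁻¹ - 1) ^ 2 = 0 := by linear_combination h + (1 - l⁻¹) * h2
          exact sub_eq_zero.1 (eq_zero_of_pow_eq_zero this)
        exact inv_eq_one.1 hl'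
  · -- odd characteristic
    have fromW : ∀ {u : C.skew} {v : F} {w : C.skew}, mkA C u v w ∈ B → (w : F) ≠ 0 →
        ∀ x : C.skew, mkA C x 0 0 ∈ B := by
      intro u v w h hw x
      have hr : C.σ ((x : F) / (2 * (m * C.σ m) * w)) = (x : F) / (2 * (m * C.σ m) * w) :=
        div_real C x.2 (real_mul_skew C (by rw [map_mul, norm_real, map_ofNat]) w.2)
      have h1 := U (U h 1 (map_one _)) _ hr
      convert h1 using 1
      congr 1
      · apply Subtype.ext
        simp [kk, C.skew_eq w.2]
        field_simp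
        ring
      · simp
    obtain ⟨P, hPB, hPm⟩ := hP
    obtain ⟨u, v, w, rfl⟩ := exists_mkA C P
    by_cases hw : (w : F) = 0
    swap
    · exact fromW hPB hw
    by_cases hk : (kk C m v : F) = 0
    · have hu : (u : F) ≠ 0 := fun hu => hPm ⟨v / m, ?_, by
        rw [show u = 0 from Subtype.ext hu, show w = 0 from Subtype.ext hw]
        ext i j
        fin_cases i <;> fin_cases j <;> simp [coe_mkA, mk2, hm]
        simp only [kk] at hk
        field_simp
        linear_combination -hk⟩
      · have h1 := L (L hPB 1 (map_one _)) 1 (map_one _)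
        refine fromW h1 ?_
        simp [kk, C.skew_eq u.2, C.invol, hσm, hm]
        field_simp
        ring_nf
        exact fun h => mul_ne_zero hu h2 (by linear_combination h)
      · rw [map_div₀, div_eq_div_iff hσm hm]
        simp only [kk] at hk
        linear_combination -hk
    · intro x
      have hr : C.σ ((x : F) / kk C m v) = (x : F) / kk C m v := div_real C x.2 (kk C m v).2
      have h := U hPB _ hr
      convert h using 1
      congr 1
      · apply Subtype.ext; simp [hw, hk]
      · simp [hw]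

/-- Invariance is preserved by congruence. -/
theorem Inv.comap {p : ℕ} {B : AddSubgroup (aherm C)} (hB : Inv C p B) {h : M2} (hh : IsL C h) :
    Inv C p (B.comap (cg C h)) := by
  intro M hM hd g hg hfix hc P hP
  rw [AddSubgroup.mem_comap] at hM hP ⊢
  have hinv : h⁻¹ * h = 1 := nonsing_inv_mul _ (hh.isUnit C)
  have hinv' : h * h⁻¹ = 1 := mul_nonsing_inv _ (hh.isUnit C)
  have hkey : ∀ X : aherm C, cg C (h * g * h⁻¹) (cg C h X) = cg C h (cg C g X) := fun X => by
    rw [← cg_mul, mul_assoc, hinv, mul_one, cg_mul]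
  rw [← hkey]
  refine hB _ hM ?_ _ ((hh.mul C hg).mul C (hh.inv C)) (by rw [hkey, hfix]) ?_ _ hP
  · rw [det_cg]
    exact mul_ne_zero (mul_ne_zero hh.1 (by rw [hh.2]; exact hh.1)) hd
  · refine hc.imp id fun hp => ⟨hp.1, ?_⟩
    have : ∀ k : ℕ, (h * g * h⁻¹) ^ k = h * g ^ k * h⁻¹ := by
      intro k
      induction k with
      | zero => rw [pow_zero, pow_zero, mul_one, hinv']
      | succ k ih =>
        rw [pow_succ, ih, pow_succ, mul_assoc (h * g ^ k), mul_assoc h g, ← mul_assoc h⁻¹, hinv,
          one_mul, ← mul_assoc, ← mul_assoc h]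
    rw [this, hp.2, mul_one, hinv']

variable {p : ℕ} [Fact p.Prime] [CharP F p]

/-- Normalising coordinates. -/
theorem normalise {B : AddSubgroup (aherm C)} (hB : Inv C p B) {M : aherm C} (hM : M ∈ B)
    (hd : M.1.det ≠ 0) (hP : ∃ P ∈ B, ¬ RMul C M P) (hexc : ¬ Exc C B M) :
    ∃ (h : M2) (m : F), IsL C h ∧ m ≠ 0 ∧ cg C h (mkA C 0 m 0) = M ∧
      Inv C p (B.comap (cg C h)) ∧ mkA C 0 m 0 ∈ B.comap (cg C h) ∧
      (∃ P ∈ B.comap (cg C h), ¬ RMul C (mkA C 0 m 0) P) ∧
      ¬ Exc C (B.comap (cg C h)) (mkA C 0 m 0) := by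
  obtain ⟨g, hg, m, hm, hgm⟩ := exists_normal C M hd
  have hgL := IsL.of_det_one C hg
  have hi : g⁻¹ * g = 1 := nonsing_inv_mul _ (hgL.isUnit C)
  have hgi : g * g⁻¹ = 1 := mul_nonsing_inv _ (hgL.isUnit C)
  have hback : cg C g⁻¹ (mkA C 0 m 0) = M := by rw [← hgm, ← cg_mul, hi, cg_one]
  have hX : ∀ X, cg C g⁻¹ (cg C g X) = X := fun X => by rw [← cg_mul, hi, cg_one]
  refine ⟨g⁻¹, m, hgL.inv C, hm, hback, hB.comap C (hgL.inv C), ?_, ?_, fun ⟨hq, h⟩ => hexc ⟨hq, ?_⟩⟩
  · rw [AddSubgroup.mem_comap, hback]; exact hM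
  · obtain ⟨P, hP1, hP2⟩ := hP
    refine ⟨cg C g P, by rw [AddSubgroup.mem_comap, hX]; exact hP1, fun ⟨r, hr, he⟩ => hP2
      ⟨r, hr, ?_⟩⟩
    rw [← hX P, ← hback, coe_cg C g⁻¹ (cg C g P), he, Matrix.mul_smul, Matrix.smul_mul, coe_cg]
  · intro P hP1 hP2
    have := h (cg C g P) (by rw [AddSubgroup.mem_comap, hX]; exact hP1)
      (by rw [det_cg, hg, map_one, one_mul, one_mul]; exact hP2)
    rw [← hX P, this, hback]

/-- The orthogonal space of a non-degenerate member lies in `B`. -/
theorem perp_mem {B : AddSubgroup (aherm C)} (hB : Inv C p B) {M : aherm C} (hM : M ∈ B)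
    (hd : M.1.det ≠ 0) (hP : ∃ P ∈ B, ¬ RMul C M P) (hexc : ¬ Exc C B M) {Q : aherm C}
    (hQ : bf C M Q = 0) : Q ∈ B := by
  obtain ⟨h, m, hh, hm, hback, h1, h2, h3, h4⟩ := normalise C hB hM hd hP hexc
  have hX : cg C h (cg C h⁻¹ Q) = Q := by
    rw [← cg_mul, mul_nonsing_inv _ (hh.isUnit C), cg_one]
  have := perp_normal C h1 hm h2 h3 h4 (Q := cg C h⁻¹ Q) (by
    have hb := bf_cg C h (mkA C 0 m 0) (cg C h⁻¹ Q)
    rw [hback, hX, hQ] at hb
    exact (mul_eq_zero.1 hb.symm).resolve_left
      (mul_ne_zero hh.1 (by rw [hh.2]; exact hh.1)))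
  rwa [AddSubgroup.mem_comap, hX] at this

/-- A large invariant subgroup is everything. -/
theorem eq_top_of_mem {B : AddSubgroup (aherm C)} (hB : Inv C p B) {M : aherm C} (hM : M ∈ B)
    (hd : M.1.det ≠ 0) (hP : ∃ P ∈ B, ¬ RMul C M P) (hexc : ¬ Exc C B M) : B = ⊤ := by
  obtain ⟨h, m, hh, hm, hback, h1, h2, h3, h4⟩ := normalise C hB hM hd hP hexc
  suffices hkey : B.comap (cg C h) = ⊤ by
    refine eq_top_iff.2 fun X _ => ?_
    have : cg C h⁻¹ X ∈ B.comap (cg C h) := hkey ▸ AddSubgroup.mem_top _
    rwa [AddSubgroup.mem_comap, ← cg_mul, mul_nonsing_inv _ (hh.isUnit C), cg_one] at this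
  obtain ⟨s, hs, hs0⟩ := C.exists_skew_ne
  set M₂ := mkA C ⟨s, hs⟩ 0 ⟨s, hs⟩ with hM₂
  have hM₂B : M₂ ∈ B.comap (cg C h) :=
    perp_normal C h1 hm h2 h3 h4 (by simp [hM₂, bf, mkA_add, det_mkA])
  have hM₂d : M₂.1.det ≠ 0 := by simp [hM₂, det_mkA, hs0]
  have hne : ¬ RMul C M₂ (mkA C 0 m 0) := by
    rintro ⟨r, -, hr⟩
    have := congrFun (congrFun hr 0) 1
    simp [hM₂, coe_mkA, mk2, hm] at this
  have hexc₂ : ¬ Exc C (B.comap (cg C h)) M₂ := fun ⟨_, he⟩ => hm (by
    have := he _ h2 (by rw [det_mkA]; simp [hm])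
    exact (mkA_inj C this).2.1)
  refine eq_top_iff.2 fun Q _ => ?_
  obtain ⟨u, v, w, rfl⟩ := exists_mkA C Q
  have hX : mkA C (u + w) 0 0 ∈ B.comap (cg C h) :=
    perp_normal C h1 hm h2 h3 h4 (by simp [bf, mkA_add, det_mkA])
  have hY : mkA C (-w) v w ∈ B.comap (cg C h) :=
    perp_mem C (B := B.comap (cg C h)) h1 hM₂B hM₂d ⟨_, h2, hne⟩ hexc₂ (by
      simp [hM₂, bf, mkA_add, det_mkA]; ring)
  have := AddSubgroup.add_mem _ hX hY
  rwa [mkA_add, add_neg_cancel_right, zero_add, zero_add] at this

/-- The classification. -/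
theorem inv_cases {B : AddSubgroup (aherm C)} (hB : Inv C p B) :
    Nat.card B ≤ C.q ∨ B = ⊤ ∨ ∃ M ∈ B, M.1.det ≠ 0 ∧ Exc C B M := by
  classical
  have small : ∀ M : aherm C, (∀ P ∈ B, RMul C M P) → Nat.card B ≤ C.q := by
    intro M hM
    choose r hr he using hM
    refine le_trans ?_ (fixed_card_le C)
    rw [Nat.card_eq_fintype_card, ← Finset.card_univ]
    refine Finset.card_le_card_of_injOn (fun P => r P.1 P.2)
      (fun P _ => Finset.mem_filter.2 ⟨Finset.mem_univ _, hr P.1 P.2⟩) fun P _ P' _ e => ?_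
    exact Subtype.ext (Subtype.ext (by simp only at e; rw [he P.1 P.2, he P'.1 P'.2, e]))
  by_cases hD : ∃ M ∈ B, M.1.det ≠ 0
  · obtain ⟨M, hM, hd⟩ := hD
    by_cases hall : ∀ P ∈ B, RMul C M P
    · exact Or.inl (small M hall)
    · push Not at hall
      by_cases hexc : Exc C B M
      · exact Or.inr (Or.inr ⟨M, hM, hd, hexc⟩)
      · exact Or.inr (Or.inl (eq_top_of_mem C hB hM hd hall hexc))
  · push Not at hD
    by_cases h0 : ∀ P ∈ B, P = 0
    · exact Or.inl (small 0 fun P hP => ⟨0, map_zero _, by rw [h0 P hP]; simp⟩)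
    push Not at h0
    obtain ⟨M, hM, hM0⟩ := h0
    refine Or.inl (small M fun P hP => ?_)
    obtain ⟨s, a, t, rfl⟩ := exists_mkA C M
    obtain ⟨u, v, w, rfl⟩ := exists_mkA C P
    have e1 := hD _ hM
    have e2 := hD _ hP
    have e3 := hD _ (B.add_mem hM hP)
    rw [mkA_add, det_mkA] at e3
    rw [det_mkA] at e1 e2
    simp only [AddSubgroup.coe_add, map_add] at e3
    have eb : (s : F) * w + t * u + (a * C.σ v + v * C.σ a) = 0 := by
      linear_combination e3 - e1 - e2
    rcases eq_or_ne (s : F) 0 with hs | hs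
    · have ha : a = 0 := by
        rw [hs, zero_mul, zero_add, mul_eq_zero, map_eq_zero, or_self] at e1; exact e1
      have ht : (t : F) ≠ 0 := fun h => hM0 (by
        rw [show s = 0 from Subtype.ext hs, ha, show t = 0 from Subtype.ext h]
        apply Subtype.ext
        ext i j
        fin_cases i <;> fin_cases j <;> simp [coe_mkA, mk2])
      have hu : (u : F) = 0 := by
        have : (t : F) * u = 0 := by simpa [hs, ha] using eb
        exact (mul_eq_zero.1 this).resolve_left ht
      have hv : v = 0 := by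
        rw [hu, zero_mul, zero_add, mul_eq_zero, map_eq_zero, or_self] at e2; exact e2
      refine ⟨(w : F) / t, div_real C w.2 t.2, ?_⟩
      ext i j
      fin_cases i <;> fin_cases j <;> simp [coe_mkA, mk2, hs, ha, hu, hv, ht]
    · have hc : C.σ ((u : F) / s) = (u : F) / s := div_real C u.2 s.2
      have hv : v = (u : F) / s * a := by
        have : (v - (u : F) / s * a) * C.σ (v - (u : F) / s * a) = 0 := by
          rw [map_sub, map_mul, hc]
          field_simp
          linear_combination (s : F) ^ 2 * e2 + (u : F) ^ 2 * e1 - (s : F) * u * eb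
        rw [mul_eq_zero, map_eq_zero, or_self] at this
        exact sub_eq_zero.1 this
      have hw : (w : F) = (u : F) / s * t := by
        have hv' := hv
        rw [hv, map_mul, hc] at eb
        field_simp at eb ⊢
        refine mul_left_cancel₀ hs ?_
        linear_combination eb - 2 * (u : F) * e1
      refine ⟨(u : F) / s, hc, ?_⟩
      ext i j
      fin_cases i <;> fin_cases j <;> simp [coe_mkA, mk2, hv, hw, hs, map_mul, hc]

end CfsgLib.MinDegree.UFour
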