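import Cfsg.Agent.MinDegree.UFourCount
import Cfsg.Agent.MinDegree.UFourInv

/-!
# Small sets with a faithful action of `SU(4,q)`

A set on which only central elements of `SU(4,q)` act trivially has at least `(q+1)(q^3+1)` points, or
exactly `q^4+q^3+q`.
-/

set_option autoImplicit false

namespace CfsgLib.MinDegree.UFour

open Matrix CfsgLib.RepBounds.Unit CfsgLib.UnitOrders MulAction

variable {F : Type*} [Field F] [Fintype F] (C : ConjField F)

local notation "M2" => Matrix (Fin 2) (Fin 2) F

theorem isL_pt (a : Option F) : IsL C (a.elim (1 : M2) rowEl) := by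
  cases a with
  | none => exact IsL.one C
  | some z => exact IsL.of_det_one C (rowEl_det z)

theorem cg_inv_cancel {g : M2} (hg : IsL C g) (X : aherm C) : cg C g⁻¹ (cg C g X) = X := by
  rw [← cg_mul, nonsing_inv_mul _ (hg.isUnit C), cg_one]

theorem cg_cancel_inv {g : M2} (hg : IsL C g) (X : aherm C) : cg C g (cg C g⁻¹ X) = X := by
  rw [← cg_mul, mul_nonsing_inv _ (hg.isUnit C), cg_one]

theorem atPt_eq (a : Option F) (M : aherm C) :
    atPt C a M = (entry00 C (cg C (a.elim 1 rowEl) M) : F) := rfl

variable {Ω : Type*} [MulAction (Cfsg.SU 4 F C.q) Ω]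

theorem exists_move (hker : ∀ g : Cfsg.SU 4 F C.q, (∀ x : Ω, g • x = x) →
    g ∈ Subgroup.center (Cfsg.SU 4 F C.q)) : ∃ (d : C.skew) (z : Ω), d ∉ zFix C z := by
  by_contra! h
  obtain ⟨s, hs, hs0⟩ := C.exists_skew_ne
  obtain ⟨c, hc⟩ := el_scalar_of_center C (isU_u C (zHom C ⟨s, hs⟩))
    (hker _ fun x => h ⟨s, hs⟩ x)
  have := congrFun (congrFun hc (Sum.inl 0)) (Sum.inr 0)
  simp [zHom, hX, mk2, Matrix.one_apply] at this
  exact hs0 this

theorem uEl_mem_orbit_fix (z : Ω) (X : aherm C) : wFix C (uEl C X • z) = wFix C z := by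
  ext Y
  rw [mem_wFix, mem_wFix, ← mul_smul, ← uEl_add, add_comm, uEl_add, mul_smul, smul_left_cancel_iff]

/-- The orbit of a point under the radical. -/
theorem card_uEl_orbit [DecidableEq Ω] [Fintype (aherm C)] (z : Ω) :
    ((Finset.univ : Finset (aherm C)).image fun X => uEl C X • z).card * Nat.card (wFix C z) =
      C.q ^ 4 := by
  classical
  have hfib : ∀ w ∈ (Finset.univ : Finset (aherm C)).image fun X => uEl C X • z,
      ((Finset.univ : Finset (aherm C)).filter fun X => uEl C X • z = w).card =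
        Nat.card (wFix C z) := by
    intro w hw
    obtain ⟨X₀, -, rfl⟩ := Finset.mem_image.1 hw
    rw [← Fintype.card_subtype, ← Nat.card_eq_fintype_card]
    refine Nat.card_congr
      { toFun := fun X => ⟨-X₀ + X.1, ?_⟩
        invFun := fun Y => ⟨X₀ + Y.1, ?_⟩
        left_inv := fun X => Subtype.ext (add_neg_cancel_left _ _)
        right_inv := fun Y => Subtype.ext (neg_add_cancel_left _ _) }
    · rw [mem_wFix, uEl_add, mul_smul, X.2, ← mul_smul, ← uEl_add, neg_add_cancel, uEl_zero,
        one_smul]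
    · rw [uEl_add, mul_smul, (mem_wFix C).1 Y.2]
  have h := Finset.card_eq_sum_card_image (fun X : aherm C => uEl C X • z) Finset.univ
  rw [Finset.sum_congr rfl hfib, Finset.sum_const, smul_eq_mul, Finset.card_univ,
    ← Nat.card_eq_fintype_card, card_aherm] at h
  exact h.symm

theorem wFix_lEl {g : M2} (hg : IsL C g) (z : Ω) :
    wFix C (lEl C g hg • z) = (wFix C z).comap (cg C g⁻¹) := by
  ext X
  rw [AddSubgroup.mem_comap, mem_wFix, mem_wFix]
  conv_lhs => rw [← cg_cancel_inv C hg X]
  rw [← mul_smul, ← lEl_conj, mul_smul, smul_left_cancel_iff]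

theorem card_wFix_lEl {g : M2} (hg : IsL C g) (z : Ω) :
    Nat.card (wFix C (lEl C g hg • z)) = Nat.card (wFix C z) := by
  rw [wFix_lEl C hg]
  exact Nat.card_congr
    { toFun := fun X => ⟨cg C g⁻¹ X.1, X.2⟩
      invFun := fun Y => ⟨cg C g Y.1, by
        rw [AddSubgroup.mem_comap, cg_inv_cancel C hg]; exact Y.2⟩
      left_inv := fun X => Subtype.ext (cg_cancel_inv C hg _)
      right_inv := fun Y => Subtype.ext (cg_inv_cancel C hg _) }

variable {p : ℕ} [Fact p.Prime] [CharP F p] (pr : F →+ ZMod p)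

theorem lab_lEl {g : M2} (hg : IsL C g) (z : Ω) :
    lab C pr (lEl C g hg • z) = (lab C pr z).comap (cg C (uAdj C.σ g)) := by
  ext M
  rw [AddSubgroup.mem_comap, lab, lab, mem_annih, mem_annih, wFix_lEl C hg]
  constructor
  · intro h X hX
    rw [tPair_cg]
    exact h _ (by rw [AddSubgroup.mem_comap, cg_inv_cancel C hg]; exact hX)
  · intro h X hX
    have := h _ hX
    rwa [tPair_cg, cg_cancel_inv C hg] at this

open Classical in
/-- The weight of a label on a set of points. -/
noncomputable def wt (P : Finset Ω) (M : aherm C) : ℕ :=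
  ∑ z ∈ P.filter (fun z => M ∈ lab C pr z), Nat.card (wFix C z)

theorem wt_cg {P : Finset Ω} (hP : ∀ (g : M2) (hg : IsL C g), ∀ z ∈ P, lEl C g hg • z ∈ P)
    {g : M2} (hg : IsL C g) (M : aherm C) : wt C pr P (cg C g M) = wt C pr P M := by
  classical
  have hh := hg.adj C
  have e : uAdj C.σ (uAdj C.σ g) = g := uAdj_uAdj C.σ C.invol g
  have hle : ∀ {h : M2} (hh : IsL C h) (M : aherm C),
      wt C pr P (cg C (uAdj C.σ h) M) ≤ wt C pr P M := by
    intro h hh M
    simp only [wt]
    rw [← Finset.sum_congr rfl (fun z _ => card_wFix_lEl C hh z), ← Finset.sum_image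
      (f := fun z => Nat.card (wFix C z)) (g := fun z => lEl C h hh • z)
      fun a _ b _ e => smul_left_cancel _ e]
    refine Finset.sum_le_sum_of_subset fun w hw => ?_
    obtain ⟨z, hz, rfl⟩ := Finset.mem_image.1 hw
    refine Finset.mem_filter.2 ⟨hP _ hh _ (Finset.mem_filter.1 hz).1, ?_⟩
    rw [lab_lEl, AddSubgroup.mem_comap]
    exact (Finset.mem_filter.1 hz).2
  refine le_antisymm ?_ ?_
  · have := hle hh M
    rwa [e] at this
  · have := hle ((hg.inv C).adj C) (cg C g M)
    rwa [uAdj_uAdj C.σ C.invol, cg_inv_cancel C hg] at this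

variable (hpr : pr 1 ≠ 0)

include hpr in
theorem sum_wt [Fintype (aherm C)] (P : Finset Ω) :
    ∑ M : aherm C, wt C pr P M = C.q ^ 4 * P.card := by
  classical
  simp only [wt, Finset.sum_filter]
  rw [Finset.sum_comm, Finset.sum_congr rfl (g := fun _ => C.q ^ 4) (fun z _ => ?_),
    Finset.sum_const, smul_eq_mul, mul_comm]
  rw [← Finset.sum_filter, Finset.sum_const, smul_eq_mul, ← card_lab_mul C pr hpr z,
    Nat.card_eq_fintype_card (α := lab C pr z), Fintype.card_subtype]

include hpr in
theorem sum_wt_entry [Fintype (aherm C)] [DecidableEq C.skew] (P : Finset Ω) (e : C.skew)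
    [DecidablePred fun z : Ω => e ∈ zLab C pr z] :
    ∑ M ∈ (Finset.univ : Finset (aherm C)).filter (fun M => entry00 C M = e), wt C pr P M =
      C.q ^ 3 * ∑ z ∈ P.filter (fun z => e ∈ zLab C pr z), Nat.card (zFix C z) := by
  classical
  simp only [wt, Finset.sum_filter, Finset.mul_sum]
  rw [← Finset.sum_filter, Finset.sum_comm]
  refine Finset.sum_congr rfl fun z _ => ?_
  rw [← Finset.sum_filter, Finset.sum_const, smul_eq_mul, Finset.filter_filter]
  by_cases he : e ∈ zLab C pr z
  · rw [if_pos he, ← card_fibre C pr hpr he]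
    congr 1
    rw [← Fintype.card_subtype, ← Nat.card_eq_fintype_card]
    exact Nat.card_congr
      { toFun := fun M => ⟨⟨M.1, M.2.2⟩, M.2.1⟩
        invFun := fun M => ⟨M.1.1, M.2, M.1.2⟩
        left_inv := fun M => rfl
        right_inv := fun M => rfl }
  · rw [if_neg he, mul_zero, Finset.filter_eq_empty_iff.2, Finset.card_empty, zero_mul]
    rintro M - ⟨h1, h2⟩
    refine he fun d hd => ?_
    rw [← h1, ← tPair_zHom]
    exact h2 _ hd

include hpr in
/-- Counting labels over all points of the line. -/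
theorem master [Fintype (aherm C)] [DecidableEq C.skew] {P : Finset Ω}
    (hP : ∀ (g : M2) (hg : IsL C g), ∀ z ∈ P, lEl C g hg • z ∈ P) {T : ℕ}
    (hT : ∀ e : C.skew, e ≠ 0 →
      T ≤ ∑ M ∈ (Finset.univ : Finset (aherm C)).filter (fun M => entry00 C M = e), wt C pr P M)
    [DecidableEq F] :
    (C.q ^ 2 + 1) * (C.q - 1) * T +
        C.q * ∑ M ∈ (Finset.univ : Finset (aherm C)).filter (fun M => M.1.det ≠ 0), wt C pr P M ≤
      C.q ^ 2 * ∑ M ∈ (Finset.univ : Finset (aherm C)).erase 0, wt C pr P M := by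
  classical
  have : Fintype C.skew := Fintype.ofFinite _
  let at' : Option F → aherm C → C.skew := fun a M => entry00 C (cg C (a.elim 1 rowEl) M)
  have h1 : ∀ a : Option F, ∀ e : C.skew, e ≠ 0 →
      T ≤ ∑ M ∈ (Finset.univ : Finset (aherm C)).filter (fun M => at' a M = e), wt C pr P M := by
    intro a e he
    refine (hT e he).trans (le_of_eq ?_)
    refine Finset.sum_bij' (fun M _ => cg C (a.elim 1 rowEl)⁻¹ M)
      (fun M _ => cg C (a.elim 1 rowEl) M) ?_ ?_ ?_ ?_ ?_
    · intro M hM
      simp only [Finset.mem_filter, Finset.mem_univ, true_and, at',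
        cg_cancel_inv C (isL_pt C a)] at hM ⊢
      exact hM
    · intro M hM
      simpa [at'] using hM
    · intro M _; exact cg_cancel_inv C (isL_pt C a) M
    · intro M _; exact cg_inv_cancel C (isL_pt C a) M
    · intro M _; exact (wt_cg C pr hP ((isL_pt C a).inv C) M).symm
  have h2 : ∀ a : Option F, (C.q - 1) * T ≤
      ∑ M : aherm C, if at' a M ≠ 0 then wt C pr P M else 0 := by
    intro a
    rw [← Finset.sum_filter, ← Finset.sum_fiberwise_of_maps_to (g := at' a)
      (t := (Finset.univ : Finset C.skew).erase 0) (fun M hM => Finset.mem_erase.2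
        ⟨(Finset.mem_filter.1 hM).2, Finset.mem_univ _⟩)]
    have hc : ((Finset.univ : Finset C.skew).erase 0).card = C.q - 1 := by
      rw [Finset.card_erase_of_mem (Finset.mem_univ _), Finset.card_univ,
        ← Nat.card_eq_fintype_card, C.card_skew]
    rw [← hc, ← smul_eq_mul, ← Finset.sum_const]
    refine Finset.sum_le_sum fun e he => (h1 a e (Finset.mem_erase.1 he).1).trans (le_of_eq ?_)
    refine Finset.sum_congr (Finset.ext fun M => ?_) fun _ _ => rfl
    simp only [Finset.mem_filter, Finset.mem_univ, true_and]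
    exact ⟨fun h => ⟨h ▸ (Finset.mem_erase.1 he).1, h⟩, fun h => h.2⟩
  have h3 := Finset.sum_le_sum (s := (Finset.univ : Finset (Option F))) fun a _ => h2 a
  rw [Finset.sum_const, Finset.card_univ, Fintype.card_option, C.card, smul_eq_mul,
    Finset.sum_comm, ← mul_assoc] at h3
  rw [Finset.mul_sum, Finset.mul_sum, Finset.sum_filter,
    ← Finset.sum_erase (s := (Finset.univ : Finset (aherm C))) (a := (0 : aherm C))
      (f := fun M => if M.1.det ≠ 0 then C.q * wt C pr P M else 0) (by simp)]
  rw [← Finset.sum_erase (s := (Finset.univ : Finset (aherm C))) (a := (0 : aherm C))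
      (f := fun M => ∑ a : Option F, if at' a M ≠ 0 then wt C pr P M else 0)
      (by simp [at'])] at h3
  refine (add_le_add h3 le_rfl).trans ?_
  rw [← Finset.sum_add_distrib]
  refine Finset.sum_le_sum fun M _ => ?_
  have hiso : ((Finset.univ : Finset (Option F)).filter fun a => at' a M ≠ 0).card +
      (isoPts C M).card = C.q ^ 2 + 1 := by
    rw [← C.card, ← Fintype.card_option, ← Finset.card_univ,
      ← Finset.card_filter_add_card_filter_not (s := Finset.univ) (fun a => at' a M ≠ 0)]
    congr 1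
    refine congrArg Finset.card (Finset.ext fun a => ?_)
    constructor
    · intro h
      refine Finset.mem_filter.2 ⟨Finset.mem_univ _, not_not.2 (Subtype.ext ?_)⟩
      exact ((atPt_eq C a M).symm.trans ((mem_isoPts C).1 h))
    · intro h
      exact (mem_isoPts C).2
        ((atPt_eq C a M).trans (congrArg Subtype.val (not_not.1 (Finset.mem_filter.1 h).2)))
  rw [← Finset.sum_filter, Finset.sum_const, smul_eq_mul]
  by_cases hd : M.1.det ≠ 0
  · rw [if_pos hd, ← add_mul]
    refine Nat.mul_le_mul_right _ ?_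
    have := isoPts_card_ge C M hd
    omega
  · rw [if_neg hd, add_zero]
    refine Nat.mul_le_mul_right _ ?_
    have := isoPts_card_pos C M (not_not.1 hd)
    omega

include hpr in
theorem le_wt_zero [Fintype Ω] (z : Ω) :
    C.q ^ 4 ≤ wt C pr (Finset.univ : Finset Ω) (0 : aherm C) ∧
    (C.q ^ 4 < Fintype.card Ω → 2 * C.q ^ 4 ≤ wt C pr (Finset.univ : Finset Ω) (0 : aherm C)) := by
  classical
  have : Fintype (aherm C) := Fintype.ofFinite _
  have horb : ∀ w : Ω, ∑ v ∈ (Finset.univ : Finset (aherm C)).image (fun X => uEl C X • w),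
      Nat.card (wFix C v) = C.q ^ 4 := by
    intro w
    rw [← card_uEl_orbit C w, Finset.sum_congr rfl (g := fun _ => Nat.card (wFix C w))
      (fun v hv => ?_), Finset.sum_const, smul_eq_mul]
    obtain ⟨X, -, rfl⟩ := Finset.mem_image.1 hv
    rw [uEl_mem_orbit_fix]
  have hall : wt C pr (Finset.univ : Finset Ω) (0 : aherm C) = ∑ v : Ω, Nat.card (wFix C v) := by
    simp only [wt]
    exact Finset.sum_congr (Finset.filter_true_of_mem fun v _ => AddSubgroup.zero_mem _)
      fun _ _ => rfl
  rw [hall]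
  refine ⟨(horb z).ge.trans (Finset.sum_le_sum_of_subset (Finset.subset_univ _)), fun hn => ?_⟩
  obtain ⟨w, -, hw⟩ := Finset.exists_mem_notMem_of_card_lt_card
    (s := (Finset.univ : Finset (aherm C)).image fun X => uEl C X • z) (t := Finset.univ) (by
      rw [Finset.card_univ]
      refine lt_of_le_of_lt ?_ hn
      refine Finset.card_image_le.trans (le_of_eq ?_)
      rw [Finset.card_univ, ← Nat.card_eq_fintype_card, card_aherm])
  have hdis : Disjoint ((Finset.univ : Finset (aherm C)).image fun X => uEl C X • z)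
      ((Finset.univ : Finset (aherm C)).image fun X => uEl C X • w) := by
    rw [Finset.disjoint_left]
    intro v hv hv'
    obtain ⟨X, -, rfl⟩ := Finset.mem_image.1 hv
    obtain ⟨Y, -, hY⟩ := Finset.mem_image.1 hv'
    refine hw (Finset.mem_image.2 ⟨-Y + X, Finset.mem_univ _, ?_⟩)
    rw [uEl_add, mul_smul, ← hY, ← mul_smul, ← uEl_add, neg_add_cancel, uEl_zero, one_smul]
  rw [two_mul]
  refine le_trans (add_le_add (horb z).ge (horb w).ge) ?_
  rw [← Finset.sum_union hdis]
  exact Finset.sum_le_sum_of_subset (Finset.subset_univ _)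

open Classical in
/-- The label sets through a label. -/
noncomputable def labSets [Fintype Ω] (M : aherm C) : Finset (AddSubgroup (aherm C)) :=
  ((Finset.univ : Finset Ω).filter fun z => M ∈ lab C pr z).image (lab C pr)

theorem card_labSets_mul [Fintype Ω] (M : aherm C) :
    (labSets C pr (Ω := Ω) M).card * C.q ^ 4 ≤ wt C pr (Finset.univ : Finset Ω) M := by
  classical
  have : Fintype (aherm C) := Fintype.ofFinite _
  simp only [wt, labSets]
  rw [← Finset.sum_fiberwise_of_maps_to (g := lab C pr)
    (t := (((Finset.univ : Finset Ω).filter fun z => M ∈ lab C pr z).image (lab C pr)))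
    (fun z hz => Finset.mem_image_of_mem _ hz), ← smul_eq_mul, ← Finset.sum_const]
  refine Finset.sum_le_sum fun B hB => ?_
  obtain ⟨z, hz, rfl⟩ := Finset.mem_image.1 hB
  rw [← card_uEl_orbit C z]
  calc ((Finset.univ : Finset (aherm C)).image fun X => uEl C X • z).card * Nat.card (wFix C z)
      = ∑ v ∈ (Finset.univ : Finset (aherm C)).image (fun X => uEl C X • z),
          Nat.card (wFix C v) := by
        rw [Finset.sum_congr rfl (g := fun _ => Nat.card (wFix C z)) (fun v hv => ?_),
          Finset.sum_const, smul_eq_mul]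
        obtain ⟨X, -, rfl⟩ := Finset.mem_image.1 hv
        rw [uEl_mem_orbit_fix]
    _ ≤ _ := by
        refine Finset.sum_le_sum_of_subset fun v hv => ?_
        obtain ⟨X, -, rfl⟩ := Finset.mem_image.1 hv
        have e : lab C pr (uEl C X • z) = lab C pr z := by rw [lab, uEl_mem_orbit_fix, lab]
        refine Finset.mem_filter.2 ⟨Finset.mem_filter.2 ⟨Finset.mem_univ _, ?_⟩, e⟩
        rw [e]
        exact (Finset.mem_filter.1 hz).2

/-- Few label sets through each label force invariance. -/
theorem inv_lab [Fintype Ω]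
    (h : ∀ M : aherm C, M.1.det ≠ 0 → (labSets C pr (Ω := Ω) M).card ≤ 2 ∧
      ((2 : F) = 0 → (labSets C pr (Ω := Ω) M).card ≤ 1)) (z : Ω) :
    Inv C p (lab C pr z) := by
  classical
  intro M hM hd g hg hfix hc P hP
  let f : AddSubgroup (aherm C) → AddSubgroup (aherm C) := fun B => B.comap (cg C g)
  have hf : ∀ B ∈ labSets C pr (Ω := Ω) M, f B ∈ labSets C pr (Ω := Ω) M := by
    intro B hB
    simp only [labSets, Finset.mem_image, Finset.mem_filter, Finset.mem_univ, true_and] at hB ⊢
    obtain ⟨w, hw, rfl⟩ := hB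
    refine ⟨lEl C _ (hg.adj C) • w, ?_, ?_⟩ <;> rw [lab_lEl, uAdj_uAdj C.σ C.invol]
    rw [AddSubgroup.mem_comap, hfix]
    exact hw
  have hz : lab C pr z ∈ labSets C pr (Ω := Ω) M := by
    simp only [labSets, Finset.mem_image, Finset.mem_filter, Finset.mem_univ, true_and]
    exact ⟨z, hM, rfl⟩
  have hinj : Function.Injective f :=
    AddSubgroup.comap_injective fun X => ⟨_, cg_cancel_inv C hg X⟩
  suffices hfz : f (lab C pr z) = lab C pr z by
    rw [← hfz] at hP
    exact hP
  obtain ⟨h2, h1⟩ := h M hd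
  rcases hc with hc | ⟨hp2, hgp⟩
  · exact Finset.card_le_one.1 (h1 hc) _ (hf _ hz) _ hz
  by_contra hne
  have h22 : f (f (lab C pr z)) = lab C pr z := by
    by_contra hne2
    have hsub : ({lab C pr z, f (lab C pr z), f (f (lab C pr z))} : Finset _) ⊆
        labSets C pr (Ω := Ω) M := by
      intro B hB
      simp only [Finset.mem_insert, Finset.mem_singleton] at hB
      rcases hB with rfl | rfl | rfl
      exacts [hz, hf _ hz, hf _ (hf _ hz)]
    have h3 : ({lab C pr z, f (lab C pr z), f (f (lab C pr z))} : Finset _).card = 3 := by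
      rw [Finset.card_eq_three]
      exact ⟨_, _, _, Ne.symm hne, Ne.symm hne2, fun e => hne (hinj e).symm, rfl⟩
    have := Finset.card_le_card hsub
    omega
  have hit : ∀ k, f^[k] (lab C pr z) = (lab C pr z).comap (cg C (g ^ k)) := by
    intro k
    induction k with
    | zero => ext X; simp [cg_one]
    | succ k ih =>
      rw [Function.iterate_succ_apply', ih]
      ext X
      simp only [f, AddSubgroup.mem_comap, pow_succ, cg_mul]
  obtain ⟨j, hj⟩ := (Fact.out : p.Prime).odd_of_ne_two hp2
  have hev : ∀ i, f^[2 * i] (lab C pr z) = lab C pr z := by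
    intro i
    induction i with
    | zero => rfl
    | succ i ih =>
      rw [show 2 * (i + 1) = 2 + 2 * i by ring, Function.iterate_add_apply, ih]
      exact h22
  have hp := hit (1 + 2 * j)
  rw [Function.iterate_add_apply, hev, Function.iterate_one,
    show g ^ (1 + 2 * j) = 1 by rw [← hgp]; congr 1; omega] at hp
  exact hne (hp.trans (by ext X; simp [cg_one]))

include hpr in
/-- Weights of non-degenerate labels in a small set. -/
theorem wt_lt [Fintype Ω] [DecidableEq F] [Fintype (aherm C)]
    (hmain : C.q ^ 5 * (C.q ^ 4 - 1) + C.q * wt C pr (Finset.univ : Finset Ω) 0 +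
      ∑ M ∈ (Finset.univ : Finset (aherm C)).filter (fun M => M.1.det ≠ 0),
        wt C pr (Finset.univ : Finset Ω) M ≤ C.q ^ 5 * Fintype.card Ω)
    (hn : Fintype.card Ω ≤ C.q ^ 4 + C.q ^ 3 + C.q) (z₀ : Ω) (M₀ : aherm C) (hd : M₀.1.det ≠ 0) :
    wt C pr (Finset.univ : Finset Ω) M₀ < 3 * C.q ^ 4 ∧
      ((2 : F) = 0 → wt C pr (Finset.univ : Finset Ω) M₀ < 2 * C.q ^ 4) := by
  classical
  have : Fintype C.skew := Fintype.ofFinite _
  have hq2 : 2 ≤ C.q := C.two_le
  set n := Fintype.card Ω
  set D := ∑ M ∈ (Finset.univ : Finset (aherm C)).filter (fun M => M.1.det ≠ 0),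
    wt C pr (Finset.univ : Finset Ω) M
  obtain ⟨hw1, hw2⟩ := le_wt_zero C pr hpr z₀
  have hD : D + C.q ^ 5 ≤ C.q ^ 4 * (C.q ^ 4 + C.q ^ 2) := by
    rcases Nat.lt_or_ge (C.q ^ 4) n with h | h
    · have h' := Nat.mul_le_mul_left C.q (hw2 h)
      obtain ⟨j, hj⟩ : ∃ j, C.q ^ 4 = j + 1 := ⟨C.q ^ 4 - 1, by
        have : 0 < C.q ^ 4 := by positivity
        omega⟩
      have e := Nat.mul_le_mul_left (C.q ^ 5) hn
      rw [hj, Nat.add_sub_cancel] at hmain
      have : C.q ^ 5 = C.q * (j + 1) := by rw [← hj]; ring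
      nlinarith [pow_succ C.q 4]
    · have e := Nat.mul_le_mul_left (C.q ^ 5) h
      have h' := Nat.mul_le_mul_left C.q hw1
      have e5 : C.q * C.q ^ 4 = C.q ^ 5 := by ring
      have : C.q ^ 5 ≤ C.q ^ 4 * (C.q ^ 4 + C.q ^ 2) := by
        have : C.q ≤ C.q ^ 4 + C.q ^ 2 := le_trans (Nat.le_self_pow two_ne_zero C.q) le_add_self
        calc C.q ^ 5 = C.q ^ 4 * C.q := by ring
          _ ≤ _ := Nat.mul_le_mul_left _ this
      rw [Nat.mul_sub, mul_one] at hmain
      have : C.q ^ 5 ≤ C.q ^ 5 * C.q ^ 4 := Nat.le_mul_of_pos_right _ (by positivity)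
      omega
  -- the congruence class
  let Rr : Finset F := (Finset.univ : Finset F).filter fun t => C.σ t = t ∧ t ≠ 0
  let Sq : Finset F := Rr.image fun t => t ^ 2
  have hR : C.q - 1 ≤ Rr.card := by
    obtain ⟨d, hd', hd0⟩ := C.exists_skew_ne
    rw [← C.card_skew, Nat.card_eq_fintype_card, ← Finset.card_univ,
      ← Finset.card_erase_of_mem (Finset.mem_univ (0 : C.skew))]
    refine Finset.card_le_card_of_injOn (fun c => (c : F) / d) (fun c hc => Finset.mem_filter.2
      ⟨Finset.mem_univ _, div_real C c.2 hd', div_ne_zero (fun h =>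
        (Finset.mem_erase.1 hc).1 (Subtype.ext h)) hd0⟩) fun a _ b _ e => Subtype.ext ?_
    exact (div_left_inj' hd0).1 e
  have hclass : Sq.card * (C.q * (C.q ^ 2 + 1)) * wt C pr (Finset.univ : Finset Ω) M₀ ≤ D := by
    let cl := fun t : F => (Finset.univ : Finset (aherm C)).filter fun M => M.1.det = t * M₀.1.det
    have hsq : ∀ t ∈ Sq, C.σ t = t ∧ t ≠ 0 ∧ ∃ r, C.σ r = r ∧ r ≠ 0 ∧ t = r ^ 2 := by
      intro t ht
      obtain ⟨r, hr, rfl⟩ := Finset.mem_image.1 ht
      obtain ⟨-, hr1, hr2⟩ := Finset.mem_filter.1 hr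
      exact ⟨by rw [map_pow, hr1], pow_ne_zero 2 hr2, r, hr1, hr2, rfl⟩
    calc Sq.card * (C.q * (C.q ^ 2 + 1)) * wt C pr (Finset.univ : Finset Ω) M₀
        = ∑ _t ∈ Sq, C.q * (C.q ^ 2 + 1) * wt C pr (Finset.univ : Finset Ω) M₀ := by
          rw [Finset.sum_const, smul_eq_mul]; ring
      _ ≤ ∑ t ∈ Sq, ∑ M ∈ cl t, wt C pr (Finset.univ : Finset Ω) M := by
          refine Finset.sum_le_sum fun t ht => ?_
          obtain ⟨ht1, ht2, r, hr1, hr2, rfl⟩ := hsq t ht
          rw [Finset.sum_congr rfl (g := fun _ => wt C pr (Finset.univ : Finset Ω) M₀)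
            (fun M hM => ?_), Finset.sum_const, smul_eq_mul]
          · exact Nat.mul_le_mul_right _ (card_det_eq C
              (by rw [map_mul, ht1, det_real]) (mul_ne_zero ht2 hd))
          · obtain ⟨g, hg, rfl⟩ := exists_congr C hd hr1 hr2 (Finset.mem_filter.1 hM).2
            exact wt_cg C pr (fun _ _ _ _ => Finset.mem_univ _) hg M₀
      _ = ∑ M ∈ Sq.biUnion cl, wt C pr (Finset.univ : Finset Ω) M := by
          rw [Finset.sum_biUnion]
          intro a _ b _ hab
          rw [Function.onFun, Finset.disjoint_left]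
          intro M h1 h2
          exact hab (mul_right_cancel₀ hd
            ((Finset.mem_filter.1 h1).2.symm.trans (Finset.mem_filter.1 h2).2))
      _ ≤ _ := by
          refine Finset.sum_le_sum_of_subset fun M hM => ?_
          obtain ⟨t, ht, hM⟩ := Finset.mem_biUnion.1 hM
          refine Finset.mem_filter.2 ⟨Finset.mem_univ _, ?_⟩
          rw [(Finset.mem_filter.1 hM).2]
          exact mul_ne_zero (hsq t ht).2.1 hd
  obtain ⟨i, hi⟩ : ∃ i, C.q = i + 2 := ⟨C.q - 2, by omega⟩
  by_cases h2 : (2 : F) = 0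
  · have hS : C.q - 1 ≤ Sq.card := by
      rwa [Finset.card_image_of_injective]
      intro a b e
      have : (a - b) ^ 2 = 0 := by linear_combination e + (b * b - a * b) * h2
      exact sub_eq_zero.1 (eq_zero_of_pow_eq_zero this)
    have key : wt C pr (Finset.univ : Finset Ω) M₀ < 2 * C.q ^ 4 := by
      by_contra hge
      push Not at hge
      have h := (Nat.mul_le_mul (Nat.mul_le_mul_right (C.q * (C.q ^ 2 + 1)) hS) hge).trans hclass
      rw [hi, show i + 2 - 1 = i + 1 from rfl] at h
      rw [hi] at hD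
      have : (i + 2) ^ 4 * (2 * ((i + 1) * ((i + 2) * ((i + 2) ^ 2 + 1))) + (i + 2)) ≤
          (i + 2) ^ 4 * ((i + 2) ^ 4 + (i + 2) ^ 2) := by linarith
      have := Nat.le_of_mul_le_mul_left this (by positivity)
      have e : 2 * ((i + 1) * ((i + 2) * ((i + 2) ^ 2 + 1))) + (i + 2) =
          (i + 2) ^ 4 + (i + 2) ^ 2 + (i + 2) * (i ^ 3 + 4 * i ^ 2 + 5 * i + 1) := by ring
      have : 0 < (i + 2) * (i ^ 3 + 4 * i ^ 2 + 5 * i + 1) := by positivity
      omega
    exact ⟨lt_of_lt_of_le key (by omega), fun _ => key⟩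
  · refine ⟨?_, fun h => absurd h h2⟩
    have hq3 : 3 ≤ C.q := by
      by_contra hlt
      have hq' : C.q = 2 := by omega
      have h' : ringChar F = 2 := FiniteField.even_card_iff_char_two.2
        (by rw [C.card, hq']; norm_num)
      have := ringChar.of_eq h'
      exact h2 CharTwo.two_eq_zero
    have hS : C.q - 1 ≤ 2 * Sq.card := by
      refine hR.trans ?_
      refine Finset.card_le_mul_card_image Rr 2 fun t _ => ?_
      rcases Finset.eq_empty_or_nonempty (Rr.filter fun r => r ^ 2 = t) with h | ⟨r, hr⟩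
      · rw [h]; simp
      refine le_trans (Finset.card_le_card (t := {r, -r}) fun r' hr' => ?_) Finset.card_le_two
      simp only [Finset.mem_insert, Finset.mem_singleton]
      exact sq_eq_sq_iff_eq_or_eq_neg.1
        ((Finset.mem_filter.1 hr').2.trans (Finset.mem_filter.1 hr).2.symm)
    by_contra hge
    push Not at hge
    have h := (Nat.mul_le_mul (Nat.mul_le_mul_right (C.q * (C.q ^ 2 + 1)) hS) hge).trans
      (show 2 * Sq.card * (C.q * (C.q ^ 2 + 1)) * wt C pr (Finset.univ : Finset Ω) M₀ ≤ 2 * D by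
        rw [mul_assoc 2, mul_assoc 2]; exact Nat.mul_le_mul_left 2 hclass)
    obtain ⟨j, rfl⟩ : ∃ j, i = j + 1 := ⟨i - 1, by omega⟩
    rw [hi, show j + 1 + 2 - 1 = j + 2 from rfl] at h
    rw [hi] at hD
    have : (j + 3) ^ 4 * (3 * ((j + 2) * ((j + 3) * ((j + 3) ^ 2 + 1))) + 2 * (j + 3)) ≤
        (j + 3) ^ 4 * (2 * ((j + 3) ^ 4 + (j + 3) ^ 2)) := by linarith
    have := Nat.le_of_mul_le_mul_left this (by positivity)
    have e : 3 * ((j + 2) * ((j + 3) * ((j + 3) ^ 2 + 1))) + 2 * (j + 3) =
        2 * ((j + 3) ^ 4 + (j + 3) ^ 2) + (j + 3) * (j ^ 3 + 6 * j ^ 2 + 10 * j + 2) := by ring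
    have : 0 < (j + 3) * (j ^ 3 + 6 * j ^ 2 + 10 * j + 2) := by positivity
    omega

include hpr in
/-- The bound. -/
theorem le_card [Finite Ω] [Nonempty Ω] (hker : ∀ g : Cfsg.SU 4 F C.q, (∀ x : Ω, g • x = x) →
      g ∈ Subgroup.center (Cfsg.SU 4 F C.q)) :
    (C.q + 1) * (C.q ^ 3 + 1) ≤ Nat.card Ω ∨ Nat.card Ω = C.q ^ 4 + C.q ^ 3 + C.q := by
  classical
  have : Fintype Ω := Fintype.ofFinite _
  have : Fintype (aherm C) := Fintype.ofFinite _
  obtain ⟨d₀, z₀, hmove⟩ := exists_move C hker
  rw [Nat.card_eq_fintype_card]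
  have hq2 : 2 ≤ C.q := C.two_le
  set n := Fintype.card Ω with hn'
  by_cases hbig : (C.q + 1) * (C.q ^ 3 + 1) ≤ n
  · exact Or.inl hbig
  right
  have hn : n ≤ C.q ^ 4 + C.q ^ 3 + C.q := by
    have : (C.q + 1) * (C.q ^ 3 + 1) = C.q ^ 4 + C.q ^ 3 + C.q + 1 := by ring
    omega
  set U : Finset Ω := Finset.univ with hU
  set S1 := ∑ M ∈ (Finset.univ : Finset (aherm C)).erase 0, wt C pr U M with hS1
  set D := ∑ M ∈ (Finset.univ : Finset (aherm C)).filter (fun M => M.1.det ≠ 0), wt C pr U M
    with hDdef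
  have hUinv : ∀ (g : M2) (hg : IsL C g), ∀ z ∈ U, lEl C g hg • z ∈ U :=
    fun _ _ _ _ => Finset.mem_univ _
  have hT : ∀ e : C.skew, e ≠ 0 → C.q ^ 6 * (C.q + 1) ≤
      ∑ M ∈ (Finset.univ : Finset (aherm C)).filter (fun M => entry00 C M = e), wt C pr U M := by
    intro e he
    rw [sum_wt_entry C pr hpr U e]
    refine le_trans (le_of_eq ?_) (Nat.mul_le_mul_left _ (sum_zFix C pr hpr hmove he))
    ring
  have hsum : wt C pr U 0 + S1 = C.q ^ 4 * n := by
    rw [hS1, Finset.add_sum_erase _ _ (Finset.mem_univ _), sum_wt C pr hpr, hU, Finset.card_univ]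
  have hm : C.q ^ 5 * (C.q ^ 4 - 1) + D ≤ C.q * S1 := by
    have h := master C pr hpr hUinv hT
    rw [← hS1, ← hDdef] at h
    have hpos : 0 < C.q := by omega
    refine Nat.le_of_mul_le_mul_left ?_ hpos
    revert h
    generalize S1 = X
    generalize D = Y
    intro h
    refine le_trans (le_of_eq ?_) (h.trans (le_of_eq (by ring)))
    rw [mul_add]
    congr 1
    obtain ⟨i, hi⟩ : ∃ i, C.q = i + 1 := ⟨C.q - 1, by omega⟩
    rw [hi, Nat.add_sub_cancel]
    have e : (i + 1) ^ 4 - 1 = ((i + 1) ^ 2 + 1) * i * (i + 2) := by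
      rw [Nat.sub_eq_iff_eq_add (Nat.one_le_pow _ _ (by omega))]; ring
    rw [e]
    ring
  have hmain : C.q ^ 5 * (C.q ^ 4 - 1) + C.q * wt C pr U 0 + D ≤ C.q ^ 5 * n := by
    have : C.q ^ 5 * n = C.q * wt C pr U 0 + C.q * S1 := by rw [← mul_add, hsum]; ring
    omega
  have hwt := wt_lt C pr hpr hmain hn z₀
  have hsets : ∀ M : aherm C, M.1.det ≠ 0 → (labSets C pr (Ω := Ω) M).card ≤ 2 ∧
      ((2 : F) = 0 → (labSets C pr (Ω := Ω) M).card ≤ 1) := by
    intro M hd
    have h := card_labSets_mul C pr (Ω := Ω) M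
    obtain ⟨h3, h2⟩ := hwt M hd
    constructor
    · exact Nat.le_of_lt_succ (Nat.lt_of_mul_lt_mul_right (h.trans_lt h3))
    · exact fun e => Nat.le_of_lt_succ (Nat.lt_of_mul_lt_mul_right (h.trans_lt (h2 e)))
  have hcases := fun z : Ω => inv_cases C (inv_lab C pr hsets z)
  have hq4 : 0 < C.q ^ 4 := by positivity
  have top_iff : ∀ z : Ω, lab C pr z = ⊤ ↔ Nat.card (wFix C z) = 1 := by
    intro z
    have h := card_lab_mul C pr hpr z
    rw [← AddSubgroup.card_eq_iff_eq_top, card_aherm]
    constructor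
    · intro e
      rw [e] at h
      exact (Nat.mul_eq_left hq4.ne').1 h
    · intro e
      rw [e, mul_one] at h
      exact h
  -- the regular points and the others
  set P := U.filter fun z => Nat.card (wFix C z) ≠ 1 with hPdef
  have hPinv : ∀ (g : M2) (hg : IsL C g), ∀ z ∈ P, lEl C g hg • z ∈ P := by
    intro g hg z hz
    refine Finset.mem_filter.2 ⟨Finset.mem_univ _, ?_⟩
    rw [card_wFix_lEl]
    exact (Finset.mem_filter.1 hz).2
  -- small label sets give many points
  have small : (∀ z ∈ P, Nat.card (lab C pr z) ≤ C.q) →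
      C.q * ∑ M ∈ (Finset.univ : Finset (aherm C)).erase 0, wt C pr P M ≤
        (C.q - 1) * (C.q ^ 4 * P.card) := by
    intro hs
    have e := sum_wt C pr hpr P
    rw [← Finset.add_sum_erase _ _ (Finset.mem_univ (0 : aherm C))] at e
    have hz0 : C.q ^ 4 * P.card ≤ C.q * wt C pr P 0 := by
      simp only [wt]
      rw [Finset.filter_true_of_mem fun v _ => AddSubgroup.zero_mem _, Finset.mul_sum,
        mul_comm, ← smul_eq_mul, ← Finset.sum_const]
      refine Finset.sum_le_sum fun z hz => ?_
      rw [← card_lab_mul C pr hpr z] at *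
      exact Nat.mul_le_mul_right _ (hs z hz)
    revert e hz0
    generalize wt C pr P 0 = W
    generalize ∑ M ∈ (Finset.univ : Finset (aherm C)).erase 0, wt C pr P M = X
    generalize C.q = q at hq2 ⊢
    intro e hz0
    obtain ⟨i, rfl⟩ : ∃ i, q = i + 1 := ⟨q - 1, by omega⟩
    rw [Nat.add_sub_cancel]
    nlinarith
  by_cases hreg : ∃ z : Ω, Nat.card (wFix C z) = 1
  · -- a regular orbit
    obtain ⟨z₁, hz₁⟩ := hreg
    have hO : (U.filter fun z => Nat.card (wFix C z) = 1).card = C.q ^ 4 := by
      have h1 : ((Finset.univ : Finset (aherm C)).image fun X => uEl C X • z₁).card = C.q ^ 4 := by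
        have := card_uEl_orbit C z₁
        rwa [hz₁, mul_one] at this
      refine le_antisymm ?_ (h1.symm.le.trans (Finset.card_le_card fun v hv => ?_))
      · rw [← h1]
        refine Finset.card_le_card fun v hv => ?_
        by_contra hv'
        have hv1 := (Finset.mem_filter.1 hv).2
        have h2 : ((Finset.univ : Finset (aherm C)).image fun X => uEl C X • v).card = C.q ^ 4 := by
          have := card_uEl_orbit C v
          rwa [hv1, mul_one] at this
        have hdis : Disjoint ((Finset.univ : Finset (aherm C)).image fun X => uEl C X • z₁)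
            ((Finset.univ : Finset (aherm C)).image fun X => uEl C X • v) := by
          rw [Finset.disjoint_left]
          intro w hw hw'
          obtain ⟨X, -, rfl⟩ := Finset.mem_image.1 hw
          obtain ⟨Y, -, hY⟩ := Finset.mem_image.1 hw'
          refine hv' (Finset.mem_image.2 ⟨-Y + X, Finset.mem_univ _, ?_⟩)
          rw [uEl_add, mul_smul, ← hY, ← mul_smul, ← uEl_add, neg_add_cancel, uEl_zero, one_smul]
        have h3 := Finset.card_le_univ (((Finset.univ : Finset (aherm C)).image fun X => uEl C X • z₁) ∪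
          ((Finset.univ : Finset (aherm C)).image fun X => uEl C X • v))
        rw [Finset.card_union_of_disjoint hdis, h1, h2, ← hn'] at h3
        have e1 : C.q ^ 3 * 2 ≤ C.q ^ 4 := by
          rw [show C.q ^ 4 = C.q ^ 3 * C.q by ring]
          exact Nat.mul_le_mul_left _ hq2
        have e2 : C.q < C.q ^ 3 := lt_self_pow₀ (by omega) (by omega)
        omega
      · obtain ⟨X, -, rfl⟩ := Finset.mem_image.1 hv
        exact Finset.mem_filter.2 ⟨Finset.mem_univ _, by rw [uEl_mem_orbit_fix, hz₁]⟩
    have hnP : P.card + C.q ^ 4 = n := by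
      rw [← hO, hPdef, add_comm,
        Finset.card_filter_add_card_filter_not (s := U) (fun z => Nat.card (wFix C z) = 1), hU,
        Finset.card_univ]
    have hs : ∀ z ∈ P, Nat.card (lab C pr z) ≤ C.q := by
      intro z hz
      have hz1 := (Finset.mem_filter.1 hz).2
      rcases hcases z with h | h | ⟨M, hM, hd, hq', -⟩
      · exact h
      · exact absurd ((top_iff z).1 h) hz1
      · exfalso
        have h2 : (2 : F) = 0 := by
          have h' : ringChar F = 2 := FiniteField.even_card_iff_char_two.2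
            (by rw [C.card, hq']; norm_num)
          have := ringChar.of_eq h'
          exact CharTwo.two_eq_zero
        have := Finset.card_le_one.1 ((hsets M hd).2 h2) (lab C pr z)
          (by simp only [labSets, Finset.mem_image, Finset.mem_filter, Finset.mem_univ, true_and]
              exact ⟨z, hM, rfl⟩) (lab C pr z₁)
          (by simp only [labSets, Finset.mem_image, Finset.mem_filter, Finset.mem_univ, true_and]
              exact ⟨z₁, by rw [(top_iff z₁).2 hz₁]; exact AddSubgroup.mem_top _, rfl⟩)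
        exact hz1 ((top_iff z).1 (this.trans ((top_iff z₁).2 hz₁)))
    have hT' : ∀ e : C.skew, e ≠ 0 → C.q ^ 6 ≤
        ∑ M ∈ (Finset.univ : Finset (aherm C)).filter (fun M => entry00 C M = e),
          wt C pr P M := by
      intro e he
      rw [sum_wt_entry C pr hpr P e, show C.q ^ 6 = C.q ^ 3 * C.q ^ 3 by ring]
      refine Nat.mul_le_mul_left _ ?_
      have h : C.q ^ 3 * (C.q + 1) ≤ ∑ z ∈ U.filter (fun z => e ∈ zLab C pr z),
          Nat.card (zFix C z) := sum_zFix C pr hpr hmove he
      have hsplit : ∑ z ∈ U.filter (fun z => e ∈ zLab C pr z), Nat.card (zFix C z) ≤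
          ∑ z ∈ P.filter (fun z => e ∈ zLab C pr z), Nat.card (zFix C z) + C.q ^ 4 := by
        rw [← Finset.sum_filter_add_sum_filter_not (U.filter fun z => e ∈ zLab C pr z)
          fun z => Nat.card (wFix C z) ≠ 1]
        refine add_le_add (le_of_eq (Finset.sum_congr ?_ fun _ _ => rfl)) ?_
        · rw [hPdef, Finset.filter_filter, Finset.filter_filter]
          exact Finset.filter_congr fun z _ => and_comm
        · rw [← hO, Finset.card_eq_sum_ones]
          refine (Finset.sum_le_sum (g := fun _ => 1) fun z hz => ?_).trans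
            (Finset.sum_le_sum_of_subset fun z hz => ?_)
          · have hz1 := not_not.1 (Finset.mem_filter.1 hz).2
            rw [← hz1]
            exact Nat.card_le_card_of_injective (fun d => (⟨zHom C d.1, d.2⟩ : wFix C z))
              fun a b e => Subtype.ext (zHom_inj C (congrArg Subtype.val e :))
          · exact Finset.mem_filter.2 ⟨Finset.mem_univ _, not_not.1 (Finset.mem_filter.1 hz).2⟩
      have : C.q ^ 3 * (C.q + 1) = C.q ^ 3 + C.q ^ 4 := by ring
      omega
    have h := master C pr hpr hPinv hT'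
    have h' := small hs
    revert h h'
    generalize ∑ M ∈ (Finset.univ : Finset (aherm C)).erase 0, wt C pr P M = X
    generalize ∑ M ∈ (Finset.univ : Finset (aherm C)).filter (fun M => M.1.det ≠ 0),
      wt C pr P M = Y
    revert hn hnP hq2
    generalize C.q = q
    generalize P.card = c
    intro hq2 hn hnP h h'
    obtain ⟨i, rfl⟩ : ∃ i, q = i + 1 := ⟨q - 1, by omega⟩
    rw [Nat.add_sub_cancel] at h h'
    have key : (i + 1) * ((i + 1) ^ 2 + 1) ≤ c := by
      have hpos : 0 < (i + 1) ^ 5 * i := Nat.mul_pos (by positivity) (by omega)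
      refine Nat.le_of_mul_le_mul_left ?_ hpos
      nlinarith
    nlinarith
  · -- no regular orbit
    exfalso
    push Not at hreg
    have hPU : P = U := Finset.filter_true_of_mem fun z _ => hreg z
    by_cases hall : ∀ z ∈ P, Nat.card (lab C pr z) ≤ C.q
    · have h' := small hall
      rw [hPU, ← hS1, hU, Finset.card_univ, ← hn'] at h'
      clear hmain hwt hsets hcases top_iff hT small hsum
      revert h' hm hn hbig hq2
      generalize S1 = X
      generalize D = Y
      generalize C.q = q
      intros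
      rename_i hbig hn hm h'
      obtain ⟨i, rfl⟩ : ∃ i, q = i + 1 := ⟨q - 1, by omega⟩
      rw [Nat.add_sub_cancel] at h'
      have e : (i + 1) ^ 4 - 1 = ((i + 1) ^ 2 + 1) * i * (i + 2) := by
        rw [Nat.sub_eq_iff_eq_add (Nat.one_le_pow _ _ (by omega))]; ring
      rw [e] at hm
      have key : (i + 1) * ((i + 1) ^ 2 + 1) * (i + 2) ≤ n := by
        have hpos : 0 < (i + 1) ^ 4 * i := Nat.mul_pos (by positivity) (by omega)
        refine Nat.le_of_mul_le_mul_left ?_ hpos
        nlinarith
      nlinarith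
    · push Not at hall
      obtain ⟨z, -, hz⟩ := hall
      obtain ⟨M₀, hM₀, hd₀, hq', -⟩ : ∃ M ∈ lab C pr z, M.1.det ≠ 0 ∧ Exc C (lab C pr z) M := by
        rcases hcases z with h | h | h
        · exact absurd h (not_le.2 hz)
        · exact absurd ((top_iff z).1 h) (hreg z)
        · exact h
      have hq'' : C.q = 2 := hq'
      -- at most one non-degenerate label at each point
      have hone : ∀ w : Ω,
          ((Finset.univ : Finset (aherm C)).filter fun M => M.1.det ≠ 0 ∧ M ∈ lab C pr w).card ≤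
            1 := by
        intro w
        rcases hcases w with h | h | ⟨M, -, -, -, hex⟩
        · refine le_trans ?_ (show Nat.card (lab C pr w) - 1 ≤ 1 by omega)
          rw [Nat.card_eq_fintype_card, ← Finset.card_univ,
            ← Finset.card_erase_of_mem (Finset.mem_univ (0 : lab C pr w))]
          refine (Finset.card_le_card (t := ((Finset.univ : Finset (lab C pr w)).erase 0).image
            Subtype.val) fun M hM => ?_).trans Finset.card_image_le
          obtain ⟨-, hd, hMl⟩ := Finset.mem_filter.1 hM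
          refine Finset.mem_image.2 ⟨⟨M, hMl⟩, Finset.mem_erase.2 ⟨fun e => hd ?_,
            Finset.mem_univ _⟩, rfl⟩
          rw [show M = 0 from congrArg Subtype.val e]
          simp
        · exact absurd ((top_iff w).1 h) (hreg w)
        · rw [Finset.card_le_one]
          intro a ha b hb
          obtain ⟨-, ha1, ha2⟩ := Finset.mem_filter.1 ha
          obtain ⟨-, hb1, hb2⟩ := Finset.mem_filter.1 hb
          rw [hex a ha2 ha1, hex b hb2 hb1]
      have hle : D ≤ wt C pr U 0 := by
        simp only [hDdef, wt, Finset.sum_filter]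
        rw [← Finset.sum_filter, Finset.sum_comm]
        refine Finset.sum_le_sum fun w _ => ?_
        rw [← Finset.sum_filter, Finset.sum_const, smul_eq_mul, Finset.filter_filter,
          if_pos (AddSubgroup.zero_mem _)]
        exact le_of_le_of_eq (Nat.mul_le_mul_right _ (hone w)) (one_mul _)
      have hge : 160 ≤ D := by
        have hd1 : M₀.1.det = 1 :=
          (real_of_q_two C hq' (det_real C M₀)).resolve_left hd₀
        have hwt0 : 16 ≤ wt C pr U M₀ := by
          refine le_trans ?_ (card_labSets_mul C pr (Ω := Ω) M₀)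
          rw [hq']
          refine Nat.le_mul_of_pos_left _ (Finset.card_pos.2 ⟨lab C pr z, ?_⟩)
          simp only [labSets, Finset.mem_image, Finset.mem_filter, Finset.mem_univ, true_and]
          exact ⟨z, hM₀, rfl⟩
        have hcard := card_det_eq C (t := (1 : F)) (map_one _) one_ne_zero
        rw [hq'] at hcard
        calc 160 ≤ ((Finset.univ : Finset (aherm C)).filter fun M => M.1.det = 1).card *
              wt C pr U M₀ := Nat.mul_le_mul (by omega : 10 ≤ _) hwt0
          _ = ∑ M ∈ (Finset.univ : Finset (aherm C)).filter (fun M => M.1.det = 1),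
              wt C pr U M := by
            rw [← smul_eq_mul, ← Finset.sum_const]
            refine Finset.sum_congr rfl fun M hM => ?_
            obtain ⟨g, hg, rfl⟩ := exists_congr C hd₀ (map_one C.σ) one_ne_zero
              (M' := M) (by rw [(Finset.mem_filter.1 hM).2, hd1]; ring)
            exact (wt_cg C pr hUinv hg M₀).symm
          _ ≤ _ := Finset.sum_le_sum_of_subset fun M hM => Finset.mem_filter.2
              ⟨Finset.mem_univ _, by rw [(Finset.mem_filter.1 hM).2]; exact one_ne_zero⟩
      rw [hq''] at hmain hn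
      omega

end CfsgLib.MinDegree.UFour
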