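import Cfsg.Agent.MinDegree.UFourPlane
import Cfsg.Agent.UnitOrders.Witness
import Cfsg.Agent.Forms4.UnitarySimple

/-!
# A block model inside `SU(4,q)`

For the Hermitian form with Gram matrix `[[0,1],[1,0]]` the elements `uEl X` (`X` anti-Hermitian)
form the abelian radical of a line stabiliser and the `lEl g` (`det g` real) act on it by congruence.
-/

set_option autoImplicit false

namespace CfsgLib.MinDegree.UFour

open Matrix CfsgLib.RepBounds.Unit CfsgLib.UnitOrders

variable {F : Type*} [Field F] [Fintype F] (C : ConjField F)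

local notation "M2" => Matrix (Fin 2) (Fin 2) F
local notation "M4" => Matrix (Fin 2 ⊕ Fin 2) (Fin 2 ⊕ Fin 2) F

/-- The Gram matrix. -/
def gram : M4 := fromBlocks 0 1 1 0

omit [Fintype F] in
theorem uAdj_fromBlocks (τ : F →+* F) (A B D E : M2) :
    uAdj τ (fromBlocks A B D E) = fromBlocks (uAdj τ A) (uAdj τ D) (uAdj τ B) (uAdj τ E) := by
  simp [uAdj, fromBlocks_map, fromBlocks_transpose]

omit [Fintype F] in
theorem uAdj_zero (τ : F →+* F) : uAdj τ (0 : M2) = 0 := by simp [uAdj]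

omit [Fintype F] in
theorem uAdj_neg (τ : F →+* F) (A : M2) : uAdj τ (-A) = -uAdj τ A := by
  ext i j; simp [uAdj]

theorem gram_adj : uAdj C.σ (gram : M4) = gram := by
  simp only [gram, uAdj_fromBlocks, uAdj_zero, uAdj_one]

omit [Fintype F] in
theorem gram_det : (gram : M4).det ≠ 0 := fun h0 => by
  have : (gram : M4) * gram = 1 := by simp [gram, fromBlocks_multiply, fromBlocks_one]
  have := congrArg Matrix.det this
  rw [det_mul, h0, mul_zero, det_one] at this
  exact zero_ne_one this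

theorem exists_phi : ∃ φ : M4 ≃ₐ[F] Matrix (Fin 4) (Fin 4) F, (∀ X, (φ X).det = X.det) ∧
    ∀ X, uAdj C.σ X * gram * X = gram → uAdj C.σ (φ X) * φ X = 1 := by
  obtain ⟨φ, h1, h2, -⟩ := exists_transport C.ne_id C.invol
    (show Fintype.card (Fin 2 ⊕ Fin 2) = 4 by simp) gram (gram_adj C) gram_det
  exact ⟨φ, h1, h2⟩

/-- The change of basis to the standard form. -/
noncomputable def phi : M4 ≃ₐ[F] Matrix (Fin 4) (Fin 4) F := (exists_phi C).choose

/-- The determinant-one isometries of the form `gram`. -/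
def IsU (X : M4) : Prop := X.det = 1 ∧ uAdj C.σ X * gram * X = gram

theorem IsU.mul {X Y : M4} (hX : IsU C X) (hY : IsU C Y) : IsU C (X * Y) := by
  refine ⟨by rw [det_mul, hX.1, hY.1, mul_one], ?_⟩
  rw [uAdj_mul]
  calc uAdj C.σ Y * uAdj C.σ X * gram * (X * Y)
      = uAdj C.σ Y * (uAdj C.σ X * gram * X) * Y := by simp only [Matrix.mul_assoc]
    _ = gram := by rw [hX.2, hY.2]

theorem IsU.one : IsU C (1 : M4) := ⟨det_one, by rw [uAdj_one, one_mul, mul_one]⟩

/-- An element of `SU(4,q)` from a block matrix. -/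
noncomputable def el (X : M4) (h : IsU C X) : Cfsg.SU 4 F C.q :=
  suMk C.pow (phi C X) (by rw [phi, (exists_phi C).choose_spec.1, h.1])
    ((exists_phi C).choose_spec.2 X h.2)

theorem suMat_el (X : M4) (h : IsU C X) : suMat (el C X h) = phi C X := rfl

theorem el_mul {X Y : M4} (hX : IsU C X) (hY : IsU C Y) :
    el C X hX * el C Y hY = el C (X * Y) (hX.mul C hY) := by
  apply suMat_injective
  rw [suMat_mul, suMat_el, suMat_el, suMat_el, map_mul]

theorem el_congr {X Y : M4} (hX : IsU C X) (hY : IsU C Y) (e : X = Y) :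
    el C X hX = el C Y hY := by subst e; rfl

theorem el_one : el C 1 (IsU.one C) = 1 := by
  apply suMat_injective
  rw [suMat_el, map_one]
  simp [suMat]

theorem el_inj {X Y : M4} {hX : IsU C X} {hY : IsU C Y} (e : el C X hX = el C Y hY) : X = Y :=
  (phi C).injective (by rw [← suMat_el C X hX, ← suMat_el C Y hY, e])

theorem el_scalar_of_center {X : M4} (hX : IsU C X)
    (h : el C X hX ∈ Subgroup.center (Cfsg.SU 4 F C.q)) : ∃ c : F, X = c • 1 := by
  obtain ⟨c, hc⟩ := scalar_of_mem_center C.pow C.card (by norm_num) h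
  exact ⟨c, (phi C).injective (by rw [← suMat_el C X hX, hc, map_smul, map_one])⟩

/-! ### Anti-Hermitian matrices -/

/-- The anti-Hermitian matrices. -/
def aherm : AddSubgroup M2 where
  carrier := {X | uAdj C.σ X = -X}
  zero_mem' := by rw [Set.mem_setOf_eq, uAdj_zero, neg_zero]
  add_mem' {a b} ha hb := by
    simp only [Set.mem_setOf_eq] at ha hb ⊢
    rw [uAdj_add, ha, hb, neg_add]
  neg_mem' {a} ha := by
    simp only [Set.mem_setOf_eq] at ha ⊢
    rw [uAdj_neg, ha]

theorem mem_aherm {X : M2} : X ∈ aherm C ↔ uAdj C.σ X = -X := Iff.rfl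

/-- The anti-Hermitian matrix with given entries. -/
def mk2 (u v w : F) : M2 := !![u, v; -C.σ v, w]

theorem mk2_mem {u w : F} (hu : u ∈ C.skew) (v : F) (hw : w ∈ C.skew) :
    mk2 C u v w ∈ aherm C := by
  rw [mem_aherm]
  ext i j
  fin_cases i <;> fin_cases j <;>
    simp [uAdj, mk2, C.skew_eq hu, C.skew_eq hw, C.invol]

theorem aherm_eq_mk2 {X : M2} (hX : X ∈ aherm C) :
    X = mk2 C (X 0 0) (X 0 1) (X 1 1) ∧ X 0 0 ∈ C.skew ∧ X 1 1 ∈ C.skew := by
  rw [mem_aherm] at hX
  have h : ∀ i j, C.σ (X j i) = -X i j := fun i j => congrFun (congrFun hX i) j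
  refine ⟨?_, ?_, ?_⟩
  · ext i j
    fin_cases i <;> fin_cases j <;> simp [mk2]
    rw [h, neg_neg]
  · rw [C.mem_skew, h]; ring
  · rw [C.mem_skew, h]; ring

theorem card_aherm : Nat.card (aherm C) = C.q ^ 4 := by
  have e : (aherm C) ≃ C.skew × F × C.skew :=
    { toFun := fun X => (⟨_, (aherm_eq_mk2 C X.2).2.1⟩, X.1 0 1, ⟨_, (aherm_eq_mk2 C X.2).2.2⟩)
      invFun := fun z => ⟨mk2 C z.1 z.2.1 z.2.2, mk2_mem C z.1.2 _ z.2.2.2⟩
      left_inv := fun X => Subtype.ext (aherm_eq_mk2 C X.2).1.symm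
      right_inv := fun z => by
        refine Prod.ext (Subtype.ext ?_) (Prod.ext ?_ (Subtype.ext ?_)) <;> simp [mk2] }
  rw [Nat.card_congr e, Nat.card_prod, Nat.card_prod, C.card_skew, Nat.card_eq_fintype_card, C.card]
  ring

theorem congr_mem (g : M2) {X : M2} (hX : X ∈ aherm C) : g * X * uAdj C.σ g ∈ aherm C := by
  rw [mem_aherm] at hX ⊢
  rw [uAdj_mul, uAdj_mul, uAdj_uAdj C.σ C.invol, hX, Matrix.neg_mul, Matrix.mul_neg,
    Matrix.mul_assoc]

/-- Congruence `X ↦ g X gᴴ`. -/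
def cg (g : M2) : aherm C →+ aherm C where
  toFun X := ⟨g * X.1 * uAdj C.σ g, congr_mem C g X.2⟩
  map_zero' := Subtype.ext (by simp)
  map_add' X Y := Subtype.ext (by simp [Matrix.mul_add, Matrix.add_mul])

theorem coe_cg (g : M2) (X : aherm C) : (cg C g X : M2) = g * X.1 * uAdj C.σ g := rfl

theorem cg_mul (g h : M2) (X : aherm C) : cg C (g * h) X = cg C g (cg C h X) :=
  Subtype.ext (by simp only [coe_cg, uAdj_mul, Matrix.mul_assoc])

theorem cg_one (X : aherm C) : cg C 1 X = X :=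
  Subtype.ext (by simp only [coe_cg, uAdj_one, one_mul, mul_one])

theorem det_cg (g : M2) (X : aherm C) :
    (cg C g X : M2).det = g.det * C.σ g.det * X.1.det := by
  rw [coe_cg, det_mul, det_mul, det_uAdj]; ring

/-! ### The elements -/

theorem isU_u (X : aherm C) : IsU C (fromBlocks 1 X.1 0 1) := by
  refine ⟨by rw [det_fromBlocks_zero₂₁, det_one, one_mul], ?_⟩
  simp only [gram, uAdj_fromBlocks, uAdj_zero, uAdj_one, fromBlocks_multiply]
  simp [(mem_aherm C).1 X.2]

/-- The radical element. -/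
noncomputable def uEl (X : aherm C) : Cfsg.SU 4 F C.q := el C _ (isU_u C X)

theorem uEl_add (X Y : aherm C) : uEl C (X + Y) = uEl C X * uEl C Y := by
  rw [uEl, uEl, uEl, el_mul]
  apply el_congr
  simp [fromBlocks_multiply, add_comm]

theorem uEl_zero : uEl C 0 = 1 := by
  rw [uEl, ← el_one C]
  apply el_congr
  simp [fromBlocks_one]

theorem uEl_inj : Function.Injective (uEl C) := fun X Y e => by
  have h := el_inj C e
  rw [fromBlocks_inj] at h
  exact Subtype.ext h.2.1

/-- Invertible with real determinant. -/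
def IsL (g : M2) : Prop := g.det ≠ 0 ∧ C.σ g.det = g.det

theorem IsL.mul {g h : M2} (hg : IsL C g) (hh : IsL C h) : IsL C (g * h) :=
  ⟨by rw [det_mul]; exact mul_ne_zero hg.1 hh.1, by rw [det_mul, map_mul, hg.2, hh.2]⟩

theorem IsL.adj {g : M2} (hg : IsL C g) : IsL C (uAdj C.σ g) :=
  ⟨by rw [det_uAdj, hg.2]; exact hg.1, by rw [det_uAdj, hg.2, hg.2]⟩

theorem IsL.inv {g : M2} (hg : IsL C g) : IsL C g⁻¹ := by
  rw [IsL, det_nonsing_inv, Ring.inverse_eq_inv', map_inv₀, hg.2]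
  exact ⟨inv_ne_zero hg.1, rfl⟩

theorem IsL.one : IsL C (1 : M2) := by rw [IsL, det_one, map_one]; exact ⟨one_ne_zero, rfl⟩

theorem IsL.of_det_one {g : M2} (h : g.det = 1) : IsL C g := by
  rw [IsL, h, map_one]; exact ⟨one_ne_zero, rfl⟩

theorem IsL.isUnit {g : M2} (hg : IsL C g) : IsUnit g.det := isUnit_iff_ne_zero.2 hg.1

theorem isU_l {g : M2} (hg : IsL C g) :
    IsU C (fromBlocks g 0 0 (uAdj C.σ g)⁻¹) := by
  have hu := (hg.adj C).isUnit C
  constructor
  · rw [det_fromBlocks_zero₂₁, det_nonsing_inv, Ring.inverse_eq_inv', det_uAdj, hg.2,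
      mul_inv_cancel₀ hg.1]
  · have h1 : uAdj C.σ g * (uAdj C.σ g)⁻¹ = 1 := mul_nonsing_inv _ hu
    have h2 : uAdj C.σ (uAdj C.σ g)⁻¹ * g = 1 := by
      have := congrArg (uAdj C.σ) h1
      rwa [uAdj_mul, uAdj_uAdj C.σ C.invol, uAdj_one] at this
    simp only [gram, uAdj_fromBlocks, uAdj_zero, fromBlocks_multiply]
    simp [h1, h2]

/-- The Levi element. -/
noncomputable def lEl (g : M2) (hg : IsL C g) : Cfsg.SU 4 F C.q := el C _ (isU_l C hg)

theorem lEl_congr {g h : M2} {hg : IsL C g} {hh : IsL C h} (e : g = h) :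
    lEl C g hg = lEl C h hh := by subst e; rfl

theorem lEl_mul {g h : M2} (hg : IsL C g) (hh : IsL C h) :
    lEl C g hg * lEl C h hh = lEl C (g * h) (hg.mul C hh) := by
  rw [lEl, lEl, lEl, el_mul]
  apply el_congr
  simp [fromBlocks_multiply, uAdj_mul, Matrix.mul_inv_rev]

theorem lEl_one : lEl C 1 (IsL.one C) = 1 := by
  rw [lEl, ← el_one C]
  apply el_congr
  simp [uAdj_one, fromBlocks_one]

theorem lEl_inj {g h : M2} {hg : IsL C g} {hh : IsL C h} (e : lEl C g hg = lEl C h hh) : g = h :=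
  (fromBlocks_inj.1 (el_inj C e)).1

theorem lEl_conj {g : M2} (hg : IsL C g) (X : aherm C) :
    lEl C g hg * uEl C X = uEl C (cg C g X) * lEl C g hg := by
  rw [lEl, uEl, uEl, el_mul, el_mul]
  apply el_congr
  simp [fromBlocks_multiply, coe_cg, Matrix.mul_assoc, mul_nonsing_inv _ ((hg.adj C).isUnit C)]

theorem isU_k {θ : F} (hθ : θ ∈ C.skew) (hθ0 : θ ≠ 0) :
    IsU C (fromBlocks !![1, 0; 0, 0] !![0, 0; 0, θ] !![0, 0; 0, (C.σ θ)⁻¹] !![1, 0; 0, 0]) := by
  have hσ0 : C.σ θ ≠ 0 := (map_ne_zero C.σ).2 hθ0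
  constructor
  · rw [← Matrix.det_submatrix_equiv_self finSumFinEquiv.symm, Matrix.det_succ_row_zero]
    simp [Fin.sum_univ_succ, Matrix.det_fin_three, finSumFinEquiv, Fin.addCases, Fin.succAbove,
      C.skew_eq hθ]
    field_simp
  · simp only [gram, uAdj_fromBlocks, fromBlocks_multiply]
    rw [fromBlocks_inj]
    refine ⟨?_, ?_, ?_, ?_⟩ <;> ext i j <;> fin_cases i <;> fin_cases j <;>
      simp [uAdj, Matrix.mul_apply, Fin.sum_univ_two, hσ0, C.invol, hθ0]

/-- The element exchanging `e₂` and `f₂`. -/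
noncomputable def kEl (θ : F) (hθ : θ ∈ C.skew) (hθ0 : θ ≠ 0) : Cfsg.SU 4 F C.q :=
  el C _ (isU_k C hθ hθ0)

/-- The upper triangular unipotent matrix. -/
def up (b : F) : M2 := !![1, b; 0, 1]

omit [Fintype F] in
theorem up_det (b : F) : (up b).det = 1 := by simp [up, det_fin_two]

theorem isL_up (b : F) : IsL C (up b) := IsL.of_det_one C (up_det b)

omit [Fintype F] in
theorem up_mul (b b' : F) : up b * up b' = up (b + b') := by
  ext i j; fin_cases i <;> fin_cases j <;> simp [up, Matrix.mul_apply, Fin.sum_univ_two, add_comm]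

/-- The radical part of a Heisenberg element. -/
def hX (a : F) (c : C.skew) : aherm C :=
  ⟨mk2 C c a 0, mk2_mem C c.2 _ C.skew.zero_mem⟩

/-- A Heisenberg element at `e₁`. -/
noncomputable def heis (x : F × F) (c : C.skew) : Cfsg.SU 4 F C.q :=
  uEl C (hX C x.2 c) * lEl C (up x.1) (isL_up C x.1)

theorem cg_up_hX (b a : F) (c : C.skew) :
    cg C (up b) (hX C a c) =
      hX C a (c + ⟨a * C.σ b - b * C.σ a, by
        rw [C.mem_skew, map_sub, map_mul, map_mul, C.invol, C.invol]; ring⟩) := by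
  apply Subtype.ext
  ext i j
  fin_cases i <;> fin_cases j <;>
    simp [coe_cg, hX, up, mk2, uAdj, Matrix.mul_apply, Fin.sum_univ_two] <;> ring

theorem hX_add (a a' : F) (c c' : C.skew) : hX C a c + hX C a' c' = hX C (a + a') (c + c') := by
  apply Subtype.ext
  ext i j
  fin_cases i <;> fin_cases j <;> simp [hX, mk2, add_comm]

/-- The cocycle. -/
def coc (x y : F × F) : C.skew :=
  ⟨y.2 * C.σ x.1 - x.1 * C.σ y.2, by
    rw [C.mem_skew, map_sub, map_mul, map_mul, C.invol, C.invol]; ring⟩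

theorem heis_mul (x y : F × F) (c d : C.skew) :
    heis C x c * heis C y d = heis C (x + y) (c + d + coc C x y) := by
  simp only [heis]
  rw [mul_assoc, ← mul_assoc (lEl C (up x.1) _), lEl_conj, cg_up_hX, mul_assoc, ← mul_assoc,
    ← uEl_add, hX_add, lEl_mul, lEl_congr C (up_mul x.1 y.1) (hh := isL_up C _)]
  congr 3
  rw [add_assoc]
  rfl

theorem heis_zero : heis C 0 0 = 1 := by
  have h1 : hX C (0 : F) 0 = 0 := by
    apply Subtype.ext; ext i j; fin_cases i <;> fin_cases j <;> simp [hX, mk2]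
  have h2 : up (0 : F) = 1 := by ext i j; fin_cases i <;> fin_cases j <;> simp [up]
  simp only [heis, Prod.fst_zero, Prod.snd_zero, h1, uEl_zero, one_mul]
  rw [lEl_congr C h2 (hh := IsL.one C), lEl_one]

theorem heis_inj {x y : F × F} {c d : C.skew} (e : heis C x c = heis C y d) : x = y ∧ c = d := by
  simp only [heis, uEl, lEl, el_mul] at e
  have e' := el_inj C e
  simp only [fromBlocks_multiply, fromBlocks_inj, one_mul, Matrix.zero_mul, add_zero, zero_add,
    Matrix.mul_zero] at e'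
  obtain ⟨e1, e2, -, e4⟩ := e'
  have hb : x.1 = y.1 := by simpa [up] using congrFun (congrFun e1 0) 1
  rw [hb] at e2
  have hu := ((isL_up C y.1).adj C).isUnit C
  have e3 := congrArg (· * uAdj C.σ (up y.1)) e2
  simp only [Matrix.mul_assoc, nonsing_inv_mul _ hu, mul_one] at e3
  have ha : x.2 = y.2 := by simpa [hX, mk2] using congrFun (congrFun e3 0) 1
  have hc : (c : F) = d := by simpa [hX, mk2] using congrFun (congrFun e3 0) 0
  exact ⟨Prod.ext hb ha, Subtype.ext hc⟩

theorem heis_shift {s : F} (hs : s ∈ C.skew) (x : F × F) (c : C.skew) :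
    ∃ c' : C.skew, uEl C ⟨mk2 C 0 0 s, mk2_mem C C.skew.zero_mem _ hs⟩ * heis C x c =
      heis C (x.1, x.2 - x.1 * s) c' * uEl C ⟨mk2 C 0 0 s, mk2_mem C C.skew.zero_mem _ hs⟩ := by
  refine ⟨⟨c.1 - s * (x.1 * C.σ x.1), ?_⟩, ?_⟩
  · rw [C.mem_skew, map_sub, map_mul, map_mul, C.invol, C.skew_eq hs, C.skew_eq c.2]; ring
  simp only [heis]
  rw [← mul_assoc, ← uEl_add, mul_assoc, lEl_conj, ← mul_assoc, ← uEl_add]
  congr 2
  apply Subtype.ext
  ext i j
  fin_cases i <;> fin_cases j <;>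
    simp [coe_cg, hX, up, mk2, uAdj, Matrix.vecMul, dotProduct, Matrix.mul_apply, Fin.sum_univ_two,
      C.skew_eq hs] <;> ring

theorem heis_scale {l : F} (hl : l * C.σ l = 1) (hd : IsL C !![l, 0; 0, l⁻¹]) (x : F × F)
    (c : C.skew) :
    lEl C !![l, 0; 0, l⁻¹] hd * heis C x c =
      heis C (l ^ 2 • x) c * lEl C !![l, 0; 0, l⁻¹] hd := by
  have hl0 : l ≠ 0 := fun h => by rw [h, zero_mul] at hl; exact zero_ne_one hl
  have hσ : C.σ l = l⁻¹ := eq_inv_of_mul_eq_one_right hl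
  simp only [heis]
  rw [← mul_assoc, lEl_conj, mul_assoc, lEl_mul, mul_assoc, lEl_mul]
  congr 1
  · congr 1
    apply Subtype.ext
    ext i j
    fin_cases i <;> fin_cases j <;>
      simp [coe_cg, hX, mk2, uAdj, Matrix.mul_apply, Fin.sum_univ_two, map_inv₀, hσ] <;>
      field_simp
  · apply lEl_congr
    ext i j
    fin_cases i <;> fin_cases j <;> simp [up, Matrix.mul_apply, Fin.sum_univ_two] <;> field_simp

theorem heis_swap {θ : F} (hθ : θ ∈ C.skew) (hθ0 : θ ≠ 0) (x : F × F) (c : C.skew) :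
    ∃ c' : C.skew, (x = 0 → c' = c) ∧ kEl C θ hθ hθ0 * heis C x c =
      heis C (θ⁻¹ * x.2, x.1 * C.σ θ) c' * kEl C θ hθ hθ0 := by
  refine ⟨⟨c.1 + (x.1 * C.σ x.2 - x.2 * C.σ x.1), ?_⟩, fun h => Subtype.ext (by simp [h]), ?_⟩
  · rw [C.mem_skew, map_add, map_sub, map_mul, map_mul, C.invol, C.invol, C.skew_eq c.2]; ring
  have hσ0 : C.σ θ ≠ 0 := (map_ne_zero C.σ).2 hθ0
  have hinv : ∀ b : F, (uAdj C.σ (up b))⁻¹ = !![1, 0; -C.σ b, 1] := fun b => by
    apply Matrix.inv_eq_right_inv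
    ext i j
    fin_cases i <;> fin_cases j <;> simp [up, uAdj, Matrix.mul_apply, Fin.sum_univ_two]
  simp only [heis, kEl, uEl, lEl, el_mul]
  apply el_congr
  simp only [fromBlocks_multiply, fromBlocks_inj, hinv]
  refine ⟨?_, ?_, ?_, ?_⟩ <;> ext i j <;> fin_cases i <;> fin_cases j <;>
    simp [hX, up, mk2, Matrix.mul_apply, Fin.sum_univ_two, map_inv₀, C.invol] <;> field_simp <;>
    ring

end CfsgLib.MinDegree.UFour
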