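import Cfsg.Agent.RepBounds.Unitary.Setting
import Cfsg.Agent.MinDegree.Pairing
import Cfsg.Agent.Forms.HermitianCount

/-!
# Conjugates of an isotropic subgroup of a hyperbolic Hermitian plane

A family of subgroups of `F × F`, isotropic for the commutator pairing and closed under a few
unitary maps, has at least `κ (q + 1) / q²` members, `κ` the order of a member.
-/

set_option autoImplicit false

namespace CfsgLib.MinDegree.UFour

open CfsgLib.RepBounds.Unit CfsgLib.MinDegree

variable {F : Type*} [Field F] [Fintype F] (C : ConjField F)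

/-- The Hermitian form of the plane. -/
def hh (x y : F × F) : F := x.2 * C.σ y.1 + x.1 * C.σ y.2

theorem hh_symm (x y : F × F) : C.σ (hh C x y) = hh C y x := by
  simp only [hh, map_add, map_mul, C.invol]; ring

theorem hh_add_left (x x' y : F × F) : hh C (x + x') y = hh C x y + hh C x' y := by
  simp only [hh, Prod.fst_add, Prod.snd_add]; ring

theorem hh_add_right (x y y' : F × F) : hh C x (y + y') = hh C x y + hh C x y' := by
  simp only [hh, Prod.fst_add, Prod.snd_add, map_add]; ring

theorem hh_neg_right (x y : F × F) : hh C x (-y) = -hh C x y := by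
  simp only [hh, Prod.fst_neg, Prod.snd_neg, map_neg]; ring

theorem hh_neg_left (x y : F × F) : hh C (-x) y = -hh C x y := by
  simp only [hh, Prod.fst_neg, Prod.snd_neg]; ring

theorem hh_smul_left (t : F) (x y : F × F) : hh C (t • x) y = t * hh C x y := by
  simp only [hh, Prod.smul_fst, Prod.smul_snd, smul_eq_mul]; ring

theorem hh_smul_right (t : F) (x y : F × F) : hh C x (t • y) = C.σ t * hh C x y := by
  simp only [hh, Prod.smul_fst, Prod.smul_snd, smul_eq_mul, map_mul]; ring

theorem fixed_card_le [DecidableEq F] :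
    ((Finset.univ : Finset F).filter fun x => C.σ x = x).card ≤ C.q := by
  classical
  obtain ⟨d, hd, hd0⟩ : ∃ d ∈ C.skew, d ≠ 0 := by
    by_contra! h
    have := C.card_skew
    have h1 : Nat.card C.skew ≤ 1 := by
      rw [Finite.card_le_one_iff_subsingleton]
      exact ⟨fun a b => Subtype.ext ((h _ a.2).trans (h _ b.2).symm)⟩
    have := C.two_le
    omega
  rw [← C.card_skew, Nat.card_eq_fintype_card, ← Finset.card_univ]
  refine Finset.card_le_card_of_injOn
    (fun x => if h : d * x ∈ C.skew then (⟨_, h⟩ : C.skew) else 0) (fun _ _ => Finset.mem_univ _) ?_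
  intro x hx y hy hxy
  have hm : ∀ z, C.σ z = z → d * z ∈ C.skew := fun z hz => by
    rw [C.mem_skew, map_mul, hz, C.skew_eq hd]; ring
  simp only [dif_pos (hm x (Finset.mem_filter.1 hx).2), dif_pos (hm y (Finset.mem_filter.1 hy).2),
    Subtype.mk.injEq] at hxy
  exact mul_left_cancel₀ hd0 hxy

/-- Closure of a family of subgroups under the three kinds of maps. -/
structure Closed (ρ : F) (R : Set (F × F)) : Prop where
  shift : ∀ x ∈ R, ∀ s ∈ C.skew, (x.1, x.2 + x.1 * s) ∈ R
  swap : ∀ x ∈ R, (ρ * x.2, x.1 / C.σ ρ) ∈ R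
  scale : ∀ x ∈ R, ∀ l : F, l * C.σ l = 1 → l ^ 2 • x ∈ R

variable {C}

/-- The norm is invariant, and each norm class is one orbit. -/
theorem Closed.norm_class {ρ : F} {R : Set (F × F)} (hR : Closed C ρ R) (hρ : ρ ≠ 0) {ν : F}
    (hν : ν ≠ 0) {x : F × F} (hx : x ∈ R) (hxν : hh C x x = ν) {y : F × F} (hyν : hh C y y = ν) :
    y ∈ R := by
  classical
  have hb : ∀ {z : F × F}, hh C z z = ν → z.1 ≠ 0 := fun {z} hz h => hν (by
    rw [← hz]; simp [hh, h])
  have hσν : C.σ ν = ν := by rw [← hxν, hh_symm]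
  have fibre : ∀ {z w : F × F}, z ∈ R → hh C z z = ν → hh C w w = ν → w.1 = z.1 → w ∈ R := by
    intro z w hz hzν hwν e
    have hz1 := hb hzν
    have hm : (w.2 - z.2) / z.1 ∈ C.skew := by
      rw [C.mem_skew, map_div₀, map_sub]
      have : (map_ne_zero C.σ).2 hz1 = (map_ne_zero C.σ).2 hz1 := rfl
      have hσz : C.σ z.1 ≠ 0 := (map_ne_zero C.σ).2 hz1
      field_simp
      simp only [hh, e] at hwν hzν
      linear_combination hwν - hzν
    have h := hR.shift z hz _ hm
    rw [mul_div_cancel₀ _ hz1, add_sub_cancel, ← e] at h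
    exact h
  have hσρ : C.σ ρ ≠ 0 := (map_ne_zero C.σ).2 hρ
  have step : ∀ {z w : F × F}, z ∈ R → hh C z z = ν → hh C w w = ν →
      C.σ (z.1 / C.σ ρ) * (w.1 / ρ) - (z.1 / C.σ ρ) * C.σ (w.1 / ρ) ≠ 0 → w ∈ R := by
    intro z w hz hzν hwν hΔ
    set β := z.1 / C.σ ρ with hβ
    set β' := w.1 / ρ with hβ'
    set Δ := C.σ β * β' - β * C.σ β' with hΔdef
    set b₁ := ν * (β' - β) / Δ with hb₁
    have hσΔ : C.σ Δ = -Δ := by simp only [hΔdef, map_sub, map_mul, C.invol]; ring
    have hσb : C.σ b₁ = ν * (C.σ β' - C.σ β) / -Δ := by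
      rw [hb₁, map_div₀, map_mul, map_sub, hσν, hσΔ]
    -- the intermediate vector
    have e1 : b₁ * C.σ β + C.σ b₁ * β = ν := by
      rw [hσb, hb₁]; field_simp; ring
    have e2 : b₁ * C.σ β' + C.σ b₁ * β' = ν := by
      rw [hσb, hb₁]; field_simp; ring
    have h1 : (z.1, b₁ / ρ) ∈ R := by
      refine fibre hz hzν ?_ rfl
      rw [← e1, hβ]
      simp only [hh, map_div₀, C.invol]
      field_simp
    have h2 := hR.swap _ h1
    simp only [mul_div_cancel₀ _ hρ] at h2
    have h3 : (b₁, β') ∈ R := by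
      refine fibre h2 ?_ ?_ rfl
      · rw [← e1, hβ]
        simp only [hh, map_div₀, C.invol]
        field_simp
        ring
      · rw [← e2]
        simp only [hh]
        ring
    have h4 := hR.swap _ h3
    simp only [hβ', mul_div_cancel₀ _ hρ] at h4
    refine fibre h4 ?_ hwν rfl
    rw [← e2, hβ']
    simp only [hh, map_div₀, C.invol]
    field_simp
  have hx1 := hb hxν
  have hy1 := hb hyν
  -- an intermediate vector, independent of both
  obtain ⟨g, hg1, hg2⟩ : ∃ g : F, C.σ (x.1 / C.σ ρ) * (g / ρ) - (x.1 / C.σ ρ) * C.σ (g / ρ) ≠ 0 ∧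
      C.σ (g / C.σ ρ) * (y.1 / ρ) - (g / C.σ ρ) * C.σ (y.1 / ρ) ≠ 0 := by
    by_contra! h
    have hσx : C.σ x.1 ≠ 0 := (map_ne_zero C.σ).2 hx1
    have hσy : C.σ y.1 ≠ 0 := (map_ne_zero C.σ).2 hy1
    let Φ := (Finset.univ : Finset F).filter fun t => C.σ t = t
    have hsub : (Finset.univ : Finset F) ⊆
        (Φ.image fun t => t * (x.1 / C.σ ρ * ρ)) ∪ (Φ.image fun t => t * (y.1 / ρ * C.σ ρ)) := by
      intro g _
      by_cases h1 : C.σ (x.1 / C.σ ρ) * (g / ρ) - (x.1 / C.σ ρ) * C.σ (g / ρ) = 0
      · refine Finset.mem_union_left _ (Finset.mem_image.2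
          ⟨g / (x.1 / C.σ ρ * ρ), Finset.mem_filter.2 ⟨Finset.mem_univ _, ?_⟩,
            div_mul_cancel₀ _ (mul_ne_zero (div_ne_zero hx1 hσρ) hρ)⟩)
        simp only [map_div₀, map_mul, C.invol] at h1 ⊢
        field_simp at h1 ⊢
        linear_combination -h1
      · have h2 := h g h1
        refine Finset.mem_union_right _ (Finset.mem_image.2
          ⟨g / (y.1 / ρ * C.σ ρ), Finset.mem_filter.2 ⟨Finset.mem_univ _, ?_⟩,
            div_mul_cancel₀ _ (mul_ne_zero (div_ne_zero hy1 hρ) hσρ)⟩)
        simp only [map_div₀, map_mul, C.invol] at h2 ⊢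
        field_simp at h2 ⊢
        linear_combination h2
    have h3 := (Finset.card_le_card hsub).trans ((Finset.card_union_le _ _).trans
      (add_le_add (Finset.card_image_le.trans (fixed_card_le C))
        (Finset.card_image_le.trans (fixed_card_le C))))
    rw [Finset.card_univ, C.card, sq] at h3
    have := C.two_le
    rcases eq_or_lt_of_le this with h2 | h2
    · -- `q = 2`: zero lies in both images
      have h0 : (0 : F) ∈ (Φ.image fun t => t * (x.1 / C.σ ρ * ρ)) ∩
          (Φ.image fun t => t * (y.1 / ρ * C.σ ρ)) := by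
        have hz : (0 : F) ∈ Φ := Finset.mem_filter.2 ⟨Finset.mem_univ _, map_zero _⟩
        exact Finset.mem_inter.2 ⟨Finset.mem_image.2 ⟨0, hz, zero_mul _⟩,
          Finset.mem_image.2 ⟨0, hz, zero_mul _⟩⟩
      have h4 := Finset.card_union_add_card_inter (Φ.image fun t => t * (x.1 / C.σ ρ * ρ))
        (Φ.image fun t => t * (y.1 / ρ * C.σ ρ))
      have h5 := Finset.card_pos.2 ⟨_, h0⟩
      have h6 := Finset.card_le_card hsub
      have h7 : (Φ.image fun t => t * (x.1 / C.σ ρ * ρ)).card ≤ C.q :=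
        Finset.card_image_le.trans (fixed_card_le C)
      have h8 : (Φ.image fun t => t * (y.1 / ρ * C.σ ρ)).card ≤ C.q :=
        Finset.card_image_le.trans (fixed_card_le C)
      rw [Finset.card_univ, C.card, sq, ← h2] at h6
      omega
    · nlinarith
  have hg0 : g ≠ 0 := fun h => hg1 (by simp [h])
  obtain ⟨a, ha⟩ : ∃ a : F, hh C (g, a) (g, a) = ν := by
    obtain ⟨t, ht⟩ := C.exists_trace_one
    refine ⟨ν * t / C.σ g, ?_⟩
    have hσg : C.σ g ≠ 0 := (map_ne_zero C.σ).2 hg0
    simp only [hh, map_div₀, map_mul, C.invol, hσν]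
    field_simp
    linear_combination ht
  exact step (step (w := (g, a)) hx hxν ha hg1) ha hyν hg2

/-- An isotropic vector brings all slopes. -/
theorem Closed.slopes {ρ : F} {R : Set (F × F)} (hR : Closed C ρ R) (hρ : ρ ≠ 0) {x : F × F}
    (hx : x ∈ R) (hx0 : x ≠ 0) (hiso : hh C x x = 0) :
    ∃ b : F, b ≠ 0 ∧ ∀ s ∈ C.skew, (b, b * s) ∈ R := by
  have hσρ : C.σ ρ ≠ 0 := (map_ne_zero C.σ).2 hρ
  obtain ⟨x1, x2⟩ := x
  rcases eq_or_ne x1 0 with rfl | h1
  · have h := hR.swap _ hx
    have h2 : x2 ≠ 0 := fun h => hx0 (by rw [h]; rfl)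
    refine ⟨ρ * x2, mul_ne_zero hρ h2, fun s hs => ?_⟩
    have := hR.shift _ h s hs
    simpa using this
  · refine ⟨x1, h1, fun s hs => ?_⟩
    have hm : x2 / x1 ∈ C.skew := by
      have hσ1 : C.σ x1 ≠ 0 := (map_ne_zero C.σ).2 h1
      rw [C.mem_skew, map_div₀]
      field_simp
      simp only [hh] at hiso
      linear_combination hiso
    have := hR.shift _ hx _ (C.skew.sub_mem hs hm)
    rwa [mul_sub, mul_div_cancel₀ _ h1, add_sub_cancel] at this

theorem isotropic_prop {v w : F × F} (hv : v ≠ 0) (hvv : hh C v v = 0) (hww : hh C w w = 0)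
    (hvw : hh C v w = 0) : ∃ t : F, w = t • v := by
  obtain ⟨v1, v2⟩ := v
  obtain ⟨w1, w2⟩ := w
  simp only [hh] at hvv hww hvw
  rcases eq_or_ne v1 0 with rfl | h1
  · have h2 : v2 ≠ 0 := fun h => hv (by rw [h]; rfl)
    have hw1 : w1 = 0 := by
      have e : v2 * C.σ w1 = 0 := by linear_combination hvw
      exact (map_eq_zero C.σ).1 ((mul_eq_zero.1 e).resolve_left h2)
    exact ⟨w2 / v2, by simp [hw1, h2]⟩
  · refine ⟨w1 / v1, Prod.ext (by simp [h1]) ?_⟩
    simp only [Prod.smul_snd, smul_eq_mul]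
    have hσ1 : C.σ v1 ≠ 0 := (map_ne_zero C.σ).2 h1
    have h' := congrArg C.σ hvw
    simp only [map_add, map_mul, map_zero, C.invol] at h'
    have e : C.σ v1 * (w2 * v1 - w1 * v2) = 0 := by linear_combination v1 * h' - w1 * hvv
    have e' := (mul_eq_zero.1 e).resolve_left hσ1
    field_simp
    linear_combination e'

variable (C)

/-- The commutator pairing. -/
def comm (x y : F × F) : F := hh C x y - hh C y x

/-- The bilinear form used for the annihilator. -/
noncomputable def planeForm : (F × F) →ₗ[F] (F × F) →ₗ[F] F :=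
  LinearMap.mk₂ F (fun x y => x.2 * y.1 + x.1 * y.2)
    (fun a b c => by simp only [Prod.fst_add, Prod.snd_add]; ring)
    (fun t a c => by simp only [Prod.smul_fst, Prod.smul_snd, smul_eq_mul]; ring)
    (fun a b c => by simp only [Prod.fst_add, Prod.snd_add]; ring)
    (fun t a c => by simp only [Prod.smul_fst, Prod.smul_snd, smul_eq_mul]; ring)

theorem planeForm_sep (x : F × F) (h : ∀ y, planeForm x y = 0) : x = 0 := by
  have h1 := h (1, 0)
  have h2 := h (0, 1)
  simp only [planeForm, LinearMap.mk₂_apply, mul_one, mul_zero, add_zero, zero_add] at h1 h2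
  exact Prod.ext h2 h1

variable {C}

/-- An isotropic subgroup, enlarged by one orthogonal to it, has at most `q^4` elements. -/
theorem card_isotropic_mul {p : ℕ} [Fact p.Prime] [CharP F p] {pr : F →+ ZMod p} {t : F}
    (ht : ∃ s ∈ C.skew, pr (t * s) ≠ 0) {K : AddSubgroup (F × F)} {M : AddSubgroup (F × F)}
    (hM : ∀ x ∈ M, ∀ y ∈ K, pr (t * comm C x y) = 0) :
    Nat.card M * Nat.card K ≤ C.q ^ 4 := by
  let pr' : F →+ ZMod p :=
    pr.comp ((AddMonoidHom.mulLeft t).comp (AddMonoidHom.id F - C.σ.toAddMonoidHom))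
  have hpr' : pr' ≠ 0 := by
    obtain ⟨s, hs, hne⟩ := ht
    obtain ⟨z, hz⟩ := C.exists_sub_eq hs
    intro h
    refine hne ?_
    have := DFunLike.congr_fun h z
    rw [← hz]
    exact this
  let S : (F × F) ≃+ (F × F) :=
    { toFun := fun y => (C.σ y.1, C.σ y.2)
      invFun := fun y => (C.σ y.1, C.σ y.2)
      left_inv := fun y => Prod.ext (C.invol _) (C.invol _)
      right_inv := fun y => Prod.ext (C.invol _) (C.invol _)
      map_add' := fun a b => Prod.ext (map_add _ _ _) (map_add _ _ _) }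
  have hle : M ≤ addPerp planeForm pr' (K.map S.toAddMonoidHom) := by
    intro x hx
    rw [mem_addPerp]
    rintro _ ⟨y, hy, rfl⟩
    have e : planeForm x (S.toAddMonoidHom y) = hh C x y := rfl
    rw [e]
    change pr (t * (hh C x y - C.σ (hh C x y))) = 0
    rw [hh_symm]
    exact hM x hx y hy
  have h := card_addPerp_mul planeForm planeForm_sep hpr' (K.map S.toAddMonoidHom)
  have hc : Nat.card (K.map S.toAddMonoidHom) = Nat.card K :=
    (Nat.card_congr (S.addSubgroupMap K).toEquiv).symm
  rw [hc, Nat.card_prod, Nat.card_eq_fintype_card (α := F), C.card] at h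
  rw [show C.q ^ 4 = C.q ^ 2 * C.q ^ 2 by ring, ← h]
  exact Nat.mul_le_mul_right _ (AddSubgroup.card_le_of_le hle)

/-- The main counting lemma. -/
theorem plane_cover [DecidableEq F] {p : ℕ} [Fact p.Prime] [CharP F p] {pr : F →+ ZMod p} {t : F}
    (ht : ∃ s ∈ C.skew, pr (t * s) ≠ 0) {ρ : F} (hρ : ρ ≠ 0) {κ : ℕ}
    (S : Finset (AddSubgroup (F × F))) (hne : S.Nonempty) (hκ : ∀ K ∈ S, Nat.card K = κ)
    (hiso : ∀ K ∈ S, ∀ x ∈ K, ∀ y ∈ K, pr (t * comm C x y) = 0)
    (hclosed : Closed C ρ {x | ∃ K ∈ S, x ∈ K}) :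
    κ * (C.q + 1) ≤ S.card * C.q ^ 2 := by
  classical
  set q := C.q with hq
  have hq2 : 2 ≤ q := C.two_le
  obtain ⟨K₀, hK₀⟩ := hne
  have hκ2 : κ ≤ q ^ 2 := by
    have h := card_isotropic_mul ht (K := K₀) (M := K₀) (hiso K₀ hK₀)
    rw [hκ K₀ hK₀, show q ^ 4 = q ^ 2 * q ^ 2 by ring] at h
    exact Nat.mul_self_le_mul_self_iff.1 h
  have hκpos : 0 < κ := hκ K₀ hK₀ ▸ Nat.card_pos
  -- counting vectors
  have count : ∀ (O : Finset (F × F)) (k : ℕ), (∀ x ∈ O, ∃ K ∈ S, x ∈ K) →
      (∀ K ∈ S, (O.filter fun x => x ∈ K).card ≤ k) → O.card ≤ S.card * k := by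
    intro O k h1 h2
    have h := Finset.card_mul_le_card_mul (s := O) (t := S) (fun x K => x ∈ K) (m := 1) (n := k)
      (fun x hx => by
        obtain ⟨K, hK, hxK⟩ := h1 x hx
        exact Finset.card_pos.2 ⟨K, Finset.mem_filter.2 ⟨hK, hxK⟩⟩) h2
    rwa [mul_one] at h
  have hnz : ∀ (O : Finset (F × F)), (∀ x ∈ O, x ≠ 0) → ∀ K ∈ S,
      (O.filter fun x => x ∈ K).card ≤ κ - 1 := by
    intro O hO K hK
    rw [← hκ K hK, Nat.card_eq_fintype_card, ← Finset.card_univ,
      ← Finset.card_erase_of_mem (Finset.mem_univ (0 : K)),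
      ← Finset.card_map (Function.Embedding.subtype fun x => x ∈ K)]
    refine Finset.card_le_card fun x hx => ?_
    obtain ⟨hxO, hxK⟩ := Finset.mem_filter.1 hx
    exact Finset.mem_map.2 ⟨⟨x, hxK⟩, Finset.mem_erase.2
      ⟨fun h => hO x hxO (congrArg Subtype.val h), Finset.mem_univ _⟩, rfl⟩
  rcases le_or_gt κ 1 with hκ1 | hκ1
  · calc κ * (C.q + 1) ≤ 1 * (q + 1) := Nat.mul_le_mul_right _ hκ1
      _ ≤ 1 * q ^ 2 := Nat.mul_le_mul_left _ (by nlinarith)
      _ ≤ _ := Nat.mul_le_mul_right _ (Finset.card_pos.2 ⟨K₀, hK₀⟩)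
  suffices hmain : q + 1 ≤ S.card ∨ (q ^ 2 - 1 ≤ S.card * (κ - 1) ∧ κ * κ * κ ≤ q ^ 4 ∧ 3 ≤ q) by
    rcases hmain with h | ⟨h1, h2, h3⟩
    · calc κ * (q + 1) ≤ q ^ 2 * S.card := Nat.mul_le_mul hκ2 h
        _ = _ := mul_comm _ _
    · by_contra hlt
      push Not at hlt
      obtain ⟨j, rfl⟩ : ∃ j, κ = j + 1 := ⟨κ - 1, by omega⟩
      rw [Nat.add_sub_cancel] at h1
      obtain ⟨i, hi⟩ : ∃ i, q = i + 3 := ⟨q - 3, by omega⟩
      rw [hi] at h1 h2 hlt
      rcases Nat.eq_zero_or_pos i with rfl | hi0
      · norm_num at h1 h2 hlt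
        have hj : j ≤ 3 := by
          by_contra hj
          have : 5 * 5 * 5 ≤ (j + 1) * (j + 1) * (j + 1) :=
            Nat.mul_le_mul (Nat.mul_le_mul (by omega) (by omega)) (by omega)
          omega
        interval_cases j <;> omega
      have e1 : (i + 2) * (i + 4) ≤ S.card * j := by
        refine le_trans (le_of_eq ?_) h1
        rw [eq_comm, Nat.sub_eq_iff_eq_add (Nat.one_le_pow _ _ (by omega))]
        ring
      have e2 : (i + 2) * (i + 4) * (i + 3) ^ 2 < (j + 1) * j * (i + 4) := by
        calc (i + 2) * (i + 4) * (i + 3) ^ 2 ≤ S.card * j * (i + 3) ^ 2 :=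
              Nat.mul_le_mul_right _ e1
          _ = S.card * (i + 3) ^ 2 * j := by ring
          _ < (j + 1) * (i + 4) * j := by
              refine Nat.mul_lt_mul_of_pos_right hlt ?_
              by_contra hj
              rw [Nat.le_zero.1 (not_lt.1 hj)] at e1
              nlinarith
          _ = _ := by ring
      have e3 : (i + 2) * (i + 3) ^ 2 < (j + 1) * (j + 1) := by
        have : (i + 2) * (i + 3) ^ 2 * (i + 4) < (j + 1) * (j + 1) * (i + 4) := by
          calc (i + 2) * (i + 3) ^ 2 * (i + 4) = (i + 2) * (i + 4) * (i + 3) ^ 2 := by ring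
            _ < (j + 1) * j * (i + 4) := e2
            _ ≤ _ := Nat.mul_le_mul_right _ (Nat.mul_le_mul_left _ (by omega))
        exact Nat.lt_of_mul_lt_mul_right this
      have e4 : ((i + 2) * (i + 3) ^ 2) ^ 3 < ((j + 1) * (j + 1)) ^ 3 :=
        Nat.pow_lt_pow_left e3 (by norm_num)
      have e5 : ((j + 1) * (j + 1)) ^ 3 ≤ ((i + 3) ^ 4) ^ 2 := by
        calc ((j + 1) * (j + 1)) ^ 3 = ((j + 1) * (j + 1) * (j + 1)) ^ 2 := by ring
          _ ≤ _ := Nat.pow_le_pow_left h2 2
      have e6 : (i + 3) ^ 2 ≤ (i + 2) ^ 3 := by nlinarith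
      have e7 : ((i + 3) ^ 4) ^ 2 ≤ ((i + 2) * (i + 3) ^ 2) ^ 3 := by
        calc ((i + 3) ^ 4) ^ 2 = (i + 3) ^ 2 * (i + 3) ^ 6 := by ring
          _ ≤ (i + 2) ^ 3 * (i + 3) ^ 6 := Nat.mul_le_mul_right _ e6
          _ = _ := by ring
      omega
  obtain ⟨x₀, hx₀K, hx₀⟩ : ∃ x ∈ K₀, x ≠ (0 : F × F) := by
    by_contra! h
    have : Nat.card K₀ ≤ 1 := by
      rw [Finite.card_le_one_iff_subsingleton]
      exact ⟨fun a b => Subtype.ext ((h _ a.2).trans (h _ b.2).symm)⟩
    rw [hκ K₀ hK₀] at this
    omega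
  by_cases haniso : ∃ K ∈ S, ∃ x ∈ K, hh C x x ≠ 0
  · obtain ⟨K₁, hK₁, x, hxK, hν⟩ := haniso
    obtain ⟨ν, hxν⟩ : ∃ ν, hh C x x = ν := ⟨_, rfl⟩
    rw [hxν] at hν
    let O : Finset (F × F) := Finset.univ.filter fun y => hh C y y = ν
    have hO : (q ^ 2 - 1) * q ≤ O.card := by
      obtain ⟨u, hu⟩ := C.exists_trace_one
      have hσν : C.σ ν = ν := by rw [← hxν, hh_symm]
      let f : {b : F // b ≠ 0} × C.skew → F × F := fun bs =>
        (bs.1.1, ν * u / C.σ bs.1.1 + bs.1.1 * bs.2.1)
      have hf : Function.Injective f := by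
        rintro ⟨b, s⟩ ⟨b', s'⟩ h
        obtain ⟨h1, h2⟩ := Prod.ext_iff.1 h
        obtain rfl : b = b' := Subtype.ext h1
        simp only [f, add_right_inj, mul_eq_mul_left_iff, b.2, or_false] at h2
        rw [Subtype.ext h2]
      have h := Finset.card_le_card (s := Finset.univ.image f) (t := O) (by
        intro y hy
        obtain ⟨⟨b, s⟩, -, rfl⟩ := Finset.mem_image.1 hy
        have hσb : C.σ b.1 ≠ 0 := (map_ne_zero C.σ).2 b.2
        have hs := C.skew_eq s.2
        have hb := b.2
        refine Finset.mem_filter.2 ⟨Finset.mem_univ _, ?_⟩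
        simp only [f, hh, map_add, map_div₀, map_mul, C.invol, hσν, hs]
        field_simp
        linear_combination ν * hu)
      rw [Finset.card_image_of_injective _ hf, Finset.card_univ, Fintype.card_prod,
        ← Nat.card_eq_fintype_card (α := C.skew), C.card_skew, Fintype.card_subtype_compl,
        Fintype.card_subtype_eq, C.card] at h
      exact h
    have hmem : ∀ y ∈ O, ∃ K ∈ S, y ∈ K := fun y hy =>
      hclosed.norm_class hρ hν ⟨K₁, hK₁, hxK⟩ hxν (Finset.mem_filter.1 hy).2
    have hO0 : ∀ y ∈ O, y ≠ 0 := fun y hy h => hν (by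
      rw [← (Finset.mem_filter.1 hy).2, h]; simp [hh])
    have hk : ∀ K ∈ S, (O.filter fun y => y ∈ K).card ≤ q ^ 2 - 2 := by
      intro K hK
      have h1 := hnz O hO0 K hK
      rcases lt_or_eq_of_le hκ2 with hlt | heq
      · omega
      by_contra hgt
      have hall : ∀ y ∈ K, y ≠ 0 → hh C y y = ν := by
        intro y hy hy0
        by_contra hyν
        apply hgt
        have : ((O.filter fun y => y ∈ K) ∪ {y}).card ≤ κ - 1 := by
          refine le_trans (Finset.card_le_card ?_) (hnz ((O ∪ {y})) (fun z hz => by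
            rcases Finset.mem_union.1 hz with hz | hz
            · exact hO0 z hz
            · rw [Finset.mem_singleton.1 hz]; exact hy0) K hK)
          intro z hz
          rcases Finset.mem_union.1 hz with hz | hz
          · exact Finset.mem_filter.2 ⟨Finset.mem_union_left _ (Finset.mem_filter.1 hz).1,
              (Finset.mem_filter.1 hz).2⟩
          · rw [Finset.mem_singleton.1 hz]
            exact Finset.mem_filter.2 ⟨Finset.mem_union_right _ (Finset.mem_singleton_self y), hy⟩
        have hdis : Disjoint (O.filter fun z => z ∈ K) {y} :=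
          Finset.disjoint_singleton_right.2 fun h =>
            hyν (Finset.mem_filter.1 (Finset.mem_filter.1 h).1).2
        rw [Finset.card_union_of_disjoint hdis, Finset.card_singleton, heq] at this
        omega
      -- some nonzero `y` and `z`, `z ≠ ± y`
      have pick : ∀ Z : Finset (F × F), Z.card < q ^ 2 → ∃ y ∈ K, y ∉ Z := by
        intro Z hZ
        by_contra! h
        have h2 : Nat.card K ≤ Z.card := by
          rw [← Nat.card_coe_set_eq (Z : Set (F × F)) |>.trans (Set.ncard_coe_finset Z)]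
          exact Nat.card_le_card_of_injective (fun k : K => (⟨k.1, h _ k.2⟩ : ↥(Z : Set (F × F))))
            fun a b e => Subtype.ext (congrArg Subtype.val e :)
        rw [hκ K hK, heq] at h2
        omega
      obtain ⟨y, hyK, hy⟩ := pick {0} (by rw [Finset.card_singleton]; nlinarith)
      rw [Finset.mem_singleton] at hy
      obtain ⟨z, hzK, hz⟩ := pick {0, y, -y} (lt_of_le_of_lt Finset.card_le_three (by nlinarith))
      simp only [Finset.mem_insert, Finset.mem_singleton, not_or] at hz
      have hs : y + z ≠ 0 := fun h => hz.2.2 (eq_neg_of_add_eq_zero_right h)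
      have hd : y - z ≠ 0 := fun h => hz.2.1 (sub_eq_zero.1 h).symm
      have e1 := hall _ (K.add_mem hyK hzK) hs
      have e2 := hall _ (K.sub_mem hyK hzK) hd
      rw [hh_add_left, hh_add_right, hh_add_right, hall y hyK hy, hall z hzK hz.1] at e1
      rw [sub_eq_add_neg, hh_add_left, hh_add_right, hh_add_right, hh_neg_left, hh_neg_left,
        hh_neg_right, hh_neg_right, hall y hyK hy, hall z hzK hz.1] at e2
      have h2ν : (2 : F) * ν = 0 := by linear_combination e1 + e2
      have h2 : (2 : F) = 0 := (mul_eq_zero.1 h2ν).resolve_right hν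
      rcases eq_or_lt_of_le hq2 with hq' | hq'
      · -- four elements
        obtain ⟨s, hs', hne'⟩ := ht
        refine hne' ?_
        have hiso' := hiso K hK y hyK z hzK
        have hν1 : ν = 1 := by
          obtain ⟨b, hb⟩ : ∃ b, b = ν := ⟨_, rfl⟩
          have hσν : C.σ ν = ν := by rw [← hxν, hh_symm]
          rw [C.pow, ← hq, ← hq'] at hσν
          exact mul_left_cancel₀ hν (by linear_combination hσν)
        rcases eq_or_ne s 0 with rfl | hs0
        · simp
        have hs1 : s = 1 := by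
          have h3 := C.skew_eq hs'
          rw [C.pow, ← hq, ← hq'] at h3
          exact mul_left_cancel₀ hs0 (by linear_combination h3 - s * h2)
        rw [hs1, ← hν1, show ν = comm C y z by
          rw [comm]; linear_combination -e1 + (ν + hh C z y) * h2]
        exact hiso'
      · obtain ⟨w, hwK, hw⟩ := pick {0, y, z, y + z} (lt_of_le_of_lt
          (Finset.card_le_four) (by nlinarith))
        simp only [Finset.mem_insert, Finset.mem_singleton, not_or] at hw
        have neg_eq : ∀ a : F × F, -a = a := fun a => by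
          rw [neg_eq_iff_add_eq_zero]
          exact Prod.ext (by simp only [Prod.fst_add, Prod.fst_zero]; linear_combination a.1 * h2)
            (by simp only [Prod.snd_add, Prod.snd_zero]; linear_combination a.2 * h2)
        have key : ∀ a ∈ K, a ≠ 0 → a ≠ y → hh C y a + hh C a y = ν := by
          intro a haK ha0 hay
          have h := hall _ (K.add_mem hyK haK) (fun h => hay (by
            rw [eq_neg_of_add_eq_zero_right h, neg_eq]))
          rw [hh_add_left, hh_add_right, hh_add_right, hall y hyK hy, hall a haK ha0] at h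
          linear_combination h - ν * h2
        have e3 := key w hwK hw.1 hw.2.1
        have e4 := key z hzK hz.1 hz.2.1
        have e5 := key (z + w) (K.add_mem hzK hwK)
          (fun h => hw.2.2.1 (by rw [eq_neg_of_add_eq_zero_right h, neg_eq]))
          (fun h => hw.2.2.2 (by
            rw [← h, add_comm z w, add_assoc]
            nth_rewrite 2 [← neg_eq z]
            rw [add_neg_cancel, add_zero]))
        rw [hh_add_right, hh_add_left] at e5
        exact hν (by linear_combination e5 - e3 - e4)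
    refine Or.inl ?_
    have h := hO.trans (count O _ hmem hk)
    by_contra hC
    have : S.card * (q ^ 2 - 2) ≤ q * (q ^ 2 - 2) := Nat.mul_le_mul_right _ (by omega)
    have h4 : 2 * 2 ≤ q ^ 2 := by rw [sq]; exact Nat.mul_le_mul hq2 hq2
    obtain ⟨P, hP⟩ : ∃ P, q ^ 2 = P + 2 := ⟨q ^ 2 - 2, by omega⟩
    rw [hP, Nat.add_sub_cancel, show P + 2 - 1 = P + 1 by omega] at h
    rw [hP, Nat.add_sub_cancel] at this
    nlinarith
  push Not at haniso
  obtain ⟨b₀, hb₀, hslope⟩ := hclosed.slopes hρ ⟨K₀, hK₀, hx₀K⟩ hx₀ (haniso K₀ hK₀ x₀ hx₀K)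
  by_cases hline : ∀ K ∈ S, ∀ v ∈ K, ∀ w ∈ K, hh C v w = 0
  · -- each member lies on one line
    refine Or.inl ?_
    let pt : Option C.skew → F × F := fun o =>
      o.elim (0, b₀ / C.σ ρ) fun s => (b₀, b₀ * (s : F))
    have hpt : ∀ o, ∃ K ∈ S, pt o ∈ K := by
      intro o
      cases o with
      | none =>
        have h := hclosed.swap _ (hslope 0 C.skew.zero_mem)
        simpa [pt] using h
      | some s => exact hslope s s.2
    have hinj : Function.Injective pt := by
      intro a b h
      cases a <;> cases b <;> simp [pt, hb₀, Ne.symm hb₀] at h ⊢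
      exact h
    have hpt0 : ∀ o, pt o ≠ 0 := fun o => by
      cases o <;> simp [pt, hb₀, (map_ne_zero C.σ).2 hρ]
    have h := count (Finset.univ.image pt) 1 (fun x hx => by
      obtain ⟨o, -, rfl⟩ := Finset.mem_image.1 hx; exact hpt o) fun K hK => by
      refine Finset.card_le_one.2 fun a ha b hb => ?_
      obtain ⟨o, -, rfl⟩ := Finset.mem_image.1 (Finset.mem_filter.1 ha).1
      obtain ⟨o', -, rfl⟩ := Finset.mem_image.1 (Finset.mem_filter.1 hb).1
      have h0 := hline K hK _ (Finset.mem_filter.1 ha).2 _ (Finset.mem_filter.1 hb).2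
      cases o with
      | none => cases o' with
        | none => rfl
        | some s => simp [pt, hh, hb₀, (map_ne_zero C.σ).2 hρ] at h0
      | some s => cases o' with
        | none => simp [pt, hh, hb₀, (map_ne_zero C.σ).2 hρ] at h0
        | some s' =>
          simp only [pt, Option.elim, hh, map_mul, C.skew_eq s'.2] at h0
          have e : b₀ * C.σ b₀ * ((s : F) - s') = 0 := by linear_combination h0
          rw [Subtype.ext (sub_eq_zero.1 ((mul_eq_zero.1 e).resolve_left
            (mul_ne_zero hb₀ ((map_ne_zero C.σ).2 hb₀))))]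
    rwa [Finset.card_image_of_injective _ hinj, Finset.card_univ, Fintype.card_option,
      ← Nat.card_eq_fintype_card, C.card_skew, mul_one] at h
  push Not at hline
  obtain ⟨K₁, hK₁, v, hv, w, hw, hvw⟩ := hline
  have hσρ : C.σ ρ ≠ 0 := (map_ne_zero C.σ).2 hρ
  -- the vectors reached from `(b₀, b₀ s)`
  have hstep : ∀ l : F, l * C.σ l = 1 → ∀ r ∈ C.skew,
      (∀ s ∈ C.skew, ∃ K ∈ S, (l ^ 2 * (ρ * (b₀ * r)), l ^ 2 * (ρ * (b₀ * r)) * s) ∈ K) ∧
      ∃ K ∈ S, ((0 : F), l ^ 2 * (ρ * (b₀ * r)) / C.σ ρ) ∈ K := by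
    intro l hl r hr
    have h1 := hclosed.scale _ (hclosed.swap _ (hslope r hr)) l hl
    have h2 : ∀ s ∈ C.skew, ∃ K ∈ S, (l ^ 2 * (ρ * (b₀ * r)), l ^ 2 * (ρ * (b₀ * r)) * s) ∈ K := by
      intro s hs
      rcases eq_or_ne r 0 with rfl | hr0
      · simp only [mul_zero, zero_mul]
        exact ⟨K₀, hK₀, K₀.zero_mem⟩
      have hm : b₀ / C.σ ρ / (ρ * (b₀ * r)) ∈ C.skew := by
        rw [C.mem_skew]
        simp only [map_div₀, map_mul, C.invol, C.skew_eq hr]
        have hσb : C.σ b₀ ≠ 0 := (map_ne_zero C.σ).2 hb₀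
        field_simp
        ring
      have h := hclosed.shift _ h1 _ (C.skew.sub_mem hs hm)
      obtain ⟨K, hK, hmem⟩ := h
      refine ⟨K, hK, ?_⟩
      convert hmem using 1
      refine Prod.ext (by simp) ?_
      simp only [Prod.smul_fst, Prod.smul_snd, smul_eq_mul]
      field_simp
      ring
    refine ⟨h2, ?_⟩
    have h := hclosed.swap _ (h2 0 C.skew.zero_mem)
    simpa using h
  by_cases h2 : (2 : F) = 0
  · -- characteristic two: every isotropic vector is reached
    refine Or.inl ?_
    let U := {l : F // l * C.σ l = 1}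
    let f : U × {r : C.skew // r ≠ 0} × Option C.skew → F × F := fun z =>
      z.2.2.elim ((0 : F), z.1.1 ^ 2 * (ρ * (b₀ * z.2.1.1)) / C.σ ρ) fun s =>
        (z.1.1 ^ 2 * (ρ * (b₀ * z.2.1.1)), z.1.1 ^ 2 * (ρ * (b₀ * z.2.1.1)) * (s : F))
    have hnzr : ∀ z : U × {r : C.skew // r ≠ 0}, z.1.1 ^ 2 * (ρ * (b₀ * z.2.1.1)) ≠ 0 := by
      rintro ⟨⟨l, hl⟩, r, hr⟩
      refine mul_ne_zero (pow_ne_zero 2 fun h => ?_) (mul_ne_zero hρ (mul_ne_zero hb₀ fun h => ?_))
      · dsimp only at h; rw [h, zero_mul] at hl; exact zero_ne_one hl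
      · exact hr (Subtype.ext h)
    have hf : Function.Injective f := by
      have key : ∀ z z' : U × {r : C.skew // r ≠ 0},
          z.1.1 ^ 2 * (ρ * (b₀ * z.2.1.1)) = z'.1.1 ^ 2 * (ρ * (b₀ * z'.2.1.1)) → z = z' := by
        rintro ⟨⟨l, hl⟩, ⟨r, hr⟩, hr0⟩ ⟨⟨l', hl'⟩, ⟨r', hr'⟩, hr0'⟩ h
        simp only at h
        have e : l ^ 2 * r = l' ^ 2 * r' := by
          apply mul_left_cancel₀ (mul_ne_zero hρ hb₀)
          linear_combination h
        have e' := congrArg C.σ e
        simp only [map_mul, map_pow, C.skew_eq hr, C.skew_eq hr'] at e'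
        have e2 : r ^ 2 = r' ^ 2 := by
          linear_combination (C.σ l ^ 2 * r) * e - (l' ^ 2 * r') * e' +
            (r' ^ 2 * (l' * C.σ l' + 1)) * hl' - (r ^ 2 * (l * C.σ l + 1)) * hl
        have e3 : r = r' := by
          have : (r - r') ^ 2 = 0 := by linear_combination e2 + r' * (r' - r) * h2
          exact sub_eq_zero.1 (eq_zero_of_pow_eq_zero this)
        subst e3
        have hr00 : r ≠ 0 := fun h => hr0 (Subtype.ext h)
        have e4 : (l - l') ^ 2 = 0 := by
          have := mul_right_cancel₀ hr00 e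
          linear_combination this + l' * (l' - l) * h2
        exact Prod.ext (Subtype.ext (sub_eq_zero.1 (eq_zero_of_pow_eq_zero e4))) rfl
      rintro ⟨l, r, o⟩ ⟨l', r', o'⟩ h
      cases o with
      | none =>
        cases o' with
        | none =>
          simp only [f, Option.elim, Prod.mk.injEq, true_and] at h
          obtain ⟨rfl, rfl⟩ := Prod.ext_iff.1 (key (l, r) (l', r')
            (by field_simp at h; linear_combination ρ * b₀ * h))
          rfl
        | some s =>
          simp only [f, Option.elim, Prod.mk.injEq] at h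
          exact absurd h.1.symm (hnzr (l', r'))
      | some s =>
        cases o' with
        | none =>
          simp only [f, Option.elim, Prod.mk.injEq] at h
          exact absurd h.1 (hnzr (l, r))
        | some s' =>
          simp only [f, Option.elim, Prod.mk.injEq] at h
          obtain ⟨rfl, rfl⟩ := Prod.ext_iff.1 (key (l, r) (l', r') h.1)
          rw [Subtype.ext (mul_left_cancel₀ (hnzr (l, r)) h.2)]
    have hf0 : ∀ z, f z ≠ 0 := by
      rintro ⟨l, r, o⟩ h
      cases o with
      | none =>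
        have h' := (Prod.ext_iff.1 h).2
        simp only [f, Option.elim, Prod.snd_zero] at h'
        exact div_ne_zero (hnzr (l, r)) hσρ h'
      | some s => exact hnzr (l, r) (Prod.ext_iff.1 h).1
    have h := count (Finset.univ.image f) (κ - 1) (fun x hx => by
        obtain ⟨⟨l, r, o⟩, -, rfl⟩ := Finset.mem_image.1 hx
        obtain ⟨a1, a2⟩ := hstep l.1 l.2 r.1.1 r.1.2
        cases o with
        | none => exact a2
        | some s => exact a1 s s.2)
      (fun K hK => hnz _ (fun x hx => by
        obtain ⟨z, -, rfl⟩ := Finset.mem_image.1 hx; exact hf0 z) K hK)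
    have hU : q + 1 ≤ Fintype.card U := by
      rw [← CfsgLib.Forms.card_norm_fiber C.card 1 one_ne_zero (one_pow _), Nat.card_eq_fintype_card]
      refine Fintype.card_le_of_injective (fun x => (⟨x.1, ?_⟩ : U))
        (fun a b e => Subtype.ext (congrArg (fun z : U => z.1) e))
      rw [C.pow, ← pow_succ']; exact x.2
    rw [Finset.card_image_of_injective _ hf, Finset.card_univ, Fintype.card_prod, Fintype.card_prod,
      Fintype.card_option, Fintype.card_subtype_compl, Fintype.card_subtype_eq,
      ← Nat.card_eq_fintype_card (α := C.skew), C.card_skew] at h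
    obtain ⟨i, hi⟩ : ∃ i, q = i + 2 := ⟨q - 2, by omega⟩
    rw [← hq, hi] at h
    rw [hi] at hU hκ2 ⊢
    rw [show i + 2 - 1 = i + 1 from rfl] at h
    have e1 : (i + 3) * ((i + 1) * (i + 3)) ≤ S.card * (κ - 1) :=
      le_trans (Nat.mul_le_mul hU le_rfl) h
    have e2 : S.card * (κ - 1) ≤ S.card * ((i + 1) * (i + 3)) := by
      refine Nat.mul_le_mul_left _ ?_
      have : (i + 2) ^ 2 = (i + 1) * (i + 3) + 1 := by ring
      omega
    exact Nat.le_of_mul_le_mul_right (e1.trans e2) (Nat.mul_pos (by omega) (by omega))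
  -- odd characteristic
  refine Or.inr ⟨?_, ?_, ?_⟩
  · let f : {r : C.skew // r ≠ 0} × Option C.skew → F × F := fun z =>
      z.2.elim ((0 : F), (ρ * (b₀ * z.1.1)) / C.σ ρ) fun s =>
        (ρ * (b₀ * z.1.1), ρ * (b₀ * z.1.1) * (s : F))
    have hnzr : ∀ r : {r : C.skew // r ≠ 0}, ρ * (b₀ * r.1.1) ≠ 0 := fun r =>
      mul_ne_zero hρ (mul_ne_zero hb₀ fun h => r.2 (Subtype.ext h))
    have hf : Function.Injective f := by
      rintro ⟨r, o⟩ ⟨r', o'⟩ h
      cases o with
      | none =>
        cases o' with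
        | none =>
          simp only [f, Option.elim, Prod.mk.injEq, true_and] at h
          field_simp at h
          have : r.1.1 = r'.1.1 := mul_left_cancel₀ (mul_ne_zero hρ hb₀)
            (by linear_combination ρ * b₀ * h)
          rw [Subtype.ext (Subtype.ext this)]
        | some s =>
          simp only [f, Option.elim, Prod.mk.injEq] at h
          exact absurd h.1.symm (hnzr r')
      | some s =>
        cases o' with
        | none =>
          simp only [f, Option.elim, Prod.mk.injEq] at h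
          exact absurd h.1 (hnzr r)
        | some s' =>
          simp only [f, Option.elim, Prod.mk.injEq] at h
          have : r.1.1 = r'.1.1 := mul_left_cancel₀ (mul_ne_zero hρ hb₀) (by linear_combination h.1)
          obtain rfl : r = r' := Subtype.ext (Subtype.ext this)
          rw [Subtype.ext (mul_left_cancel₀ (hnzr r) h.2)]
    have hf0 : ∀ z, f z ≠ 0 := by
      rintro ⟨r, o⟩ h
      cases o with
      | none =>
        have h' := (Prod.ext_iff.1 h).2
        simp only [f, Option.elim, Prod.snd_zero] at h'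
        exact div_ne_zero (hnzr r) hσρ h'
      | some s => exact hnzr r (Prod.ext_iff.1 h).1
    have h := count (Finset.univ.image f) (κ - 1) (fun x hx => by
        obtain ⟨⟨r, o⟩, -, rfl⟩ := Finset.mem_image.1 hx
        obtain ⟨a1, a2⟩ := hstep 1 (by simp) r.1.1 r.1.2
        simp only [one_pow, one_mul] at a1 a2
        cases o with
        | none => exact a2
        | some s => exact a1 s s.2)
      (fun K hK => hnz _ (fun x hx => by
        obtain ⟨z, -, rfl⟩ := Finset.mem_image.1 hx; exact hf0 z) K hK)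
    rw [Finset.card_image_of_injective _ hf, Finset.card_univ, Fintype.card_prod,
      Fintype.card_option, Fintype.card_subtype_compl, Fintype.card_subtype_eq,
      ← Nat.card_eq_fintype_card (α := C.skew), C.card_skew, mul_comm,
      ← Nat.mul_self_sub_mul_self_eq, one_mul, ← sq] at h
    exact h
  · -- a second copy orthogonal to the first
    obtain ⟨d, hd, hd0⟩ : ∃ d ∈ C.skew, d ≠ 0 := by
      by_contra! h
      have h1 : Nat.card C.skew ≤ 1 := by
        rw [Finite.card_le_one_iff_subsingleton]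
        exact ⟨fun a b => Subtype.ext ((h _ a.2).trans (h _ b.2).symm)⟩
      rw [C.card_skew] at h1
      omega
    have hv0 : v ≠ 0 := fun h => hvw (by rw [h]; simp [hh])
    -- values are skew
    have hskew : ∀ a ∈ K₁, ∀ b ∈ K₁, hh C a b + hh C b a = 0 := by
      intro a ha b hb
      have h := haniso K₁ hK₁ _ (K₁.add_mem ha hb)
      rw [hh_add_left, hh_add_right, hh_add_right, haniso K₁ hK₁ a ha, haniso K₁ hK₁ b hb] at h
      linear_combination h
    let f : K₁ × K₁ → F × F := fun z => (z.1 : F × F) + d • (z.2 : F × F)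
    let M : AddSubgroup (F × F) :=
      { carrier := Set.range f
        zero_mem' := ⟨0, by simp [f]⟩
        add_mem' := by
          rintro _ _ ⟨a, rfl⟩ ⟨b, rfl⟩
          exact ⟨a + b, by simp only [f, Prod.fst_add, Prod.snd_add, AddSubgroup.coe_add]; module⟩
        neg_mem' := by
          rintro _ ⟨a, rfl⟩
          exact ⟨-a, by simp only [f, Prod.fst_neg, Prod.snd_neg, AddSubgroup.coe_neg]; module⟩ }
    have hf : Function.Injective f := by
      rintro ⟨a, b⟩ ⟨a', b'⟩ h
      simp only [f] at h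
      have e : ((a - a' : K₁) : F × F) = d • ((b' - b : K₁) : F × F) := by
        simp only [AddSubgroup.coe_sub, smul_sub]
        rw [sub_eq_sub_iff_add_eq_add]
        exact h.trans (add_comm _ _)
      have hz : ∀ y ∈ K₁, hh C ((a - a' : K₁) : F × F) y = 0 := by
        intro y hy
        have h1 := hskew _ (a - a' : K₁).2 y hy
        have h2' := hskew _ (b' - b : K₁).2 y hy
        rw [e, hh_smul_left, hh_smul_right, C.skew_eq hd] at h1
        have h3 : (2 : F) * (d * hh C ((b' - b : K₁) : F × F) y) = 0 := by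
          linear_combination h1 + d * h2'
        rw [e, hh_smul_left]
        exact (mul_eq_zero.1 h3).resolve_left h2
      have ha : ((a - a' : K₁) : F × F) = 0 := by
        obtain ⟨c, hc⟩ := isotropic_prop hv0 (haniso K₁ hK₁ v hv) (haniso K₁ hK₁ _ (a - a' : K₁).2)
          (by rw [← hh_symm, hz v hv, map_zero])
        have := hz w hw
        rw [hc, hh_smul_left] at this
        rw [hc, (mul_eq_zero.1 this).resolve_right hvw, zero_smul]
      have hb : ((b' - b : K₁) : F × F) = 0 := by
        rw [ha] at e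
        exact (smul_eq_zero.1 e.symm).resolve_left hd0
      exact Prod.ext (sub_eq_zero.1 (Subtype.ext ha)) (sub_eq_zero.1 (Subtype.ext hb)).symm
    have hMc : Nat.card M = κ * κ := by
      have := Nat.card_range_of_injective hf
      rw [Nat.card_prod, hκ K₁ hK₁] at this
      exact this
    have h := card_isotropic_mul ht (K := K₁) (M := M) (by
      rintro _ ⟨⟨a, b⟩, rfl⟩ y hy
      have h1 := hiso K₁ hK₁ _ a.2 y hy
      have h2' := hskew _ b.2 y hy
      have e : comm C (f (a, b)) y = comm C a y := by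
        simp only [f, comm, hh_add_left, hh_add_right, hh_smul_left, hh_smul_right, C.skew_eq hd]
        linear_combination d * h2'
      rw [e]; exact h1)
    rwa [hMc, hκ K₁ hK₁] at h
  · by_contra hq'
    have hq'' : q = 2 := by omega
    have h' : ringChar F = 2 := FiniteField.even_card_iff_char_two.2 (by rw [C.card, ← hq, hq'']; norm_num)
    have := ringChar.of_eq h'
    exact h2 CharTwo.two_eq_zero

end CfsgLib.MinDegree.UFour
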