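import Cfsg.Agent.MinDegree.UThreeSmall

/-!
# A proper subgroup of `SU(3,q)`, `q ≥ 3`, has index above `q^3`, unless `q = 5`, where it is at least 50
-/

set_option autoImplicit false
set_option linter.unusedSectionVars false

namespace CfsgLib.MinDegree.UThreeIndex

open Matrix CfsgLib.RepBounds.Unit CfsgLib.DicksonPSL2 CfsgLib.SL2Trace
open scoped MatrixGroups

variable {F : Type*} [Field F] [Fintype F] (C : ConjField F) {H : Subgroup (GG C)}

theorem card_units_F : Nat.card Fˣ = C.q ^ 2 - 1 := by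
  rw [Nat.card_units, Nat.card_eq_fintype_card, C.card]

theorem pow_card_sub_one (a : Fˣ) : (a : F) ^ (C.q ^ 2 - 1) = 1 := by
  rw [← C.card]; exact FiniteField.pow_card_sub_one_eq_one (a : F) a.ne_zero

theorem sigma_ne {a : Fˣ} : C.σ (a : F) ≠ 0 := (map_ne_zero C.σ).2 a.ne_zero

theorem norm_pow (a : Fˣ) : (a : F) * C.σ (a : F) = (a : F) ^ (C.q + 1) := by
  rw [C.pow, pow_succ, mul_comm]

theorem card_normOne_le : Nat.card (normOne C) ≤ C.q + 1 :=
  Nat.le_of_dvd (Nat.succ_pos _) (card_dvd_of_pow fun a ha => by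
    rw [← norm_pow]; exact ha)

theorem cj_borel_mem {g : GG C} (hg : g ∈ borel C) {x : GG C} :
    g * x * g⁻¹ ∈ borel C ↔ x ∈ borel C :=
  ⟨fun h => by
    have := (borel C).mul_mem ((borel C).mul_mem ((borel C).inv_mem hg) h) hg
    rwa [show g⁻¹ * (g * x * g⁻¹) * g = x by group] at this,
  fun h => (borel C).mul_mem ((borel C).mul_mem hg h) ((borel C).inv_mem hg)⟩

theorem eig_conj {g x : GG C} (hg : g ∈ borel C) (hx : x ∈ borel C) :
    eig C (g * x * g⁻¹) = eig C x := by
  have h : eigHom C (⟨g, hg⟩ * ⟨x, hx⟩ * (⟨g, hg⟩ : borel C)⁻¹) = eigHom C ⟨x, hx⟩ := by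
    rw [map_mul, map_mul, map_inv, mul_right_comm, mul_inv_cancel, one_mul]
  exact congrArg Units.val h

theorem eSub_cj {g : GG C} (hg : g ∈ borel C) : eSub C (cj C H g) = eSub C H := by
  ext a
  rw [mem_eSub, mem_eSub]
  constructor
  · rintro ⟨x, hx, hxB, he⟩
    exact ⟨g * x * g⁻¹, hx, (cj_borel_mem C hg).2 hxB, by rw [eig_conj C hg hxB, he]⟩
  · rintro ⟨x, hx, hxB, he⟩
    have hgi := (borel C).inv_mem hg
    refine ⟨g⁻¹ * x * g⁻¹⁻¹, ?_, (cj_borel_mem C hgi).2 hxB, by rw [eig_conj C hgi hxB, he]⟩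
    rw [mem_cj]
    convert hx using 1
    group

theorem zSub_cj {g : GG C} (hg : g ∈ borel C) (hz : zSub C H = ⊥) : zSub C (cj C H g) = ⊥ := by
  rw [eq_bot_iff]
  intro d hd
  obtain ⟨e, he, he'⟩ := borel_conj_central C hg d
  have hm : e ∈ zSub C H := by rw [mem_zSub, ← he]; exact hd
  rw [hz, AddSubgroup.mem_bot] at hm
  rw [AddSubgroup.mem_bot]
  rw [hm, ZeroMemClass.coe_zero, eq_comm, mul_eq_zero, mul_eq_zero, map_eq_zero, or_self,
    or_iff_right (eig_ne_zero C hg)] at he'
  exact Subtype.ext he'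

theorem lam_eq_one {a : F} (ha : a ≠ 0) (h : lam C a = 1) :
    C.σ a * C.σ a = a ∧ a * a * a = 1 := by
  have h1 : C.σ a * C.σ a = a := (div_eq_one_iff_eq ha).1 h
  have h2 : a * a = C.σ a := by
    have := congrArg C.σ h1
    rwa [map_mul, C.invol] at this
  refine ⟨h1, mul_left_cancel₀ ha ?_⟩
  rw [mul_one]
  calc a * (a * a * a) = (a * a) * (a * a) := by ring
    _ = a := by rw [h2, h1]

/-- A `p'`-subgroup of `PSL(2,q)` has at most `max (q+1) 60` elements. -/
theorem card_chord_le {p : ℕ} [Fact p.Prime] [CharP F p] (hp2 : p ≠ 2)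
    (Y : Subgroup PSL(2, fixF C)) (hp : ¬ p ∣ Nat.card Y) :
    Nat.card Y ≤ C.q + 1 ∨ Nat.card Y = 12 ∨ Nat.card Y = 24 ∨ Nat.card Y = 60 := by
  classical
  have := fixF_charP C (p := p)
  have hq := C.two_le
  rcases coprime_case p hp with rfl | ⟨x, hx, hle⟩ | ⟨h, -, -⟩ | ⟨h, -, -⟩ | ⟨h, -, -⟩
  · left; rw [Subgroup.card_bot]; omega
  · left
    obtain ⟨k, hk, hY⟩ := cyclic_or_dihedral hx hle
    have hk1 := Nat.le_of_dvd Nat.card_pos hk
    have hcardF : Fintype.card (fixF C) = C.q := by rw [← Nat.card_eq_fintype_card, card_fixF]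
    have hodd : Odd C.q := by
      rw [← hcardF, Nat.odd_iff]
      exact FiniteField.odd_card_of_char_ne_two (by rw [ringChar.eq (fixF C) p]; exact hp2)
    have hgcd : Nat.gcd 2 (Fintype.card (fixF C) - 1) = 2 := by
      rw [hcardF]
      exact Nat.gcd_eq_left (even_iff_two_dvd.1 (Nat.Odd.sub_odd hodd odd_one))
    have ht : 2 * Nat.card (torus x) ≤ C.q + 1 := by
      have h := card_torus hx
      rw [hgcd, hcardF] at h
      omega
    rcases hY with ⟨-, -, h⟩ | ⟨h, -⟩ <;> omega
  · exact Or.inr (Or.inl h)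
  · exact Or.inr (Or.inr (Or.inl h))
  · exact Or.inr (Or.inr (Or.inr h))

/-- In odd characteristic a transitive `H` without transvections cuts out a small Dickson group. -/
theorem chord_bound {p : ℕ} [Fact p.Prime] [CharP F p] (hp2 : p ≠ 2) (hodd : Odd C.q)
    (ht : IsTrans C H) (hz : zSub C H = ⊥) :
    (-1 : Fˣ) ∈ eSub C H ∧ ∃ Y, (C.q + 1) * Nat.card (eSub C H) ≤
        Nat.card ↥(eSub C H ⊓ normOne C) * (2 * Y) ∧
      (Y ≤ C.q + 1 ∨ Y = 12 ∨ Y = 24 ∨ Y = 60) ∧ (5 ∣ Y → 5 ∣ Nat.card H) := by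
  have hp : p.Prime := Fact.out
  have h2 : (2 : F) ≠ 0 := fun h => hp2 ((Nat.prime_dvd_prime_iff_eq hp Nat.prime_two).1
    ((CharP.cast_eq_zero_iff F p 2).1 (by exact_mod_cast h)))
  obtain ⟨hneg, g, hg, hD⟩ := exists_dd C h2 hodd ht
  obtain ⟨Y, hY, hle, -, hdvd⟩ :=
    exists_chord_subgroup C hp2 hD (zSub_cj C hg hz) (isTrans_cj C ht g)
  rw [eSub_cj C hg] at hle
  refine ⟨hneg, Nat.card Y, hle, card_chord_le C hp2 Y hY, fun h5 => ?_⟩
  have h := hdvd 5 Nat.prime_five h5
  have e : Nat.card (cj C H g) = Nat.card H := by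
    have h1 := (cj C H g).card_mul_index
    rw [index_cj, ← H.card_mul_index] at h1
    exact Nat.eq_of_mul_eq_mul_right (Nat.pos_of_ne_zero H.index_ne_zero_of_finite) h1
  rw [e] at h
  exact ((Nat.prime_five).dvd_mul.1 h).resolve_left (by norm_num)

/-- Regular point stabilisers, `p = 2`: the two fixed points of a stabiliser would be swapped. -/
theorem torus_even (h2 : (2 : F) = 0) (hq : 3 ≤ C.q) (ht : IsTrans C H) (hU : H ⊓ radU C = ⊥)
    (hcard : Nat.card (H.subgroupOf (borel C)) = C.q ^ 2 - 1) : False := by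
  classical
  set K := H.subgroupOf (borel C) with hK
  set f := (eigHom C).comp K.subtype with hf
  have hinj : Function.Injective f := by
    rw [← MonoidHom.ker_eq_bot_iff, eq_bot_iff]
    intro x hx
    have h : (x.1 : GG C) ∈ H ⊓ radU C :=
      ⟨x.2, (mem_radU_iff C x.1.2).2 (congrArg Units.val (MonoidHom.mem_ker.1 hx))⟩
    rw [hU, Subgroup.mem_bot] at h
    exact Subgroup.mem_bot.2 (Subtype.ext (Subtype.ext h))
  have hsurj : Function.Surjective f :=
    ((Nat.bijective_iff_injective_and_card f).2 ⟨hinj, hcard.trans (card_units_F C).symm⟩).2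
  obtain ⟨a, ha⟩ := IsCyclic.exists_generator (α := Fˣ)
  obtain ⟨g, hga⟩ := hsurj a
  obtain ⟨a', x, ha', hax⟩ := exists_tt_uu C g.1.2
  obtain rfl : a' = a := Units.ext (by rw [ha', ← hga]; rfl)
  have hord : orderOf a' = C.q ^ 2 - 1 := by
    rw [orderOf_eq_card_of_forall_mem_zpowers ha, card_units_F C]
  have hq2 : C.q + 1 < C.q ^ 2 - 1 ∧ 3 < C.q ^ 2 - 1 := by
    have h9 : 3 * C.q ≤ C.q ^ 2 := by rw [sq]; exact Nat.mul_le_mul_right _ hq
    omega
  have ha0 := a'.ne_zero
  have hσ0 := sigma_ne C (a := a')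
  have hN : (a' : F) * C.σ a' ≠ 1 := by
    rw [norm_pow]
    intro h
    have := Nat.le_of_dvd (by omega) (orderOf_dvd_of_pow_eq_one
      (show a' ^ (C.q + 1) = 1 from Units.ext (by rw [Units.val_pow_eq_pow_val, h, Units.val_one])))
    omega
  have hlam : lam C (a' : F) ≠ 1 := by
    intro h
    have h3 := (lam_eq_one C ha0 h).2
    have := Nat.le_of_dvd (by omega) (orderOf_dvd_of_pow_eq_one (show a' ^ 3 = 1 from Units.ext (by
      rw [Units.val_pow_eq_pow_val, Units.val_one]; linear_combination h3)))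
    omega
  set l := lam C (a' : F) with hl
  have hl' : C.σ (a' : F) * C.σ a' = l * a' := (div_mul_cancel₀ _ ha0).symm
  have hl1 : 1 - l ≠ 0 := sub_ne_zero.2 (Ne.symm hlam)
  have hN1 : 1 - (a' : F) * C.σ a' ≠ 0 := sub_ne_zero.2 (Ne.symm hN)
  set w := l * x.1.1 / (1 - l) with hw
  set c := (a' : F) * C.σ a' * (x.1.2 - w * C.σ x.1.1) / (1 - a' * C.σ a') with hc
  have hw' : l * (w + x.1.1) = w := by rw [hw]; field_simp; ring
  have hc' : (a' : F) * C.σ a' * (c + x.1.2 - w * C.σ x.1.1) = c := by rw [hc]; field_simp; ring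
  have happ : ∀ z y, app C g.1.1 (vec C z y 1) = vec C ((a' : F) * (z + x.1.2 - y * C.σ x.1.1))
      (C.σ (a' : F) / a' * (y + x.1.1)) (C.σ (a' : F))⁻¹ := fun z y => by
    rw [hax, app_mul, app_uu, app_tt, one_mul, one_mul, mul_one]
  have heig : app C g.1.1 (vec C c w 1) = (C.σ (a' : F))⁻¹ • vec C c w 1 := by
    rw [happ, smul_vec, vec_eq_iff, mul_one]
    refine ⟨?_, ?_, rfl⟩
    · field_simp
      linear_combination hc'
    · field_simp
      linear_combination (a' : F) * hw' + (w + x.1.1) * hl'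
  have hval : c + C.σ c + w * C.σ w = 0 := by
    have h := herm_app C g.1.1 (vec C c w 1) (vec C c w 1)
    rw [heig, herm_smul_left, herm_smul_right, herm_vec, map_inv₀, C.invol, map_one] at h
    field_simp at h
    have : (c + C.σ c + w * C.σ w) * (1 - (a' : F) * C.σ a') = 0 := by linear_combination h
    exact (mul_eq_zero.1 this).resolve_right hN1
  set y₀ := pt C (some ⟨(w, c), hval⟩) with hy₀
  have hy₀g : g.1.1 • y₀ = y₀ := (smul_mk_eq_iff C).2 ⟨_, by rw [vec_pt]; exact heig⟩
  have hne : y₀ ≠ base C := fun h => nomatch pt_injective C (a₁ := some _) (a₂ := none) h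
  have hfixg : ∀ y, g.1.1 • y = y → y = base C ∨ y = y₀ := by
    intro y hy
    obtain ⟨_ | z, rfl⟩ := pt_surjective C y
    · exact Or.inl rfl
    right
    obtain ⟨b, hb⟩ := (smul_mk_eq_iff C).1 hy
    rw [vec_pt, happ, smul_vec, vec_eq_iff, mul_one] at hb
    obtain ⟨h1, h2', h3⟩ := hb
    rw [← h3] at h1 h2'
    field_simp at h1 h2'
    have e1 : z.1.1 = w := by
      have : (z.1.1 - w) * ((a' : F) * (1 - l)) = 0 := by
        linear_combination (-1 : F) * h2' + (a' : F) * hw' + (z.1.1 + x.1.1) * hl'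
      exact sub_eq_zero.1 ((mul_eq_zero.1 this).resolve_right (mul_ne_zero ha0 hl1))
    have e2 : z.1.2 = c := by
      rw [e1] at h1
      have : (z.1.2 - c) * (1 - (a' : F) * C.σ a') = 0 := by linear_combination hc' - h1
      exact sub_eq_zero.1 ((mul_eq_zero.1 this).resolve_right hN1)
    exact congrArg (fun t => pt C (some t)) (Subtype.ext (Prod.ext e1 e2))
  -- the stabilisers of the two points agree
  have hA : ∀ s : GG C, s ∈ H → s ∈ borel C → s • y₀ = y₀ := by
    intro s hs hsB
    obtain ⟨n, hn⟩ := ha (f ⟨⟨s, hsB⟩, hs⟩)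
    have he : (⟨⟨s, hsB⟩, hs⟩ : K) = g ^ n := hinj (by rw [map_zpow, hga]; exact hn.symm)
    have hs' : s = g.1.1 ^ n := congrArg (fun t : K => (t.1 : GG C)) he
    rw [hs']
    exact (MulAction.stabilizer (GG C) y₀).zpow_mem hy₀g n
  obtain ⟨k, hk, hky⟩ := ht y₀
  have hst : ∀ s : GG C, s ∈ H → s • y₀ = y₀ → s ∈ borel C := by
    intro s hs hsy
    have hm : k⁻¹ * s * k ∈ borel C := by
      rw [← smul_base_iff, mul_smul, mul_smul, hky, hsy, ← hky, inv_smul_smul]
    let conjA : K → K := fun t => ⟨⟨k⁻¹ * t.1.1 * k, by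
      rw [← smul_base_iff, mul_smul, mul_smul, hky, show t.1.1 • y₀ = y₀ from hA _ t.2 t.1.2, ← hky,
        inv_smul_smul]⟩,
      H.mul_mem (H.mul_mem (H.inv_mem hk) t.2) hk⟩
    have hci : Function.Injective conjA := fun t t' h => by
      have h' : k⁻¹ * t.1.1 * k = k⁻¹ * t'.1.1 * k := congrArg (fun u : K => (u.1 : GG C)) h
      exact Subtype.ext (Subtype.ext (mul_left_cancel (mul_right_cancel h')))
    obtain ⟨t, htt⟩ := Finite.surjective_of_injective hci
      ⟨⟨_, hm⟩, H.mul_mem (H.mul_mem (H.inv_mem hk) hs) hk⟩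
    have h' : k⁻¹ * t.1.1 * k = k⁻¹ * s * k := congrArg (fun u : K => (u.1 : GG C)) htt
    rw [← mul_left_cancel (mul_right_cancel h')]
    exact t.1.2
  have hswap : k • y₀ = base C := by
    have h1 : g.1.1 • (k • y₀) = k • y₀ := by
      have hg' : k⁻¹ * g.1.1 * k ∈ borel C := by
        rw [← smul_base_iff, mul_smul, mul_smul, hky, hy₀g, ← hky, inv_smul_smul]
      have h := hA _ (H.mul_mem (H.mul_mem (H.inv_mem hk) g.2) hk) hg'
      rwa [mul_smul, mul_smul, inv_smul_eq_iff] at h
    rcases hfixg _ h1 with h | h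
    · exact h
    · exfalso
      rw [← hky, smul_left_cancel_iff, hky] at h
      exact hne h
  have heven : Even C.q := by
    obtain ⟨p, a, hp, hpc, hqa, ha1⟩ := exists_prime C
    have : p = 2 := (Nat.prime_dvd_prime_iff_eq hp Nat.prime_two).1
      ((CharP.cast_eq_zero_iff F p 2).1 (by exact_mod_cast h2))
    rw [hqa, this]
    exact (Nat.even_pow.2 ⟨even_two, by omega⟩)
  obtain ⟨j, hj⟩ : Odd (orderOf k) := by
    refine Odd.of_dvd_nat ?_ (show orderOf k ∣ Nat.card H by
      have h := orderOf_dvd_natCard (⟨k, hk⟩ : H)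
      rwa [Subgroup.orderOf_mk] at h)
    rw [card_eq_of_trans C ht, hcard]
    exact Odd.mul ((Nat.even_pow.2 ⟨heven, by norm_num⟩).add_one)
      (Nat.Even.sub_odd (Nat.one_le_pow _ _ (by omega)) (Nat.even_pow.2 ⟨heven, by norm_num⟩) odd_one)
  have hpow : k ^ (2 * j) • base C = base C := by
    induction j with
    | zero => simp
    | succ j ih =>
      have : ∀ j : ℕ, k ^ (2 * j) • base C = base C := fun j => by
        induction j with
        | zero => simp
        | succ j ih =>
          rw [show 2 * (j + 1) = 2 * j + 1 + 1 by ring, pow_succ', pow_succ', mul_smul, mul_smul, ih,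
            hky, hswap]
      exact this _
  apply hne
  have h := congrArg (fun t : GG C => t • base C) (pow_orderOf_eq_one k)
  simp only [hj, pow_succ', mul_smul, one_smul, hpow, hky] at h
  exact h

/-- Point stabilisers of order prime to `p`. -/
theorem case_zero (hq : 3 ≤ C.q) (hidx : H.index ≤ C.q ^ 3) (ht : IsTrans C H)
    (hU : H ⊓ radU C = ⊥) (hcard : Nat.card (H.subgroupOf (borel C)) = C.q ^ 2 - 1) :
    C.q = 5 ∧ 50 ≤ H.index := by
  classical
  obtain ⟨p, a, hp, hpc, hqa, ha1⟩ := exists_prime C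
  have : Fact p.Prime := ⟨hp⟩
  have h9 : 3 * C.q ≤ C.q ^ 2 := by rw [sq]; exact Nat.mul_le_mul_right _ hq
  by_cases hp2 : p = 2
  · subst hp2
    exact (torus_even C (by exact_mod_cast CharP.cast_eq_zero F 2) hq ht hU hcard).elim
  have hodd : Odd C.q := hqa ▸ (hp.odd_of_ne_two hp2).pow
  have h := card_inter_radU C H
  rw [hU, Subgroup.card_bot, eq_comm, mul_eq_one] at h
  obtain ⟨hz1, hk1⟩ := h
  have hz : zSub C H = ⊥ := (zSub C H).eq_bot_of_card_le hz1.le
  have he : Nat.card (eSub C H) = C.q ^ 2 - 1 := by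
    have h' := card_inter C H
    rw [hcard, hz1, hk1, one_mul, one_mul] at h'
    exact h'.symm
  obtain ⟨-, Y, hle, hY, -⟩ := chord_bound C hp2 hodd ht hz
  rw [he] at hle
  have hm := (Subgroup.card_le_of_le (inf_le_right : eSub C H ⊓ normOne C ≤ normOne C)).trans
    (card_normOne_le C)
  have hb : C.q ^ 2 - 1 ≤ 2 * Y :=
    Nat.le_of_mul_le_mul_left (hle.trans (Nat.mul_le_mul_right _ hm)) (Nat.succ_pos _)
  have hq11 : C.q ≤ 11 := by
    by_contra hlt
    have : 12 * C.q ≤ C.q ^ 2 := by rw [sq]; exact Nat.mul_le_mul_right _ (by omega)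
    omega
  have hH := card_eq_of_trans C ht
  rw [hcard] at hH
  obtain ⟨i, hi⟩ := hodd
  have hcases : C.q = 3 ∨ C.q = 5 ∨ C.q = 7 ∨ C.q = 9 ∨ C.q = 11 := by omega
  rcases hcases with h | h | h | h | h
  · exact (sylow_contra C (r := 7) (i := 5) (O := 1) h (by norm_num) (by norm_num) (by norm_num)
      (by rw [hH, h]; norm_num) (by norm_num) one_ne_zero (by decide +kernel)).elim
  · refine ⟨h, ?_⟩
    have h' := index_mul_inter C ht
    rw [hcard, h] at h'
    norm_num [-Nat.card_eq_fintype_card] at h'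
    omega
  · exact (sylow_contra C (r := 43) (i := 7) (O := 3) h (by norm_num) (by norm_num) (by norm_num)
      (by rw [hH, h]; norm_num) (by norm_num) (by norm_num) (by decide +kernel)).elim
  · exact (sylow_contra C (r := 73) (i := 5) (O := 25) h (by norm_num) (by norm_num) (by norm_num)
      (by rw [hH, h]; norm_num) (by norm_num) (by norm_num) (by decide +kernel)).elim
  · exact (sylow_contra C (r := 37) (i := 5) (O := 135) h (by norm_num) (by norm_num) (by norm_num)
      (by rw [hH, h]; norm_num) (by norm_num) (by norm_num) (by decide +kernel)).elim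

/-- No transvections, but a non-trivial radical part. -/
theorem case_one (hq : 3 ≤ C.q) (hidx : H.index ≤ C.q ^ 3) (ht : IsTrans C H)
    (hz : zSub C H = ⊥) (hk : kSub C H ≠ ⊥) : C.q = 5 ∧ 50 ≤ H.index := by
  classical
  obtain ⟨p, a, hp, hpc, hqa, ha1⟩ := exists_prime C
  have : Fact p.Prime := ⟨hp⟩
  have hz1 : Nat.card (zSub C H) = 1 := by rw [hz, AddSubgroup.card_bot]
  obtain ⟨⟨w₀, hw₀⟩, hw0'⟩ := (AddSubgroup.ne_bot_iff_exists_ne_zero).1 hk
  have hw0 : w₀ ≠ 0 := fun h => hw0' (Subtype.ext h)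
  have hσw : C.σ w₀ ≠ 0 := (map_ne_zero C.σ).2 hw0
  have h2 : (2 : F) ≠ 0 := by
    intro h2
    obtain ⟨d, hd, hd'⟩ := square_mem C h2 hw₀
    rw [hz, AddSubgroup.mem_bot] at hd
    rw [hd, ZeroMemClass.coe_zero, eq_comm] at hd'
    exact hw0 (norm_eq_zero C hd')
  have hp2 : p ≠ 2 := by
    rintro rfl
    exact h2 (by exact_mod_cast CharP.cast_eq_zero F 2)
  have hodd : Odd C.q := hqa ▸ (hp.odd_of_ne_two hp2).pow
  have hcomm : ∀ y ∈ kSub C H, y * C.σ w₀ = w₀ * C.σ y := by
    intro y hy
    obtain ⟨d, hd, hd'⟩ := comm_mem C hw₀ hy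
    rw [hz, AddSubgroup.mem_bot] at hd
    rw [hd, ZeroMemClass.coe_zero] at hd'
    linear_combination hd'
  have hline : ∀ y ∈ kSub C H, y / w₀ ∈ fixF C := by
    intro y hy
    show C.σ (y / w₀) = y / w₀
    rw [map_div₀, div_eq_div_iff hσw hw0]
    linear_combination -(hcomm y hy)
  have hkle : Nat.card (kSub C H) ≤ C.q := by
    rw [← card_fixF C]
    refine Nat.card_le_card_of_injective (fun y => ⟨(y : F) / w₀, hline y y.2⟩) fun y y' h => ?_
    have h' := congrArg Subtype.val h
    exact Subtype.ext ((div_left_inj' hw0).1 h')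
  have hE : ∀ b ∈ eSub C H, (b : F) ^ (3 * (C.q - 1)) = 1 := by
    intro b hb
    have hreal := hline _ (lam_mul_mem C hb hw₀)
    rw [mul_div_cancel_right₀ _ hw0] at hreal
    have hreal' : C.σ (lam C (b : F)) = lam C (b : F) := hreal
    have hb0 := b.ne_zero
    have hb1 := sigma_ne C (a := b)
    rw [lam, map_div₀, map_mul, C.invol, div_eq_div_iff hb1 hb0] at hreal'
    have h3 : (b : F) ^ (3 * C.q) = (b : F) ^ 3 := by
      rw [mul_comm, pow_mul, ← C.pow]
      linear_combination -hreal'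
    rw [show 3 * C.q = 3 * (C.q - 1) + 3 by omega, pow_add] at h3
    exact (mul_eq_right₀ (pow_ne_zero 3 hb0)).1 h3
  have hdE : Nat.card (eSub C H) ∣ 3 * (C.q - 1) := card_dvd_of_pow hE
  have hdU : Nat.card (eSub C H) ∣ C.q ^ 2 - 1 := card_dvd_of_pow fun b _ => pow_card_sub_one C b
  have hβ := card_inter C H
  rw [hz1, one_mul] at hβ
  have hge := le_card_inter C H hidx
  rw [hβ] at hge
  have hsq : C.q * C.q = C.q ^ 2 := (sq C.q).symm
  have hq1 : C.q * (C.q - 1) = C.q ^ 2 - C.q := by rw [Nat.mul_sub_one, hsq]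
  have hqsq : C.q ≤ C.q ^ 2 := by rw [← hsq]; exact Nat.le_mul_self _
  -- `3 ∣ q + 1`
  have h3 : 3 ∣ C.q + 1 := by
    by_contra h3
    have hd : Nat.card (eSub C H) ∣ C.q - 1 := by
      have hfac : C.q ^ 2 - 1 = (C.q - 1) * (C.q + 1) := by
        rw [mul_comm, ← Nat.sq_sub_sq, one_pow]
      have hg := Nat.dvd_gcd hdE (hfac ▸ hdU)
      rw [mul_comm 3, Nat.gcd_mul_left] at hg
      rwa [((Nat.prime_three.coprime_iff_not_dvd).2 h3).gcd_eq_one, mul_one] at hg
    have := Nat.mul_le_mul hkle (Nat.le_of_dvd (by omega) hd)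
    omega
  have hEle : Nat.card (eSub C H) ≤ 3 * (C.q - 1) := Nat.le_of_dvd (by omega) hdE
  have hp3 : p ≠ 3 := by
    rintro rfl
    have h' : 3 ∣ C.q := hqa ▸ dvd_pow_self 3 (by omega)
    omega
  have hp5 : 5 ≤ p := by
    have := hp.two_le
    by_contra hlt
    have h4 : p = 4 := by omega
    subst h4
    norm_num [-Nat.card_eq_fintype_card] at hp
  have hkq : Nat.card (kSub C H) = C.q := by
    refine le_antisymm hkle ?_
    have hd : Nat.card (kSub C H) ∣ p ^ (2 * a) := by
      rw [mul_comm, pow_mul, ← hqa, ← C.card, ← Nat.card_eq_fintype_card]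
      exact AddSubgroup.card_addSubgroup_dvd_card _
    obtain ⟨i, -, hi⟩ := (Nat.dvd_prime_pow hp).1 hd
    by_contra hlt
    rw [not_le, hi, hqa, Nat.pow_lt_pow_iff_right hp.one_lt] at hlt
    have h5 : 5 * Nat.card (kSub C H) ≤ C.q := by
      rw [hi, hqa]
      refine le_trans (Nat.mul_le_mul_right _ hp5) ?_
      rw [← pow_succ']
      exact Nat.pow_le_pow_right hp.pos hlt
    have h' := Nat.mul_le_mul h5 hEle
    have h'' : 5 * (C.q ^ 2 - 1) ≤ 3 * (C.q ^ 2 - C.q) := by
      calc 5 * (C.q ^ 2 - 1) ≤ 5 * Nat.card (kSub C H) * Nat.card (eSub C H) := by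
            rw [mul_assoc]; exact Nat.mul_le_mul_left 5 hge
        _ ≤ C.q * (3 * (C.q - 1)) := h'
        _ = 3 * (C.q ^ 2 - C.q) := by rw [mul_left_comm, hq1]
    omega
  rw [hkq] at hβ hge
  obtain ⟨k, hkE⟩ := hdE
  have hEge : C.q ≤ Nat.card (eSub C H) := by
    by_contra hlt
    have := Nat.mul_le_mul_left C.q (show Nat.card (eSub C H) ≤ C.q - 1 by omega)
    omega
  have hk12 : k = 1 ∨ k = 2 := by
    rcases k with _ | _ | _ | k
    · omega
    · exact Or.inl rfl
    · exact Or.inr rfl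
    · have := Nat.mul_le_mul_right (k + 3) hEge
      rw [← hkE, mul_add] at this
      omega
  have hidxeq := index_mul_inter C ht
  rw [hβ] at hidxeq
  by_cases h5 : C.q = 5
  · refine ⟨h5, ?_⟩
    rw [h5] at hkE hidxeq
    rcases hk12 with rfl | rfl
    · rw [show Nat.card (eSub C H) = 12 by omega] at hidxeq
      norm_num [-Nat.card_eq_fintype_card] at hidxeq
      omega
    · rw [show Nat.card (eSub C H) = 6 by omega] at hidxeq
      norm_num [-Nat.card_eq_fintype_card] at hidxeq
      omega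
  obtain ⟨hneg, Y, hle, hY, h5Y⟩ := chord_bound C hp2 hodd ht hz
  have hm : Nat.card ↥(eSub C H ⊓ normOne C) ≤ 6 := by
    refine Nat.le_of_dvd (by norm_num) (card_dvd_of_pow fun b hb => ?_)
    obtain ⟨hbE, hbN⟩ := Subgroup.mem_inf.1 hb
    have h' : (b : F) ^ (3 * (C.q + 1)) = 1 := by
      rw [mul_comm, pow_mul, ← norm_pow, (mem_normOne C).1 hbN, one_pow]
    rwa [show 3 * (C.q + 1) = 3 * (C.q - 1) + 6 by omega, pow_add, hE b hbE, one_mul] at h'
  -- `(q^2 - 1) ≤ 4 k Y`
  have hb : C.q ^ 2 - 1 ≤ 4 * k * Y := by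
    have e : 3 * (C.q ^ 2 - 1) = (C.q + 1) * Nat.card (eSub C H) * k := by
      rw [mul_assoc, ← hkE, mul_left_comm, ← Nat.sq_sub_sq, one_pow]
    have h' := Nat.mul_le_mul_right k (hle.trans (Nat.mul_le_mul_right _ hm))
    rw [← e] at h'
    have e' : 6 * (2 * Y) * k = 3 * (4 * k * Y) := by ring
    omega
  have hq21 : C.q ≤ 21 := by
    by_contra hlt
    have h22 : 22 * C.q ≤ C.q ^ 2 := by rw [← hsq]; exact Nat.mul_le_mul_right _ (by omega)
    rcases hk12 with rfl | rfl <;> omega
  obtain ⟨i, hi⟩ := hodd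
  obtain ⟨j, hj⟩ := h3
  rcases (show C.q = 5 ∨ C.q = 11 ∨ C.q = 17 by omega) with h | h | h
  · exact absurd h h5
  · exfalso
    rw [h] at hkE
    rcases hk12 with rfl | rfl
    · have hcE : Nat.card (eSub C H) = 30 := by omega
      obtain ⟨g, hg⟩ := IsCyclic.exists_generator (α := eSub C H)
      have hgo : orderOf g.1 = 30 := by
        rw [Subgroup.orderOf_coe, orderOf_eq_card_of_forall_mem_zpowers hg, hcE]
      have h30 : g.1 ^ 30 = 1 := hgo ▸ pow_orderOf_eq_one g.1
      have hc3 : (g.1 ^ 10) ^ 3 = 1 := by rw [← pow_mul, h30]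
      refine eleven_contra C h ht (by rw [hβ, h, hcE]) ?_ ((eSub C H).pow_mem g.2 10) hc3 ?_ ?_
      · intro hbot
        have h' := card_inter_radU C H
        rw [hbot, Subgroup.card_bot, hz1, hkq, h] at h'
        norm_num [-Nat.card_eq_fintype_card] at h'
      · rw [mem_normOne, norm_pow, h, ← Units.val_pow_eq_pow_val, show 11 + 1 = 3 * 4 from rfl,
          pow_mul, hc3, one_pow, Units.val_one]
      · intro h'
        have h'' := orderOf_dvd_of_pow_eq_one h'
        rw [hgo] at h''
        norm_num [-Nat.card_eq_fintype_card] at h''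
    · have hcE : Nat.card (eSub C H) = 15 := by omega
      have hd := orderOf_dvd_natCard (⟨(-1 : Fˣ), hneg⟩ : eSub C H)
      rw [Subgroup.orderOf_mk, ← orderOf_units, Units.val_neg, Units.val_one,
        orderOf_neg_one, ringChar.eq F p, if_neg hp2, hcE] at hd
      norm_num [-Nat.card_eq_fintype_card] at hd
  · exfalso
    rcases hk12 with rfl | rfl
    · rw [h] at hb hY; norm_num [-Nat.card_eq_fintype_card] at hb; omega
    · rw [h] at hb hY hkE
      norm_num [-Nat.card_eq_fintype_card] at hb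
      have hcE : Nat.card (eSub C H) = 24 := by omega
      have hY60 : Y = 60 := by omega
      have h' := h5Y (hY60 ▸ by norm_num)
      rw [card_eq_of_trans C ht, hβ, h, hcE] at h'
      norm_num [-Nat.card_eq_fintype_card] at h'

theorem eSub_norm_eq {z₀ : C.skew} (hz₀ : z₀ ∈ zSub C H) (hne : z₀ ≠ 0)
    (h2 : Nat.card (zSub C H) = 2) : ∀ b ∈ eSub C H, (b : F) ^ (C.q + 1) = 1 := by
  intro b hb
  obtain ⟨e, he, he'⟩ := norm_mul_mem C hb hz₀
  have hz0 : (z₀ : F) ≠ 0 := fun h => hne (Subtype.ext h)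
  have he0 : e ≠ 0 := fun h => by
    rw [h, ZeroMemClass.coe_zero, eq_comm, mul_eq_zero, or_iff_left hz0] at he'
    exact mul_ne_zero b.ne_zero (sigma_ne C) he'
  obtain ⟨u, -, huniq⟩ := (Nat.card_eq_two_iff' (0 : zSub C H)).1 h2
  have hu : (⟨e, he⟩ : zSub C H) = ⟨z₀, hz₀⟩ :=
    (huniq _ fun h => he0 (congrArg Subtype.val h)).trans
      (huniq _ fun h => hne (congrArg Subtype.val h)).symm
  rw [show e = z₀ from congrArg Subtype.val hu, eq_comm, mul_eq_right₀ hz0] at he'
  rw [← norm_pow, he']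

/-- Root groups of order two. -/
theorem case_two (hp2 : (2 : F) = 0) (hq : 3 ≤ C.q) (hidx : H.index ≤ C.q ^ 3) (ht : IsTrans C H)
    (h2 : Nat.card (zSub C H) = 2) : False := by
  classical
  obtain ⟨⟨z₀, hz₀⟩, hzne, hzu⟩ := (Nat.card_eq_two_iff' (0 : zSub C H)).1 h2
  have hne : z₀ ≠ 0 := fun h => hzne (Subtype.ext h)
  have hEN := eSub_norm_eq C hz₀ hne h2
  have hK : ∀ w ∈ kSub C H, w ≠ 0 → w * C.σ w = (z₀ : F) := by
    intro w hw hw0
    obtain ⟨d, hd, hd'⟩ := square_mem C hp2 hw
    have hd0 : (⟨d, hd⟩ : zSub C H) ≠ 0 := fun h => by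
      have : d = 0 := congrArg Subtype.val h
      rw [this, ZeroMemClass.coe_zero, eq_comm] at hd'
      exact hw0 (norm_eq_zero C hd')
    rw [← hd', show d = z₀ from congrArg Subtype.val (hzu _ hd0)]
  have hz0 : (z₀ : F) ≠ 0 := fun h => hne (Subtype.ext h)
  have hT : ∀ u ∈ kSub C H, ∀ v ∈ kSub C H, u ≠ 0 → v ≠ 0 → u ≠ v →
      u * C.σ v + v * C.σ u = (z₀ : F) := by
    intro u hu v hv hu0 hv0 huv
    have hne' : u + v ≠ 0 := fun h => huv (by linear_combination h - v * hp2)
    have h := hK _ (add_mem hu hv) hne'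
    rw [map_add] at h
    linear_combination h - hK u hu hu0 - hK v hv hv0 - (z₀ : F) * hp2
  have hK4 : Nat.card (kSub C H) ≤ 4 := by
    rw [← SetLike.coe_sort_coe, Nat.card_coe_set_eq]
    by_cases hex : ∃ x ∈ kSub C H, x ≠ 0
    · obtain ⟨x, hx, hx0⟩ := hex
      by_cases hex2 : ∃ y ∈ kSub C H, y ≠ 0 ∧ y ≠ x
      · obtain ⟨y, hy, hy0, hyx⟩ := hex2
        refine le_trans (Set.ncard_le_ncard (t := (↑({0, x, y, x + y} : Finset F) : Set F)) ?_) ?_
        · intro z hz
          by_contra hzn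
          simp only [Finset.coe_insert, Finset.coe_singleton, Set.mem_insert_iff,
            Set.mem_singleton_iff, not_or] at hzn
          obtain ⟨hz0', hzx, hzy, hzxy⟩ := hzn
          have hyz0 : y + z ≠ 0 := fun h => hzy (by linear_combination h - y * hp2)
          have hyzx : x ≠ y + z := fun h => hzxy (by linear_combination -h - y * hp2)
          have h1 := hT x hx (y + z) (add_mem hy hz) hx0 hyz0 hyzx
          have h2' := hT x hx y hy hx0 hy0 (Ne.symm hyx)
          have h3 := hT x hx z hz hx0 hz0' (Ne.symm hzx)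
          rw [map_add] at h1
          exact hz0 (by linear_combination h1 - h2' - h3)
        · rw [Set.ncard_coe_finset]; exact Finset.card_le_four
      · push Not at hex2
        refine le_trans (Set.ncard_le_ncard (t := (↑({0, x} : Finset F) : Set F)) ?_) ?_
        · intro z hz
          by_cases hz' : z = 0
          · simp [hz']
          · simp [hex2 z hz hz']
        · rw [Set.ncard_coe_finset]; exact Finset.card_le_two.trans (by norm_num)
    · push Not at hex
      refine le_trans (Set.ncard_le_ncard (t := ({0} : Set F)) fun z hz => hex z hz) ?_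
      simp
  have hEle : Nat.card (eSub C H) ≤ C.q + 1 := Nat.le_of_dvd (Nat.succ_pos _) (card_dvd_of_pow hEN)
  have hge := le_card_inter C H hidx
  rw [card_inter, h2] at hge
  -- `lam` permutes the non-zero part of the radical quotient
  have hEk : 1 < Nat.card (kSub C H) →
      Nat.card (eSub C H) ≤ (Nat.card (kSub C H) - 1) * 3 := by
    intro hk1
    obtain ⟨⟨x, hx⟩, hx'⟩ : ∃ x : kSub C H, x ≠ 0 :=
      @exists_ne _ (Finite.one_lt_card_iff_nontrivial.1 hk1) 0
    have hx0 : x ≠ 0 := fun h => hx' (Subtype.ext h)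
    let lamHom : eSub C H →* F :=
      { toFun := fun b => lam C (b.1 : F)
        map_one' := by simp [lam]
        map_mul' := fun b c => by
          simp only [lam, Subgroup.coe_mul, Units.val_mul, map_mul]
          field_simp }
    have hl : ∀ b : eSub C H, lamHom b ≠ 0 := fun b =>
      div_ne_zero (mul_ne_zero (sigma_ne C) (sigma_ne C)) b.1.ne_zero
    set L := lamHom.toHomUnits with hL
    rw [← L.ker.card_mul_index, Subgroup.index_ker, mul_comm]
    refine Nat.mul_le_mul ?_ ?_
    · have himg : Nat.card L.range ≤ Nat.card {z : kSub C H // z ≠ 0} := by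
        refine Nat.card_le_card_of_injective (fun u => ⟨⟨(u.1 : F) * x, ?_⟩, ?_⟩) ?_
        · obtain ⟨b, hb⟩ := u.2
          rw [← hb]
          exact lam_mul_mem C b.2 hx
        · exact fun h => mul_ne_zero u.1.ne_zero hx0 (congrArg Subtype.val h)
        · intro u v h
          exact Subtype.ext (Units.ext (mul_right_cancel₀ hx0
            (congrArg (fun z : {z : kSub C H // z ≠ 0} => (z.1 : F)) h)))
      refine himg.trans ?_
      rw [Nat.card_eq_fintype_card, Fintype.card_subtype_compl, Fintype.card_subtype_eq,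
        ← Nat.card_eq_fintype_card]
    · have hd : Nat.card (L.ker.map (eSub C H).subtype) ∣ 3 := card_dvd_of_pow fun b hb => by
        obtain ⟨b, hb', rfl⟩ := hb
        have h := congrArg Units.val (MonoidHom.mem_ker.1 hb')
        rw [hL, MonoidHom.coe_toHomUnits, Units.val_one] at h
        have h3 := (lam_eq_one C b.1.ne_zero h).2
        rw [Subgroup.coe_subtype]
        linear_combination h3
      rw [← Subgroup.card_subtype]
      exact Nat.le_of_dvd (by norm_num) hd
  have hq8 : C.q ≤ 8 := by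
    by_contra hlt
    have h81 : 9 * C.q ≤ C.q ^ 2 := by rw [sq]; exact Nat.mul_le_mul_right _ (by omega)
    rcases Nat.lt_or_ge 1 (Nat.card (kSub C H)) with hk1 | hk1
    · have h' := Nat.mul_le_mul hK4 ((hEk hk1).trans (Nat.mul_le_mul_right 3 (Nat.sub_le_sub_right hK4 1)))
      rw [mul_assoc] at hge
      omega
    · have h' : Nat.card (kSub C H) * Nat.card (eSub C H) ≤ 1 * (C.q + 1) := Nat.mul_le_mul hk1 hEle
      rw [mul_assoc] at hge
      omega
  obtain ⟨p, a, hp, hpc, hqa, ha1⟩ := exists_prime C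
  obtain rfl : p = 2 := (Nat.prime_dvd_prime_iff_eq hp Nat.prime_two).1
    ((CharP.cast_eq_zero_iff F p 2).1 (by exact_mod_cast hp2))
  have ha3 : a ≤ 3 := by
    by_contra hlt
    have := Nat.pow_le_pow_right (show 2 > 0 by norm_num) (show 4 ≤ a by omega)
    omega
  have hEdvd : Nat.card (eSub C H) ∣ C.q + 1 := card_dvd_of_pow hEN
  have hkE : 1 < Nat.card (kSub C H) := by
    by_contra hk1
    have h' : Nat.card (kSub C H) * Nat.card (eSub C H) ≤ 1 * (C.q + 1) :=
      Nat.mul_le_mul (by omega) hEle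
    rw [mul_assoc] at hge
    interval_cases a <;> rw [hqa] at hge h' hq <;> norm_num [-Nat.card_eq_fintype_card] at hge h' hq <;> omega
  have hE3 := hEk hkE
  have hK' : Nat.card (kSub C H) ∣ 2 ^ (2 * a) := by
    rw [mul_comm, pow_mul, ← hqa, ← C.card, ← Nat.card_eq_fintype_card]
    exact AddSubgroup.card_addSubgroup_dvd_card _
  have hE9 := hE3.trans (Nat.mul_le_mul_right 3 (Nat.sub_le_sub_right hK4 1))
  interval_cases a
  · omega
  · -- `q = 4`
    rw [hqa] at hEdvd hge hEN
    norm_num [-Nat.card_eq_fintype_card] at hEdvd hge hEN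
    rcases (Nat.dvd_prime Nat.prime_five).1 hEdvd with h | h
    · rw [h] at hge; omega
    · -- an element of order five would fix a non-zero vector
      obtain ⟨⟨x, hx⟩, hx'⟩ : ∃ x : kSub C H, x ≠ 0 :=
        @exists_ne _ (Finite.one_lt_card_iff_nontrivial.1 hkE) 0
      have hinj : Function.Injective (fun b : eSub C H => (⟨lam C (b.1 : F) * x,
          lam_mul_mem C b.2 hx⟩ : kSub C H)) := by
        intro b b' hbb
        have e : lam C (b.1 : F) = lam C (b'.1 : F) :=
          mul_right_cancel₀ (fun h0 => hx' (Subtype.ext h0)) (congrArg Subtype.val hbb)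
        have hl : lam C (((b'⁻¹ * b : eSub C H).1 : Fˣ) : F) = 1 := by
          simp only [lam, Subgroup.coe_mul, Subgroup.coe_inv, Units.val_mul,
            Units.val_inv_eq_inv_val, map_mul, map_inv₀] at e ⊢
          have := b.1.ne_zero
          have := b'.1.ne_zero
          have := sigma_ne C (a := b'.1)
          field_simp at e ⊢
          linear_combination e
        have h3 := (lam_eq_one C (Units.ne_zero _) hl).2
        have h5 := hEN _ (b'⁻¹ * b).2
        have h15 : ((b'⁻¹ * b).1 : Fˣ) = 1 := by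
          refine orderOf_eq_one_iff.1 (Nat.eq_one_of_dvd_coprimes (a := 3) (b := 5) (by norm_num) ?_ ?_)
          · exact orderOf_dvd_of_pow_eq_one (Units.ext (by
              rw [Units.val_pow_eq_pow_val, Units.val_one]; linear_combination h3))
          · exact orderOf_dvd_of_pow_eq_one (Units.ext (by
              rw [Units.val_pow_eq_pow_val, Units.val_one]; exact h5))
        exact (inv_mul_eq_one.1 (Subtype.ext h15)).symm
      have := Nat.card_le_card_of_injective _ hinj
      rw [h] at this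
      omega
  · -- `q = 8`
    rw [hqa] at hEdvd hge
    norm_num [-Nat.card_eq_fintype_card] at hEdvd hge
    have hβ : Nat.card (H.subgroupOf (borel C)) = 72 := by
      rw [card_inter, h2]
      obtain ⟨i, -, hi⟩ := (Nat.dvd_prime_pow Nat.prime_two).1 hK'
      have hi2 : i ≤ 2 := by
        by_contra hlt
        have := Nat.pow_le_pow_right (show 2 > 0 by norm_num) (show 3 ≤ i by omega)
        omega
      have he9 : Nat.card (eSub C H) ≤ 9 := Nat.le_of_dvd (by norm_num) hEdvd
      rw [hi] at hge hkE ⊢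
      interval_cases i
      · omega
      · have : Nat.card (eSub C H) = 9 ∨ Nat.card (eSub C H) < 9 := by omega
        omega
      · norm_num [-Nat.card_eq_fintype_card] at hge
        interval_cases hh : Nat.card (eSub C H) <;> first | omega | rfl
    refine sylow_contra C (H := H) (r := 19) (i := 3) (O := 243) hqa (by norm_num) (by norm_num)
      (by norm_num) ?_ (by norm_num) (by norm_num) (by decide +kernel)
    rw [card_eq_of_trans C ht, hβ, hqa]
    norm_num [-Nat.card_eq_fintype_card]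

/-- Root groups of order three, `q = 9`. -/
theorem case_three (hq : C.q = 9) (hidx : H.index ≤ C.q ^ 3) (ht : IsTrans C H)
    (h3 : Nat.card (zSub C H) = 3) : False := by
  classical
  have hp3 : CharP F 3 := by
    obtain ⟨p, a, hp, hpc, hqa, ha1⟩ := exists_prime C
    have : p ∣ 3 ^ 2 := by
      rw [show (3 : ℕ) ^ 2 = C.q by rw [hq]; norm_num, hqa]; exact dvd_pow_self p (by omega)
    obtain rfl : p = 3 := (Nat.prime_dvd_prime_iff_eq hp Nat.prime_three).1 (hp.dvd_of_dvd_pow this)
    exact hpc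
  have hne : (zSub C H) ≠ ⊥ := fun h => by rw [h, AddSubgroup.card_bot] at h3; omega
  obtain ⟨⟨z₀, hz₀⟩, hz0'⟩ := (AddSubgroup.ne_bot_iff_exists_ne_zero).1 hne
  have hz0 : (z₀ : F) ≠ 0 := fun h => hz0' (Subtype.ext (Subtype.ext h))
  have hF : Nat.card F = 81 := by rw [Nat.card_eq_fintype_card, C.card, hq]; norm_num [-Nat.card_eq_fintype_card]
  -- `N b = ±1`
  have hE : ∀ b ∈ eSub C H, (b : F) ^ 20 = 1 := by
    intro b hb
    obtain ⟨e, he, he'⟩ := norm_mul_mem C hb hz₀
    have hgen : AddSubgroup.zmultiples (⟨z₀, hz₀⟩ : zSub C H) = ⊤ :=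
      have : Fact (Nat.Prime 3) := ⟨Nat.prime_three⟩
      zmultiples_eq_top_of_prime_card h3 hz0'
    obtain ⟨n, hn⟩ : (⟨e, he⟩ : zSub C H) ∈ AddSubgroup.zmultiples (⟨z₀, hz₀⟩ : zSub C H) := by
      rw [hgen]; exact AddSubgroup.mem_top _
    have hn' : ((n : F)) * (z₀ : F) = (e : F) := by
      have := congrArg (fun t : zSub C H => ((t : C.skew) : F)) hn
      simpa [zsmul_eq_mul] using this
    rw [he'] at hn'
    have hN : (n : F) = b * C.σ (b : F) := mul_right_cancel₀ hz0 hn'
    rw [show 20 = (C.q + 1) * 2 by rw [hq], pow_mul, ← norm_pow, ← hN]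
    have hn0 : (n : F) ≠ 0 := hN ▸ mul_ne_zero b.ne_zero (sigma_ne C)
    rw [ne_eq, CharP.intCast_eq_zero_iff F 3] at hn0
    rw [← Int.cast_pow, ← Int.cast_one, CharP.intCast_eq_intCast F 3]
    have : n % 3 = 1 ∨ n % 3 = 2 := by omega
    rcases this with h | h <;> simp [Int.ModEq, sq, Int.mul_emod, h]
  have hEdvd : Nat.card (eSub C H) ∣ 20 := card_dvd_of_pow hE
  have hge := le_card_inter C H hidx
  rw [card_inter, h3, hq] at hge
  norm_num [-Nat.card_eq_fintype_card] at hge
  have hKtop : kSub C H ≠ ⊤ := by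
    intro htop
    obtain ⟨d, hd⟩ : ∃ d : C.skew, d ∉ zSub C H := by
      by_contra! hall
      have h' := Nat.card_le_card_of_surjective (fun t : zSub C H => (t : C.skew))
        fun d => ⟨⟨d, hall d⟩, rfl⟩
      rw [h3, C.card_skew, hq] at h'
      omega
    obtain ⟨s, hs⟩ := C.exists_sub_eq d.2
    obtain ⟨e, he, he'⟩ := comm_mem C (H := H) (x := s) (y := 1) (htop ▸ AddSubgroup.mem_top _)
      (htop ▸ AddSubgroup.mem_top _)
    rw [map_one, mul_one, one_mul, hs] at he'
    exact hd (show d ∈ zSub C H from (Subtype.ext he' : e = d) ▸ he)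
  have hKE : kSub C H ≠ ⊥ := by
    intro h
    rw [h, AddSubgroup.card_bot] at hge
    have := Nat.le_of_dvd (by norm_num) hEdvd
    omega
  -- `5 ∤ |E|`
  have h5 : ¬ 5 ∣ Nat.card (eSub C H) := by
    intro h5
    obtain ⟨b, hb⟩ := exists_prime_orderOf_dvd_card' (hp := ⟨Nat.prime_five⟩) 5 h5
    have hb5 : b.1 ^ 5 = 1 := by
      rw [← hb, ← Subgroup.orderOf_coe]; exact pow_orderOf_eq_one _
    set M := {t : F | ∀ k ∈ kSub C H, t * k ∈ kSub C H} with hM
    have hlM : lam C (b.1 : F) ∈ M := fun k hk => lam_mul_mem C b.2 hk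
    let U : Subgroup Fˣ :=
      { carrier := {t | (t : F) ∈ M}
        one_mem' := fun k hk => by simpa using hk
        mul_mem' := fun {s t} hs ht' k hk => by
          rw [Units.val_mul, mul_assoc]; exact hs _ (ht' k hk)
        inv_mem' := fun {t} ht' => by
          have hp : ∀ n : ℕ, ((t ^ n : Fˣ) : F) ∈ M := fun n => by
            induction n with
            | zero => intro k hk; simpa using hk
            | succ n ih =>
              intro k hk
              rw [pow_succ, Units.val_mul, mul_assoc]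
              exact ih _ (ht' k hk)
          obtain ⟨n, hn⟩ := mem_powers_iff_mem_zpowers.2 (Subgroup.inv_mem _ (Subgroup.mem_zpowers t))
          have hn' : t ^ n = t⁻¹ := hn
          show ((t⁻¹ : Fˣ) : F) ∈ M
          rw [← hn']
          exact hp n }
    let R : AddSubgroup F :=
      { carrier := M
        zero_mem' := fun k _ => by rw [zero_mul]; exact zero_mem _
        add_mem' := fun {s t} hs ht' k hk => by rw [add_mul]; exact add_mem (hs k hk) (ht' k hk)
        neg_mem' := fun {s} hs k hk => by rw [neg_mul]; exact neg_mem (hs k hk) }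
    have hRU : Nat.card R = Nat.card U + 1 := by
      have e : U ≃ {r : R // r ≠ 0} :=
        { toFun := fun u => ⟨⟨(u.1 : F), u.2⟩, fun h => u.1.ne_zero (congrArg Subtype.val h)⟩
          invFun := fun r => ⟨Units.mk0 (r.1 : F) (fun h => r.2 (Subtype.ext h)), r.1.2⟩
          left_inv := fun u => Subtype.ext (Units.ext rfl)
          right_inv := fun r => rfl }
      rw [Nat.card_congr e, Nat.card_eq_fintype_card (α := {r : R // r ≠ 0}),
        Fintype.card_subtype_compl, Fintype.card_subtype_eq, ← Nat.card_eq_fintype_card]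
      have : 0 < Nat.card R := Nat.card_pos
      omega
    set l : Fˣ := Units.mk0 (lam C (b.1 : F))
      (div_ne_zero (mul_ne_zero (sigma_ne C) (sigma_ne C)) b.1.ne_zero) with hl
    have hlo : orderOf l = 5 := by
      have : Fact (Nat.Prime 5) := ⟨Nat.prime_five⟩
      have hb5' : (b.1 : F) ^ 5 = 1 := by rw [← Units.val_pow_eq_pow_val, hb5, Units.val_one]
      refine orderOf_eq_prime (Units.ext ?_) fun h => ?_
      · rw [Units.val_pow_eq_pow_val, show (l : F) = lam C (b.1 : F) from rfl, Units.val_one, lam,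
          div_pow, mul_pow,
          ← map_pow, hb5', map_one, one_mul, div_one]
      · have h' := (lam_eq_one C b.1.ne_zero (congrArg Units.val h)).2
        have hone : b.1 = 1 := orderOf_eq_one_iff.1 (Nat.eq_one_of_dvd_coprimes (a := 3) (b := 5)
          (by norm_num) (orderOf_dvd_of_pow_eq_one (Units.ext (by
            rw [Units.val_pow_eq_pow_val, Units.val_one]; linear_combination h')))
          (orderOf_dvd_of_pow_eq_one hb5))
        rw [← Subgroup.orderOf_coe, hone, orderOf_one] at hb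
        omega
    have h5U : 5 ∣ Nat.card U := by
      have hm : l ∈ U := hlM
      have h' := orderOf_dvd_natCard (⟨l, hm⟩ : U)
      have e : orderOf (⟨l, hm⟩ : U) = orderOf l := (Subgroup.orderOf_coe _).symm
      rwa [e, hlo] at h'
    have hR81 : Nat.card R ∣ 3 ^ 4 := by
      rw [show (3 : ℕ) ^ 4 = Nat.card F by rw [hF]; norm_num]
      exact AddSubgroup.card_addSubgroup_dvd_card _
    obtain ⟨i, hi, hi'⟩ := (Nat.dvd_prime_pow Nat.prime_three).1 hR81
    have hi4 : Nat.card R = 81 := by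
      have hUpos : 0 < Nat.card U := Nat.card_pos
      rw [hRU] at hi' ⊢
      obtain ⟨t, ht⟩ := h5U
      interval_cases i <;> omega
    have hall : ∀ t : F, t ∈ R := fun t => by
      rw [R.eq_top_of_card_eq (by rw [hi4, hF])]; exact AddSubgroup.mem_top _
    obtain ⟨⟨x, hx⟩, hx'⟩ := (AddSubgroup.ne_bot_iff_exists_ne_zero).1 hKE
    refine hKtop (AddSubgroup.eq_top_iff' _ |>.2 fun k => ?_)
    have h' := hall (k / x) x hx
    rwa [div_mul_cancel₀ _ (fun h0 => hx' (Subtype.ext h0))] at h'
  have hE4 : Nat.card (eSub C H) ∣ 4 :=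
    (Nat.Coprime.dvd_of_dvd_mul_left ((Nat.prime_five.coprime_iff_not_dvd).2 h5).symm
      (show Nat.card (eSub C H) ∣ 5 * 4 from hEdvd))
  have hK81 : Nat.card (kSub C H) ∣ 3 ^ 4 := by
    rw [show (3 : ℕ) ^ 4 = Nat.card F by rw [hF]; norm_num]
    exact AddSubgroup.card_addSubgroup_dvd_card _
  obtain ⟨i, hi, hi'⟩ := (Nat.dvd_prime_pow Nat.prime_three).1 hK81
  have hi4 : i ≠ 4 := fun h => hKtop (AddSubgroup.eq_top_of_card_eq _ (by rw [hi', hF, h]; norm_num))
  have hi3 : i ≠ 3 := by
    intro h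
    subst h
    -- every line through a vector of the quotient would lie in it
    have hfull : ∀ x ∈ kSub C H, x ≠ 0 → ∀ r : fixF C, (r : F) * x ∈ kSub C H := by
      intro x hx hx0 r
      let φ : kSub C H →+ C.skew :=
        { toFun := fun y => ⟨x * C.σ (y : F) - (y : F) * C.σ x, by
            rw [ConjField.mem_skew]; simp only [map_sub, map_mul, C.invol]; ring⟩
          map_zero' := Subtype.ext (by simp)
          map_add' := fun y y' => Subtype.ext (by simp only [AddSubgroup.coe_add, map_add]; ring) }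
      have hrange : φ.range ≤ zSub C H := by
        rintro _ ⟨y, rfl⟩
        obtain ⟨d, hd, hd'⟩ := comm_mem C hx y.2
        rwa [show φ y = d from Subtype.ext hd'.symm]
      have h1 := φ.ker.card_mul_index
      rw [AddSubgroup.index_ker, hi'] at h1
      have h2' := (AddSubgroup.card_le_of_le hrange).trans_eq h3
      have hσ : C.σ x ≠ 0 := (map_ne_zero C.σ).2 hx0
      have hmem : ∀ y : φ.ker, (y.1 : F) / x ∈ fixF C := fun y => by
        have hy : x * C.σ (y.1 : F) - (y.1 : F) * C.σ x = 0 :=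
          congrArg Subtype.val (AddMonoidHom.mem_ker.1 y.2)
        show C.σ ((y.1 : F) / x) = (y.1 : F) / x
        rw [map_div₀, div_eq_div_iff hσ hx0]
        linear_combination hy
      let ψ : φ.ker → fixF C := fun y => ⟨(y.1 : F) / x, hmem y⟩
      have hψ : Function.Injective ψ := fun y y' hy =>
        Subtype.ext (Subtype.ext ((div_left_inj' hx0).1 (congrArg Subtype.val hy)))
      have hker9 : Nat.card φ.ker = 9 := by
        have hle := Nat.card_le_card_of_injective ψ hψ
        rw [card_fixF, hq] at hle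
        have := Nat.mul_le_mul_left (Nat.card φ.ker) h2'
        omega
      obtain ⟨y, hy⟩ := ((Nat.bijective_iff_injective_and_card ψ).2
        ⟨hψ, by rw [hker9, card_fixF, hq]⟩).2 r
      have hy' : (y.1 : F) / x = (r : F) := congrArg Subtype.val hy
      rw [← hy', div_mul_cancel₀ _ hx0]
      exact y.1.2
    obtain ⟨⟨x, hx⟩, hx'⟩ := (AddSubgroup.ne_bot_iff_exists_ne_zero).1 hKE
    have hx0 : x ≠ 0 := fun h => hx' (Subtype.ext h)
    by_cases hex : ∃ y ∈ kSub C H, ∀ r : fixF C, y ≠ (r : F) * x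
    · obtain ⟨y, hy, hyn⟩ := hex
      have hy0 : y ≠ 0 := fun h => hyn 0 (by simp [h])
      let ψ : fixF C × fixF C → kSub C H := fun rs =>
        ⟨(rs.1 : F) * x + (rs.2 : F) * y, add_mem (hfull x hx hx0 _) (hfull y hy hy0 _)⟩
      have hψ : Function.Injective ψ := by
        rintro ⟨r, s⟩ ⟨r', s'⟩ h
        have h' : (r : F) * x + (s : F) * y = (r' : F) * x + (s' : F) * y := congrArg Subtype.val h
        by_cases hs : s = s'
        · subst hs
          rw [add_left_inj, mul_left_inj' hx0] at h'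
          exact Prod.ext (Subtype.ext h') rfl
        · exfalso
          have hsne : ((s : F) - (s' : F)) ≠ 0 := sub_ne_zero.2 fun h => hs (Subtype.ext h)
          refine hyn ((r' - r) / (s - s')) ?_
          push_cast
          rw [div_mul_eq_mul_div, eq_div_iff hsne]
          linear_combination h'
      have := Nat.card_le_card_of_injective ψ hψ
      rw [Nat.card_prod, card_fixF, hq, hi'] at this
      omega
    · push Not at hex
      have hle : Nat.card (kSub C H) ≤ Nat.card (fixF C) :=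
        Nat.card_le_card_of_surjective (fun r => (⟨(r : F) * x, hfull x hx hx0 r⟩ : kSub C H))
          fun y => (hex y.1 y.2).imp fun r hr => Subtype.ext hr.symm
      rw [card_fixF, hq, hi'] at hle
      omega
  have hβ : Nat.card (H.subgroupOf (borel C)) = 108 := by
    rw [card_inter, h3, hi']
    rw [hi'] at hge
    have he := Nat.le_of_dvd (by norm_num) hE4
    interval_cases i <;> norm_num [-Nat.card_eq_fintype_card] at hge ⊢ <;>
      interval_cases hh : Nat.card (eSub C H) <;> first | omega | rfl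
  refine sylow_contra C (H := H) (r := 73) (i := 3) (O := 135) hq (by norm_num) (by norm_num)
    (by norm_num) ?_ (by norm_num) (by norm_num) (by decide +kernel)
  rw [card_eq_of_trans C ht, hβ, hq]
  norm_num [-Nat.card_eq_fintype_card]

/-- The lower bound. -/
theorem index_bound (hq : 3 ≤ C.q) (hne : H ≠ ⊤) (hidx : H.index ≤ C.q ^ 3) :
    C.q = 5 ∧ 50 ≤ H.index := by
  classical
  obtain ⟨p, a, hp, hpc, hqa, ha1⟩ := exists_prime C
  have : Fact p.Prime := ⟨hp⟩
  by_cases hall : ∀ g : GG C, cj C H g ⊓ radU C ≠ ⊥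
  · have ht := isTrans_of_radU C (p := p) hall
    by_cases hz : zSub C H = ⊥
    · refine case_one C hq hidx ht hz fun hk => hall 1 ?_
      have hcj : cj C H 1 = H := by ext x; simp [mem_cj]
      rw [hcj]
      refine Subgroup.eq_bot_of_card_le _ (le_of_eq ?_)
      rw [card_inter_radU, hz, hk, AddSubgroup.card_bot, AddSubgroup.card_bot]
    · exfalso
      rcases zSub_cases C (p := p) hqa hq hne ht hz with ⟨hp2, h2⟩ | ⟨h9, h3⟩
      · subst hp2
        exact case_two C (by exact_mod_cast CharP.cast_eq_zero F 2) hq hidx ht h2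
      · exact case_three C h9 hidx ht h3
  · push Not at hall
    obtain ⟨g, hg⟩ := hall
    have hidx' : (cj C H g).index ≤ C.q ^ 3 := by rw [index_cj]; exact hidx
    obtain ⟨ht, hcard⟩ := isTrans_of_small C hidx' hg
    obtain ⟨h5, h50⟩ := case_zero C hq hidx' ht hg hcard
    exact ⟨h5, by rwa [index_cj] at h50⟩

end CfsgLib.MinDegree.UThreeIndex
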