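import Cfsg.Agent.MinDegree.UThreeModel

/-!
# Involutions and elements of large prime order in `SU(3,q)`

An element of prime order `r > q + 1` not dividing the order of `borel` has no eigenvector, so it commutes
with no involution and is inverted by none.
-/

set_option autoImplicit false
set_option linter.unusedSectionVars false

namespace CfsgLib.MinDegree.UThreeIndex

open Matrix CfsgLib.RepBounds.Unit

variable {F : Type*} [Field F] [Fintype F] (C : ConjField F)

/-- The points orthogonal to a vector. -/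
def onPerp (v : VV F) : Set (Pt C) :=
  {y | ∀ k, (QuotientGroup.mk k : Pt C) = y → herm C (app C k (vE C (Fin 1))) v = 0}

theorem mk_mem_onPerp {g : GG C} {v : VV F} :
    (QuotientGroup.mk g : Pt C) ∈ onPerp C v ↔ herm C (app C g (vE C (Fin 1))) v = 0 := by
  refine ⟨fun h => h g rfl, fun h k hk => ?_⟩
  obtain ⟨a, ha⟩ := (mk_eq_mk_iff C).1 hk.symm
  rw [ha, herm_smul_left, h, mul_zero]

theorem smul_mem_onPerp {g : GG C} {v : VV F} {y : Pt C} (hy : y ∈ onPerp C v) :
    g • y ∈ onPerp C (app C g v) := by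
  induction y using QuotientGroup.induction_on with
  | H k =>
    rw [MulAction.Quotient.smul_mk, smul_eq_mul, mk_mem_onPerp, app_mul, herm_app]
    exact (mk_mem_onPerp C).1 hy

theorem onPerp_smul {v : VV F} {c : F} (hc : c ≠ 0) : onPerp C (c • v) = onPerp C v := by
  ext y
  induction y using QuotientGroup.induction_on with
  | H k =>
    rw [mk_mem_onPerp, mk_mem_onPerp, herm_smul_right, mul_eq_zero,
      or_iff_right ((map_ne_zero C.σ).2 hc)]

theorem app_zero (g : GG C) : app C g (0 : VV F) = 0 := mulVec_zero _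

theorem app_ne_zero (g : GG C) {v : VV F} (hv : v ≠ 0) : app C g v ≠ 0 := fun h => hv (by
  rw [← app_inv_app C g v, h, app_zero])

theorem onPerp_nonempty (v : VV F) : (onPerp C v).Nonempty := by
  obtain ⟨a, z, b, rfl⟩ := exists_vec C v
  by_cases hb : b = 0
  · refine ⟨base C, (mk_mem_onPerp C).2 ?_⟩
    rw [app_one, ← vec_one_zero, herm_vec, hb]
    simp
  have hb' : C.σ b ≠ 0 := (map_ne_zero C.σ).2 hb
  obtain ⟨γ, hγ⟩ := exists_norm C (t := z / b * C.σ (z / b) + (C.σ a / C.σ b + a / b)) (by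
    simp only [map_add, map_mul, map_div₀, C.invol]; ring)
  set w := z / b + γ with hw
  refine ⟨pt C (some ⟨(w, -(C.σ a + w * C.σ z) / C.σ b), ?_⟩), (mk_mem_onPerp C).2 ?_⟩
  · simp only [hw, map_add, map_neg, map_mul, map_div₀, C.invol] at hγ ⊢
    linear_combination hγ
  · rw [vec_pt, herm_vec]
    field_simp
    ring

theorem card_onPerp_le {v : VV F} (hv : herm C v v ≠ 0) : Nat.card (onPerp C v) ≤ C.q + 1 := by
  classical
  obtain ⟨y₀, hy₀⟩ := onPerp_nonempty C v
  induction y₀ using QuotientGroup.induction_on with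
  | H k =>
  obtain ⟨a, z, b, hv'⟩ := exists_vec C (app C k⁻¹ v)
  have h0 : herm C (vE C (Fin 1)) (app C k⁻¹ v) = 0 := by
    rw [← herm_app C k, app_app_inv]; exact (mk_mem_onPerp C).1 hy₀
  have hb : b = 0 := by
    rw [hv', ← vec_one_zero, herm_vec] at h0; simpa using h0
  subst hb
  have hz : z ≠ 0 := by
    rintro rfl
    apply hv
    rw [← herm_app C k⁻¹, hv', herm_vec]
    simp
  have hmaps : ∀ y : onPerp C v, ∃ o : Option (Par C), pt C o = k⁻¹ • (y : Pt C) := fun y =>
    pt_surjective C _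
  choose o ho using hmaps
  have hmem : ∀ y x, o y = some x → C.σ a + x.1.1 * C.σ z = 0 := fun y x hx => by
    have h1 : pt C (some x) ∈ onPerp C (app C k⁻¹ v) := by
      rw [← hx, ho]; exact smul_mem_onPerp C y.2
    have h2 := (mk_mem_onPerp C).1 h1
    rw [vec_pt, hv', herm_vec] at h2
    simpa [add_comm] using h2
  let f : onPerp C v → Option C.skew := fun y => (o y).map fun x => (parEquiv C x).2
  have hf : Function.Injective f := by
    intro y y' h
    have h' : o y = o y' := by
      rcases hy : o y with _ | x <;> rcases hy' : o y' with _ | x' <;>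
        simp only [f, hy, hy', Option.map_none, Option.map_some, reduceCtorEq, Option.some.injEq] at h
      · rfl
      · refine congrArg some ((parEquiv C).injective (Prod.ext ?_ h))
        exact mul_right_cancel₀ ((map_ne_zero C.σ).2 hz)
          (add_left_cancel ((hmem y x hy).trans (hmem y' x' hy').symm))
    exact Subtype.ext (MulAction.injective k⁻¹ (by simp only [← ho, h']))
  refine (Nat.card_le_card_of_injective f hf).trans ?_
  rw [Finite.card_option, C.card_skew]

theorem ne_fixed {g : GG C} {r : ℕ} (hg : orderOf g = r) (hB : ¬ r ∣ Nat.card (borel C)) (y : Pt C) :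
    g • y ≠ y := by
  induction y using QuotientGroup.induction_on with
  | H k =>
    intro h
    apply hB
    have hmem : k⁻¹ * g * k ∈ borel C := by
      rw [← smul_base_iff, mul_smul, mul_smul, inv_smul_eq_iff]
      simpa using h
    have h1 := orderOf_dvd_natCard (⟨k⁻¹ * g * k, hmem⟩ : borel C)
    have h2 : SemiconjBy k (k⁻¹ * g * k) g := by
      simp [SemiconjBy, mul_assoc]
    rw [Subgroup.orderOf_mk, h2.orderOf_eq, hg] at h1
    exact h1

/-- No eigenvector. -/
theorem no_eigvec {g : GG C} {r : ℕ} (hr : r.Prime) (hg : orderOf g = r)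
    (hB : ¬ r ∣ Nat.card (borel C)) (hq : C.q + 1 < r) {v : VV F} (hv : v ≠ 0) (c : F) :
    app C g v ≠ c • v := by
  intro h
  have hc : c ≠ 0 := by
    rintro rfl
    exact app_ne_zero C g hv (by rw [h, zero_smul])
  by_cases hh : herm C v v = 0
  · obtain ⟨k, hk⟩ := exists_of_isotropic C hh hv
    exact ne_fixed C hg hB (QuotientGroup.mk k) ((smul_mk_eq_iff C).2 ⟨c, by rw [hk, h]⟩)
  obtain ⟨y, hy⟩ := onPerp_nonempty C v
  have hinv : ∀ n : ℕ, g ^ n • y ∈ onPerp C v := by
    intro n
    induction n with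
    | zero => simpa using hy
    | succ n ih =>
      rw [pow_succ', mul_smul, ← onPerp_smul C (v := v) hc, ← h]
      exact smul_mem_onPerp C ih
  have hsub : MulAction.orbit (Subgroup.zpowers g) y ⊆ onPerp C v := by
    rintro _ ⟨⟨k, hk⟩, rfl⟩
    obtain ⟨n, rfl⟩ := mem_powers_iff_mem_zpowers.2 hk
    exact hinv n
  have hdvd : Nat.card (MulAction.orbit (Subgroup.zpowers g) y) ∣ r := by
    rw [← hg, ← Nat.card_zpowers g]
    rw [Nat.card_coe_set_eq, ← MulAction.index_stabilizer (Subgroup.zpowers g) y]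
    exact Subgroup.index_dvd_card _
  rcases (Nat.dvd_prime hr).1 hdvd with h1 | h1
  · obtain ⟨hs, -⟩ := Nat.card_eq_one_iff_unique.1 h1
    exact ne_fixed C hg hB y (congrArg Subtype.val (@Subsingleton.elim _ hs
      ⟨g • y, ⟨⟨g, Subgroup.mem_zpowers g⟩, rfl⟩⟩ ⟨y, MulAction.mem_orbit_self y⟩))
  · have := (Nat.card_mono (Set.toFinite _) hsub).trans (card_onPerp_le C hh)
    omega

/-- An involution differs from a sign by a map of rank one. -/
theorem involution_shape {s : GG C} (hs : s * s = 1) (hs1 : s ≠ 1) :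
    ∃ (ε : F) (v : VV F) (f : VV F →ₗ[F] F), ε * ε = 1 ∧ v ≠ 0 ∧ f ≠ 0 ∧
      (∀ x, app C s x = ε • x + f x • v) ∧ app C s v = -ε • v := by
  have hinv : ∀ x, app C s (app C s x) = x := fun x => by rw [← app_mul, hs, app_one]
  let L := fun ε : F => Matrix.mulVecLin s.1.1 - ε • LinearMap.id
  have hL : ∀ ε x, L ε x = app C s x - ε • x := fun ε x => rfl
  have hker : ∀ ε : F, ε * ε = 1 → LinearMap.range (L ε) ≤ LinearMap.ker (L (-ε)) := by
    rintro ε hε _ ⟨x, rfl⟩
    rw [LinearMap.mem_ker, hL, hL, sub_eq_add_neg (app C s x), ← neg_one_smul F (ε • x), smul_smul,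
      app_add, app_smul, hinv]
    match_scalars <;> first
      | linear_combination hε
      | linear_combination -hε
      | ring
  have hne : ∀ ε : F, ε * ε = 1 → L ε ≠ 0 := by
    intro ε hε h0
    have hx : ∀ x, app C s x = ε • x := fun x => by
      rw [← sub_eq_zero, ← hL, h0]; rfl
    have hmat : s.1.1 = ε • (1 : Matrix (Fin 2 ⊕ Fin 1) (Fin 2 ⊕ Fin 1) F) :=
      Matrix.ext_iff_mulVec.2 fun x => (hx x).trans (by rw [Matrix.smul_mulVec, Matrix.one_mulVec])
    have hd := s.1.2
    rw [hmat, Matrix.det_smul, Matrix.det_one, mul_one] at hd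
    simp only [Fintype.card_sum, Fintype.card_fin] at hd
    have h1 : ε = 1 := by linear_combination hd - ε * hε
    exact hs1 (suG_ext C fun x => by rw [hx, h1, one_smul, app_one])
  have hdim : Module.finrank F (Fin 2 ⊕ Fin 1 → F) = 3 := by simp
  have hone : ∀ ε : F, ε * ε = 1 → 0 < Module.finrank F (LinearMap.range (L ε)) := fun ε hε =>
    Nat.pos_of_ne_zero fun h => hne ε hε
      (LinearMap.range_eq_bot.1 (Submodule.finrank_eq_zero.1 h))
  have hle := Submodule.finrank_mono (hker 1 (one_mul 1))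
  have hsum := LinearMap.finrank_range_add_finrank_ker (L (-1))
  obtain ⟨ε, hε, hrk⟩ : ∃ ε : F, ε * ε = 1 ∧ Module.finrank F (LinearMap.range (L ε)) = 1 := by
    have h1 := hone 1 (one_mul 1)
    have h2 := hone (-1) (by ring)
    rcases Nat.lt_or_ge 1 (Module.finrank F (LinearMap.range (L 1))) with h | h
    · exact ⟨-1, by ring, by omega⟩
    · exact ⟨1, one_mul 1, by omega⟩
  obtain ⟨⟨v, hv⟩, hv0, hspan⟩ := finrank_eq_one_iff'.1 hrk
  have hv' : v ≠ 0 := fun h => hv0 (Subtype.ext h)
  let e : F ≃ₗ[F] LinearMap.range (L ε) :=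
    LinearEquiv.ofBijective (LinearMap.toSpanSingleton F _ ⟨v, hv⟩)
      ⟨fun a b h => smul_left_injective F hv0 (by simpa using h),
        fun y => (hspan y).imp fun c hc => by simpa using hc⟩
  refine ⟨ε, v, e.symm.toLinearMap.comp (L ε).rangeRestrict, hε, hv', fun h => ?_, fun x => ?_, ?_⟩
  · refine hne ε hε (LinearMap.ext fun x => ?_)
    have h1 := congrArg e (LinearMap.congr_fun h x)
    rw [LinearMap.comp_apply, LinearEquiv.coe_coe, LinearEquiv.apply_symm_apply] at h1
    simpa using congrArg Subtype.val h1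
  · have h1 : (e (e.symm ((L ε).rangeRestrict x)) : VV F) = L ε x := by
      rw [LinearEquiv.apply_symm_apply]; rfl
    rw [LinearMap.comp_apply, LinearEquiv.coe_coe]
    rw [hL] at h1
    rw [eq_sub_iff_add_eq] at h1
    rw [← h1, add_comm]
    rfl
  · have h1 : L (-ε) v = 0 := hker ε hε hv
    rw [hL, sub_eq_zero] at h1
    exact h1

/-- An involution fixes a point. -/
theorem involution_fix {s : GG C} (hs : s * s = 1) (hs1 : s ≠ 1) : ∃ y : Pt C, s • y = y := by
  obtain ⟨ε, v, f, hε, hv, -, hx, hsv⟩ := involution_shape C hs hs1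
  by_cases hh : herm C v v = 0
  · obtain ⟨k, hk⟩ := exists_of_isotropic C hh hv
    exact ⟨QuotientGroup.mk k, (smul_mk_eq_iff C).2 ⟨-ε, by rw [hk, hsv]⟩⟩
  obtain ⟨y, hy⟩ := onPerp_nonempty C v
  induction y using QuotientGroup.induction_on with
  | H k =>
    refine ⟨QuotientGroup.mk k, (smul_mk_eq_iff C).2 ⟨ε, ?_⟩⟩
    have hy' := (mk_mem_onPerp C).1 hy
    set x := app C k (vE C (Fin 1))
    have hε0 : C.σ (-ε) ≠ 0 := (map_ne_zero C.σ).2 (neg_ne_zero.2 fun h => by simp [h] at hε)
    have h1 := herm_app C s x v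
    rw [hy', hsv, herm_smul_right, hx, herm_add_left, herm_smul_left, herm_smul_left, hy', mul_zero,
      zero_add, mul_eq_zero, or_iff_right hε0, mul_eq_zero, or_iff_left hh] at h1
    rw [hx, h1, zero_smul, add_zero]

/-- An involution neither centralises nor inverts an element without eigenvectors. -/
theorem involution_conj {g s : GG C} {r : ℕ} (hr : r.Prime) (hg : orderOf g = r)
    (hB : ¬ r ∣ Nat.card (borel C)) (hq : C.q + 1 < r) (hs : s * s = 1) (hs1 : s ≠ 1) :
    s * g ≠ g * s ∧ s * g * s ≠ g⁻¹ := by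
  obtain ⟨ε, v, f, hε, hv, hf, hx, hsv⟩ := involution_shape C hs hs1
  refine ⟨fun hcomm => ?_, fun hinv => ?_⟩
  · obtain ⟨x, hfx⟩ : ∃ x, f x ≠ 0 := by
      by_contra! h
      exact hf (LinearMap.ext h)
    have h1 : app C s (app C g x) = app C g (app C s x) := by rw [← app_mul, hcomm, app_mul]
    rw [hx, hx, app_add, app_smul, app_smul, add_right_inj] at h1
    refine no_eigvec C hr hg hB hq hv (f (app C g x) / f x) ?_
    rw [div_eq_inv_mul, ← smul_smul, h1, inv_smul_smul₀ hfx]
  · have hgs : (g * s) * (g * s) = 1 := by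
      rw [mul_assoc, ← mul_assoc s, hinv, mul_inv_cancel]
    have hgs1 : g * s ≠ 1 := by
      intro h
      have h2 : g = s := by rw [eq_inv_of_mul_eq_one_left h, inv_eq_of_mul_eq_one_right hs]
      have h3 := orderOf_dvd_of_pow_eq_one (show g ^ 2 = 1 by rw [h2, sq, hs])
      rw [hg] at h3
      have := Nat.le_of_dvd (by norm_num) h3
      have := C.two_le
      omega
    obtain ⟨ε', v', f', hε', -, -, hx', -⟩ := involution_shape C hgs hgs1
    obtain ⟨x, hxm, hx0⟩ : ∃ x ∈ LinearMap.ker (f.prod f'), x ≠ 0 := by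
      refine Submodule.exists_mem_ne_zero_of_ne_bot ?_
      intro h
      have h1 := LinearMap.finrank_range_add_finrank_ker (f.prod f')
      have h2 := Submodule.finrank_le (LinearMap.range (f.prod f'))
      rw [h, finrank_bot, add_zero] at h1
      simp at h1 h2
      omega
    rw [LinearMap.mem_ker, LinearMap.prod_apply, Prod.ext_iff] at hxm
    obtain ⟨h1, h2⟩ : f x = 0 ∧ f' x = 0 := hxm
    refine no_eigvec C hr hg hB hq hx0 (ε * ε') ?_
    have h3 := hx' x
    rw [app_mul, hx, h1, h2, zero_smul, zero_smul, add_zero, add_zero, app_smul] at h3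
    rw [← smul_smul, ← h3, smul_smul, hε, one_smul]

/-- The normaliser of a subgroup of order `r` in `H` has odd index over it. -/
theorem sylow_shape {H : Subgroup (GG C)} {r M : ℕ} (hr : r.Prime)
    (hB : ¬ r ∣ Nat.card (borel C)) (hq : C.q + 1 < r) (hH : Nat.card H = r * M) (hM : ¬ r ∣ M) :
    ∃ (P : Sylow r H) (m : ℕ), Nat.card (P : Subgroup H) = r ∧ Odd m ∧ m ∣ M ∧
      (M / m) % r = 1 % r ∧
      Nat.card (Subgroup.normalizer ((P : Subgroup H) : Set H)) = r * m := by
  classical
  have : Fact r.Prime := ⟨hr⟩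
  obtain ⟨P⟩ : Nonempty (Sylow r H) := inferInstance
  have hM0 : M ≠ 0 := fun h => hM (h ▸ dvd_zero r)
  have hcard : Nat.card (P : Subgroup H) = r := by
    rw [Sylow.card_eq_multiplicity, hH, Nat.factorization_mul hr.ne_zero hM0, Finsupp.add_apply,
      hr.factorization_self, Nat.factorization_eq_zero_of_not_dvd hM, pow_one]
  set N := Subgroup.normalizer ((P : Subgroup H) : Set H) with hN
  obtain ⟨m, hm⟩ : r ∣ Nat.card N := hcard ▸ Subgroup.card_dvd_of_le (Subgroup.le_normalizer)
  have hmM : m ∣ M := Nat.dvd_of_mul_dvd_mul_left hr.pos (hm ▸ hH ▸ N.card_subgroup_dvd_card)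
  have hodd : Odd m := by
    by_contra hev
    rw [Nat.not_odd_iff_even] at hev
    obtain ⟨⟨s, hsN⟩, hso⟩ := exists_prime_orderOf_dvd_card' (G := N) 2
      (hm ▸ dvd_mul_of_dvd_right (even_iff_two_dvd.1 hev) r)
    rw [Subgroup.orderOf_mk] at hso
    obtain ⟨x, hx⟩ := isCyclic_of_prime_card hcard |>.exists_generator
    have hxo : orderOf x = r := by rw [orderOf_eq_card_of_forall_mem_zpowers hx, hcard]
    obtain ⟨k, hk⟩ := hx ⟨s * x.1 * s⁻¹, (Subgroup.mem_normalizer_iff.1 hsN x.1).1 x.2⟩
    have hk' : s * (x : H) * s⁻¹ = (x : H) ^ k := (congrArg Subtype.val hk).symm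
    have hs2 : s * s = 1 := by
      have h := pow_orderOf_eq_one s
      rwa [hso, sq] at h
    have hsinv : s⁻¹ = s := inv_eq_of_mul_eq_one_right hs2
    have hkk : (x : H) ^ (k * k) = (x : H) ^ (1 : ℤ) := by
      rw [_root_.zpow_mul, ← hk', conj_zpow, ← hk', hsinv, _root_.zpow_one]
      simp only [mul_assoc, hs2, mul_one]
      rw [← mul_assoc s s, hs2, one_mul]
    have hxo' : orderOf (x : H) = r := by rw [Subgroup.orderOf_coe, hxo]
    have hdvd : (r : ℤ) ∣ (k - 1) * (k + 1) := by
      have h := orderOf_dvd_sub_iff_zpow_eq_zpow.2 hkk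
      rw [hxo'] at h
      rwa [show (k - 1) * (k + 1) = k * k - 1 by ring]
    have hg : orderOf ((x : H) : GG C) = r := by rw [Subgroup.orderOf_coe, hxo']
    have hsG : (s : GG C) * s = 1 := by rw [← Subgroup.coe_mul, hs2, Subgroup.coe_one]
    have hs1 : (s : GG C) ≠ 1 := fun h => by
      rw [show s = 1 from Subtype.ext h, orderOf_one] at hso
      omega
    obtain ⟨hc, hi⟩ := involution_conj C hr hg hB hq hsG hs1
    rcases (Nat.prime_iff_prime_int.1 hr).dvd_or_dvd hdvd with h | h
    · have h1 : (x : H) ^ k = (x : H) ^ (1 : ℤ) :=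
        orderOf_dvd_sub_iff_zpow_eq_zpow.1 (by rw [hxo']; exact h)
      rw [← hk', _root_.zpow_one, mul_inv_eq_iff_eq_mul] at h1
      exact hc (congrArg (fun t : H => (t : GG C)) h1)
    · have h1 : (x : H) ^ k = (x : H) ^ (-1 : ℤ) :=
        orderOf_dvd_sub_iff_zpow_eq_zpow.1 (by rw [hxo', sub_neg_eq_add]; exact h)
      rw [← hk', _root_.zpow_neg_one, hsinv] at h1
      exact hi (congrArg (fun t : H => (t : GG C)) h1)
  refine ⟨P, m, hcard, hodd, hmM, ?_, hm⟩
  have h1 := card_sylow_modEq_one r H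
  have h2 : Nat.card (Sylow r H) = M / m := by
    rw [Sylow.card_eq_index_normalizer P]
    have h3 := N.card_mul_index
    rw [hm, hH, mul_assoc] at h3
    have h4 := Nat.eq_of_mul_eq_mul_left hr.pos h3
    rw [← h4, Nat.mul_div_cancel_left _ (Nat.pos_of_dvd_of_pos hmM (Nat.pos_of_ne_zero hM0))]
    rfl
  rw [h2] at h1
  exact h1

end CfsgLib.MinDegree.UThreeIndex
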