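import Cfsg.Agent.MinDegree.UThreeChord
import Cfsg.Agent.MinDegree.UThreeFix

/-!
# Transitive subgroups without transvections: the centraliser of an involution

`p` odd. A transitive `H` without transvections contains, up to conjugation, `dd = diag(-1,1,-1)`, whose
centraliser in `H` is transitive on the chord; it gives a `p'`-subgroup of `PSL(2,q)` to which Dickson's
theorem applies.
-/

set_option autoImplicit false
set_option linter.unusedSectionVars false

namespace CfsgLib.MinDegree.UThreeIndex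

open Matrix CfsgLib.RepBounds.Unit CfsgLib.DicksonPSL2 CfsgLib.SL2Trace
open scoped MatrixGroups

variable {F : Type*} [Field F] [Fintype F] (C : ConjField F)

theorem tt_mul (a b : Fˣ) : tt C a * tt C b = tt C (a * b) :=
  ext_vec C fun x y z => by
    rw [app_mul, app_tt, app_tt, app_tt, vec_eq_iff]
    simp only [Units.val_mul, map_mul, _root_.mul_inv_rev]
    refine ⟨by ring, ?_, by ring⟩
    field_simp

theorem tt_one : tt C 1 = 1 :=
  ext_vec C fun x y z => by rw [app_tt, app_one]; simp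

/-- The involution of the chord. -/
noncomputable def dd : GG C := tt C (-1)

theorem app_dd (a z b : F) : app C (dd C) (vec C a z b) = vec C (-a) z (-b) := by
  rw [dd, app_tt, vec_eq_iff]
  simp [inv_neg]

theorem dd_mul_self : dd C * dd C = 1 := by
  rw [dd, tt_mul]
  simpa using tt_one C

theorem dd_inv : (dd C)⁻¹ = dd C := inv_eq_of_mul_eq_one_right (dd_mul_self C)

theorem dd_mem : dd C ∈ borel C := tt_mem C _

theorem eig_dd : eig C (dd C) = -1 := by rw [dd, eig_tt]; rfl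

theorem uu_dd {x x' : Par C} (h1 : x'.1.1 = -x.1.1) (h2 : x'.1.2 = x.1.2) :
    uu C x * dd C = dd C * uu C x' :=
  ext_vec C fun a z b => by
    rw [app_mul, app_mul, app_uu, app_dd, app_dd, app_uu, vec_eq_iff, h1, h2, map_neg]
    exact ⟨by ring, by ring, rfl⟩

/-- The inverse parameter. -/
def Par.neg (x : Par C) : Par C :=
  ⟨(-x.1.1, C.σ x.1.2), by simp only [map_neg, C.invol]; linear_combination x.2⟩

theorem uu_inv (x : Par C) : (uu C x)⁻¹ = uu C (Par.neg C x) := by
  refine inv_eq_of_mul_eq_one_right ?_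
  rw [uu_mul, ← uu_zero C]
  refine congrArg (uu C) (Subtype.ext (Prod.ext ?_ ?_))
  · simp [Par.mul, Par.neg, Par.zero]
  · simp only [Par.mul, Par.neg, Par.zero]
    linear_combination x.2

theorem uu_sq (x : Par C) : ((uu C x * uu C x = 1) → (2 : F) ≠ 0 → uu C x = 1) := by
  intro h h2
  rw [uu_mul, ← uu_zero C] at h
  have h1 := uu_injective C h
  have e1 : x.1.1 + x.1.1 = 0 := congrArg (fun q : Par C => q.1.1) h1
  have hw : x.1.1 = 0 := (mul_eq_zero.1 (by linear_combination e1 : (2 : F) * x.1.1 = 0)).resolve_left h2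
  have e2 : x.1.2 + x.1.2 - x.1.1 * C.σ x.1.1 = 0 := congrArg (fun q : Par C => q.1.2) h1
  have hc : x.1.2 = 0 := (mul_eq_zero.1
    (by linear_combination e2 + (C.σ x.1.1) * hw : (2 : F) * x.1.2 = 0)).resolve_left h2
  rw [show x = Par.zero C from Subtype.ext (Prod.ext hw hc), uu_zero]

theorem isTrans_cj {H : Subgroup (GG C)} (ht : IsTrans C H) (g : GG C) : IsTrans C (cj C H g) := by
  intro y
  obtain ⟨h, hh, hy⟩ := ht (g • y)
  obtain ⟨h', hh', hy'⟩ := ht (g • base C)
  refine ⟨g⁻¹ * (h * h'⁻¹) * g, ?_, ?_⟩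
  · rw [mem_cj]
    convert H.mul_mem hh (H.inv_mem hh') using 1
    group
  · rw [mul_smul, mul_smul, mul_smul, inv_smul_eq_iff.2 hy'.symm, hy, inv_smul_smul]

theorem dd_ne_one (h2 : (2 : F) ≠ 0) : dd C ≠ 1 := fun e => h2 (by
  have h := eig_dd C
  rw [e, eig_of_eq C (a := (1 : F)) (by rw [app_one, one_smul])] at h
  linear_combination h)

theorem eig_involution {t : GG C} (htB : t ∈ borel C) (h2 : (2 : F) ≠ 0) (ht2 : t * t = 1)
    (ht1 : t ≠ 1) : eig C t = -1 := by
  have h1 : eigHom C ⟨t, htB⟩ * eigHom C ⟨t, htB⟩ = 1 := by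
    rw [← map_mul, show (⟨t, htB⟩ : borel C) * ⟨t, htB⟩ = 1 from Subtype.ext ht2, map_one]
  have h3 := congrArg Units.val h1
  rw [Units.val_mul, eigHom_val, Units.val_one] at h3
  rcases mul_eq_zero.1 (show (eig C t - 1) * (eig C t + 1) = 0 by linear_combination h3) with h | h
  · exfalso
    obtain ⟨x, hx⟩ := exists_uu C ((mem_radU_iff C htB).2 (sub_eq_zero.1 h))
    exact ht1 (hx ▸ uu_sq C x (hx ▸ ht2) h2)
  · exact eq_neg_of_add_eq_zero_left h

/-- A transitive subgroup of even order contains an element of eigenvalue `-1` squaring to one. -/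
theorem exists_dd {H : Subgroup (GG C)} (h2 : (2 : F) ≠ 0) (hodd : Odd C.q) (ht : IsTrans C H) :
    (-1 : Fˣ) ∈ eSub C H ∧ ∃ g : GG C, g ∈ borel C ∧ dd C ∈ cj C H g := by
  obtain ⟨s, hs⟩ := exists_prime_orderOf_dvd_card' (G := H) 2 (by
    rw [card_eq_of_trans C ht]
    exact Dvd.dvd.mul_right (even_iff_two_dvd.1 hodd.pow.add_one) _)
  have hs2 : (s : GG C) * s = 1 := by
    have h := pow_orderOf_eq_one (s : GG C)
    rwa [Subgroup.orderOf_coe, hs, sq] at h
  have hs1 : (s : GG C) ≠ 1 := fun h => by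
    rw [show s = 1 from Subtype.ext h, orderOf_one] at hs
    omega
  obtain ⟨y, hy⟩ := involution_fix C hs2 hs1
  obtain ⟨h, hh, hhy⟩ := ht y
  set t := h⁻¹ * s * h with ht'
  have htH : t ∈ H := H.mul_mem (H.mul_mem (H.inv_mem hh) s.2) hh
  have htB : t ∈ borel C := by
    rw [← smul_base_iff, ht', mul_smul, mul_smul, inv_smul_eq_iff, hhy, hy]
  have ht2 : t * t = 1 := by
    rw [ht', show h⁻¹ * (s : GG C) * h * (h⁻¹ * s * h) = h⁻¹ * (s * s) * h by group, hs2]
    group
  have ht1 : t ≠ 1 := fun e => hs1 (by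
    rw [show (s : GG C) = h * t * h⁻¹ by rw [ht']; group, e]; group)
  have heig : eig C t = -1 := eig_involution C htB h2 ht2 ht1
  refine ⟨(mem_eSub C H).2 ⟨t, htH, htB, by rw [heig]; simp⟩, ?_⟩
  obtain ⟨a, x, ha, hax⟩ := exists_tt_uu C htB
  have ha' : a = -1 := Units.ext (by rw [ha, heig]; simp)
  rw [ha', ← dd] at hax
  let x' : Par C := ⟨(-x.1.1, x.1.2), by rw [map_neg]; linear_combination x.2⟩
  have hsq : uu C (Par.mul C x' x) = 1 := by
    rw [← uu_mul, ← ht2, hax, show dd C * uu C x * (dd C * uu C x) =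
      dd C * (uu C x * dd C) * uu C x by group, uu_dd C (x' := x') rfl rfl,
      ← mul_assoc (dd C) (dd C), dd_mul_self, one_mul]
  have hc : x.1.2 + x.1.2 + x.1.1 * C.σ x.1.1 = 0 := by
    have e := congrArg (fun q : Par C => q.1.2) (uu_injective C (hsq.trans (uu_zero C).symm))
    simp only [Par.mul, Par.zero, x', map_neg] at e
    linear_combination e
  have h2' : C.σ (2 : F) = 2 := map_ofNat C.σ 2
  have h4 : (2 : F) * 2 * 2 ≠ 0 := mul_ne_zero (mul_ne_zero h2 h2) h2
  let y' : Par C := ⟨(-x.1.1 / 2, -(x.1.1 * C.σ x.1.1) / (2 * 2 * 2)), by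
    simp only [map_neg, map_mul, map_div₀, h2', C.invol]
    field_simp
    ring⟩
  refine ⟨uu C y', radU_le C (uu_mem C y'), ?_⟩
  rw [mem_cj]
  convert htH using 1
  have hv : y'.1.2 + C.σ y'.1.2 + x.1.1 / 2 * C.σ (x.1.1 / 2) = 0 := by
    have := y'.2
    simp only [y', map_neg, neg_div, neg_mul_neg] at this ⊢
    exact this
  have hmove : uu C y' * dd C = dd C * uu C ⟨(x.1.1 / 2, y'.1.2), hv⟩ :=
    uu_dd C (by simp [y', neg_div]) rfl
  rw [hax, uu_inv, hmove, mul_assoc, uu_mul]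
  refine congrArg (fun q => dd C * uu C q) (Subtype.ext (Prod.ext ?_ ?_))
  · simp only [Par.mul, Par.neg, y']
    field_simp
    ring
  · simp only [Par.mul, Par.neg, y', map_neg, map_mul, map_div₀, h2', C.invol]
    field_simp
    linear_combination (-4 : F) * hc

/-- The norm one scalars. -/
def normOne : Subgroup Fˣ where
  carrier := {a | (a : F) * C.σ (a : F) = 1}
  one_mem' := by simp
  mul_mem' {a b} (ha : _ = _) (hb : _ = _) := by
    show ((a * b : Fˣ) : F) * C.σ ((a * b : Fˣ) : F) = 1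
    rw [Units.val_mul, map_mul]
    linear_combination (b * C.σ (b : F)) * ha + hb
  inv_mem' {a} (ha : _ = _) := by
    show ((a⁻¹ : Fˣ) : F) * C.σ ((a⁻¹ : Fˣ) : F) = 1
    rw [Units.val_inv_eq_inv_val, map_inv₀, ← _root_.mul_inv_rev, mul_comm, ha, inv_one]

theorem mem_normOne {a : Fˣ} : a ∈ normOne C ↔ (a : F) * C.σ (a : F) = 1 := Iff.rfl

theorem sigma_inv {a : Fˣ} (ha : a ∈ normOne C) : C.σ (a : F) = (a : F)⁻¹ :=
  eq_inv_of_mul_eq_one_right ((mem_normOne C).1 ha)

theorem jj_comm (M : SL(2, fixF C)) {a : Fˣ} (ha : a ∈ normOne C) :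
    jj C M * tt C a = tt C a * jj C M :=
  ext_vec C fun x y z => by
    rw [app_mul, app_mul, app_tt, app_jj, app_jj, app_tt, vec_eq_iff, sigma_inv C ha, inv_inv]
    exact ⟨by ring, rfl, by ring⟩

theorem jj_dd (M : SL(2, fixF C)) : jj C M * dd C = dd C * jj C M :=
  jj_comm C M (by simp [mem_normOne])

/-- The map `(M, ν) ↦ j M · diag(ν, ν, ν⁻²)`. -/
noncomputable def phi : SL(2, fixF C) × normOne C →* GG C where
  toFun x := jj C x.1 * tt C x.2.1
  map_one' := by simp [tt_one]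
  map_mul' x y := by
    simp only [Prod.fst_mul, Prod.snd_mul, map_mul, Subgroup.coe_mul, ← tt_mul]
    rw [mul_assoc, mul_assoc, ← mul_assoc (jj C y.1), jj_comm C y.1 x.2.2, mul_assoc]

theorem phi_apply (M : SL(2, fixF C)) (a : normOne C) : phi C (M, a) = jj C M * tt C a.1 := rfl

theorem phi_dd (x : SL(2, fixF C) × normOne C) : phi C x * dd C = dd C * phi C x := by
  show jj C x.1 * tt C x.2.1 * dd C = dd C * (jj C x.1 * tt C x.2.1)
  rw [mul_assoc, dd, tt_mul, mul_comm x.2.1, ← tt_mul, ← mul_assoc, ← dd, jj_dd, mul_assoc]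

theorem jj_neg_one : jj C (-1) = dd C :=
  ext_vec C fun a z b => by
    rw [app_jj, app_dd, vec_eq_iff]
    simp [Matrix.SpecialLinearGroup.coe_neg]

/-- The centraliser of `dd` fixes the line of the unit vector. -/
theorem exists_mu {g : GG C} (hg : g * dd C = dd C * g) (h2 : (2 : F) ≠ 0) :
    ∃ μ : F, app C g ww = μ • ww ∧ μ * C.σ μ = 1 := by
  obtain ⟨a, z, b, h⟩ := exists_vec C (app C g ww)
  have h1 : app C (dd C) (app C g ww) = app C g (app C (dd C) ww) := by rw [← app_mul, ← hg, app_mul]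
  rw [h, app_dd, ← vec_zero_one C, app_dd, neg_zero, vec_zero_one C, h, vec_eq_iff] at h1
  obtain ⟨ha, -, hb⟩ := h1
  have ha' : a = 0 := (mul_eq_zero.1 (by linear_combination -ha : (2 : F) * a = 0)).resolve_left h2
  have hb' : b = 0 := (mul_eq_zero.1 (by linear_combination -hb : (2 : F) * b = 0)).resolve_left h2
  refine ⟨z, by rw [h, ha', hb', ← vec_zero_one C, smul_vec]; simp, ?_⟩
  have h3 := herm_app C g (vec C 0 1 0) (vec C 0 1 0)
  rw [vec_zero_one C, h, ha', hb', ← vec_zero_one C, herm_vec, herm_vec] at h3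
  simpa using h3

theorem exists_jj {g : GG C} (hg : g * dd C = dd C * g) (h2 : (2 : F) ≠ 0)
    (hw : app C g ww = ww) : ∃ M, g = jj C M := by
  have hfix : ∀ x : VV F, app C (dd C) x = -x → ∃ a b, app C g x = vec C a 0 b := by
    intro x hx
    obtain ⟨a, z, b, h⟩ := exists_vec C (app C g x)
    have h1 : app C (dd C) (app C g x) = app C g (app C (dd C) x) := by rw [← app_mul, ← hg, app_mul]
    rw [hx, ← neg_one_smul F x, app_smul, h, app_dd, smul_vec, vec_eq_iff] at h1
    refine ⟨a, b, ?_⟩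
    rw [h, (mul_eq_zero.1 (by linear_combination h1.2.1 : (2 : F) * z = 0)).resolve_left h2]
  obtain ⟨a, γ, he⟩ := hfix (vec C 1 0 0) (by
    rw [app_dd, ← neg_one_smul F (vec C _ _ _), smul_vec]; simp)
  obtain ⟨β, δ, hf⟩ := hfix (vec C 0 0 1) (by
    rw [app_dd, ← neg_one_smul F (vec C _ _ _), smul_vec]; simp)
  have hgen : ∀ x z y, app C g (vec C x z y) = vec C (a * x + β * y) z (γ * x + δ * y) := by
    intro x z y
    rw [show vec C x z y = x • vec C 1 0 0 + z • vec C 0 1 0 + y • vec C 0 0 1 by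
      simp only [smul_vec, vec_add]; simp, app_add, app_add, app_smul, app_smul, app_smul, he, hf,
      vec_zero_one, hw, ← vec_zero_one C]
    simp only [smul_vec, vec_add]
    rw [vec_eq_iff]
    exact ⟨by ring, by ring, by ring⟩
  have hdet : a * δ - β * γ = 1 := by
    have hmat : g.1.1 = blk C !![a, β, 0; γ, δ, 0; 0, 0, 1] := by
      refine Matrix.ext_iff_mulVec.2 fun v => ?_
      obtain ⟨x, z, y, rfl⟩ := exists_vec C v
      rw [blk_mulVec]
      refine (hgen x z y).trans ?_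
      simp
    have hd := g.1.2
    rw [hmat, blk_det] at hd
    simpa [Matrix.det_fin_three] using hd
  have hi1 : app C g⁻¹ (vec C 1 0 0) = vec C δ 0 (-γ) := by
    rw [show vec C 1 0 0 = app C g (vec C δ 0 (-γ)) by
      rw [hgen, vec_eq_iff]; exact ⟨by linear_combination -hdet, rfl, by ring⟩, app_inv_app]
  have hi2 : app C g⁻¹ (vec C 0 0 1) = vec C (-β) 0 a := by
    rw [show vec C 0 0 1 = app C g (vec C (-β) 0 a) by
      rw [hgen, vec_eq_iff]; exact ⟨by ring, rfl, by linear_combination -hdet⟩, app_inv_app]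
  have key : ∀ x y, herm C (app C g x) y = herm C x (app C g⁻¹ y) := fun x y => by
    rw [← herm_app C g x (app C g⁻¹ y), app_app_inv]
  have r1 := key (vec C 1 0 0) (vec C 0 0 1)
  have r2 := key (vec C 1 0 0) (vec C 1 0 0)
  have r3 := key (vec C 0 0 1) (vec C 0 0 1)
  have r4 := key (vec C 0 0 1) (vec C 1 0 0)
  rw [hgen, hi2, herm_vec, herm_vec] at r1
  rw [hgen, hi1, herm_vec, herm_vec] at r2
  rw [hgen, hi2, herm_vec, herm_vec] at r3
  rw [hgen, hi1, herm_vec, herm_vec] at r4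
  simp only [map_neg, map_one, map_zero, mul_one, mul_zero, zero_mul, add_zero, zero_add, one_mul]
    at r1 r2 r3 r4
  have hθ := C.skew_eq (thA_mem C)
  have m1 : a ∈ fixF C := r1.symm
  have m4 : δ ∈ fixF C := r4.symm
  have m2 : thA C * γ ∈ fixF C := by
    show C.σ (thA C * γ) = thA C * γ
    rw [map_mul, hθ, neg_mul, ← mul_neg, ← r2]
  have m3 : β / thA C ∈ fixF C := by
    show C.σ (β / thA C) = β / thA C
    rw [map_div₀, hθ, div_neg, ← neg_div, ← r3]
  refine ⟨⟨!![⟨a, m1⟩, ⟨β / thA C, m3⟩; ⟨thA C * γ, m2⟩, ⟨δ, m4⟩], ?_⟩, ext_vec C fun x z y => ?_⟩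
  · rw [Matrix.det_fin_two_of]
    refine Subtype.ext ?_
    push_cast
    field_simp [thA_ne C]
    linear_combination hdet
  · refine (hgen x z y).trans (Eq.symm ((app_jj C _ x z y).trans ((vec_eq_iff C).2 ⟨?_, rfl, ?_⟩)))
    · show a * x + thA C * (β / thA C) * y = _
      rw [mul_div_cancel₀ _ (thA_ne C)]
    · show (thA C)⁻¹ * (thA C * γ) * x + δ * y = _
      rw [inv_mul_cancel_left₀ (thA_ne C)]

/-- The chord and the centraliser of `dd`. -/
def chord : Set (Pt C) := {y | dd C • y = y}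

theorem mem_chord {y : Pt C} (h2 : (2 : F) ≠ 0) :
    y ∈ chord C ↔ y = base C ∨ ∃ d : C.skew, y = pt C (some (zpar C d)) := by
  constructor
  · intro hy
    obtain ⟨_ | x, rfl⟩ := pt_surjective C y
    · exact Or.inl rfl
    right
    obtain ⟨a, ha⟩ := (smul_mk_eq_iff C).1 hy
    rw [vec_pt, app_dd, smul_vec, vec_eq_iff] at ha
    obtain ⟨-, hw, hb⟩ := ha
    rw [mul_one] at hb
    have hw' : x.1.1 = 0 :=
      (mul_eq_zero.1 (by linear_combination hw - x.1.1 * hb : (2 : F) * x.1.1 = 0)).resolve_left h2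
    have hd : x.1.2 ∈ C.skew := by
      rw [ConjField.mem_skew]; linear_combination x.2 - (C.σ x.1.1) * hw'
    exact ⟨⟨x.1.2, hd⟩, congrArg (fun t => pt C (some t)) (Subtype.ext (Prod.ext hw' rfl))⟩
  · rintro (rfl | ⟨d, rfl⟩)
    · exact (smul_base_iff C).2 (dd_mem C)
    · refine (smul_mk_eq_iff C).2 ⟨-1, ?_⟩
      rw [vec_pt, app_dd, smul_vec]
      simp [zpar]

theorem card_chord (h2 : (2 : F) ≠ 0) : Nat.card (chord C) = C.q + 1 := by
  rw [← C.card_skew, ← Finite.card_option]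
  refine (Nat.card_congr (Equiv.ofBijective (fun o : Option C.skew =>
    (⟨pt C (o.map (zpar C)), (mem_chord C h2).2 (o.casesOn (Or.inl rfl) fun d => Or.inr ⟨d, rfl⟩)⟩ : chord C)) ⟨?_, ?_⟩)).symm
  · intro o o' h
    have h' := pt_injective C (congrArg Subtype.val h)
    exact Option.map_injective (fun d e he => Subtype.ext (congrArg (fun q : Par C => q.1.2) he)) h'
  · rintro ⟨y, hy⟩
    rcases (mem_chord C h2).1 hy with rfl | ⟨d, rfl⟩
    · exact ⟨none, rfl⟩
    · exact ⟨some d, rfl⟩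

theorem Par.eq_of_zero {H : Subgroup (GG C)} (hz : zSub C H = ⊥) {x y : Par C} (hx : uu C x ∈ H)
    (hy : uu C y ∈ H) (h : x.1.1 = y.1.1) : x = y := by
  set z := Par.mul C x (Par.neg C y) with hzdef
  have hw : z.1.1 = 0 := by simp [hzdef, Par.mul, Par.neg, h]
  have hd : z.1.2 ∈ C.skew := by
    rw [ConjField.mem_skew]; linear_combination z.2 - (C.σ z.1.1) * hw
  have hzp : zpar C ⟨z.1.2, hd⟩ = z := Subtype.ext (Prod.ext hw.symm rfl)
  have hm : (⟨z.1.2, hd⟩ : C.skew) ∈ zSub C H := by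
    rw [mem_zSub, hzp, hzdef, ← uu_mul, ← uu_inv]
    exact H.mul_mem hx (H.inv_mem hy)
  rw [hz, AddSubgroup.mem_bot] at hm
  have h1 : uu C x * (uu C y)⁻¹ = 1 := by
    rw [uu_inv, uu_mul, ← hzdef, ← hzp, hm,
      show zpar C (0 : C.skew) = Par.zero C from Subtype.ext rfl, uu_zero]
  exact uu_injective C (mul_inv_eq_one.1 h1)

/-- Conjugates of `dd` in the point stabiliser are conjugate to it by the radical part. -/
theorem exists_radU_conj {H : Subgroup (GG C)} (hD : dd C ∈ H) (h2 : (2 : F) ≠ 0)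
    (hz : zSub C H = ⊥) {s : GG C} (hs : s ∈ H) (hsB : s ∈ borel C) (he : eig C s = -1) :
    ∃ v ∈ H, v ∈ radU C ∧ s = v * dd C * v⁻¹ := by
  obtain ⟨a, x, ha, hax⟩ := exists_tt_uu C hsB
  have ha' : a = -1 := Units.ext (by rw [ha, he]; simp)
  rw [ha', ← dd] at hax
  have hxH : uu C x ∈ H := by
    rw [show uu C x = (dd C)⁻¹ * s by rw [hax, inv_mul_cancel_left]]
    exact H.mul_mem (H.inv_mem hD) hs
  obtain ⟨p, hp⟩ := CharP.exists F
  have hpp : p.Prime := CharP.char_is_prime F p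
  obtain ⟨m, hm⟩ : Odd p := hpp.odd_of_ne_two fun h => h2 (by
    subst h; exact_mod_cast CharP.cast_eq_zero F 2)
  have hhalf : -x.1.1 / 2 ∈ kSub C H := by
    have h : m • x.1.1 ∈ kSub C H := (kSub C H).nsmul_mem ⟨x, hxH, rfl⟩ m
    convert h using 1
    have hp0 : ((2 * m + 1 : ℕ) : F) = 0 := hm ▸ CharP.cast_eq_zero F p
    push_cast at hp0
    rw [nsmul_eq_mul]
    field_simp
    linear_combination -x.1.1 * hp0
  obtain ⟨y, hy, hyw⟩ := hhalf
  let y' : Par C := ⟨(-y.1.1, y.1.2), by rw [map_neg]; linear_combination y.2⟩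
  have hy'H : uu C y' ∈ H := by
    rw [show uu C y' = dd C * (uu C y * dd C) by
      rw [uu_dd C (x := y) (x' := y') rfl rfl, ← mul_assoc, dd_mul_self, one_mul]]
    exact H.mul_mem hD (H.mul_mem hy hD)
  refine ⟨uu C y, hy, uu_mem C y, ?_⟩
  rw [uu_dd C (x := y) (x' := y') rfl rfl, mul_assoc, hax, uu_inv, uu_mul]
  refine congrArg (fun q => dd C * uu C q) (Par.eq_of_zero C hz hxH ?_ ?_)
  · rw [← uu_mul, ← uu_inv]; exact H.mul_mem hy'H (H.inv_mem hy)
  · simp only [Par.mul, Par.neg, y', hyw]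
    field_simp
    ring

variable {H : Subgroup (GG C)}

/-- The centraliser of `dd` in `H`. -/
noncomputable def cH (H : Subgroup (GG C)) : Subgroup (GG C) :=
  H ⊓ Subgroup.centralizer {dd C}

theorem mem_cH {g : GG C} : g ∈ cH C H ↔ g ∈ H ∧ g * dd C = dd C * g := by
  rw [cH, Subgroup.mem_inf, Subgroup.mem_centralizer_singleton_iff]

theorem card_cH (hD : dd C ∈ H) (h2 : (2 : F) ≠ 0) (hz : zSub C H = ⊥) (ht : IsTrans C H) :
    Nat.card (cH C H) = (C.q + 1) * Nat.card (eSub C H) := by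
  classical
  have horb : MulAction.orbit (cH C H) (base C) = chord C := by
    ext y
    constructor
    · rintro ⟨⟨g, hg⟩, rfl⟩
      show dd C • (g • base C) = g • base C
      rw [← mul_smul, ← ((mem_cH C).1 hg).2, mul_smul, (smul_base_iff C).2 (dd_mem C)]
    · intro hy
      obtain ⟨h, hh, rfl⟩ := ht y
      have hsB : h⁻¹ * dd C * h ∈ borel C := by
        rw [← smul_base_iff, mul_smul, mul_smul, hy, inv_smul_smul]
      have hse : eig C (h⁻¹ * dd C * h) = -1 := eig_involution C hsB h2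
        (by rw [show h⁻¹ * dd C * h * (h⁻¹ * dd C * h) = h⁻¹ * (dd C * dd C) * h by group,
          dd_mul_self]; group)
        (fun e => dd_ne_one C h2 (by
          rw [show dd C = h * (h⁻¹ * dd C * h) * h⁻¹ by group, e]; group))
      obtain ⟨v, hv, hvU, hvs⟩ := exists_radU_conj C hD h2 hz
        (H.mul_mem (H.mul_mem (H.inv_mem hh) hD) hh) hsB hse
      refine ⟨⟨h * v, (mem_cH C).2 ⟨H.mul_mem hh hv, ?_⟩⟩, ?_⟩
      · rw [show dd C * (h * v) = h * (h⁻¹ * dd C * h) * v by group, hvs]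
        group
      · show (h * v) • base C = h • base C
        rw [mul_smul, (smul_base_iff C).2 (radU_le C hvU)]
  have h1 := (MulAction.stabilizer (cH C H) (base C)).card_mul_index
  rw [MulAction.index_stabilizer, horb, ← Nat.card_coe_set_eq, card_chord C h2] at h1
  rw [← h1, mul_comm]
  congr 1
  refine Nat.card_congr (Equiv.ofBijective (fun g : MulAction.stabilizer (cH C H) (base C) =>
    (⟨eigHom C ⟨g.1.1, (smul_base_iff C).1 g.2⟩, (mem_eSub C H).2
      ⟨g.1.1, ((mem_cH C).1 g.1.2).1, (smul_base_iff C).1 g.2, rfl⟩⟩ : eSub C H)) ⟨?_, ?_⟩)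
  · intro g g' h
    have h' : eigHom C ⟨g.1.1, (smul_base_iff C).1 g.2⟩ = eigHom C ⟨g'.1.1, (smul_base_iff C).1 g'.2⟩ :=
      congrArg Subtype.val h
    obtain ⟨x, hx⟩ := exists_uu C (g := g.1.1 * g'.1.1⁻¹) (by
      have hm : g.1.1 * g'.1.1⁻¹ ∈ borel C :=
        (borel C).mul_mem ((smul_base_iff C).1 g.2) ((borel C).inv_mem ((smul_base_iff C).1 g'.2))
      refine (mem_radU_iff C hm).2 ?_
      have e : eigHom C ⟨g.1.1 * g'.1.1⁻¹, hm⟩ = 1 := by
        rw [show (⟨_, hm⟩ : borel C) = ⟨g.1.1, (smul_base_iff C).1 g.2⟩ *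
          ⟨g'.1.1, (smul_base_iff C).1 g'.2⟩⁻¹ from rfl, map_mul, map_inv, h', mul_inv_cancel]
      exact congrArg Units.val e)
    have hm := (cH C H).mul_mem g.1.2 ((cH C H).inv_mem g'.1.2)
    rw [hx, mem_cH] at hm
    let x' : Par C := ⟨(-x.1.1, x.1.2), by rw [map_neg]; linear_combination x.2⟩
    have hc := hm.2
    rw [uu_dd C (x := x) (x' := x') rfl rfl, mul_left_cancel_iff] at hc
    have hw : x.1.1 = 0 := by
      have := congrArg (fun q : Par C => q.1.1) (uu_injective C hc)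
      exact (mul_eq_zero.1 (by linear_combination -this : (2 : F) * x.1.1 = 0)).resolve_left h2
    have hx0 := Par.eq_of_zero C hz hm.1 (y := Par.zero C) (by rw [uu_zero]; exact H.one_mem) hw
    rw [hx0, uu_zero, mul_inv_eq_one] at hx
    exact Subtype.ext (Subtype.ext hx)
  · rintro ⟨a, ha⟩
    obtain ⟨g, hg, hgB, hge⟩ := (mem_eSub C H).1 ha
    have hmemB := (borel C).mul_mem ((borel C).mul_mem hgB (dd_mem C)) ((borel C).inv_mem hgB)
    have hse : eig C (g * dd C * g⁻¹) = -1 := by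
      have e : eigHom C ⟨_, hmemB⟩ = eigHom C ⟨dd C, dd_mem C⟩ := by
        rw [show (⟨_, hmemB⟩ : borel C) = ⟨g, hgB⟩ * ⟨dd C, dd_mem C⟩ * ⟨g, hgB⟩⁻¹ from rfl,
          map_mul, map_mul, map_inv, mul_right_comm, mul_inv_cancel, one_mul]
      exact (congrArg Units.val e).trans (eig_dd C)
    obtain ⟨v, hv, hvU, hvs⟩ := exists_radU_conj C hD h2 hz
      (H.mul_mem (H.mul_mem hg hD) (H.inv_mem hg)) hmemB hse
    have hc : v⁻¹ * g ∈ cH C H := by
      refine (mem_cH C).2 ⟨H.mul_mem (H.inv_mem hv) hg, ?_⟩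
      rw [show v⁻¹ * g * dd C = v⁻¹ * (g * dd C * g⁻¹) * g by group, hvs]
      group
    have hB := (borel C).mul_mem ((borel C).inv_mem (radU_le C hvU)) hgB
    refine ⟨⟨⟨_, hc⟩, (smul_base_iff C).2 hB⟩, Subtype.ext (Units.ext ?_)⟩
    show eig C (v⁻¹ * g) = (a : F)
    refine eig_of_eq C ?_
    rw [app_mul, app_eig C hgB, app_smul, hge]
    congr 1
    exact (radU C).inv_mem hvU

/-- The preimage of `H` under `phi`. -/
noncomputable def rH (H : Subgroup (GG C)) : Subgroup (SL(2, fixF C) × normOne C) :=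
  H.comap (phi C)

/-- The map `ν ↦ ν⁻²` on the norm one scalars. -/
noncomputable def sqInv : normOne C →* normOne C where
  toFun a := (a * a)⁻¹
  map_one' := by simp
  map_mul' a b := by simp only [← _root_.mul_inv_rev]; congr 1; ac_rfl

theorem normOne_sq {a : normOne C} (h : (a.1 : F) * a.1 = 1) : (a.1 : F) = 1 ∨ (a.1 : F) = -1 := by
  rcases mul_eq_zero.1 (show ((a.1 : F) - 1) * ((a.1 : F) + 1) = 0 by linear_combination h) with h | h
  · exact Or.inl (sub_eq_zero.1 h)
  · exact Or.inr (eq_neg_of_add_eq_zero_left h)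

theorem index_sqInv_range : (sqInv C).range.index ≤ 2 := by
  classical
  have h1 := (sqInv C).range.card_mul_index
  rw [← (sqInv C).ker.card_mul_index, Subgroup.index_ker,
    mul_comm (Nat.card (sqInv C).range)] at h1
  rw [Nat.eq_of_mul_eq_mul_right Nat.card_pos h1]
  refine (Nat.card_le_card_of_injective
    (fun a : (sqInv C).ker => decide ((a.1.1 : F) = 1)) ?_).trans (by simp)
  intro a b hab
  simp only [decide_eq_decide] at hab
  have hcases : ∀ c : (sqInv C).ker, (c.1.1 : F) = 1 ∨ (c.1.1 : F) = -1 := fun c => by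
    refine normOne_sq C ?_
    have h : (c.1 * c.1)⁻¹ = 1 := MonoidHom.mem_ker.1 c.2
    rw [inv_eq_one] at h
    exact congrArg (fun t : normOne C => (t.1 : F)) h
  refine Subtype.ext (Subtype.ext (Units.ext ?_))
  rcases hcases a with ha | ha
  · rw [ha, hab.1 ha]
  · rcases hcases b with hb | hb
    · rw [hb, hab.2 hb]
    · rw [ha, hb]

theorem ww_ne_zero : (ww : VV F) ≠ 0 := fun h => by
  have := congrFun h (Sum.inr 0)
  simp [ww, inW] at this

theorem exists_muHom (h2 : (2 : F) ≠ 0) :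
    ∃ ψ : cH C H →* normOne C, ∀ g : cH C H, app C g.1 ww = ((ψ g).1 : F) • ww := by
  have hmu : ∀ g : cH C H, ∃ μ : normOne C, app C g.1 ww = ((μ.1 : F)) • ww := by
    intro g
    obtain ⟨μ, hμ, hn⟩ := exists_mu C ((mem_cH C).1 g.2).2 h2
    exact ⟨⟨Units.mk0 μ (fun h => by simp [h] at hn), hn⟩, hμ⟩
  choose μ hμ using hmu
  refine ⟨{ toFun := μ, map_one' := ?_, map_mul' := fun g h => ?_ }, hμ⟩
  · refine Subtype.ext (Units.ext (smul_left_injective F (ww_ne_zero (F := F)) ?_))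
    simpa [app_one] using (hμ 1).symm
  · refine Subtype.ext (Units.ext (smul_left_injective F (ww_ne_zero (F := F)) ?_))
    show ((μ (g * h)).1 : F) • (ww : VV F) = _
    rw [← hμ, Subgroup.coe_mul, app_mul, hμ, app_smul, hμ, smul_smul, Subgroup.coe_mul,
      Units.val_mul, mul_comm]

theorem exists_lift (h2 : (2 : F) ≠ 0) (g : GG C) (hgD : g * dd C = dd C * g) (a : normOne C)
    (hμ : app C g ww = (((a.1 : F) * a.1)⁻¹) • (ww : VV F)) :
    ∃ M, phi C (M, a) = g := by
  obtain ⟨M, hM⟩ := exists_jj C (g := g * tt C a.1⁻¹) (by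
    rw [mul_assoc, dd, tt_mul, mul_comm, ← tt_mul, ← dd, ← mul_assoc, hgD, mul_assoc]) h2 (by
    have e : app C (tt C a.1⁻¹) ww = (C.σ ((a.1⁻¹ : Fˣ) : F) / ((a.1⁻¹ : Fˣ) : F)) • (ww : VV F) := by
      rw [← vec_zero_one C, app_tt, smul_vec]; simp
    rw [app_mul, e, app_smul, hμ, smul_smul, sigma_inv C ((normOne C).inv_mem a.2)]
    conv_rhs => rw [← one_smul F (ww : VV F)]
    congr 1
    have := a.1.ne_zero
    push_cast
    field_simp)
  exact ⟨M, by rw [phi_apply, ← hM, mul_assoc, tt_mul, inv_mul_cancel, tt_one, mul_one]⟩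

theorem card_cH_le_rH (h2 : (2 : F) ≠ 0) : Nat.card (cH C H) ≤ Nat.card (rH C H) := by
  classical
  obtain ⟨ψ, hψ⟩ := exists_muHom C (H := H) h2
  set S := (sqInv C).range.comap ψ with hS
  have hS2 : Nat.card (cH C H) ≤ Nat.card (Bool × S) := by
    rw [← S.card_mul_index, Nat.card_prod, Nat.card_eq_fintype_card (α := Bool), Fintype.card_bool,
      mul_comm 2]
    refine Nat.mul_le_mul_left _ (le_trans ?_ (index_sqInv_range C))
    rw [hS, Subgroup.index_comap]
    exact (Subgroup.relIndex_le_of_le_right le_top (by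
      rw [Subgroup.relIndex_top_right]; exact (sqInv C).range.index_ne_zero_of_finite)).trans_eq
      (sqInv C).range.relIndex_top_right
  refine hS2.trans ?_
  have hlift : ∀ g : S, ∃ x : rH C H, phi C x.1 = g.1.1 := by
    rintro ⟨g, a, ha⟩
    obtain ⟨hgH, hgD⟩ := (mem_cH C).1 g.2
    obtain ⟨M, hM⟩ := exists_lift C h2 g.1 hgD a (by
      rw [hψ g, ← ha]
      show ((((a * a)⁻¹ : normOne C)).1 : F) • (ww : VV F) = _
      rw [Subgroup.coe_inv, Subgroup.coe_mul, Units.val_inv_eq_inv_val, Units.val_mul])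
    exact ⟨⟨(M, a), show phi C (M, a) ∈ H from hM ▸ hgH⟩, hM⟩
  choose l hl using hlift
  let z : normOne C := ⟨-1, by simp [mem_normOne]⟩
  have hz : phi C (-1, z) = 1 := by
    rw [phi_apply, jj_neg_one, show tt C z.1 = dd C from rfl, dd_mul_self]
  let zz : rH C H := ⟨(-1, z), show phi C (-1, z) ∈ H from hz ▸ H.one_mem⟩
  let e : Bool → rH C H := fun u => bif u then zz else 1
  have hp : ∀ u : Bool, phi C (e u).1 = 1 := fun u => by
    cases u
    · exact map_one (phi C)
    · exact hz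
  have hne : e false ≠ e true := fun h => by
    have h' : (1 : F) = -1 := congrArg (fun x : rH C H => (x.1.2.1 : F)) h
    exact h2 (by linear_combination h')
  refine Nat.card_le_card_of_injective (fun y : Bool × S => e y.1 * l y.2) ?_
  rintro ⟨u, g⟩ ⟨u', g'⟩ h
  have h1 : phi C ((e u * l g : rH C H)).1 = phi C ((e u' * l g' : rH C H)).1 :=
    congrArg (fun x : rH C H => phi C x.1) h
  rw [Subgroup.coe_mul, Subgroup.coe_mul, map_mul, map_mul, hp, hp, one_mul, one_mul, hl, hl] at h1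
  obtain rfl : g = g' := Subtype.ext (Subtype.ext h1)
  have h3 : e u = e u' := mul_right_cancel h
  cases u <;> cases u'
  · rfl
  · exact absurd h3 hne
  · exact absurd h3.symm hne
  · rfl

theorem ker_phi {x : SL(2, fixF C) × normOne C} (hx : phi C x = 1) :
    (x.2.1 : F) * x.2.1 = 1 ∧ ((x.2.1 : F) = 1 → x = 1) := by
  obtain ⟨M, a⟩ := x
  rw [phi_apply, mul_eq_one_iff_eq_inv] at hx
  have h1 := congrArg (fun g => app C g (ww : VV F)) hx
  have hinv : (tt C a.1)⁻¹ = tt C a.1⁻¹ := inv_eq_of_mul_eq_one_right (by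
    rw [tt_mul, mul_inv_cancel, tt_one])
  simp only [hinv, ← vec_zero_one C, app_jj, app_tt, vec_eq_iff] at h1
  obtain ⟨-, h1, -⟩ := h1
  rw [sigma_inv C ((normOne C).inv_mem a.2)] at h1
  have hne := a.1.ne_zero
  push_cast at h1
  field_simp at h1
  refine ⟨by linear_combination -h1, fun ha => ?_⟩
  have ha' : a = 1 := Subtype.ext (Units.ext ha)
  subst ha'
  rw [OneMemClass.coe_one, inv_one, tt_one, ← map_one (jj C)] at hinv
  rw [OneMemClass.coe_one, tt_one, inv_one, ← map_one (jj C)] at hx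
  exact Prod.ext (jj_injective C hx) rfl

set_option maxHeartbeats 1000000 in
/-- The subgroup of `PSL(2,q)` cut out by the centraliser of `dd`. -/
theorem exists_chord_subgroup {p : ℕ} [Fact p.Prime] [CharP F p] (hp2 : p ≠ 2) (hD : dd C ∈ H)
    (hz : zSub C H = ⊥) (ht : IsTrans C H) :
    ∃ Y : Subgroup PSL(2, fixF C), ¬ p ∣ Nat.card Y ∧
      (C.q + 1) * Nat.card (eSub C H) ≤
        Nat.card ↥(eSub C H ⊓ normOne C) * (2 * Nat.card Y) ∧
      (Nat.card Y).Coprime p ∧ ∀ r : ℕ, r.Prime → r ∣ Nat.card Y → r ∣ 2 * Nat.card H := by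
  classical
  have hp : p.Prime := Fact.out
  have h2 : (2 : F) ≠ 0 := fun h => hp2 ((Nat.prime_dvd_prime_iff_eq hp Nat.prime_two).1
    ((CharP.cast_eq_zero_iff F p 2).1 (by exact_mod_cast h)))
  set R := rH C H with hR
  let ρ : R →* PSL(2, fixF C) := (projHom.comp (MonoidHom.fst _ _)).comp R.subtype
  -- the order of `R`
  let f : R →* GG C := (phi C).comp R.subtype
  have hker2 : ∀ x : f.ker, x.1 * x.1 = 1 := fun x => by
    obtain ⟨h1, -⟩ := ker_phi C (MonoidHom.mem_ker.1 x.2)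
    have hx : phi C (x.1.1 * x.1.1) = 1 := by
      rw [map_mul, show phi C x.1.1 = 1 from MonoidHom.mem_ker.1 x.2, one_mul]
    exact Subtype.ext ((ker_phi C hx).2 (by simpa using h1))
  have hkerle : Nat.card f.ker ≤ 2 := by
    refine le_trans (Nat.card_le_card_of_injective (fun x : f.ker => decide ((x.1.1.2.1 : F) = 1)) ?_)
      (by simp)
    intro x y hxy
    simp only [decide_eq_decide] at hxy
    have hx : phi C x.1.1 = 1 := MonoidHom.mem_ker.1 x.2
    have hy : phi C y.1.1 = 1 := MonoidHom.mem_ker.1 y.2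
    have hy' : y.1.1 * y.1.1 = 1 := congrArg Subtype.val (hker2 y)
    refine Subtype.ext (Subtype.ext ?_)
    by_cases hc : (x.1.1.2.1 : F) = 1
    · rw [(ker_phi C hx).2 hc, (ker_phi C hy).2 (hxy.1 hc)]
    have hsq : ∀ c : F, c * c = 1 → c ≠ 1 → c = -1 := fun c h h' =>
      eq_neg_of_add_eq_zero_left ((mul_eq_zero.1
        (show (c - 1) * (c + 1) = 0 by linear_combination h)).resolve_left (sub_ne_zero.2 h'))
    refine mul_right_cancel (b := y.1.1) (Eq.trans ?_ hy'.symm)
    refine (ker_phi C (x := x.1.1 * y.1.1) (by rw [map_mul, hx, hy, one_mul])).2 ?_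
    rw [Prod.snd_mul, Subgroup.coe_mul, Units.val_mul, hsq _ (ker_phi C hx).1 hc,
      hsq _ (ker_phi C hy).1 (fun h => hc (hxy.2 h))]
    ring
  have hkerdvd : Nat.card f.ker ∣ 2 := by
    rcases (show Nat.card f.ker = 1 ∨ Nat.card f.ker = 2 by
      have : 0 < Nat.card f.ker := Nat.card_pos
      omega) with h | h <;> rw [h] <;> norm_num
  have hcard : Nat.card R = Nat.card f.ker * Nat.card f.range := by
    rw [← f.ker.card_mul_index, Subgroup.index_ker]
  have hrange : f.range ≤ cH C H := by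
    rintro _ ⟨x, rfl⟩
    exact (mem_cH C).2 ⟨x.2, phi_dd C x.1⟩
  have hrdvd : Nat.card R ∣ 2 * Nat.card (cH C H) := by
    rw [hcard]
    exact Nat.mul_dvd_mul hkerdvd (Subgroup.card_dvd_of_le hrange)
  have hpc : ¬ p ∣ 2 * Nat.card (cH C H) := by
    intro h
    obtain ⟨p', a, hp', hpc', hqa, ha⟩ := exists_prime C
    obtain rfl := CharP.eq F hpc' ‹CharP F p›
    rcases hp.dvd_mul.1 h with h | h
    · exact hp2 ((Nat.prime_dvd_prime_iff_eq hp Nat.prime_two).1 h)
    rw [card_cH C hD h2 hz ht] at h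
    have hq : p' ∣ C.q := hqa ▸ dvd_pow_self p' (by omega)
    rcases hp.dvd_mul.1 h with h | h
    · exact hp.not_dvd_one ((Nat.dvd_add_right hq).1 h)
    · have h3 := h.trans (Subgroup.card_subgroup_dvd_card (eSub C H))
      rw [Nat.card_units, Nat.card_eq_fintype_card, C.card] at h3
      have hq2 : p' ∣ C.q ^ 2 := dvd_pow hq two_ne_zero
      have h1 := Nat.dvd_sub hq2 h3
      rw [Nat.sub_sub_self (Nat.one_le_pow _ _ (by linarith [C.two_le]))] at h1
      exact hp.not_dvd_one h1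
  have hYR : Nat.card ρ.range ∣ Nat.card R := by
    rw [← ρ.ker.card_mul_index, Subgroup.index_ker]; exact Dvd.intro_left _ rfl
  have hpY : ¬ p ∣ Nat.card ρ.range := fun h => hpc (h.trans (hYR.trans hrdvd))
  refine ⟨ρ.range, hpY, ?_, ((hp.coprime_iff_not_dvd).2 hpY).symm, fun r _ hr =>
    hr.trans (hYR.trans (hrdvd.trans (Nat.mul_dvd_mul_left 2
      (Subgroup.card_dvd_of_le (inf_le_left : cH C H ≤ H)))))⟩
  rw [← card_cH C hD h2 hz ht]
  refine (card_cH_le_rH C h2).trans ?_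
  rw [← ρ.ker.card_mul_index, Subgroup.index_ker, ← mul_assoc]
  refine Nat.mul_le_mul_right _ ?_
  -- the kernel of the projection
  have hsgn : ∀ x : ρ.ker, x.1.1.1 = 1 ∨ x.1.1.1 = -1 := fun x => by
    have h := MonoidHom.mem_ker.1 x.2
    rcases proj_eq_proj_iff.1 (show proj x.1.1.1 = proj 1 from h.trans (map_one projHom).symm) with
      h | h
    · exact Or.inl h.symm
    · exact Or.inr (by rw [h, neg_neg])
  have hmem : ∀ x : ρ.ker, (if x.1.1.1 = 1 then x.1.1.2 else ⟨-1, by simp [mem_normOne]⟩ * x.1.1.2 :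
      normOne C).1 ∈ eSub C H ⊓ normOne C := by
    intro x
    refine Subgroup.mem_inf.2 ⟨?_, (_ : normOne C).2⟩
    have hH : phi C x.1.1 ∈ H := x.1.2
    rw [show x.1.1 = (x.1.1.1, x.1.1.2) from rfl, phi_apply] at hH
    have heq : jj C x.1.1.1 * tt C x.1.1.2.1 = tt C
        (if x.1.1.1 = 1 then x.1.1.2 else ⟨-1, by simp [mem_normOne]⟩ * x.1.1.2 : normOne C).1 := by
      split_ifs with h
      · rw [h, map_one, one_mul]
      · rw [(hsgn x).resolve_left h, jj_neg_one, dd, tt_mul]; rfl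
    rw [heq] at hH
    exact (mem_eSub C H).2 ⟨_, hH, tt_mem C _, eig_tt C _⟩
  refine (Nat.card_le_card_of_injective (fun x : ρ.ker => (decide (x.1.1.1 = 1),
    (⟨_, hmem x⟩ : ↥(eSub C H ⊓ normOne C)))) ?_).trans (by rw [Nat.card_prod]; simp [mul_comm])
  intro x y hxy
  simp only [Prod.mk.injEq, decide_eq_decide, Subtype.mk.injEq] at hxy
  obtain ⟨h1, h3⟩ := hxy
  have hfst : x.1.1.1 = y.1.1.1 := by
    rcases hsgn x with h | h <;> rcases hsgn y with h' | h' <;> simp_all
  refine Subtype.ext (Subtype.ext (Prod.ext hfst (Subtype.ext ?_)))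
  rw [hfst] at h3
  split_ifs at h3 with h
  · exact h3
  · simpa using h3

end CfsgLib.MinDegree.UThreeIndex
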