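import Cfsg.Agent.MinDegree.UThreeLocal
import Cfsg.Agent.DicksonPSL2.Classification

/-!
# The chord through two points

`jj` is `SL(2,q)` on the plane of `e` and `f`. If every root group of a transitive `H` is proper and
non-trivial, Dickson's theorem leaves `p = 2` with root groups of order two, and `q = 9`.
-/

set_option autoImplicit false
set_option linter.unusedSectionVars false

namespace CfsgLib.MinDegree.UThreeIndex

open Matrix CfsgLib.RepBounds.Unit CfsgLib.DicksonPSL2 CfsgLib.SL2Trace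
open scoped MatrixGroups

variable {F : Type*} [Field F] [Fintype F] (C : ConjField F)

/-- The subfield fixed by the involution. -/
def fixF : Subfield F := RingHom.eqLocusField C.σ (RingHom.id F)

theorem fixF_spec (x : fixF C) : C.σ (x : F) = x := x.2

/-- A non-zero skew scalar. -/
noncomputable def thA : F := C.exists_skew_ne.choose

theorem thA_mem : thA C ∈ C.skew := C.exists_skew_ne.choose_spec.1

theorem thA_ne : thA C ≠ 0 := C.exists_skew_ne.choose_spec.2

theorem skew_div_mem (d : C.skew) : (d : F) / thA C ∈ fixF C := by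
  show C.σ ((d : F) / thA C) = _
  rw [map_div₀, C.skew_eq (thA_mem C), C.skew_eq d.2, neg_div_neg_eq]
  rfl

theorem mul_thA_mem (w : fixF C) : (w : F) * thA C ∈ C.skew := by
  rw [ConjField.mem_skew, map_mul, fixF_spec, C.skew_eq (thA_mem C)]
  ring

/-- The fixed field against the skew scalars. -/
noncomputable def skewEquiv : fixF C ≃ C.skew where
  toFun w := ⟨(w : F) * thA C, mul_thA_mem C w⟩
  invFun d := ⟨(d : F) / thA C, skew_div_mem C d⟩
  left_inv w := Subtype.ext (mul_div_cancel_right₀ _ (thA_ne C))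
  right_inv d := Subtype.ext (div_mul_cancel₀ _ (thA_ne C))

theorem card_fixF : Nat.card (fixF C) = C.q := by
  rw [Nat.card_congr (skewEquiv C), C.card_skew]

/-- The matrix with block `K` in the basis `e`, `f`, `w`. -/
noncomputable def blk (K : Matrix (Fin 3) (Fin 3) F) : Matrix (Fin 2 ⊕ Fin 1) (Fin 2 ⊕ Fin 1) F :=
  1 + torP C (0 : Fin 1) * ((K - 1) * torR C (0 : Fin 1))

theorem blk_mulVec (K : Matrix (Fin 3) (Fin 3) F) (a z b : F) :
    blk C K *ᵥ vec C a z b = vec C (K 0 0 * a + K 0 1 * b + K 0 2 * z)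
      (K 2 0 * a + K 2 1 * b + K 2 2 * z) (K 1 0 * a + K 1 1 * b + K 1 2 * z) := by
  have hs : inW (Pi.single (0 : Fin 1) (1 : F)) = (ww : VV F) := by
    congr 1; funext i; rw [Fin.fin_one_eq_zero i, Pi.single_eq_same]
  have e1 : herm C (vec C a z b) (vF C (Fin 1)) = a := by rw [← vec_last, herm_vec]; simp
  have e2 : herm C (vec C a z b) (vE C (Fin 1)) = b := by rw [← vec_one_zero, herm_vec]; simp
  have e3 : herm C (vec C a z b) ww = z := by rw [← vec_zero_one C, herm_vec]; simp
  rw [blk, Matrix.add_mulVec, Matrix.one_mulVec, ← Matrix.mulVec_mulVec, ← Matrix.mulVec_mulVec,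
    torR_mulVec, hs, e1, e2, e3, torP_mulVec, hs]
  simp [Matrix.mulVec, dotProduct, Fin.sum_univ_three, vec, Matrix.one_apply]
  module

theorem blk_det (K : Matrix (Fin 3) (Fin 3) F) : (blk C K).det = K.det := by
  have hRP : torR C (0 : Fin 1) * torP C (0 : Fin 1) = 1 := by
    refine Matrix.ext_iff_mulVec.2 fun y => ?_
    rw [← Matrix.mulVec_mulVec, torP_mulVec, torR_mulVec, Matrix.one_mulVec]
    ext j
    fin_cases j <;>
      simp [herm_add_left, herm_smul_left, herm_vE_vE, herm_vE_vF, herm_vF_vE, herm_vF_vF, herm_vE_inW,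
        herm_vF_inW, herm_inW_vE, herm_inW_vF, herm_inW] <;>
      simp [herm]
  rw [blk, Matrix.det_one_add_mul_comm, Matrix.mul_assoc, hRP, Matrix.mul_one, add_sub_cancel]

/-- The block of an element of `SL(2,q)`. -/
noncomputable def jBlock (g : SL(2, fixF C)) : Matrix (Fin 3) (Fin 3) F :=
  !![(g.1 0 0 : F), thA C * g.1 0 1, 0; (thA C)⁻¹ * g.1 1 0, g.1 1 1, 0; 0, 0, 1]

theorem jBlock_det (g : SL(2, fixF C)) : (jBlock C g).det = 1 := by
  have hd : g.1.det = 1 := g.2
  rw [Matrix.det_fin_two] at hd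
  have h := congrArg (Subtype.val : fixF C → F) hd
  push_cast at h
  simp [jBlock, Matrix.det_fin_three]
  field_simp [thA_ne C]
  linear_combination h

theorem jMat_mulVec (g : SL(2, fixF C)) (a z b : F) :
    blk C (jBlock C g) *ᵥ vec C a z b = vec C ((g.1 0 0 : F) * a + thA C * g.1 0 1 * b) z
      ((thA C)⁻¹ * g.1 1 0 * a + g.1 1 1 * b) := by
  rw [blk_mulVec]
  simp [jBlock]

/-- `SL(2,q)` on the chord. -/
noncomputable def jj : SL(2, fixF C) →* GG C where
  toFun g := ⟨⟨blk C (jBlock C g), by rw [blk_det, jBlock_det]⟩, fun x y => by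
    show herm C (blk C (jBlock C g) *ᵥ x) (blk C (jBlock C g) *ᵥ y) = herm C x y
    obtain ⟨a, z, b, rfl⟩ := exists_vec C x
    obtain ⟨a', z', b', rfl⟩ := exists_vec C y
    have hd : g.1.det = 1 := g.2
    rw [Matrix.det_fin_two] at hd
    have h := congrArg (Subtype.val : fixF C → F) hd
    push_cast at h
    rw [jMat_mulVec, jMat_mulVec, herm_vec, herm_vec]
    simp only [map_add, map_mul, map_inv₀, fixF_spec, C.skew_eq (thA_mem C)]
    field_simp [thA_ne C]
    linear_combination (thA C * (a * C.σ b' + b * C.σ a')) * h⟩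
  map_one' := ext_vec C fun a z b => by
    show blk C (jBlock C 1) *ᵥ _ = _
    rw [jMat_mulVec, app_one]
    simp
  map_mul' g h := ext_vec C fun a z b => by
    rw [app_mul]
    show blk C (jBlock C (g * h)) *ᵥ _ = blk C (jBlock C g) *ᵥ (blk C (jBlock C h) *ᵥ _)
    rw [jMat_mulVec, jMat_mulVec, jMat_mulVec, vec_eq_iff]
    simp only [Matrix.SpecialLinearGroup.coe_mul, Matrix.mul_apply, Fin.sum_univ_two]
    push_cast
    refine ⟨?_, trivial, ?_⟩ <;> field_simp [thA_ne C] <;> ring

theorem app_jj (g : SL(2, fixF C)) (a z b : F) : app C (jj C g) (vec C a z b) =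
    vec C ((g.1 0 0 : F) * a + thA C * g.1 0 1 * b) z ((thA C)⁻¹ * g.1 1 0 * a + g.1 1 1 * b) :=
  jMat_mulVec C g a z b

theorem jj_injective : Function.Injective (jj C) := by
  intro g h e
  have e1 := congrArg (fun x => app C x (vec C 1 0 0)) e
  have e2 := congrArg (fun x => app C x (vec C 0 0 1)) e
  simp only [app_jj, vec_eq_iff, mul_one, mul_zero, add_zero, zero_add] at e1 e2
  obtain ⟨a1, -, a2⟩ := e1
  obtain ⟨a3, -, a4⟩ := e2
  refine Subtype.ext (Matrix.ext fun i j => Subtype.ext ?_)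
  fin_cases i <;> fin_cases j
  · exact a1
  · exact mul_left_cancel₀ (thA_ne C) a3
  · exact mul_left_cancel₀ (inv_ne_zero (thA_ne C)) a2
  · exact a4

theorem jj_upSL (w : fixF C) : jj C (upSL w) = uu C (zpar C (skewEquiv C w)) := by
  refine ext_vec C fun a z b => ?_
  rw [app_jj, app_uu, vec_eq_iff]
  simp [coe_upSL, zpar, skewEquiv]
  ring

theorem fixF_charP {p : ℕ} [CharP F p] : CharP (fixF C) p :=
  RingHom.charP (fixF C).subtype Subtype.val_injective p

variable {H : Subgroup (GG C)}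

/-- The image of `H` in `PSL(2,q)`. -/
noncomputable def chordImage (H : Subgroup (GG C)) : Subgroup PSL(2, fixF C) :=
  (H.comap (jj C)).map projHom

theorem u_mem_chordImage_iff {p : ℕ} [Fact p.Prime] [CharP F p] (w : fixF C) :
    u w ∈ chordImage C H ↔ uu C (zpar C (skewEquiv C w)) ∈ H := by
  rw [← jj_upSL]
  refine ⟨?_, fun h => ⟨upSL w, h, rfl⟩⟩
  rintro ⟨x, hx, hxw⟩
  have := fixF_charP C (p := p)
  rcases proj_eq_proj_iff.1 (show proj x = proj (upSL w) from hxw) with h | h
  · rw [h]; exact hx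
  · have hp : (upSL w) ^ p = 1 := by
      have hn : ∀ n : ℕ, upSL w ^ n = upSL ((n : fixF C) * w) := fun n => by
        induction n with
        | zero => simp [upSL_zero]
        | succ n ih => rw [pow_succ, ih, ← upSL_add]; push_cast; ring_nf
      rw [hn, CharP.cast_eq_zero, zero_mul, upSL_zero]
    rcases Nat.even_or_odd p with he | ho
    · have h2 : p = 2 := ((Fact.out : p.Prime).even_iff).1 he
      subst h2
      have : upSL w = x := by
        rw [h]
        refine Subtype.ext (Matrix.ext fun i j => ?_)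
        rw [Matrix.SpecialLinearGroup.coe_neg, Matrix.neg_apply, CharTwo.neg_eq]
      rw [this]; exact hx
    · have h3 : x ^ (p + 1) = upSL w := by
        rw [← neg_neg x, ← h, (Odd.add_one ho).neg_pow, pow_succ, hp, one_mul]
      rw [← h3, map_pow]
      exact H.pow_mem hx _

theorem card_trans_chordImage {p : ℕ} [Fact p.Prime] [CharP F p] :
    Nat.card (trans (chordImage C H)) = Nat.card (zSub C H) :=
  Nat.card_congr ((skewEquiv C).subtypeEquiv fun w => u_mem_chordImage_iff C w)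

theorem exists_conj_mem_chordImage (ht : IsTrans C H) {d : C.skew} (hd : d ∈ zSub C H) (hd0 : d ≠ 0)
    (g : PSL(2, fixF C)) : ∃ w : fixF C, w ≠ 0 ∧ g * u w * g⁻¹ ∈ chordImage C H := by
  obtain ⟨g, rfl⟩ := projHom_surjective g
  obtain ⟨b, hb, e, he, he'⟩ := conj_central_mem C ht (jj C g) hd
  refine ⟨(skewEquiv C).symm e, fun h => hd0 ?_, g * upSL ((skewEquiv C).symm e) * g⁻¹, ?_, ?_⟩
  · have he0 : (e : F) = 0 := by
      rw [← Equiv.apply_symm_apply (skewEquiv C) e, h]
      simp [skewEquiv]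
    rw [he0, eq_comm, mul_eq_zero, mul_eq_zero, map_eq_zero, or_self,
      or_iff_right (eig_ne_zero C hb)] at he'
    exact Subtype.ext he'
  · rw [SetLike.mem_coe, Subgroup.mem_comap, map_mul, map_mul, map_inv, jj_upSL,
      Equiv.apply_symm_apply]
    exact he
  · rw [map_mul, map_mul, map_inv]
    rfl

theorem chordImage_trans {p : ℕ} [Fact p.Prime] [CharP F p] (ht : IsTrans C H) {d : C.skew}
    (hd : d ∈ zSub C H) (hd0 : d ≠ 0) :
    slopes (chordImage C H) = Set.univ := by
  classical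
  have := fixF_charP C (p := p)
  set Y := chordImage C H with hY
  refine Set.eq_univ_of_forall fun s => ?_
  obtain ⟨M, hM0, hM1⟩ : ∃ M : SL(2, fixF C), M.1 0 0 = s ∧ M.1 1 0 = 1 :=
    ⟨⟨!![s, -1; 1, 0], by simp [Matrix.det_fin_two]⟩, rfl, rfl⟩
  set g : PSL(2, fixF C) := proj M with hgdef
  have hg : g ∉ BP := by rw [hgdef, proj_mem_BP_iff, hM1]; exact one_ne_zero
  have hs : slope g = s := by rw [hgdef, slope_proj, hM0, hM1, div_one]
  obtain ⟨h, hh⟩ := exists_smul_eq_of_fixed (G := Y) p (Ω := PSL(2, fixF C) ⧸ BP) (fun z => by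
    induction z using QuotientGroup.induction_on with
    | H k =>
      obtain ⟨w, hw, hwY⟩ := exists_conj_mem_chordImage C ht hd hd0 k
      refine ⟨(upGroup.map (MulAut.conj k).toMonoidHom).subgroupOf Y, ?_, ?_, ?_⟩
      · refine (IsPGroup.map ?_ _).comap_of_injective _ Subtype.val_injective
        intro x
        obtain ⟨v, hv⟩ := mem_upGroup.1 x.2
        refine ⟨1, Subtype.ext ?_⟩
        have hnt : ¬ IsTor (x : PSL(2, fixF C)) := hv ▸ not_isTor_u v
        rw [isTor_iff_pow p, not_not] at hnt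
        rw [SubmonoidClass.coe_pow, pow_one, hnt]
        rfl
      · rintro y ⟨x, hx, hxy⟩
        show (y : PSL(2, fixF C)) • (QuotientGroup.mk k : PSL(2, fixF C) ⧸ BP) = QuotientGroup.mk k
        obtain ⟨v, rfl⟩ := mem_upGroup.1 hx
        rw [show (y : PSL(2, fixF C)) = k * u v * k⁻¹ from hxy.symm, MulAction.Quotient.smul_mk,
          smul_eq_mul, inv_mul_cancel_right, QuotientGroup.eq, _root_.mul_inv_rev, mul_assoc,
          inv_mul_cancel, mul_one]
        exact BP.inv_mem (u_mem_BP v)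
      · intro z hz
        induction z using QuotientGroup.induction_on with
        | H l =>
          have h0 := hz ⟨k * u w * k⁻¹, hwY⟩ ⟨u w, mem_upGroup.2 ⟨w, rfl⟩, rfl⟩
          have h1 : (k * u w * k⁻¹) • (QuotientGroup.mk l : PSL(2, fixF C) ⧸ BP) = QuotientGroup.mk l := h0
          rw [MulAction.Quotient.smul_mk, smul_eq_mul, eq_comm, QuotientGroup.eq] at h1
          set m := (k⁻¹ * l)⁻¹ with hm
          have h2 : m * u w * m⁻¹ ∈ BP := by
            rw [hm]; convert h1 using 1; group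
          have h3 : chi (m * u w * m⁻¹) = 1 := by
            by_contra hne
            exact not_isTor_u w ((isTor_conj_iff _ _).1 (isTor_of_chi_ne_one h2 hne))
          obtain ⟨v, hv⟩ := eq_u_of_chi_eq_one h2 h3
          have h4 := mem_BP_of_conj_u hw hv
          rw [QuotientGroup.eq]
          rw [show l⁻¹ * k = m by rw [hm]; group]
          exact h4) (QuotientGroup.mk 1) (QuotientGroup.mk g)
  have hh' : (QuotientGroup.mk (h : PSL(2, fixF C)) : PSL(2, fixF C) ⧸ BP) = QuotientGroup.mk g := by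
    rw [← hh]
    show _ = (h : PSL(2, fixF C)) • (QuotientGroup.mk 1 : PSL(2, fixF C) ⧸ BP)
    rw [MulAction.Quotient.smul_mk, smul_eq_mul, mul_one]
  rw [QuotientGroup.eq] at hh'
  have hhB : (h : PSL(2, fixF C)) ∉ BP := fun hb =>
    hg (by have := BP.mul_mem hb hh'; rwa [mul_inv_cancel_left] at this)
  refine ⟨(h : PSL(2, fixF C)), ⟨h.2, hhB⟩, ?_⟩
  rw [← slope_mul_BP hhB hh', mul_inv_cancel_left, hs]

/-- Dickson on the chord. -/
theorem zSub_cases {p a : ℕ} [Fact p.Prime] [CharP F p] (hqa : C.q = p ^ a) (hq : 3 ≤ C.q)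
    (hne : H ≠ ⊤) (ht : IsTrans C H) (hz : zSub C H ≠ ⊥) :
    (p = 2 ∧ Nat.card (zSub C H) = 2) ∨ (C.q = 9 ∧ Nat.card (zSub C H) = 3) := by
  classical
  have := fixF_charP C (p := p)
  set Y := chordImage C H with hY
  obtain ⟨⟨d, hd⟩, hd0⟩ := AddSubgroup.nontrivial_iff_exists_ne_zero _ |>.1
    ((AddSubgroup.nontrivial_iff_ne_bot _).2 hz) |> fun ⟨x, hx, hx0⟩ =>
      (⟨⟨x, hx⟩, hx0⟩ : ∃ x : zSub C H, (x : C.skew) ≠ 0)
  have hsl := chordImage_trans C (p := p) ht hd hd0
  have hidx := index_BP_subgroupOf Y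
  rw [hsl, Nat.card_univ, card_fixF] at hidx
  have hcard := card_trans_chordImage C (H := H) (p := p)
  rw [← hY] at hcard
  obtain ⟨w, hw, hw0⟩ : ∃ w : fixF C, u w ∈ Y ∧ w ≠ 0 := by
    obtain ⟨w, hw0, hw⟩ := exists_conj_mem_chordImage C ht hd hd0 1
    exact ⟨w, by simpa using hw, hw0⟩
  have hlt : Nat.card (zSub C H) < C.q := by
    rw [← C.card_skew]
    refine lt_of_le_of_ne ((zSub C H).card_le_card_addGroup) fun h => ?_
    exact hne (eq_top_of_zSub C hq ht (AddSubgroup.eq_top_of_card_eq _ h))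
  have hdvd : Nat.card (zSub C H) ∣ p ^ a := by
    rw [← hqa, ← C.card_skew]; exact AddSubgroup.card_addSubgroup_dvd_card _
  rcases char_case p hw hw0 with hB | ⟨hp2, x, hx, hle⟩ | ⟨h60, hp3, -⟩ | hsub
  · exfalso
    have h0 : (0 : fixF C) ∈ slopes Y := hsl ▸ Set.mem_univ _
    obtain ⟨y, ⟨hyY, hyB⟩, -⟩ := h0
    exact hyB (hB hyY)
  · left
    refine ⟨hp2, ?_⟩
    rw [← hcard]
    have hn : ∀ {v : fixF C}, u v ∈ Y → v ≠ 0 → u v ∉ torus x := fun {v} _ hv0 h =>
      not_isTor_u v (isTor_of_mem_torus hx h (u_ne_one hv0)).1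
    have hall : ∀ v : trans Y, v ≠ 0 → (v : fixF C) = w := by
      intro v hv
      have hv0 : (v : fixF C) ≠ 0 := fun h => hv (Subtype.ext h)
      by_contra hne'
      have h1 := div_mem_torus hx ((mem_normalizer_torus_iff hx).1 (hle v.2))
        ((mem_normalizer_torus_iff hx).1 (hle hw)) (hn v.2 hv0) (hn hw hw0)
      rw [← u_neg, ← u_add] at h1
      refine hn (v := -w + v) ?_ ?_ h1
      · rw [u_add, u_neg]; exact mul_mem (inv_mem hw) v.2
      · rw [neg_add_eq_sub, sub_ne_zero]; exact hne'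
    refine (Nat.card_eq_two_iff' (0 : trans Y)).2 ⟨⟨w, hw⟩, fun h => hw0 (congrArg Subtype.val h), ?_⟩
    exact fun v hv => Subtype.ext (hall v hv)
  · right
    have h1 := (BP.subgroupOf Y).card_mul_index
    rw [card_BP_subgroupOf, hidx, hcard, h60] at h1
    have h2 : 2 ≤ Nat.card (zSub C H) := by
      rw [Nat.succ_le_iff, Finite.one_lt_card_iff_nontrivial, AddSubgroup.nontrivial_iff_ne_bot]
      exact hz
    subst hp3
    have hq60 : C.q + 1 ∣ 60 := h1 ▸ Dvd.intro_left _ rfl
    have ha60 : Nat.card (zSub C H) ∣ 60 := h1 ▸ Dvd.dvd.mul_right (Dvd.intro _ rfl) _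
    obtain ⟨i, -, hi⟩ := (Nat.dvd_prime_pow Nat.prime_three).1 hdvd
    have hi1 : i = 1 := by
      rcases i with _ | _ | i
      · rw [hi] at h2; simp at h2
      · rfl
      · have h9 : 9 ∣ Nat.card (zSub C H) := hi ▸ ⟨3 ^ i, by ring⟩
        exact absurd (h9.trans ha60) (by norm_num)
    subst hi1
    refine ⟨?_, hi⟩
    rw [hqa] at hq60 hlt ⊢
    rw [hi] at hlt
    have h3 := Nat.le_of_dvd (by norm_num) hq60
    have : a < 4 := (Nat.pow_lt_pow_iff_right (by norm_num : 1 < 3)).1 (show 3 ^ a < 3 ^ 4 by omega)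
    interval_cases a <;> simp_all
  · exfalso
    obtain ⟨-, -, e, he⟩ := hsub
    have hsurj : Function.Surjective (fun v : trans Y => (v : fixF C) + e) := fun s =>
      ⟨⟨s - e, he s (hsl ▸ Set.mem_univ s)⟩, sub_add_cancel s e⟩
    have h1 := Nat.card_le_card_of_surjective _ hsurj
    rw [card_fixF, hcard] at h1
    omega

end CfsgLib.MinDegree.UThreeIndex
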