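import Cfsg.Agent.MinDegree.UThreeFiveData

/-!
# The checks on the data for the subgroup of index fifty in `PSU(3,5)`
-/

set_option autoImplicit false
set_option maxRecDepth 10000

namespace CfsgLib.MinDegree.UThreeFive

/-- A point. -/
def rep (p : ℕ) : V3 :=
  let r := (repT >>> (15 * p)) % 32768
  (r % 32, r / 32 % 32, r / 1024)

/-- Membership of a point in a set. -/
def inBlk (i p : ℕ) : Bool := blkT.testBit (525 * i + p)

/-- The image of a point. -/
def perm (g : Fin 3) (p : ℕ) : ℕ := (permT g >>> (10 * p)) % 1024

/-- The preimage of a point. -/
def permInv (g : Fin 3) (p : ℕ) : ℕ := (invT g >>> (10 * p)) % 1024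

/-- The scalar at a point. -/
def sca (g : Fin 3) (p : ℕ) : ℕ := (scaT g >>> (5 * p)) % 32

/-- The image of a set. -/
def img (g : Fin 3) (i : ℕ) : ℕ := (piT g >>> (6 * i)) % 64

/-- The action of a generator on the points. -/
def chkPt (g : Fin 3) : Bool :=
  (List.range 525).all fun p =>
    decide (perm g p < 525) && decide (permInv g p < 525) && (perm g (permInv g p) == p) &&
      decide (0 < sca g p) && decide (sca g p < 25) &&
      (genN g (rep p) == smulN (sca g p) (rep (perm g p)))

/-- The action of a generator on the sets. -/
def chkBlk (g : Fin 3) : Bool :=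
  (List.range 50).all fun i =>
    decide (img g i < 50) &&
      (List.range 525).all fun p => inBlk i p == inBlk (img g i) (perm g p)

/-- The first set moves. -/
def chkMov : Bool :=
  inBlk (img movG 0) movP && decide (movP < 525) &&
    (List.range 525).all fun p => !inBlk 0 p ||
      (List.range 25).all fun s => !(smulN s (rep p) == rep movP)

theorem chkPt_zero : chkPt 0 = true := by decide +kernel

theorem chkPt_one : chkPt 1 = true := by decide +kernel

theorem chkPt_two : chkPt 2 = true := by decide +kernel

theorem chkBlk_zero : chkBlk 0 = true := by decide +kernel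

theorem chkBlk_one : chkBlk 1 = true := by decide +kernel

theorem chkBlk_two : chkBlk 2 = true := by decide +kernel

theorem chkMov_eq : chkMov = true := by decide +kernel

theorem chkPt_all (g : Fin 3) : chkPt g = true := by
  fin_cases g
  exacts [chkPt_zero, chkPt_one, chkPt_two]

theorem chkBlk_all (g : Fin 3) : chkBlk g = true := by
  fin_cases g
  exacts [chkBlk_zero, chkBlk_one, chkBlk_two]

end CfsgLib.MinDegree.UThreeFive
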