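import Mathlib
import Cfsg.Agent.MinDegree.UThreeFiveData

/-!
# The coded field with 25 elements inside a field with 25 elements
-/

set_option autoImplicit false
set_option linter.unusedSectionVars false

namespace CfsgLib.MinDegree.UThreeFive

variable {F : Type*} [Field F] [Fintype F]

/-- The element of code `n`. -/
def dec (θ : F) (n : ℕ) : F := (n % 5 : ℕ) + (n / 5 : ℕ) * θ

theorem five_eq_zero (hF : Fintype.card F = 25) : (5 : F) = 0 := by
  have h : ((25 : ℕ) : F) = 0 := hF ▸ FiniteField.cast_card_eq_zero F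
  have h' : (5 : F) * 5 = 0 := by norm_num at h ⊢; exact h
  exact mul_self_eq_zero.1 h'

theorem two_ne_zero' (h5 : (5 : F) = 0) : (2 : F) ≠ 0 := fun h => by
  exact one_ne_zero (α := F) (by linear_combination h5 - 2 * h)

theorem exists_sqrt_two (hF : Fintype.card F = 25) : ∃ θ : F, θ ^ 2 = 2 := by
  have h5 := five_eq_zero hF
  have h2 := two_ne_zero' h5
  have hc : ringChar F ≠ 2 := fun h => h2 (by
    have := ringChar.Nat.cast_ringChar (R := F)
    rw [h] at this
    exact_mod_cast this)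
  obtain ⟨r, hr⟩ := (FiniteField.isSquare_iff hc h2).2 (by
    rw [hF]
    linear_combination 819 * h5)
  exact ⟨r, by rw [hr, pow_two]⟩

variable {θ : F}

theorem cast_mod (h5 : (5 : F) = 0) (n : ℕ) : ((n % 5 : ℕ) : F) = n := by
  conv_rhs => rw [← Nat.mod_add_div n 5]
  push_cast
  linear_combination -(((n / 5 : ℕ) : F)) * h5

theorem cast_neg_mod (h5 : (5 : F) = 0) (n : ℕ) : (((5 - n % 5) % 5 : ℕ) : F) = -(n : F) := by
  rw [cast_mod h5, Nat.cast_sub (Nat.mod_lt n (by norm_num)).le, cast_mod h5]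
  push_cast
  linear_combination h5

theorem cast_ne_zero (h5 : (5 : F) = 0) {r : ℕ} (h1 : r ≠ 0) (h2 : r < 5) : (r : F) ≠ 0 := fun h => by
  interval_cases r
  · exact h1 rfl
  · exact one_ne_zero (α := F) (by simpa using h)
  · push_cast at h; exact one_ne_zero (α := F) (by linear_combination h5 - 2 * h)
  · push_cast at h; exact one_ne_zero (α := F) (by linear_combination 2 * h - h5)
  · push_cast at h; exact one_ne_zero (α := F) (by linear_combination h5 - h)

theorem dec_split (θ : F) {a b : ℕ} (ha : a < 5) :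
    dec θ (a + 5 * b) = (a : F) + (b : F) * θ := by
  rw [dec, show (a + 5 * b) % 5 = a by omega, show (a + 5 * b) / 5 = b by omega]

theorem dec_addN (h5 : (5 : F) = 0) (x y : ℕ) : dec θ (addN x y) = dec θ x + dec θ y := by
  rw [addN, dec_split θ (Nat.mod_lt _ (by norm_num)), cast_mod h5, cast_mod h5, dec, dec]
  push_cast
  ring

theorem dec_mulN (h5 : (5 : F) = 0) (hθ : θ ^ 2 = 2) (x y : ℕ) :
    dec θ (mulN x y) = dec θ x * dec θ y := by
  rw [mulN, dec_split θ (Nat.mod_lt _ (by norm_num)), cast_mod h5, cast_mod h5, dec, dec]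
  push_cast
  linear_combination -(((x / 5 : ℕ) : F) * ((y / 5 : ℕ) : F)) * hθ

theorem dec_negN (h5 : (5 : F) = 0) (x : ℕ) : dec θ (negN x) = -dec θ x := by
  rw [negN, dec_split θ (Nat.mod_lt _ (by norm_num)), cast_neg_mod h5, cast_neg_mod h5, dec,
    cast_mod h5]
  ring

theorem dec_zero : dec θ 0 = 0 := by simp [dec]

theorem dec_one : dec θ 1 = 1 := by simp [dec]

theorem dec_five : dec θ 5 = θ := by simp [dec]

theorem dec_cjN (h5 : (5 : F) = 0) (hθ : θ ^ 2 = 2) (σ : F →+* F) (hσ : ∀ x, σ x = x ^ 5) (x : ℕ) :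
    σ (dec θ x) = dec θ (cjN x) := by
  have ht : σ θ = -θ := by rw [hσ]; linear_combination θ * (θ ^ 2 + 2) * hθ + θ * h5
  rw [cjN, dec_split θ (Nat.mod_lt _ (by norm_num)), cast_neg_mod h5, dec, map_add, map_mul, map_natCast,
    map_natCast, ht]
  ring

theorem norm_code : ∀ x < 25, x ≠ 0 → mulN x (cjN x) ≠ 0 ∧ mulN x (cjN x) < 5 := by decide +kernel

theorem sub_code : ∀ x < 25, ∀ y < 25, addN x (negN y) = 0 → x = y := by decide +kernel

theorem addN_lt (x y : ℕ) : addN x y < 25 := by unfold addN; omega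

theorem dec_eq_zero (h5 : (5 : F) = 0) (hθ : θ ^ 2 = 2) {x : ℕ} (hx : x < 25) (h : dec θ x = 0) :
    x = 0 := by
  by_contra h0
  obtain ⟨h1, h2⟩ := norm_code x hx h0
  refine cast_ne_zero (F := F) h5 h1 h2 ?_
  have h3 : dec θ (mulN x (cjN x)) = 0 := by rw [dec_mulN h5 hθ, h, zero_mul]
  rwa [dec, Nat.mod_eq_of_lt h2, Nat.div_eq_of_lt h2, Nat.cast_zero, zero_mul, add_zero] at h3

theorem dec_inj (h5 : (5 : F) = 0) (hθ : θ ^ 2 = 2) {x y : ℕ} (hx : x < 25) (hy : y < 25)
    (h : dec θ x = dec θ y) : x = y :=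
  sub_code x hx y hy (dec_eq_zero h5 hθ (addN_lt _ _) (by rw [dec_addN h5, dec_negN h5, h, add_neg_cancel]))

theorem exists_dec (hF : Fintype.card F = 25) (hθ : θ ^ 2 = 2) (x : F) : ∃ n < 25, dec θ n = x := by
  have h5 := five_eq_zero hF
  have hinj : Function.Injective fun i : Fin 25 => dec θ (i : ℕ) := fun i j h =>
    Fin.ext (dec_inj h5 hθ i.2 j.2 h)
  obtain ⟨i, hi⟩ := ((Fintype.bijective_iff_injective_and_card _).2 ⟨hinj, by rw [hF, Fintype.card_fin]⟩).2 x
  exact ⟨i, i.2, hi⟩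

end CfsgLib.MinDegree.UThreeFive
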