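import Cfsg.Agent.MinDegree.UThreeModel
import Cfsg.Agent.MinDegree.UThreeFiveField

/-!
# Three generators of `SU(3,5)`
-/

set_option autoImplicit false

namespace CfsgLib.MinDegree.UThreeFive

open Matrix CfsgLib.RepBounds.Unit CfsgLib.MinDegree.UThreeIndex

variable {F : Type*} [Field F] [Fintype F]

/-- A field with 25 elements, its involution and a square root of two. -/
structure Setup (F : Type*) [Field F] [Fintype F] where
  /-- the field with involution -/
  C : ConjField F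
  hq : C.q = 5
  /-- the square root of two -/
  θ : F
  hθ : θ ^ 2 = 2

namespace Setup

theorem card (S : Setup F) : Fintype.card F = 25 := by rw [S.C.card, S.hq]; norm_num

theorem five (S : Setup F) : (5 : F) = 0 := five_eq_zero S.card

variable (S : Setup F)

theorem σ_dec (x : ℕ) : S.C.σ (dec S.θ x) = dec S.θ (cjN x) :=
  dec_cjN S.five S.hθ S.C.σ (fun y => by rw [S.C.pow, S.hq]) x

/-- The vector of a code. -/
noncomputable def vv (v : V3) : VV F := vec S.C (dec S.θ v.1) (dec S.θ v.2.1) (dec S.θ v.2.2)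

theorem smul_vv (s : ℕ) (v : V3) : dec S.θ s • S.vv v = S.vv (smulN s v) := by
  simp only [vv, smulN, smul_vec, dec_mulN S.five S.hθ]

/-- The validity code of a parameter. -/
def parCode (w c : ℕ) : ℕ := addN (addN c (cjN c)) (mulN w (cjN w))

theorem dec_parCode (w c : ℕ) : dec S.θ (parCode w c) =
    dec S.θ c + S.C.σ (dec S.θ c) + dec S.θ w * S.C.σ (dec S.θ w) := by
  simp only [parCode, dec_addN S.five, dec_mulN S.five S.hθ, σ_dec]

/-- The first parameter. -/
noncomputable def x0 : Par S.C := ⟨(dec S.θ 1, dec S.θ 2), by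
  have h := S.dec_parCode 1 2
  rw [show parCode 1 2 = 0 by decide, dec_zero] at h
  exact h.symm⟩

/-- The torus parameter. -/
noncomputable def a0 : Fˣ := Units.mk0 (dec S.θ 7) fun h => by
  have := dec_eq_zero S.five S.hθ (by norm_num : (7 : ℕ) < 25) h
  omega

theorem skew_theta : dec S.θ 5 ∈ S.C.skew := by
  rw [ConjField.mem_skew, σ_dec, ← dec_addN S.five, show addN 5 (cjN 5) = 0 by decide, dec_zero]

theorem herm_last : herm S.C (vec S.C 0 0 1) (vec S.C 0 0 1) = 0 := by simp [herm_vec]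

/-- The generators. -/
noncomputable def gen : Fin 3 → GG S.C
  | 0 => uu S.C S.x0
  | 1 => tt S.C S.a0
  | 2 => transvEl S.C (vec S.C 0 0 1) (dec S.θ 5) S.herm_last S.skew_theta

theorem app_gen (g : Fin 3) (v : V3) : app S.C (S.gen g) (S.vv v) = S.vv (genN g v) := by
  obtain ⟨a, z, b⟩ := v
  fin_cases g
  · show app S.C (uu S.C S.x0) (vec S.C _ _ _) = _
    rw [app_uu]
    simp only [x0, σ_dec, show cjN 1 = 1 by decide]
    simp only [vv, genN, dec_addN S.five, dec_mulN S.five S.hθ, dec_negN S.five, dec_one]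
    rw [vec_eq_iff]
    exact ⟨by ring, rfl, rfl⟩
  · show app S.C (tt S.C S.a0) (vec S.C _ _ _) = _
    have h1 : dec S.θ 7 ≠ 0 := S.a0.ne_zero
    have h2 : S.C.σ (dec S.θ 7) / dec S.θ 7 = dec S.θ 18 := by
      rw [div_eq_iff h1, σ_dec, ← dec_mulN S.five S.hθ, show mulN 18 7 = cjN 7 by decide]
    have h3 : (S.C.σ (dec S.θ 7))⁻¹ = dec S.θ 16 := by
      refine inv_eq_of_mul_eq_one_right ?_
      rw [σ_dec, ← dec_mulN S.five S.hθ, show mulN (cjN 7) 16 = 1 by decide, dec_one]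
    rw [app_tt]
    simp only [a0, Units.val_mk0, h2, h3, vv, genN, dec_mulN S.five S.hθ]
  · show app S.C (transvEl S.C (vec S.C 0 0 1) (dec S.θ 5) S.herm_last S.skew_theta) (vec S.C _ _ _) = _
    rw [isTransv_transvEl S.C (vec S.C 0 0 1) (dec S.θ 5) S.herm_last S.skew_theta, herm_vec, smul_vec,
      UThreeIndex.vec_add]
    simp only [vv, genN, dec_addN S.five, dec_mulN S.five S.hθ, map_one, map_zero]
    rw [vec_eq_iff]
    exact ⟨by ring, by ring, by ring⟩

/-- Coded product in the radical. -/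
def mulP (x y : ℕ × ℕ) : ℕ × ℕ :=
  (addN x.1 y.1, addN (addN x.2 y.2) (negN (mulN y.1 (cjN x.1))))

/-- Coded powers in the radical. -/
def powP (x : ℕ × ℕ) : ℕ → ℕ × ℕ
  | 0 => (0, 0)
  | n + 1 => mulP (powP x n) x

/-- The word in the radical with exponents `i`, `j`, `k`. -/
def wordP (i j k : ℕ) : ℕ × ℕ := mulP (mulP (powP (1, 2) i) (powP (15, 4) j)) (powP (0, 20) k)

/-- Whether a parameter is a word. -/
def isWord (w c : ℕ) : Bool :=
  (List.range 5).any fun i => (List.range 5).any fun j => (List.range 5).any fun k => wordP i j k == (w, c)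

theorem word_spec : ∀ w < 25, ∀ c < 25, parCode w c = 0 → isWord w c = true := by decide +kernel

/-- Coded powers of the torus parameter. -/
def powT : ℕ → ℕ
  | 0 => 1
  | n + 1 => mulN (powT n) 7

theorem powT_spec : ∀ n < 25, n ≠ 0 → ((List.range 24).any fun k => powT k == n) = true := by
  decide +kernel

theorem tt_mul (a b : Fˣ) : tt S.C (a * b) = tt S.C a * tt S.C b := by
  refine ext_vec S.C fun c z d => ?_
  rw [app_mul, app_tt, app_tt, app_tt, vec_eq_iff, Units.val_mul, map_mul]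
  have := (map_ne_zero S.C.σ).2 a.ne_zero
  have := (map_ne_zero S.C.σ).2 b.ne_zero
  refine ⟨by ring, ?_, ?_⟩ <;> field_simp

theorem tt_one : tt S.C (1 : Fˣ) = 1 := ext_vec S.C fun c z d => by rw [app_tt, app_one]; simp

variable (K : Subgroup (GG S.C)) (hK : ∀ g, S.gen g ∈ K)

include hK

theorem tt_mem_of_gen (a : Fˣ) : tt S.C a ∈ K := by
  have hpow : ∀ k, ∃ u : Fˣ, tt S.C u ∈ K ∧ (u : F) = dec S.θ (powT k) := by
    intro k
    induction k with
    | zero => exact ⟨1, by rw [S.tt_one]; exact K.one_mem, by rw [Units.val_one]; exact dec_one.symm⟩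
    | succ k ih =>
      obtain ⟨u, hu, hv⟩ := ih
      refine ⟨u * S.a0, ?_, ?_⟩
      · rw [S.tt_mul]; exact K.mul_mem hu (hK 1)
      · rw [powT, dec_mulN S.five S.hθ, Units.val_mul, hv]; rfl
  obtain ⟨n, hn, hn'⟩ := exists_dec S.card S.hθ (a : F)
  have hn0 : n ≠ 0 := fun h => a.ne_zero (by rw [← hn', h, dec_zero])
  obtain ⟨k, -, hk⟩ := List.any_eq_true.1 (powT_spec n hn hn0)
  obtain ⟨u, hu, hu'⟩ := hpow k
  rwa [show a = u from Units.ext (by rw [hu', eq_of_beq hk, hn'])]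

omit hK in
/-- A code of a parameter with its element in `K`. -/
def InK (w : ℕ × ℕ) : Prop :=
  ∃ x : Par S.C, uu S.C x ∈ K ∧ x.1 = (dec S.θ w.1, dec S.θ w.2)

omit hK in
theorem inK_mul {v w : ℕ × ℕ} (hv : S.InK K v) (hw : S.InK K w) : S.InK K (mulP v w) := by
  obtain ⟨x, hx, hx'⟩ := hv
  obtain ⟨y, hy, hy'⟩ := hw
  refine ⟨Par.mul S.C x y, by rw [← uu_mul]; exact K.mul_mem hx hy, ?_⟩
  simp only [Par.mul, hx', hy', mulP, dec_addN S.five, dec_negN S.five, dec_mulN S.five S.hθ, σ_dec,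
    sub_eq_add_neg]

omit hK in
theorem inK_pow {v : ℕ × ℕ} (hv : S.InK K v) (n : ℕ) : S.InK K (powP v n) := by
  induction n with
  | zero => exact ⟨Par.zero S.C, by rw [uu_zero]; exact K.one_mem, by simp [Par.zero, powP, dec_zero]⟩
  | succ n ih => exact S.inK_mul K ih hv

theorem uu_mem_of_gen (x : Par S.C) : uu S.C x ∈ K := by
  have h0 : S.InK K (1, 2) := ⟨S.x0, hK 0, rfl⟩
  have h1 : S.InK K (15, 4) := by
    obtain ⟨y, hy, hy1, hy2⟩ := tt_uu S.C S.a0 S.x0
    refine ⟨y, ?_, ?_⟩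
    · rw [← hy]; exact K.mul_mem (K.mul_mem (hK 1) (hK 0)) (K.inv_mem (hK 1))
    · have h7 : dec S.θ 7 ≠ 0 := S.a0.ne_zero
      refine Prod.ext ?_ ?_
      · rw [hy1]
        show lam S.C (dec S.θ 7) * dec S.θ 1 = dec S.θ 15
        rw [lam, σ_dec, div_mul_eq_mul_div, div_eq_iff h7]
        simp only [← dec_mulN S.five S.hθ]
        rfl
      · rw [hy2]
        show dec S.θ 7 * S.C.σ (dec S.θ 7) * dec S.θ 2 = dec S.θ 4
        rw [σ_dec]
        simp only [← dec_mulN S.five S.hθ]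
        rfl
  have hz : S.InK K (0, 20) := by
    rw [show ((0, 20) : ℕ × ℕ) =
      mulP (mulP (powP (1, 2) 1) (powP (15, 4) 1)) (mulP (powP (1, 2) 4) (powP (15, 4) 4)) by decide]
    exact S.inK_mul K (S.inK_mul K (S.inK_pow K h0 1) (S.inK_pow K h1 1))
      (S.inK_mul K (S.inK_pow K h0 4) (S.inK_pow K h1 4))
  obtain ⟨w, hw, hw'⟩ := exists_dec S.card S.hθ x.1.1
  obtain ⟨c, hc, hc'⟩ := exists_dec S.card S.hθ x.1.2
  have hcode : parCode w c = 0 := dec_eq_zero S.five S.hθ (addN_lt _ _) (by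
    rw [dec_parCode, hw', hc']; exact x.2)
  have hw2 := word_spec w hw c hc hcode
  simp only [isWord, List.any_eq_true] at hw2
  obtain ⟨i, -, j, -, k, -, hk⟩ := hw2
  have hin := S.inK_mul K (S.inK_mul K (S.inK_pow K h0 i) (S.inK_pow K h1 j)) (S.inK_pow K hz k)
  rw [show mulP (mulP (powP (1, 2) i) (powP (15, 4) j)) (powP (0, 20) k) = (w, c) from eq_of_beq hk] at hin
  obtain ⟨y, hy, hy'⟩ := hin
  rwa [show x = y from Subtype.ext (by rw [hy', hw', hc'])]

/-- The three generators generate. -/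
theorem eq_top_of_gen : K = ⊤ := by
  have hB : borel S.C ≤ K := fun g hg => by
    obtain ⟨a, x, -, rfl⟩ := exists_tt_uu S.C hg
    exact K.mul_mem (S.tt_mem_of_gen K hK a) (S.uu_mem_of_gen K hK x)
  obtain ⟨o, ho⟩ := pt_surjective S.C (S.gen 2 • base S.C)
  obtain ⟨y0, rfl⟩ : ∃ y0, o = some y0 := by
    rcases o with _ | y0
    · exfalso
      obtain ⟨a, ha⟩ := (smul_base_iff S.C).1 ho.symm
      rw [← vec_one_zero] at ha
      have h := S.app_gen 2 (1, 0, 0)
      simp only [vv, dec_one, dec_zero] at h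
      rw [h] at ha
      have h' : genN 2 (1, 0, 0) = (1, 0, 5) := rfl
      rw [h'] at ha
      simp only [dec_one, dec_zero, smul_vec, vec_eq_iff] at ha
      exact absurd (dec_eq_zero S.five S.hθ (by norm_num : (5 : ℕ) < 25) (by simpa using ha.2.2)) (by norm_num)
    · exact ⟨y0, rfl⟩
  have horb : ∀ y : Pt S.C, ∃ k ∈ K, k • base S.C = y := by
    intro y
    obtain ⟨_ | z, rfl⟩ := pt_surjective S.C y
    · exact ⟨1, K.one_mem, one_smul _ _⟩
    · refine ⟨(uu S.C z * (uu S.C y0)⁻¹) * S.gen 2, K.mul_mem (K.mul_mem (S.uu_mem_of_gen K hK z)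
        (K.inv_mem (S.uu_mem_of_gen K hK y0))) (hK 2), ?_⟩
      rw [mul_smul, ← ho]
      simp only [pt, MulAction.Quotient.smul_mk, smul_eq_mul]
      rw [← mul_assoc, inv_mul_cancel_right]
  refine eq_top_iff.2 fun g _ => ?_
  obtain ⟨k, hk, hk'⟩ := horb (g • base S.C)
  have hmem : k⁻¹ * g ∈ borel S.C := by
    rw [← smul_base_iff, mul_smul, ← hk', inv_smul_smul]
  rw [show g = k * (k⁻¹ * g) by group]
  exact K.mul_mem hk (hB hmem)

end Setup

end CfsgLib.MinDegree.UThreeFive
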