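import Cfsg.Agent.MinDegree.UThreeMain
import Cfsg.Agent.MinDegree.UThreeFiveCheck
import Cfsg.Agent.MinDegree.UThreeFiveGen

/-!
# A subgroup of index fifty in `PSU(3,5)`

The stabiliser of a set of 105 non-isotropic points whose orbit has fifty members.
-/

set_option autoImplicit false

namespace CfsgLib.MinDegree.UThreeFive

open Matrix CfsgLib.RepBounds.Unit CfsgLib.MinDegree.UThreeIndex

variable {F : Type*} [Field F] [Fintype F]

namespace Setup

variable (S : Setup F)

/-- The vectors of a set, closed under scalars. -/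
def blk (i : ℕ) : Set (VV F) :=
  {v | ∃ p < 525, inBlk i p = true ∧ ∃ s : F, v = s • S.vv (rep p)}

theorem image_gen (g : Fin 3) {i : ℕ} (hi : i < 50) :
    img g i < 50 ∧ app S.C (S.gen g) '' S.blk i = S.blk (img g i) := by
  have hB := List.all_eq_true.1 (chkBlk_all g) i (List.mem_range.2 hi)
  rw [Bool.and_eq_true, decide_eq_true_iff] at hB
  refine ⟨hB.1, ?_⟩
  have hb : ∀ p < 525, inBlk i p = inBlk (img g i) (perm g p) := fun p hp =>
    eq_of_beq (List.all_eq_true.1 hB.2 p (List.mem_range.2 hp))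
  have hP : ∀ p < 525, perm g p < 525 ∧ permInv g p < 525 ∧ perm g (permInv g p) = p ∧
      0 < sca g p ∧ sca g p < 25 ∧ genN g (rep p) = smulN (sca g p) (rep (perm g p)) := fun p hp => by
    have h := List.all_eq_true.1 (chkPt_all g) p (List.mem_range.2 hp)
    simp only [Bool.and_eq_true, decide_eq_true_iff, beq_iff_eq] at h
    obtain ⟨⟨⟨⟨⟨h1, h2⟩, h3⟩, h4⟩, h5⟩, h6⟩ := h
    exact ⟨h1, h2, h3, h4, h5, h6⟩
  ext v
  constructor
  · rintro ⟨w, ⟨p, hp, hip, s, rfl⟩, rfl⟩
    obtain ⟨h1, -, -, -, -, h6⟩ := hP p hp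
    refine ⟨perm g p, h1, hb p hp ▸ hip, s * dec S.θ (sca g p), ?_⟩
    rw [app_smul, app_gen, h6, ← smul_vv, smul_smul]
  · rintro ⟨p', hp', hip, s, rfl⟩
    obtain ⟨-, h2, h3, -, -, -⟩ := hP p' hp'
    obtain ⟨-, -, -, h4, h5, h6⟩ := hP _ h2
    rw [h3] at h6
    refine ⟨(s / dec S.θ (sca g (permInv g p'))) • S.vv (rep (permInv g p')),
      ⟨_, h2, by rw [hb _ h2, h3]; exact hip, _, rfl⟩, ?_⟩
    have hc : dec S.θ (sca g (permInv g p')) ≠ 0 := fun h => by
      have := dec_eq_zero S.five S.hθ h5 h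
      omega
    rw [app_smul, app_gen, h6, ← smul_vv, smul_smul, div_mul_cancel₀ _ hc]

/-- The elements permuting the fifty sets. -/
def famPres : Subgroup (GG S.C) where
  carrier := {g | ∀ i < 50, ∃ j < 50, app S.C g '' S.blk i = S.blk j}
  one_mem' i hi := ⟨i, hi, by simp [app_one]⟩
  mul_mem' {a b} ha hb i hi := by
    obtain ⟨j, hj, hj'⟩ := hb i hi
    obtain ⟨k, hk, hk'⟩ := ha j hj
    refine ⟨k, hk, ?_⟩
    rw [← hk', ← hj', Set.image_image]
    exact Set.image_congr fun x _ => app_mul S.C a b x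
  inv_mem' {a} ha := by
    have hpow : ∀ n : ℕ, ∀ i < 50, ∃ j < 50, app S.C (a ^ n) '' S.blk i = S.blk j := by
      intro n
      induction n with
      | zero => exact fun i hi => ⟨i, hi, by simp [app_one]⟩
      | succ n ih =>
        intro i hi
        obtain ⟨j, hj, hj'⟩ := ha i hi
        obtain ⟨k, hk, hk'⟩ := ih j hj
        refine ⟨k, hk, ?_⟩
        rw [← hk', ← hj', Set.image_image, pow_succ]
        exact Set.image_congr fun x _ => app_mul S.C _ a x
    have hinv : a⁻¹ = a ^ (orderOf a - 1) := by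
      refine inv_eq_of_mul_eq_one_right ?_
      rw [← pow_succ', Nat.sub_add_cancel (orderOf_pos a), pow_orderOf_eq_one]
    show ∀ i < 50, ∃ j < 50, app S.C a⁻¹ '' S.blk i = S.blk j
    rw [hinv]
    exact hpow _

theorem famPres_eq_top : S.famPres = ⊤ :=
  S.eq_top_of_gen _ fun g i hi => ⟨img g i, S.image_gen g hi⟩

/-- The stabiliser of the first set. -/
def stab0 : Subgroup (GG S.C) where
  carrier := {g | app S.C g '' S.blk 0 = S.blk 0}
  one_mem' := by simp [app_one]
  mul_mem' {a b} ha hb := by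
    show app S.C (a * b) '' S.blk 0 = S.blk 0
    conv_rhs => rw [← show app S.C a '' S.blk 0 = S.blk 0 from ha,
      ← show app S.C b '' S.blk 0 = S.blk 0 from hb]
    rw [Set.image_image]
    exact Set.image_congr fun x _ => app_mul S.C a b x
  inv_mem' {a} ha := by
    show app S.C a⁻¹ '' S.blk 0 = S.blk 0
    conv_lhs => rw [← show app S.C a '' S.blk 0 = S.blk 0 from ha]
    rw [Set.image_image]
    simp [app_inv_app]

theorem index_stab0_le : S.stab0.index ≤ 50 := by
  have h : ∀ g : GG S.C, ∃ j : Fin 50, app S.C g '' S.blk 0 = S.blk j := fun g => by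
    obtain ⟨j, hj, hj'⟩ := (S.famPres_eq_top ▸ Subgroup.mem_top g : g ∈ S.famPres) 0 (by norm_num)
    exact ⟨⟨j, hj⟩, hj'⟩
  choose f hf using h
  have hinj : Function.Injective fun x : GG S.C ⧸ S.stab0 => f x.out := by
    intro x y hxy
    rw [← QuotientGroup.out_eq' x, ← QuotientGroup.out_eq' y, QuotientGroup.eq]
    show app S.C _ '' S.blk 0 = S.blk 0
    have h1 : app S.C y.out '' S.blk 0 = app S.C x.out '' S.blk 0 := by rw [hf, hf, show f x.out = f y.out from hxy]
    calc app S.C (x.out⁻¹ * y.out) '' S.blk 0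
        = app S.C x.out⁻¹ '' (app S.C y.out '' S.blk 0) := by
          rw [Set.image_image]; exact Set.image_congr fun v _ => app_mul S.C _ _ v
      _ = S.blk 0 := by rw [h1, Set.image_image]; simp [app_inv_app]
  calc S.stab0.index = Nat.card (GG S.C ⧸ S.stab0) := rfl
    _ ≤ Nat.card (Fin 50) := Nat.card_le_card_of_injective _ hinj
    _ = 50 := Nat.card_eq_fintype_card.trans (Fintype.card_fin 50)

theorem stab0_ne_top : S.stab0 ≠ ⊤ := by
  intro h
  have hm : app S.C (S.gen movG) '' S.blk 0 = S.blk 0 :=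
    (h ▸ Subgroup.mem_top _ : S.gen movG ∈ S.stab0)
  obtain ⟨-, hi⟩ := S.image_gen movG (by norm_num : 0 < 50)
  have hc := chkMov_eq
  simp only [chkMov, Bool.and_eq_true, decide_eq_true_iff] at hc
  obtain ⟨⟨hc1, hc2⟩, hc3⟩ := hc
  have hP : S.vv (rep movP) ∈ S.blk 0 := by
    rw [← hm, hi]
    exact ⟨movP, hc2, hc1, 1, (one_smul F _).symm⟩
  obtain ⟨p, hp, hp0, s, hs⟩ := hP
  obtain ⟨n, hn, rfl⟩ := exists_dec S.card S.hθ s
  have hq := List.all_eq_true.1 hc3 p (List.mem_range.2 hp)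
  rw [hp0, Bool.not_true, Bool.false_or] at hq
  have hne := List.all_eq_true.1 hq n (List.mem_range.2 hn)
  rw [smul_vv, vv, vv, vec_eq_iff] at hs
  have hlt : (rep movP).1 < 25 ∧ (rep movP).2.1 < 25 ∧ (rep movP).2.2 < 25 := by decide +kernel
  have hm' : ∀ x y, mulN x y < 25 := fun x y => by unfold mulN; omega
  have heq : smulN n (rep p) = rep movP :=
    Prod.ext (dec_inj S.five S.hθ (hm' _ _) hlt.1 hs.1.symm)
      (Prod.ext (dec_inj S.five S.hθ (hm' _ _) hlt.2.1 hs.2.1.symm)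
        (dec_inj S.five S.hθ (hm' _ _) hlt.2.2 hs.2.2.symm))
  simp [heq] at hne

theorem central_scalar {z : GG S.C} (hz : ∀ g, Commute z g) :
    ∃ α : F, α ≠ 0 ∧ ∀ v, app S.C z v = α • v := by
  obtain ⟨a, x, -, rfl⟩ := exists_tt_uu S.C (center_le_borel S.C hz)
  have ha := a.ne_zero
  have hθ0 : dec S.θ 5 ≠ 0 := fun h => by
    have := dec_eq_zero S.five S.hθ (by norm_num : (5 : ℕ) < 25) h
    omega
  have h2 := congrArg (fun k => app S.C k (S.vv (1, 0, 0))) (hz (S.gen 2)).eq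
  simp only [app_mul, app_gen] at h2
  simp only [show genN 2 (1, 0, 0) = (1, 0, 5) from rfl, vv, app_uu, app_tt, dec_one, dec_zero] at h2
  have hT : ∀ a b : F, app S.C (S.gen 2) (vec S.C a 0 b) = vec S.C a 0 (b + dec S.θ 5 * a) := by
    intro a b
    show app S.C (transvEl S.C (vec S.C 0 0 1) (dec S.θ 5) S.herm_last S.skew_theta) _ = _
    rw [isTransv_transvEl S.C (vec S.C 0 0 1) (dec S.θ 5) S.herm_last S.skew_theta, herm_vec, smul_vec,
      UThreeIndex.vec_add, vec_eq_iff]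
    simp
  simp only [zero_mul, mul_zero, add_zero, sub_zero, mul_one, zero_add] at h2
  rw [hT, vec_eq_iff] at h2
  obtain ⟨e1, e2, e3⟩ := h2
  have hσ := (map_ne_zero S.C.σ).2 ha
  have hw : x.1.1 = 0 := by
    simpa [hθ0, hσ, ha] using e2
  have hc : x.1.2 = 0 := by
    have : (a : F) * (dec S.θ 5 * x.1.2) = 0 := by linear_combination e1
    simpa [hθ0, ha] using this
  have hb : (S.C.σ (a : F))⁻¹ = a := by
    refine mul_right_cancel₀ hθ0 ?_
    linear_combination e3
  have h0 := congrArg (fun k => app S.C k (S.vv (0, 0, 1))) (hz (S.gen 0)).eq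
  simp only [app_mul, app_gen] at h0
  simp only [show genN 0 (0, 0, 1) = (2, 1, 1) from rfl, vv, app_uu, app_tt, dec_one, dec_zero, hw, hc,
    map_zero, zero_mul, mul_zero, add_zero, sub_zero, mul_one, zero_add] at h0
  have hU : app S.C (S.gen 0) (vec S.C 0 0 (S.C.σ (a : F))⁻¹) =
      vec S.C ((S.C.σ (a : F))⁻¹ * dec S.θ 2) ((S.C.σ (a : F))⁻¹ * dec S.θ 1) (S.C.σ (a : F))⁻¹ := by
    show app S.C (uu S.C S.x0) _ = _
    rw [app_uu, vec_eq_iff]
    simp [x0]
  rw [hU, vec_eq_iff] at h0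
  have hz3 : S.C.σ (a : F) / a = a := by
    have := h0.2.1
    rw [dec_one, mul_one, hb] at this
    exact this
  refine ⟨a, ha, fun v => ?_⟩
  obtain ⟨p, q, r, rfl⟩ := exists_vec S.C v
  rw [app_mul, app_uu, app_tt, smul_vec, hw, hc, hb, hz3]
  simp

theorem center_le_stab0 : Subgroup.center (GG S.C) ≤ S.stab0 := by
  intro z hz
  obtain ⟨α, hα, h⟩ := S.central_scalar fun g => (Subgroup.mem_center_iff.1 hz g).symm
  show app S.C z '' S.blk 0 = S.blk 0
  ext v
  constructor
  · rintro ⟨w, ⟨p, hp, hp', s, rfl⟩, rfl⟩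
    exact ⟨p, hp, hp', α * s, by rw [h, smul_smul]⟩
  · rintro ⟨p, hp, hp', s, rfl⟩
    exact ⟨(α⁻¹ * s) • S.vv (rep p), ⟨p, hp, hp', _, rfl⟩,
      by rw [h, smul_smul, ← mul_assoc, mul_inv_cancel₀ hα, one_mul]⟩

end Setup

/-- `PSU(3,5)` has a subgroup of index fifty. -/
theorem exists_index_fifty (hF : Fintype.card F = 25) :
    ∃ H : Subgroup (Cfsg.PSU 3 F 5), H.index = 50 := by
  obtain ⟨C, hq⟩ := exists_conjField (F := F) 5 (by rw [hF]; norm_num)
  obtain ⟨θ, hθ⟩ := exists_sqrt_two hF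
  let S : Setup F := ⟨C, hq, θ, hθ⟩
  suffices h : ∃ H : Subgroup (Cfsg.PSU 3 F C.q), H.index ≤ 50 ∧ H ≠ ⊤ by
    rw [hq] at h
    obtain ⟨H, h1, h2⟩ := h
    exact ⟨H, le_antisymm h1 (le_index_five hF H h2)⟩
  let e := stdEquiv C
  have hidx : ((S.stab0.map e.toMonoidHom).map
      (QuotientGroup.mk' (Subgroup.center (Cfsg.SU 3 F C.q)))).index = S.stab0.index := by
    rw [Subgroup.index_map_eq _ (QuotientGroup.mk'_surjective _) ?_,
      Subgroup.index_map_of_bijective (MulEquiv.bijective e)]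
    rw [QuotientGroup.ker_mk']
    intro z hz
    refine ⟨e.symm z, S.center_le_stab0 (Subgroup.mem_center_iff.2 fun g => ?_), e.apply_symm_apply z⟩
    apply e.injective
    simpa using Subgroup.mem_center_iff.1 hz (e g)
  refine ⟨_, hidx.trans_le S.index_stab0_le, fun h => S.stab0_ne_top ?_⟩
  rw [← Subgroup.index_eq_one, ← hidx, h, Subgroup.index_top]

end CfsgLib.MinDegree.UThreeFive
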