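import Cfsg.Agent.MinDegree.UThreeModel

/-!
# Subgroups of `SU(3,q)` of small index at a point

For `H` of index at most `q^3`: the pieces `zSub`, `kSub`, `eSub` of `H ⊓ borel`, and the transitivity of
`H` on the points.
-/

set_option autoImplicit false
set_option linter.unusedSectionVars false

namespace CfsgLib.MinDegree.UThreeIndex

open Matrix CfsgLib.RepBounds.Unit

variable {F : Type*} [Field F] [Fintype F] (C : ConjField F)

/-- If each point is the only fixed point of some `p`-subgroup, the action is transitive. -/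
theorem exists_smul_eq_of_fixed {G Ω : Type*} [Group G] [MulAction G Ω] [Finite Ω] (p : ℕ)
    [hp : Fact p.Prime] (hP : ∀ x : Ω, ∃ P : Subgroup G, IsPGroup p P ∧
      (∀ g ∈ P, g • x = x) ∧ ∀ y, (∀ g ∈ P, g • y = y) → y = x) (x y : Ω) :
    ∃ g : G, g • x = y := by
  by_contra hne
  have hy : y ∉ MulAction.orbit G x := hne
  obtain ⟨P, hPp, hPx, hPu⟩ := hP x
  obtain ⟨Q, hQp, -, hQu⟩ := hP y
  have h1 := hPp.card_modEq_card_fixedPoints (MulAction.orbit G x)
  have h2 := hQp.card_modEq_card_fixedPoints (MulAction.orbit G x)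
  have e1 : Nat.card (MulAction.fixedPoints P (MulAction.orbit G x)) = 1 := by
    refine Nat.card_eq_one_iff_unique.2 ⟨⟨fun a b => ?_⟩,
      ⟨⟨⟨x, MulAction.mem_orbit_self x⟩, fun g => Subtype.ext (hPx g.1 g.2)⟩⟩⟩
    have key : ∀ c : MulAction.fixedPoints P (MulAction.orbit G x), (c.1 : Ω) = x := fun c =>
      hPu _ fun g hg => congrArg Subtype.val (c.2 ⟨g, hg⟩)
    exact Subtype.ext (Subtype.ext ((key a).trans (key b).symm))
  have e2 : Nat.card (MulAction.fixedPoints Q (MulAction.orbit G x)) = 0 := by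
    have : IsEmpty (MulAction.fixedPoints Q (MulAction.orbit G x)) := ⟨fun c =>
      hy (hQu _ (fun g hg => congrArg Subtype.val (c.2 ⟨g, hg⟩)) ▸ c.1.2)⟩
    exact Nat.card_of_isEmpty
  rw [e1] at h1
  rw [e2] at h2
  have h3 : 1 % p = 0 % p := h1.symm.trans h2
  rw [Nat.one_mod_eq_one.2 hp.out.ne_one, Nat.zero_mod] at h3
  exact one_ne_zero h3

variable (H : Subgroup (GG C))

/-- The conjugate `g⁻¹ H g`. -/
def cj (g : GG C) : Subgroup (GG C) := H.comap (MulAut.conj g).toMonoidHom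

theorem mem_cj {g x : GG C} : x ∈ cj C H g ↔ g * x * g⁻¹ ∈ H := Iff.rfl

theorem index_cj (g : GG C) : (cj C H g).index = H.index :=
  H.index_comap_of_surjective (MulAut.conj g).surjective

/-- `H` meets every point stabiliser in a large group. -/
theorem le_card_inter (hidx : H.index ≤ C.q ^ 3) :
    C.q ^ 2 - 1 ≤ Nat.card (H.subgroupOf (borel C)) := by
  have h1 := (H.subgroupOf (borel C)).card_mul_index
  rw [card_borel] at h1
  have h2 : (H.subgroupOf (borel C)).index ≤ C.q ^ 3 :=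
    le_trans ((Subgroup.relIndex_le_of_le_right le_top
      (by rw [Subgroup.relIndex_top_right]; exact H.index_ne_zero_of_finite)).trans_eq
      H.relIndex_top_right) hidx
  have h3 := Nat.mul_le_mul_left (Nat.card (H.subgroupOf (borel C))) h2
  rw [h1, mul_comm (Nat.card _)] at h3
  exact Nat.le_of_mul_le_mul_left h3 (pow_pos (by linarith [C.two_le]) 3)

/-- The part in the centre of the radical. -/
def zSub : AddSubgroup C.skew where
  carrier := {d | uu C (zpar C d) ∈ H}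
  zero_mem' := by
    show uu C _ ∈ H
    rw [show zpar C (0 : C.skew) = Par.zero C from Subtype.ext rfl, uu_zero]
    exact H.one_mem
  add_mem' {a b} ha hb := by
    show uu C _ ∈ H
    rw [show zpar C (a + b) = Par.mul C (zpar C a) (zpar C b) from
      Subtype.ext (Prod.ext (by simp [zpar, Par.mul]) (by simp [zpar, Par.mul])), ← uu_mul]
    exact H.mul_mem ha hb
  neg_mem' {a} ha := by
    show uu C _ ∈ H
    rw [show uu C (zpar C (-a)) = (uu C (zpar C a))⁻¹ from eq_inv_of_mul_eq_one_left (by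
      rw [uu_mul, ← uu_zero C]
      exact congrArg (uu C)
        (Subtype.ext (Prod.ext (by simp [zpar, Par.mul, Par.zero]) (by simp [zpar, Par.mul, Par.zero]))))]
    exact H.inv_mem ha

theorem mem_zSub {d : C.skew} : d ∈ zSub C H ↔ uu C (zpar C d) ∈ H := Iff.rfl

/-- The image of the radical part modulo the centre. -/
def kSub : AddSubgroup F where
  carrier := {w | ∃ x : Par C, uu C x ∈ H ∧ x.1.1 = w}
  zero_mem' := ⟨Par.zero C, by rw [uu_zero]; exact H.one_mem, rfl⟩
  add_mem' := by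
    rintro _ _ ⟨x, hx, rfl⟩ ⟨y, hy, rfl⟩
    exact ⟨Par.mul C x y, by rw [← uu_mul]; exact H.mul_mem hx hy, rfl⟩
  neg_mem' := by
    rintro _ ⟨x, hx, rfl⟩
    obtain ⟨y, hy⟩ := exists_uu C ((radU C).inv_mem (uu_mem C x))
    refine ⟨y, hy ▸ H.inv_mem hx, ?_⟩
    have h1 : uu C (Par.mul C x y) = uu C (Par.zero C) := by
      rw [← uu_mul, ← hy, mul_inv_cancel, uu_zero]
    have h2 : x.1.1 + y.1.1 = 0 := congrArg (fun p : Par C => p.1.1) (uu_injective C h1)
    linear_combination h2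

theorem mem_kSub {w : F} : w ∈ kSub C H ↔ ∃ x : Par C, uu C x ∈ H ∧ x.1.1 = w := Iff.rfl

/-- The eigenvalues on `e`. -/
noncomputable def eSub : Subgroup Fˣ := (H.subgroupOf (borel C)).map (eigHom C)

theorem mem_eSub {a : Fˣ} : a ∈ eSub C H ↔ ∃ g ∈ H, g ∈ borel C ∧ eig C g = (a : F) := by
  refine ⟨?_, fun ⟨g, hg, hgB, he⟩ => ⟨⟨g, hgB⟩, hg, Units.ext he⟩⟩
  rintro ⟨g, hg, rfl⟩
  exact ⟨g.1, hg, g.2, rfl⟩

/-- The radical part. -/
theorem card_inter_radU :
    Nat.card ↥(H ⊓ radU C) = Nat.card (zSub C H) * Nat.card (kSub C H) := by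
  classical
  rw [← Nat.card_prod]
  have hl : ∀ w : kSub C H, ∃ x : Par C, uu C x ∈ H ∧ x.1.1 = w := fun w => w.2
  choose l hlH hlw using hl
  have hw : ∀ (d : zSub C H) (w : kSub C H), (Par.mul C (zpar C d.1) (l w)).1.1 = (w : F) :=
    fun d w => by simp [Par.mul, zpar, hlw]
  refine (Nat.card_congr (Equiv.ofBijective (fun p : zSub C H × kSub C H =>
    (⟨uu C (zpar C p.1.1) * uu C (l p.2), H.mul_mem p.1.2 (hlH p.2),
      (radU C).mul_mem (uu_mem C _) (uu_mem C _)⟩ : ↥(H ⊓ radU C))) ⟨?_, ?_⟩)).symm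
  · rintro ⟨d, w⟩ ⟨d', w'⟩ h
    have h1 := congrArg Subtype.val h
    simp only [uu_mul] at h1
    have h2 := uu_injective C h1
    obtain rfl : w = w' := Subtype.ext (by
      have := congrArg (fun q : Par C => q.1.1) h2
      simpa [hw] using this)
    have h3 := congrArg Subtype.val h
    simp only [mul_left_inj] at h3
    exact Prod.ext (Subtype.ext (Subtype.ext
      (congrArg (fun q : Par C => q.1.2) (uu_injective C h3)))) rfl
  · rintro ⟨g, hgH, hgU⟩
    obtain ⟨x, rfl⟩ := exists_uu C hgU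
    have hxK : x.1.1 ∈ kSub C H := ⟨x, hgH, rfl⟩
    set w : kSub C H := ⟨x.1.1, hxK⟩
    obtain ⟨y, hy⟩ := exists_uu C ((radU C).mul_mem hgU ((radU C).inv_mem (uu_mem C (l w))))
    have hy' : Par.mul C y (l w) = x := uu_injective C (by rw [← uu_mul, ← hy, inv_mul_cancel_right])
    have hy0 : y.1.1 = 0 := by
      have : y.1.1 + (l w).1.1 = x.1.1 := congrArg (fun q : Par C => q.1.1) hy'
      rw [hlw] at this
      linear_combination this
    have hd : y.1.2 ∈ C.skew := by
      rw [ConjField.mem_skew]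
      linear_combination y.2 - (C.σ y.1.1) * hy0
    have hz : zpar C ⟨y.1.2, hd⟩ = y := Subtype.ext (Prod.ext hy0.symm rfl)
    refine ⟨(⟨⟨y.1.2, hd⟩, ?_⟩, w), Subtype.ext ?_⟩
    · rw [mem_zSub, hz, ← hy]
      exact H.mul_mem hgH (H.inv_mem (hlH w))
    · show uu C (zpar C _) * uu C (l w) = uu C x
      rw [hz, ← hy, inv_mul_cancel_right]

/-- The stabiliser of the point of `e` in `H`. -/
theorem card_inter : Nat.card (H.subgroupOf (borel C)) =
    Nat.card (zSub C H) * Nat.card (kSub C H) * Nat.card (eSub C H) := by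
  set K := H.subgroupOf (borel C) with hK
  set f := (eigHom C).comp K.subtype with hf
  rw [← f.ker.card_mul_index, Subgroup.index_ker, eSub, MonoidHom.range_comp, Subgroup.range_subtype,
    ← card_inter_radU]
  congr 1
  refine Nat.card_congr
    { toFun := fun x => ⟨x.1.1.1, x.1.2, ?_⟩
      invFun := fun g => ⟨⟨⟨g.1, radU_le C g.2.2⟩, g.2.1⟩, ?_⟩
      left_inv := fun x => rfl
      right_inv := fun g => rfl }
  · exact (mem_radU_iff C x.1.1.2).2 (congrArg Units.val (MonoidHom.mem_ker.1 x.2))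
  · exact MonoidHom.mem_ker.2 (Units.ext ((mem_radU_iff C (radU_le C g.2.2)).1 g.2.2))

variable {H}

theorem lam_mul_mem {a : Fˣ} (ha : a ∈ eSub C H) {w : F} (hw : w ∈ kSub C H) :
    lam C (a : F) * w ∈ kSub C H := by
  obtain ⟨g, hg, hgB, he⟩ := (mem_eSub C H).1 ha
  obtain ⟨x, hx, rfl⟩ := hw
  obtain ⟨y, hy, hy1⟩ := borel_conj C hgB x
  exact ⟨y, hy ▸ H.mul_mem (H.mul_mem hg hx) (H.inv_mem hg), by rw [hy1, he]⟩

theorem norm_mul_mem {a : Fˣ} (ha : a ∈ eSub C H) {d : C.skew} (hd : d ∈ zSub C H) :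
    ∃ e ∈ zSub C H, (e : F) = a * C.σ a * d := by
  obtain ⟨g, hg, hgB, he⟩ := (mem_eSub C H).1 ha
  obtain ⟨e, hy, hy1⟩ := borel_conj_central C hgB d
  exact ⟨e, (mem_zSub C H).2 (hy ▸ H.mul_mem (H.mul_mem hg hd) (H.inv_mem hg)), by rw [hy1, he]⟩

theorem comm_mem {x y : F} (hx : x ∈ kSub C H) (hy : y ∈ kSub C H) :
    ∃ d ∈ zSub C H, (d : F) = x * C.σ y - y * C.σ x := by
  obtain ⟨X, hX, rfl⟩ := hx
  obtain ⟨Y, hY, rfl⟩ := hy
  refine ⟨⟨X.1.1 * C.σ Y.1.1 - Y.1.1 * C.σ X.1.1, ?_⟩, ?_, rfl⟩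
  · rw [ConjField.mem_skew]
    simp only [map_sub, map_mul, C.invol]
    ring
  · rw [mem_zSub, show uu C (zpar C _) = (uu C X * uu C Y) * (uu C Y * uu C X)⁻¹ from
      eq_mul_inv_iff_mul_eq.2 (by
        rw [uu_mul, uu_mul, uu_mul]
        refine congrArg (uu C) (Subtype.ext (Prod.ext ?_ ?_))
        · simp [Par.mul, zpar, add_comm]
        · simp [Par.mul, zpar]; ring)]
    exact H.mul_mem (H.mul_mem hX hY) (H.inv_mem (H.mul_mem hY hX))

theorem square_mem (h2 : (2 : F) = 0) {x : F} (hx : x ∈ kSub C H) :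
    ∃ d ∈ zSub C H, (d : F) = x * C.σ x := by
  obtain ⟨X, hX, rfl⟩ := hx
  refine ⟨⟨X.1.1 * C.σ X.1.1, ?_⟩, ?_, rfl⟩
  · rw [ConjField.mem_skew, map_mul, C.invol]
    linear_combination (X.1.1 * C.σ X.1.1) * h2
  · rw [mem_zSub, show uu C (zpar C _) = uu C X * uu C X from by
      rw [uu_mul]
      refine congrArg (uu C) (Subtype.ext (Prod.ext ?_ ?_))
      · simp only [Par.mul, zpar]
        linear_combination (-X.1.1) * h2
      · simp only [Par.mul, zpar]
        linear_combination (X.1.1 * C.σ X.1.1 - X.1.2) * h2]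
    exact H.mul_mem hX hX

variable (H)

/-- `H` is transitive on the points. -/
def IsTrans : Prop := ∀ y : Pt C, ∃ h ∈ H, h • base C = y

variable {H}

theorem card_eq_of_trans (ht : IsTrans C H) :
    Nat.card H = (C.q ^ 3 + 1) * Nat.card (H.subgroupOf (borel C)) := by
  rw [← card_Pt C]
  have horb : MulAction.orbit H (base C) = Set.univ := Set.eq_univ_of_forall fun y => by
    obtain ⟨h, hh, hy⟩ := ht y
    exact ⟨⟨h, hh⟩, hy⟩
  have h1 := (MulAction.stabilizer H (base C)).card_mul_index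
  rw [MulAction.index_stabilizer, horb, Set.ncard_univ] at h1
  rw [← h1, mul_comm]
  congr 1
  refine Nat.card_congr
    { toFun := fun x => ⟨⟨x.1.1, (smul_base_iff C).1 x.2⟩, x.1.2⟩
      invFun := fun g => ⟨⟨g.1.1, g.2⟩, (smul_base_iff C).2 g.1.2⟩
      left_inv := fun x => rfl
      right_inv := fun g => rfl }

theorem index_mul_inter (ht : IsTrans C H) :
    H.index * Nat.card (H.subgroupOf (borel C)) = C.q ^ 3 * (C.q ^ 2 - 1) := by
  have h1 := H.card_mul_index
  rw [card_eq_of_trans C ht, card_GG] at h1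
  exact Nat.eq_of_mul_eq_mul_right (Nat.succ_pos (C.q ^ 3))
    (show _ * (C.q ^ 3 + 1) = _ * (C.q ^ 3 + 1) by rw [← h1]; ring)

theorem isTrans_of_radU {p : ℕ} [Fact p.Prime] [CharP F p]
    (hU : ∀ g : GG C, cj C H g ⊓ radU C ≠ ⊥) : IsTrans C H := by
  intro y
  obtain ⟨h, hh⟩ := exists_smul_eq_of_fixed (G := H) p (Ω := Pt C) (fun z => by
    induction z using QuotientGroup.induction_on with
    | H k =>
      refine ⟨((radU C).map (MulAut.conj k).toMonoidHom).subgroupOf H, ?_, ?_, ?_⟩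
      · obtain ⟨n, -, hn⟩ := FiniteField.card F p
        have hq : C.q ∣ p ^ (n : ℕ) := by rw [← hn, C.card]; exact dvd_pow_self _ two_ne_zero
        obtain ⟨i, -, hi⟩ := (Nat.dvd_prime_pow Fact.out).1 hq
        exact ((IsPGroup.of_card (G := radU C) (p := p) (n := i * 3)
          (by rw [card_radU, hi, pow_mul])).map _).comap_of_injective _ Subtype.val_injective
      · rintro g ⟨u, hu, hug⟩
        show (g : GG C) • (QuotientGroup.mk k : Pt C) = QuotientGroup.mk k
        rw [show (g : GG C) = k * u * k⁻¹ from hug.symm, MulAction.Quotient.smul_mk, smul_eq_mul,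
          inv_mul_cancel_right, QuotientGroup.eq, _root_.mul_inv_rev, mul_assoc, inv_mul_cancel, mul_one]
        exact (borel C).inv_mem (radU_le C hu)
      · intro z hz
        obtain ⟨⟨u, hu⟩, hu1⟩ := (Subgroup.ne_bot_iff_exists_ne_one.1 (hU k))
        have hu1' : u ≠ 1 := fun e => hu1 (Subtype.ext e)
        have h := hz ⟨k * u * k⁻¹, hu.1⟩ ⟨u, hu.2, rfl⟩
        have h' : u • (k⁻¹ • z) = k⁻¹ • z := by
          have h0 : (k * u * k⁻¹) • z = z := h
          rw [mul_smul, mul_smul, smul_eq_iff_eq_inv_smul] at h0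
          exact h0
        have h2 := radU_fix C hu.2 hu1' h'
        rw [inv_smul_eq_iff] at h2
        rw [h2, MulAction.Quotient.smul_mk, smul_eq_mul, mul_one]) (base C) y
  exact ⟨h, h.2, hh⟩

theorem isTrans_of_small (hidx : H.index ≤ C.q ^ 3) (hU : H ⊓ radU C = ⊥) :
    IsTrans C H ∧ Nat.card (H.subgroupOf (borel C)) = C.q ^ 2 - 1 := by
  have hcard : Nat.card (H.subgroupOf (borel C)) = C.q ^ 2 - 1 := by
    refine le_antisymm ?_ (le_card_inter C H hidx)
    rw [card_inter, ← card_inter_radU, hU, Subgroup.card_bot, one_mul]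
    refine (Subgroup.card_le_card_group _).trans ?_
    rw [Nat.card_units, Nat.card_eq_fintype_card, C.card]
  refine ⟨?_, hcard⟩
  have horb : MulAction.orbit H (base C) = Set.univ := by
    refine Set.eq_of_subset_of_ncard_le (Set.subset_univ _) ?_
    rw [Set.ncard_univ, card_Pt, ← MulAction.index_stabilizer]
    have h1 := (MulAction.stabilizer H (base C)).card_mul_index
    have h2 : Nat.card (MulAction.stabilizer H (base C)) = C.q ^ 2 - 1 := by
      rw [← hcard]
      exact Nat.card_congr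
        { toFun := fun x => ⟨⟨x.1.1, (smul_base_iff C).1 x.2⟩, x.1.2⟩
          invFun := fun g => ⟨⟨g.1.1, g.2⟩, (smul_base_iff C).2 g.1.2⟩
          left_inv := fun x => rfl
          right_inv := fun g => rfl }
    have h3 := H.card_mul_index
    rw [card_GG] at h3
    have h4 := Nat.mul_le_mul_left (Nat.card H) hidx
    rw [h3, ← h1, h2] at h4
    have hq := C.two_le
    have hpos : 0 < C.q ^ 3 * (C.q ^ 2 - 1) := Nat.mul_pos (by positivity) (Nat.sub_pos_of_lt
      (Nat.one_lt_pow two_ne_zero (by omega)))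
    exact Nat.le_of_mul_le_mul_left (h4.trans_eq (by ring)) hpos
  intro y
  obtain ⟨h, hh⟩ := horb.ge (Set.mem_univ y)
  exact ⟨h, h.2, hh⟩

theorem conj_central_mem (ht : IsTrans C H) (g : GG C) {d : C.skew} (hd : d ∈ zSub C H) :
    ∃ b ∈ borel C, ∃ e : C.skew, g * uu C (zpar C e) * g⁻¹ ∈ H ∧
      (e : F) = eig C b * C.σ (eig C b) * d := by
  obtain ⟨h, hh, hg⟩ := ht (QuotientGroup.mk g)
  rw [MulAction.Quotient.smul_mk, smul_eq_mul, mul_one, QuotientGroup.eq] at hg
  obtain ⟨e, he, he'⟩ := borel_conj_central C ((borel C).inv_mem hg) d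
  refine ⟨(h⁻¹ * g)⁻¹, (borel C).inv_mem hg, e, ?_, he'⟩
  rw [← he]
  convert H.mul_mem (H.mul_mem hh hd) (H.inv_mem hh) using 1
  group

/-- A whole root group in a transitive `H` gives everything. -/
theorem eq_top_of_zSub (hq : 3 ≤ C.q) (ht : IsTrans C H) (hz : zSub C H = ⊤) : H = ⊤ := by
  have h32 : ¬ (Fintype.card (Fin 2 ⊕ Fin 1) = 3 ∧ C.q = 2) := fun h => by omega
  rw [eq_top_iff, ← transvs_eq_top C h32]
  refine (Subgroup.closure_le _).2 ?_
  rintro g ⟨v, c, hv, hc, h⟩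
  by_cases hv0 : v = 0
  · rw [show g = 1 from suG_ext C fun x => by rw [h x, hv0, smul_zero, add_zero, app_one]]
    exact H.one_mem
  obtain ⟨k, hk⟩ := exists_conj_central C h hv hv0 hc
  have hall : ∀ (k : GG C) (d : C.skew), k * uu C (zpar C d) * k⁻¹ ∈ H := by
    intro k d
    obtain ⟨h, hh, hg⟩ := ht (QuotientGroup.mk k)
    rw [MulAction.Quotient.smul_mk, smul_eq_mul, mul_one, QuotientGroup.eq] at hg
    obtain ⟨e, he, -⟩ := borel_conj_central C hg d
    have hm : e ∈ zSub C H := hz ▸ AddSubgroup.mem_top _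
    rw [show k * uu C (zpar C d) * k⁻¹ = h * uu C (zpar C e) * h⁻¹ by rw [← he]; group]
    exact H.mul_mem (H.mul_mem hh hm) (H.inv_mem hh)
  have h1 := hall k⁻¹ ⟨c, hc⟩
  rw [inv_inv] at h1
  rw [show uu C (zpar C (⟨c, hc⟩ : C.skew)) = uniEl C 0 c (skew_valid C hc) from
    uniEl_congr C _ _ rfl rfl, ← hk, show k⁻¹ * (k * g * k⁻¹) * k = g by group] at h1
  exact h1

/-- An element-wise bound on a finite group of scalars. -/
theorem card_dvd_of_pow {E : Subgroup Fˣ} {n : ℕ} (h : ∀ a ∈ E, (a : F) ^ n = 1) : Nat.card E ∣ n := by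
  obtain ⟨g, hg⟩ := IsCyclic.exists_generator (α := E)
  rw [← orderOf_eq_card_of_forall_mem_zpowers hg, ← Subgroup.orderOf_coe, ← orderOf_units]
  exact orderOf_dvd_of_pow_eq_one (h g.1 g.2)

theorem exists_prime (C : ConjField F) : ∃ p a : ℕ, p.Prime ∧ CharP F p ∧ C.q = p ^ a ∧ 1 ≤ a := by
  obtain ⟨p, hpc⟩ := CharP.exists F
  obtain ⟨n, hp, hn⟩ := FiniteField.card F p
  have hq : C.q ∣ p ^ (n : ℕ) := by rw [← hn, C.card]; exact dvd_pow_self _ two_ne_zero
  obtain ⟨i, -, hi⟩ := (Nat.dvd_prime_pow hp).1 hq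
  refine ⟨p, i, hp, hpc, hi, Nat.one_le_iff_ne_zero.2 fun h => ?_⟩
  have := C.two_le
  rw [hi, h, pow_zero] at this
  omega

end CfsgLib.MinDegree.UThreeIndex
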