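import Cfsg.Prelude.Def_Classical
import Cfsg.Agent.MinDegree.UThreeCases

/-!
# The minimal index of a proper subgroup of `PSU(3,q)`
-/

set_option autoImplicit false

namespace CfsgLib.MinDegree.UThreeIndex

open Matrix CfsgLib.RepBounds.Unit

variable {F : Type*} [Field F] [Fintype F] {q : ℕ}

/-- The coordinates against the standard ones. -/
noncomputable def stdEquiv (C : ConjField F) : GG C ≃* Cfsg.SU 3 F C.q :=
  (MonoidHom.toMulEquiv (reindexHom C (finSumFinEquiv (m := 2) (n := 1)))
    (reindexHom C (finSumFinEquiv (m := 2) (n := 1)).symm)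
    (MonoidHom.ext fun g => suG_ext C fun x => by
      rw [MonoidHom.comp_apply, app_reindexHom, app_reindexHom, MonoidHom.id_apply]
      simp [Function.comp_def])
    (MonoidHom.ext fun g => suG_ext C fun x => by
      rw [MonoidHom.comp_apply, app_reindexHom, app_reindexHom, MonoidHom.id_apply]
      simp [Function.comp_def])).trans (MulEquiv.subgroupCongr (suG_fin_eq C 3))

theorem center_le_borel (C : ConjField F) {z : GG C} (hz : ∀ g, Commute z g) : z ∈ borel C := by
  obtain ⟨d, hd, hd0⟩ := C.exists_skew_ne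
  have hu : uu C (zpar C ⟨d, hd⟩) ≠ 1 := by
    intro h
    exact hd0 (congrArg (fun x : Par C => x.1.2) (uu_injective C (h.trans (uu_zero C).symm)))
  rw [← smul_base_iff]
  refine radU_fix C (uu_mem C _) hu ?_
  rw [← mul_smul, ← (hz _).eq, mul_smul, (smul_base_iff C).2 (radU_le C (uu_mem C _))]

theorem exists_index (hF : Fintype.card F = q ^ 2) :
    ∃ H : Subgroup (Cfsg.PSU 3 F q), H.index = q ^ 3 + 1 := by
  obtain ⟨C, rfl⟩ := exists_conjField q hF
  let e := stdEquiv C
  refine ⟨((borel C).map e.toMonoidHom).map (QuotientGroup.mk' (Subgroup.center (Cfsg.SU 3 F C.q))), ?_⟩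
  rw [Subgroup.index_map_eq _ (QuotientGroup.mk'_surjective _) ?_,
    Subgroup.index_map_of_bijective (MulEquiv.bijective e), Subgroup.index, card_Pt]
  rw [QuotientGroup.ker_mk']
  intro z hz
  refine ⟨e.symm z, center_le_borel C fun g => ?_, e.apply_symm_apply z⟩
  apply e.injective
  simp [(Subgroup.mem_center_iff.1 hz (e g))]

theorem le_index_aux (hF : Fintype.card F = q ^ 2) (hq : 3 ≤ q) (H : Subgroup (Cfsg.PSU 3 F q))
    (hH : H ≠ ⊤) : q ^ 3 + 1 ≤ H.index ∨ (q = 5 ∧ 50 ≤ H.index) := by
  obtain ⟨C, rfl⟩ := exists_conjField q hF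
  let f := (QuotientGroup.mk' (Subgroup.center (Cfsg.SU 3 F C.q))).comp (stdEquiv C).toMonoidHom
  have hf : Function.Surjective f :=
    (QuotientGroup.mk'_surjective _).comp (stdEquiv C).surjective
  have hidx : (H.comap f).index = H.index := H.index_comap_of_surjective hf
  rcases Nat.lt_or_ge (C.q ^ 3) H.index with h | h
  · exact Or.inl h
  · refine Or.inr (hidx ▸ index_bound C hq (fun htop => hH ?_) (hidx.trans_le h))
    rw [← Subgroup.map_comap_eq_self_of_surjective hf H, htop, Subgroup.map_top_of_surjective _ hf]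

theorem le_index (hF : Fintype.card F = q ^ 2) (hq : 3 ≤ q) (h5 : q ≠ 5)
    (H : Subgroup (Cfsg.PSU 3 F q)) (hH : H ≠ ⊤) : q ^ 3 + 1 ≤ H.index :=
  (le_index_aux hF hq H hH).resolve_right fun h => h5 h.1

theorem le_index_five (hF : Fintype.card F = 25) (H : Subgroup (Cfsg.PSU 3 F 5)) (hH : H ≠ ⊤) :
    50 ≤ H.index :=
  (le_index_aux (q := 5) hF (by norm_num) H hH).elim (fun h => le_trans (by norm_num) h) And.right

end CfsgLib.MinDegree.UThreeIndex
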