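import Mathlib
import Cfsg.Agent.Forms.UnitaryTransvections

/-!
# `SU(3,q)` in hyperbolic coordinates

`vec a z b = a e + z w + b f` with `e`, `f` an isotropic pair and `w` a unit vector orthogonal to both.
The stabiliser `borel` of the line of `e`, its unipotent radical `radU` (the elements `uu x`), the torus
`tt a`, and the `q^3+1` points `Pt = G ⧸ borel`.
-/

set_option autoImplicit false
set_option linter.unusedSectionVars false

namespace CfsgLib.MinDegree.UThreeIndex

open Matrix CfsgLib.RepBounds.Unit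

variable {F : Type*} [Field F] [Fintype F] (C : ConjField F)

/-- The group. -/
abbrev GG := suG C (Fin 2 ⊕ Fin 1)

/-- The vectors. -/
abbrev VV (F : Type*) := Fin 2 ⊕ Fin 1 → F

/-- The unit vector orthogonal to the pair. -/
def ww : VV F := inW (fun _ => 1)

/-- The vector `a e + z w + b f`. -/
noncomputable def vec (a z b : F) : VV F := a • vE C (Fin 1) + z • ww + b • vF C (Fin 1)

theorem inW_const (z : F) : inW (fun _ : Fin 1 => z) = z • (ww : VV F) := by
  ext (i | i) <;> simp [inW, ww]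

theorem herm_vec (a z b a' z' b' : F) :
    herm C (vec C a z b) (vec C a' z' b') = a * C.σ b' + z * C.σ z' + b * C.σ a' := by
  simp only [vec, ww, herm_add_left, herm_add_right, herm_smul_left, herm_smul_right, herm_vE_vE,
    herm_vE_vF, herm_vF_vE, herm_vF_vF, herm_vE_inW, herm_vF_inW, herm_inW_vE, herm_inW_vF, herm_inW]
  simp [herm]
  ring

theorem vec_one_zero : vec C 1 0 0 = vE C (Fin 1) := by simp [vec]

theorem vec_zero_one : vec C 0 1 0 = (ww : VV F) := by simp [vec]

theorem vec_last : vec C 0 0 1 = vF C (Fin 1) := by simp [vec]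

theorem smul_vec (s a z b : F) : s • vec C a z b = vec C (s * a) (s * z) (s * b) := by
  simp only [vec, smul_add, smul_smul]

theorem vec_add (a z b a' z' b' : F) :
    vec C a z b + vec C a' z' b' = vec C (a + a') (z + z') (b + b') := by
  simp only [vec, add_smul]; abel

theorem exists_vec (x : VV F) : ∃ a z b, x = vec C a z b := by
  refine ⟨herm C x (vF C _), x (Sum.inr 0), herm C x (vE C _), ?_⟩
  conv_lhs => rw [decomp C x]
  rw [vec, ← inW_const, add_right_comm]
  congr 2
  congr 1
  funext i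
  rw [Fin.fin_one_eq_zero i]
  rfl

theorem vec_eq_iff {a z b a' z' b' : F} :
    vec C a z b = vec C a' z' b' ↔ a = a' ∧ z = z' ∧ b = b' := by
  refine ⟨fun h => ?_, fun ⟨h1, h2, h3⟩ => by rw [h1, h2, h3]⟩
  have h1 := congrArg (fun x => herm C x (vec C 0 0 1)) h
  have h2 := congrArg (fun x => herm C x (vec C 0 1 0)) h
  have h3 := congrArg (fun x => herm C x (vec C 1 0 0)) h
  simp only [herm_vec, map_one, map_zero, mul_one, mul_zero, add_zero, zero_add] at h1 h2 h3
  exact ⟨h1, h2, h3⟩

theorem vec_ne_zero_iff {a z b : F} : vec C a z b ≠ 0 ↔ a ≠ 0 ∨ z ≠ 0 ∨ b ≠ 0 := by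
  rw [ne_eq, show (0 : VV F) = vec C 0 0 0 by simp [vec], vec_eq_iff]
  tauto

theorem vE_ne_zero : vE C (Fin 1) ≠ 0 := by
  rw [← vec_one_zero, vec_ne_zero_iff]; exact Or.inl one_ne_zero

theorem ext_vec {g h : GG C} (e : ∀ a z b, app C g (vec C a z b) = app C h (vec C a z b)) : g = h :=
  suG_ext C fun x => by
    obtain ⟨a, z, b, rfl⟩ := exists_vec C x
    exact e a z b

theorem norm_eq_zero {z : F} (h : z * C.σ z = 0) : z = 0 := by
  rcases mul_eq_zero.1 h with h | h
  · exact h
  · exact (map_eq_zero C.σ).1 h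

theorem exists_norm {t : F} (h : C.σ t = t) : ∃ x, x * C.σ x = t :=
  CfsgLib.Forms.exists_mul_involution_eq C.ne_id C.invol h

/-! ### The radical -/

/-- The parameters of the radical. -/
abbrev Par := {x : F × F // x.2 + C.σ x.2 + x.1 * C.σ x.1 = 0}

theorem par_valid (x : Par C) :
    x.1.2 + C.σ x.1.2 + herm C (fun _ : Fin 1 => x.1.1) (fun _ => x.1.1) = 0 := by
  simpa [herm] using x.2

/-- The element of the radical with parameter `x`. -/
noncomputable def uu (x : Par C) : GG C := uniEl C (fun _ => x.1.1) x.1.2 (par_valid C x)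

theorem app_uu (x : Par C) (a z b : F) : app C (uu C x) (vec C a z b) =
    vec C (a + b * x.1.2 - z * C.σ x.1.1) (z + b * x.1.1) b := by
  have h1 : herm C (vec C a z b) (vE C (Fin 1)) = b := by
    rw [← vec_one_zero, herm_vec]; simp
  have h2 : herm C (vec C a z b) (inW fun _ : Fin 1 => x.1.1) = z * C.σ x.1.1 := by
    rw [inW_const, herm_smul_right, ← vec_zero_one C, herm_vec]; simp; ring
  rw [uu, app_uniEl, h1, h2, inW_const, vec, vec]
  module

/-- The product in the radical. -/
def Par.mul (x y : Par C) : Par C :=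
  ⟨(x.1.1 + y.1.1, x.1.2 + y.1.2 - y.1.1 * C.σ x.1.1), by
    simp only [map_sub, map_add, map_mul, C.invol]
    linear_combination x.2 + y.2⟩

theorem uu_mul (x y : Par C) : uu C x * uu C y = uu C (Par.mul C x y) := by
  refine ext_vec C fun a z b => ?_
  rw [app_mul, app_uu, app_uu, app_uu, vec_eq_iff]
  simp only [Par.mul, map_add]
  exact ⟨by ring, by ring, trivial⟩

/-- The neutral parameter. -/
def Par.zero : Par C := ⟨(0, 0), by simp⟩

theorem uu_zero : uu C (Par.zero C) = 1 :=
  ext_vec C fun a z b => by rw [app_uu, app_one]; simp [Par.zero]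

theorem uu_injective : Function.Injective (uu C) := fun x y h => by
  have h1 := congrArg (fun g => app C g (vec C 0 0 1)) h
  simp only [app_uu, vec_eq_iff, one_mul, zero_mul, sub_zero, zero_add] at h1
  exact Subtype.ext (Prod.ext h1.2.1 h1.1)

/-- The central parameters. -/
def zpar (d : C.skew) : Par C := ⟨(0, d), by
  have h : (d : F) + C.σ d = 0 := C.mem_skew.1 d.2
  simpa using h⟩

/-- The parameters form `q^3` elements. -/
noncomputable def parEquiv : Par C ≃ F × C.skew where
  toFun x := (x.1.1, ⟨x.1.2 + x.1.1 * C.σ x.1.1 * tA C, by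
    rw [ConjField.mem_skew, map_add, map_mul, map_mul, C.invol]
    linear_combination x.2 + (x.1.1 * C.σ x.1.1) * tA_spec C⟩)
  invFun y := ⟨(y.1, y.2.1 - y.1 * C.σ y.1 * tA C), by
    have hy : y.2.1 + C.σ y.2.1 = 0 := y.2.2
    simp only [map_sub, map_mul, C.invol]
    linear_combination hy - (y.1 * C.σ y.1) * tA_spec C⟩
  left_inv x := Subtype.ext (Prod.ext rfl (add_sub_cancel_right _ _))
  right_inv y := Prod.ext rfl (Subtype.ext (sub_add_cancel _ _))

theorem card_par : Nat.card (Par C) = C.q ^ 3 := by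
  rw [Nat.card_congr (parEquiv C), Nat.card_prod, C.card_skew, Nat.card_eq_fintype_card, C.card,
    ← pow_succ]

/-- The stabiliser of the vector `e`. -/
def radU : Subgroup (GG C) where
  carrier := {g | app C g (vE C (Fin 1)) = vE C (Fin 1)}
  one_mem' := app_one C _
  mul_mem' {a b} ha hb := by
    show app C (a * b) _ = _
    rw [app_mul, show app C b (vE C (Fin 1)) = _ from hb]
    exact ha
  inv_mem' {a} ha := by
    show app C a⁻¹ _ = _
    conv_lhs => rw [← show app C a (vE C (Fin 1)) = _ from ha]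
    rw [app_inv_app]

theorem mem_radU {g : GG C} : g ∈ radU C ↔ app C g (vE C (Fin 1)) = vE C (Fin 1) := Iff.rfl

theorem uu_mem (x : Par C) : uu C x ∈ radU C := by
  rw [mem_radU, ← vec_one_zero, app_uu]; simp

theorem exists_uu {g : GG C} (hg : g ∈ radU C) : ∃ x, g = uu C x := by
  obtain ⟨w, c, hc, g', rfl⟩ := exists_eq_uniEl_mul C g hg
  have hw : w = fun _ : Fin 1 => w 0 := funext fun i => by rw [Fin.fin_one_eq_zero i]
  refine ⟨⟨(w 0, c), by simpa [herm] using hc⟩, ?_⟩
  rw [eq_one_of_subsingleton C g', map_one, mul_one]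
  exact uniEl_congr C _ _ hw rfl

theorem card_radU : Nat.card (radU C) = C.q ^ 3 := by
  rw [← card_par C]
  refine (Nat.card_congr (Equiv.ofBijective (fun x => (⟨uu C x, uu_mem C x⟩ : radU C)) ⟨?_, ?_⟩)).symm
  · exact fun x y h => uu_injective C (congrArg Subtype.val h)
  · rintro ⟨g, hg⟩
    obtain ⟨x, rfl⟩ := exists_uu C hg
    exact ⟨x, rfl⟩

/-! ### The torus and the stabiliser of the line of `e` -/

/-- The torus element. -/
noncomputable def tt (a : Fˣ) : GG C := torEl C (0 : Fin 1) a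

theorem app_tt (x : Fˣ) (a z b : F) : app C (tt C x) (vec C a z b) =
    vec C ((x : F) * a) (C.σ x / x * z) ((C.σ x)⁻¹ * b) := by
  have hs : inW (Pi.single (0 : Fin 1) (1 : F)) = (ww : VV F) := by
    congr 1; funext i; rw [Fin.fin_one_eq_zero i, Pi.single_eq_same]
  show torMat C 0 x *ᵥ _ = _
  rw [torMat_mulVec, hs]
  have e1 : herm C (vec C a z b) (vF C (Fin 1)) = a := by rw [← vec_last, herm_vec]; simp
  have e2 : herm C (vec C a z b) (vE C (Fin 1)) = b := by rw [← vec_one_zero, herm_vec]; simp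
  have e3 : herm C (vec C a z b) ww = z := by rw [← vec_zero_one C, herm_vec]; simp
  rw [e1, e2, e3]
  simp only [vec]
  module

/-- The eigenvalue on `e`. -/
noncomputable def eig (g : GG C) : F := herm C (app C g (vE C (Fin 1))) (vF C (Fin 1))

theorem eig_of_eq {g : GG C} {a : F} (h : app C g (vE C (Fin 1)) = a • vE C (Fin 1)) :
    eig C g = a := by
  rw [eig, h, herm_smul_left, herm_vE_vF, mul_one]

/-- The stabiliser of the line of `e`. -/
def borel : Subgroup (GG C) where
  carrier := {g | ∃ a : F, app C g (vE C (Fin 1)) = a • vE C (Fin 1)}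
  one_mem' := ⟨1, by rw [app_one, one_smul]⟩
  mul_mem' := by
    rintro g h ⟨a, ha⟩ ⟨b, hb⟩
    exact ⟨b * a, by rw [app_mul, hb, app_smul, ha, smul_smul]⟩
  inv_mem' := by
    rintro g ⟨a, ha⟩
    refine ⟨a⁻¹, ?_⟩
    have ha0 : a ≠ 0 := by
      rintro rfl
      rw [zero_smul] at ha
      have := congrArg (app C g⁻¹) ha
      rw [app_inv_app, app, mulVec_zero] at this
      exact vE_ne_zero C this
    nth_rewrite 1 [← inv_smul_smul₀ ha0 (vE C (Fin 1))]
    rw [← ha, app_smul, app_inv_app]

theorem mem_borel {g : GG C} :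
    g ∈ borel C ↔ ∃ a : F, app C g (vE C (Fin 1)) = a • vE C (Fin 1) := Iff.rfl

theorem app_eig {g : GG C} (hg : g ∈ borel C) :
    app C g (vE C (Fin 1)) = eig C g • vE C (Fin 1) := by
  obtain ⟨a, ha⟩ := hg
  rw [eig_of_eq C ha, ha]

theorem eig_ne_zero {g : GG C} (hg : g ∈ borel C) : eig C g ≠ 0 := fun h => by
  have h1 := congrArg (app C g⁻¹) (app_eig C hg)
  rw [app_inv_app, h, zero_smul, app, mulVec_zero] at h1
  exact vE_ne_zero C h1

/-- The eigenvalue as a homomorphism. -/
noncomputable def eigHom : borel C →* Fˣ where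
  toFun g := Units.mk0 (eig C g.1) (eig_ne_zero C g.2)
  map_one' := Units.ext (eig_of_eq C (by show app C (1 : GG C) _ = _; rw [app_one, Units.val_one, one_smul]))
  map_mul' g h := Units.ext (eig_of_eq C (by
    show app C (g.1 * h.1) _ = _
    rw [app_mul, app_eig C h.2, app_smul, app_eig C g.2, smul_smul, Units.val_mul, Units.val_mk0,
      Units.val_mk0, mul_comm]))

theorem eigHom_val (g : borel C) : (eigHom C g : F) = eig C g.1 := rfl

theorem tt_mem (a : Fˣ) : tt C a ∈ borel C := by
  refine ⟨a, ?_⟩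
  rw [← vec_one_zero, app_tt, smul_vec]
  simp

theorem eig_tt (a : Fˣ) : eig C (tt C a) = a := by
  refine eig_of_eq C ?_
  rw [← vec_one_zero, app_tt, smul_vec]
  simp

theorem eigHom_surjective : Function.Surjective (eigHom C) := fun a =>
  ⟨⟨tt C a, tt_mem C a⟩, Units.ext (eig_tt C a)⟩

theorem radU_le : radU C ≤ borel C := fun g hg => ⟨1, by rw [one_smul]; exact hg⟩

theorem mem_radU_iff {g : GG C} (hg : g ∈ borel C) : g ∈ radU C ↔ eig C g = 1 := by
  refine ⟨fun h => eig_of_eq C (by rw [one_smul]; exact h), fun h => ?_⟩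
  rw [mem_radU, app_eig C hg, h, one_smul]

theorem eigHom_ker : (eigHom C).ker = (radU C).subgroupOf (borel C) := by
  ext g
  rw [MonoidHom.mem_ker, Subgroup.mem_subgroupOf, mem_radU_iff C g.2, Units.ext_iff]
  rfl

theorem card_borel : Nat.card (borel C) = C.q ^ 3 * (C.q ^ 2 - 1) := by
  rw [← (eigHom C).ker.card_mul_index, Subgroup.index_ker,
    MonoidHom.range_eq_top.2 (eigHom_surjective C), Subgroup.card_top, eigHom_ker,
    Nat.card_congr (Subgroup.subgroupOfEquivOfLe (radU_le C)).toEquiv, card_radU, Nat.card_units,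
    Nat.card_eq_fintype_card, C.card]

/-- Every element of `borel` is a torus element times a unipotent one. -/
theorem exists_tt_uu {g : GG C} (hg : g ∈ borel C) :
    ∃ (a : Fˣ) (x : Par C), (a : F) = eig C g ∧ g = tt C a * uu C x := by
  set a := Units.mk0 (eig C g) (eig_ne_zero C hg) with ha
  obtain ⟨x, hx⟩ := exists_uu C (g := (tt C a)⁻¹ * g) (by
    rw [mem_radU, app_mul, app_eig C hg]
    have h := app_eig C (tt_mem C a)
    rw [eig_tt, ha, Units.val_mk0] at h
    rw [← h, app_inv_app])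
  exact ⟨a, x, rfl, by rw [← hx, mul_inv_cancel_left]⟩

/-- The scalar by which `eig = a` acts on the radical modulo its centre. -/
def lam (a : F) : F := C.σ a * C.σ a / a

theorem tt_uu (a : Fˣ) (x : Par C) :
    ∃ y : Par C, tt C a * uu C x * (tt C a)⁻¹ = uu C y ∧ y.1.1 = lam C a * x.1.1 ∧
      y.1.2 = a * C.σ a * x.1.2 := by
  have ha : C.σ (a : F) ≠ 0 := (map_ne_zero C.σ).2 a.ne_zero
  have ha' := a.ne_zero
  refine ⟨⟨(lam C a * x.1.1, a * C.σ a * x.1.2), ?_⟩, ?_, rfl, rfl⟩
  · simp only [lam, map_mul, map_div₀, C.invol]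
    field_simp
    linear_combination ((a : F) * C.σ (a : F)) * x.2
  rw [mul_inv_eq_iff_eq_mul]
  refine ext_vec C fun c z b => ?_
  simp only [app_mul, app_uu, app_tt, vec_eq_iff, lam, map_mul, map_div₀, C.invol]
  refine ⟨?_, ?_, trivial⟩ <;> field_simp <;> ring

theorem borel_conj {g : GG C} (hg : g ∈ borel C) (x : Par C) :
    ∃ y : Par C, g * uu C x * g⁻¹ = uu C y ∧ y.1.1 = lam C (eig C g) * x.1.1 := by
  obtain ⟨a, k, ha, rfl⟩ := exists_tt_uu C hg
  obtain ⟨k', hk'⟩ := exists_uu C ((radU C).inv_mem (uu_mem C k))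
  have hw : k.1.1 + k'.1.1 = 0 := by
    have h1 : uu C (Par.mul C k k') = uu C (Par.zero C) := by
      rw [← uu_mul, ← hk', mul_inv_cancel, uu_zero]
    exact congrArg (fun p : Par C => p.1.1) (uu_injective C h1)
  obtain ⟨y, hy, hy1, -⟩ := tt_uu C a (Par.mul C (Par.mul C k x) k')
  refine ⟨y, ?_, ?_⟩
  · rw [← hy, ← uu_mul, ← uu_mul, ← hk']
    group
  · rw [hy1, ← ha]
    simp only [Par.mul]
    linear_combination (lam C (a : F)) * hw

theorem borel_conj_central {g : GG C} (hg : g ∈ borel C) (d : C.skew) :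
    ∃ e : C.skew, g * uu C (zpar C d) * g⁻¹ = uu C (zpar C e) ∧
      (e : F) = eig C g * C.σ (eig C g) * d := by
  obtain ⟨a, k, ha, rfl⟩ := exists_tt_uu C hg
  obtain ⟨y, hy, hy1, hy2⟩ := tt_uu C a (zpar C d)
  have hc : uu C k * uu C (zpar C d) = uu C (zpar C d) * uu C k := by
    rw [uu_mul, uu_mul]
    refine congrArg (uu C) (Subtype.ext (Prod.ext ?_ ?_)) <;> simp [Par.mul, zpar, add_comm]
  have hy0 : y.1.1 = 0 := by rw [hy1]; simp [zpar]
  refine ⟨⟨y.1.2, ?_⟩, ?_, ?_⟩
  · rw [ConjField.mem_skew]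
    linear_combination y.2 - (C.σ y.1.1) * hy0
  · rw [show zpar C ⟨y.1.2, _⟩ = y from Subtype.ext (Prod.ext hy0.symm rfl), ← hy,
      _root_.mul_inv_rev, mul_assoc (tt C a) (uu C k) _, hc]
    group
  · rw [← ha]; exact hy2

/-! ### Points -/

/-- The isotropic points. -/
abbrev Pt := GG C ⧸ borel C

/-- The point of `e`. -/
abbrev base : Pt C := QuotientGroup.mk 1

theorem mk_eq_mk_iff {g h : GG C} : (QuotientGroup.mk g : Pt C) = QuotientGroup.mk h ↔
    ∃ a : F, app C h (vE C (Fin 1)) = a • app C g (vE C (Fin 1)) := by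
  rw [QuotientGroup.eq, mem_borel]
  refine exists_congr fun a => ⟨fun e => ?_, fun e => ?_⟩
  · rw [← app_app_inv C g (app C h _), ← app_mul C g⁻¹, e, app_smul]
  · rw [app_mul, e, app_smul, app_inv_app]

theorem smul_mk_eq_iff {g h : GG C} : g • (QuotientGroup.mk h : Pt C) = QuotientGroup.mk h ↔
    ∃ a : F, app C g (app C h (vE C (Fin 1))) = a • app C h (vE C (Fin 1)) := by
  rw [eq_comm, MulAction.Quotient.smul_mk, smul_eq_mul, mk_eq_mk_iff]
  simp_rw [app_mul]

theorem exists_of_isotropic {x : VV F} (hx : herm C x x = 0) (hx0 : x ≠ 0) :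
    ∃ g : GG C, app C g (vE C (Fin 1)) = x := by
  obtain ⟨t, -, ht⟩ := exists_to_vE C hx hx0
  exact ⟨t⁻¹, by rw [← ht, app_inv_app]⟩

theorem herm_app_vE (g : GG C) :
    herm C (app C g (vE C (Fin 1))) (app C g (vE C (Fin 1))) = 0 := by
  rw [herm_app, herm_vE_vE]

theorem exists_opp : ∃ g : GG C, app C g (vE C (Fin 1)) = vF C (Fin 1) :=
  exists_of_isotropic C (herm_vF_vF C) (by rw [← vec_last, vec_ne_zero_iff]; simp)

/-- An element moving `e` to `f`. -/
noncomputable def opp : GG C := (exists_opp C).choose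

/-- The point of parameter `x`. -/
noncomputable def pt : Option (Par C) → Pt C
  | none => base C
  | some x => QuotientGroup.mk (uu C x * opp C)

theorem vec_pt (x : Par C) :
    app C (uu C x * opp C) (vE C (Fin 1)) = vec C x.1.2 x.1.1 1 := by
  rw [app_mul, opp, (exists_opp C).choose_spec, ← vec_last, app_uu]
  simp

theorem pt_injective : Function.Injective (pt C) := by
  rintro (_ | x) (_ | y) h
  · rfl
  · obtain ⟨a, ha⟩ := (mk_eq_mk_iff C).1 h
    rw [vec_pt, app_one, ← vec_one_zero, smul_vec, vec_eq_iff] at ha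
    simp at ha
  · obtain ⟨a, ha⟩ := (mk_eq_mk_iff C).1 h.symm
    rw [vec_pt, app_one, ← vec_one_zero, smul_vec, vec_eq_iff] at ha
    simp at ha
  · obtain ⟨a, ha⟩ := (mk_eq_mk_iff C).1 h
    rw [vec_pt, vec_pt, smul_vec, vec_eq_iff] at ha
    obtain ⟨h1, h2, h3⟩ := ha
    rw [mul_one] at h3
    rw [← h3, one_mul] at h1 h2
    exact congrArg some (Subtype.ext (Prod.ext h2.symm h1.symm))

theorem pt_surjective : Function.Surjective (pt C) := fun y => by
  induction y using QuotientGroup.induction_on with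
  | H g =>
    obtain ⟨a, z, b, hv⟩ := exists_vec C (app C g (vE C (Fin 1)))
    have hiso := herm_app_vE C g
    rw [hv, herm_vec] at hiso
    by_cases hb : b = 0
    · refine ⟨none, (mk_eq_mk_iff C).2 ⟨a, ?_⟩⟩
      subst hb
      have hz : z = 0 := norm_eq_zero C (by simpa using hiso)
      rw [app_one, hv, hz, ← vec_one_zero, smul_vec]
      simp
    · refine ⟨some ⟨(z / b, a / b), ?_⟩, (mk_eq_mk_iff C).2 ⟨b, ?_⟩⟩
      · have := (map_ne_zero C.σ).2 hb
        simp only [map_div₀]
        field_simp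
        linear_combination hiso
      · rw [vec_pt, hv, smul_vec, vec_eq_iff]
        exact ⟨by field_simp, by field_simp, by rw [mul_one]⟩

theorem card_Pt : Nat.card (Pt C) = C.q ^ 3 + 1 := by
  rw [← Nat.card_congr (Equiv.ofBijective _ ⟨pt_injective C, pt_surjective C⟩), Finite.card_option,
    card_par]

theorem card_GG : Nat.card (GG C) = C.q ^ 3 * (C.q ^ 2 - 1) * (C.q ^ 3 + 1) := by
  rw [← (borel C).card_mul_index, card_borel, Subgroup.index, card_Pt]

theorem uu_smul_pt (x y : Par C) : uu C x • pt C (some y) = pt C (some (Par.mul C x y)) := by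
  rw [pt, pt, MulAction.Quotient.smul_mk, smul_eq_mul, ← mul_assoc, uu_mul]

theorem smul_base_iff {g : GG C} : g • base C = base C ↔ g ∈ borel C := by
  rw [eq_comm, MulAction.Quotient.smul_mk, smul_eq_mul, mul_one, QuotientGroup.eq, inv_one, one_mul]

/-- A non-trivial element of the radical fixes only the point of `e`. -/
theorem radU_fix {g : GG C} (hg : g ∈ radU C) (hg1 : g ≠ 1) {y : Pt C} (hy : g • y = y) :
    y = base C := by
  obtain ⟨_ | z, rfl⟩ := pt_surjective C y
  · rfl
  obtain ⟨x, rfl⟩ := exists_uu C hg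
  rw [uu_smul_pt] at hy
  have h := Option.some_injective _ (pt_injective C hy)
  refine absurd ?_ hg1
  rw [← mul_inv_cancel_right (uu C x) (uu C z), uu_mul, h, mul_inv_cancel]

end CfsgLib.MinDegree.UThreeIndex
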