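import Cfsg.Agent.MinDegree.UThreeCentralizer

/-!
# Small fields: counting Sylow subgroups for a prime dividing `q^2-q+1`
-/

set_option autoImplicit false
set_option linter.unusedSectionVars false

namespace CfsgLib.MinDegree.UThreeIndex

open Matrix CfsgLib.RepBounds.Unit

variable {F : Type*} [Field F] [Fintype F] (C : ConjField F) {H : Subgroup (GG C)}

/-- No group of order `r * 2^i * O` with these residues. -/
theorem sylow_contra {q r i O : ℕ} (hCq : C.q = q) (hr : r.Prime)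
    (hB : ¬ r ∣ q ^ 3 * (q ^ 2 - 1)) (hq : q + 1 < r) (hH : Nat.card H = r * (2 ^ i * O))
    (hM : ¬ r ∣ 2 ^ i * O) (hO : O ≠ 0) (hall : ∀ m ∈ O.divisors, (2 ^ i * O / m) % r ≠ 1) :
    False := by
  subst hCq
  obtain ⟨P, m, -, hodd, hdvd, hmod, -⟩ :=
    sylow_shape C (H := H) (M := 2 ^ i * O) hr (by rwa [card_borel]) hq hH hM
  refine hall m (Nat.mem_divisors.2 ⟨?_, hO⟩) (by rw [hmod, Nat.mod_eq_of_lt hr.one_lt])
  exact (Nat.Coprime.pow_right i hodd.coprime_two_right).dvd_of_dvd_mul_left hdvd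

/-- A scalar of order three in a point stabiliser of `H` lies in `H` after a power. -/
theorem exists_central (hq3 : ¬ 3 ∣ C.q) {c : Fˣ} (hc : c ∈ eSub C H) (hc3 : c ^ 3 = 1)
    (hcn : c ∈ normOne C) (hc1 : c ≠ 1) :
    ∃ z : H, orderOf z = 3 ∧ ∀ h : H, Commute z h := by
  obtain ⟨g, hg, hgB, hge⟩ := (mem_eSub C H).1 hc
  obtain ⟨a, x, ha, rfl⟩ := exists_tt_uu C hgB
  obtain rfl : a = c := Units.ext (by rw [ha, hge])
  have hsc : ∀ b : Fˣ, b ^ 3 = 1 → b ∈ normOne C → ∀ g : GG C, Commute (tt C b) g := by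
    intro b hb hbn g
    have hfac : ∀ v : VV F, app C (tt C b) v = (b : F) • v := by
      intro v
      obtain ⟨x, z, y, rfl⟩ := exists_vec C v
      rw [app_tt, smul_vec, vec_eq_iff, sigma_inv C hbn, inv_inv]
      refine ⟨rfl, ?_, rfl⟩
      have hb' : (b : F) * b * b = 1 := by
        rw [← Units.val_mul, ← Units.val_mul, ← sq, ← pow_succ, hb, Units.val_one]
      have := b.ne_zero
      field_simp
      linear_combination (-z) * hb'
    exact suG_ext C fun v => by rw [app_mul, app_mul, hfac, hfac, app_smul]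
  have hcomm := hsc a hc3 hcn (uu C x)
  have hu : uu C x ^ C.q ^ 3 = 1 := by
    have h := orderOf_dvd_natCard (⟨uu C x, uu_mem C x⟩ : radU C)
    rw [card_radU, Subgroup.orderOf_mk] at h
    exact orderOf_dvd_iff_pow_eq_one.1 h
  have htt : ∀ n : ℕ, tt C a ^ n = tt C (a ^ n) := fun n => by
    induction n with
    | zero => rw [pow_zero, pow_zero, tt_one]
    | succ n ih => rw [pow_succ, pow_succ, ih, tt_mul]
  have hpow : tt C (a ^ C.q ^ 3) ∈ H := by
    rw [← htt, ← mul_one (tt C a ^ _), ← hu, ← hcomm.mul_pow]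
    exact H.pow_mem hg _
  have hne : a ^ C.q ^ 3 ≠ 1 := by
    intro h
    apply hc1
    rw [← orderOf_eq_one_iff]
    exact Nat.eq_one_of_dvd_coprimes (((Nat.prime_three.coprime_iff_not_dvd).2 hq3).pow_right 3)
      (orderOf_dvd_of_pow_eq_one hc3) (orderOf_dvd_of_pow_eq_one h)
  have hb3 : (a ^ C.q ^ 3) ^ 3 = 1 := by rw [← pow_mul, mul_comm, pow_mul, hc3, one_pow]
  have hord : orderOf (a ^ C.q ^ 3) = 3 := by
    have : Fact (Nat.Prime 3) := ⟨Nat.prime_three⟩
    exact orderOf_eq_prime hb3 hne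
  refine ⟨⟨_, hpow⟩, ?_, fun h => Subtype.ext (hsc _ hb3 ((normOne C).pow_mem hcn _) h.1).eq⟩
  rw [Subgroup.orderOf_mk]
  have hinj : Function.Injective (MonoidHom.mk' (tt C) fun a b => (tt_mul C a b).symm) :=
    fun b b' e => Units.ext (by
      have e' : tt C b = tt C b' := e
      rw [← eig_tt C b, e', eig_tt])
  exact (orderOf_injective _ hinj _).trans hord

/-- The case `q = 11`, `|H ∩ borel| = 330`: a normal `37`-complement is still transitive. -/
theorem eleven_contra (hq : C.q = 11) (ht : IsTrans C H)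
    (hcard : Nat.card (H.subgroupOf (borel C)) = 330)
    (hU : H ⊓ radU C ≠ ⊥) {c : Fˣ} (hc : c ∈ eSub C H) (hc3 : c ^ 3 = 1) (hcn : c ∈ normOne C)
    (hc1 : c ≠ 1) : False := by
  classical
  have h37 : Fact (Nat.Prime 37) := ⟨by norm_num⟩
  have hH : Nat.card H = 37 * 11880 := by rw [card_eq_of_trans C ht, hq, hcard]; norm_num
  obtain ⟨P, m, hP, hodd, hdvd, hmod, hN⟩ := sylow_shape C (H := H) (M := 11880) h37.out
    (by rw [card_borel, hq]; norm_num) (by rw [hq]; norm_num) hH (by norm_num)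
  have hm : m = 3 := by
    have hm1 : m ∣ 1485 := (Nat.Coprime.pow_right 3 hodd.coprime_two_right).dvd_of_dvd_mul_left
      (show m ∣ 2 ^ 3 * 1485 by norm_num; exact hdvd)
    have hall : ∀ m ∈ Nat.divisors 1485, (11880 / m) % 37 = 1 → m = 3 := by decide +kernel
    exact hall m (Nat.mem_divisors.2 ⟨hm1, by norm_num⟩) (by rw [hmod])
  subst hm
  obtain ⟨z, hz, hzc⟩ := exists_central C (by rw [hq]; norm_num) hc hc3 hcn hc1
  set N := Subgroup.normalizer ((P : Subgroup H) : Set H) with hNdef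
  set Z := Subgroup.centralizer ((P : Subgroup H) : Set H) with hZdef
  have hPcyc : IsCyclic (P : Subgroup H) := isCyclic_of_prime_card hP
  have hzZ : z ∈ Z := Subgroup.mem_centralizer_iff.2 fun h _ => ((hzc h).eq).symm
  have hPZ : (P : Subgroup H) ≤ Z := fun x hx => Subgroup.mem_centralizer_iff.2 fun y hy => by
    obtain ⟨g, hg⟩ := hPcyc.exists_generator
    obtain ⟨i, hi⟩ := hg ⟨x, hx⟩
    obtain ⟨j, hj⟩ := hg ⟨y, hy⟩
    have hi' : g.1 ^ i = x := congrArg Subtype.val hi
    have hj' : g.1 ^ j = y := congrArg Subtype.val hj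
    rw [← hi', ← hj']
    exact zpow_mul_comm g.1 j i
  have hle : N ≤ Z := by
    have hZN : Z ≤ N := Subgroup.centralizer_le_normalizer _
    refine (Subgroup.eq_of_le_of_card_ge hZN ?_).ge
    rw [hN]
    refine Nat.le_of_dvd Nat.card_pos (Nat.Coprime.mul_dvd_of_dvd_of_dvd (by norm_num) ?_ ?_)
    · exact hP ▸ Subgroup.card_dvd_of_le hPZ
    · exact hz ▸ (Subgroup.orderOf_coe (⟨z, hzZ⟩ : Z)).symm ▸ orderOf_dvd_natCard (⟨z, hzZ⟩ : Z)
  set K := (MonoidHom.transferSylow P hle).ker with hKdef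
  have hcompl := MonoidHom.ker_transferSylow_isComplement' P hle
  have hKcard : Nat.card K * 37 = 37 * 11880 := by rw [← hH, ← hP]; exact hcompl.card_mul
  have hKnormal : K.Normal := inferInstance
  have hKindex : K.index = 37 := by
    have h := K.card_mul_index
    rw [hH, ← hKcard] at h
    exact Nat.eq_of_mul_eq_mul_left Nat.card_pos h
  have h11 : Fact (Nat.Prime 11) := ⟨by norm_num⟩
  obtain ⟨p, a, hp, hpc, hqa, -⟩ := exists_prime C
  obtain rfl : p = 11 := by
    have : p ∣ 11 := hq ▸ hqa ▸ dvd_pow_self p (by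
      rintro rfl
      rw [hq] at hqa
      norm_num at hqa)
    exact (Nat.prime_dvd_prime_iff_eq hp h11.out).1 this
  set K' := K.map H.subtype with hK'
  have hKU : ∀ g : GG C, cj C K' g ⊓ radU C ≠ ⊥ := by
    intro g
    obtain ⟨⟨u, huH, huU⟩, hu1⟩ := Subgroup.ne_bot_iff_exists_ne_one.1 hU
    obtain ⟨h, hh, hg⟩ := ht (QuotientGroup.mk g)
    rw [MulAction.Quotient.smul_mk, smul_eq_mul, mul_one, QuotientGroup.eq] at hg
    obtain ⟨x, rfl⟩ := exists_uu C huU
    obtain ⟨y, hy, -⟩ := borel_conj C ((borel C).inv_mem hg) x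
    refine Subgroup.ne_bot_iff_exists_ne_one.2 ⟨⟨uu C y, ?_, uu_mem C y⟩, fun e => hu1 ?_⟩
    · have hmem : h * uu C x * h⁻¹ ∈ H := H.mul_mem (H.mul_mem hh huH) (H.inv_mem hh)
      have he : g * uu C y * g⁻¹ = h * uu C x * h⁻¹ := by rw [← hy]; group
      show g * uu C y * g⁻¹ ∈ K'
      rw [he]
      refine ⟨⟨_, hmem⟩, ?_, rfl⟩
      set t : H := ⟨_, hmem⟩ with ht'
      have hpow : t ^ 11 ^ 3 = 1 := by
        refine Subtype.ext ?_
        rw [SubmonoidClass.coe_pow, ht']
        show (h * uu C x * h⁻¹) ^ 11 ^ 3 = 1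
        have h' := orderOf_dvd_natCard (⟨uu C x, uu_mem C x⟩ : radU C)
        rw [card_radU, Subgroup.orderOf_mk, hq] at h'
        rw [conj_pow, orderOf_dvd_iff_pow_eq_one.1 h', mul_one, mul_inv_cancel]
      have h1 : ((t : H ⧸ K)) = 1 := by
        rw [← orderOf_eq_one_iff]
        refine Nat.eq_one_of_dvd_coprimes (a := 37) (b := 11 ^ 3) (by norm_num) ?_ ?_
        · rw [← hKindex]
          exact orderOf_dvd_natCard _
        · exact orderOf_dvd_of_pow_eq_one (by rw [← QuotientGroup.mk_pow, hpow, QuotientGroup.mk_one])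
      exact (QuotientGroup.eq_one_iff t).1 h1
    · have e' : uu C y = 1 := congrArg Subtype.val e
      rw [e', mul_inv_eq_one, mul_eq_left] at hy
      exact Subtype.ext hy
  have htK := card_eq_of_trans C (isTrans_of_radU C (p := 11) hKU)
  rw [hq, hK', Subgroup.card_subtype] at htK
  have hd : 1332 ∣ 11880 := ⟨Nat.card ((K.map H.subtype).subgroupOf (borel C)), by
    have : Nat.card K = 11880 := by omega
    rw [← this, htK]
    norm_num⟩
  norm_num at hd

end CfsgLib.MinDegree.UThreeIndex
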